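import Mathlib.Algebra.Category.ModuleCat.Abelian
import Mathlib.Algebra.Homology.ShortComplex.ShortExact
import Mathlib.LinearAlgebra.FiniteDimensional.Basic
import Mathlib.LinearAlgebra.Dual.Lemmas

/-!
# Abstract cohomological δ-functors with values in `k`-vector spaces, and top degree duality

* `Delta H`: long exact sequences for a family of functors `H n : C ⥤ ModuleCat k`;
* `theta`: the pairing map `T(G) → Hom_k (Hom (G, ω), T(ω))`;
* `dual_of_presentation`: if `theta` is bijective for `L₀` and `L₁` and `L₁ → L₀ → G → 0` is exact and stays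
  exact after applying `T`, then `theta` is bijective for `G`.
-/

set_option autoImplicit false
universe w v u u'

open CategoryTheory CategoryTheory.Limits

namespace Groth.Agent.Sga2.PnDeltaFun

variable {C : Type u} [Category.{v} C] [Abelian C] {k : Type u'} [CommRing k]

/-- A family of functors to `k`-modules with natural long exact sequences (naturality is not recorded). -/
structure Delta (H : ℕ → C ⥤ ModuleCat.{w} k) where
  δ : ∀ {S : ShortComplex C} (_ : S.ShortExact) (n : ℕ), (H n).obj S.X₃ →ₗ[k] (H (n + 1)).obj S.X₁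
  exact₂ : ∀ {S : ShortComplex C} (_ : S.ShortExact) (n : ℕ),
    Function.Exact ((H n).map S.f).hom ((H n).map S.g).hom
  exact₃ : ∀ {S : ShortComplex C} (hS : S.ShortExact) (n : ℕ),
    Function.Exact ((H n).map S.g).hom (δ hS n)
  exact₁ : ∀ {S : ShortComplex C} (hS : S.ShortExact) (n : ℕ),
    Function.Exact (δ hS n) ((H (n + 1)).map S.f).hom
  inj : ∀ {S : ShortComplex C} (_ : S.ShortExact), Function.Injective ((H 0).map S.f).hom

namespace Delta

variable {H : ℕ → C ⥤ ModuleCat.{w} k} (D : Delta H) {S : ShortComplex C} (hS : S.ShortExact)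

include D hS

theorem surjective_g (n : ℕ) [Subsingleton ((H (n + 1)).obj S.X₁)] :
    Function.Surjective ((H n).map S.g).hom := fun x =>
  (D.exact₃ hS n x).mp (Subsingleton.elim _ _)

theorem injective_f (n : ℕ) [Subsingleton ((H n).obj S.X₃)] :
    Function.Injective ((H (n + 1)).map S.f).hom := by
  rw [injective_iff_map_eq_zero]
  intro x hx
  obtain ⟨y, rfl⟩ := (D.exact₁ hS n x).mp hx
  rw [Subsingleton.elim y 0, map_zero]

/-- If `H^n(X₂) = H^{n+1}(X₂) = 0` the connecting map is an isomorphism. -/
theorem bijective_δ (n : ℕ) [Subsingleton ((H n).obj S.X₂)] [Subsingleton ((H (n + 1)).obj S.X₂)] :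
    Function.Bijective (D.δ hS n) := by
  constructor
  · rw [injective_iff_map_eq_zero]
    intro x hx
    obtain ⟨y, rfl⟩ := (D.exact₃ hS n x).mp hx
    rw [Subsingleton.elim y 0, map_zero]
  · intro x
    exact (D.exact₁ hS n x).mp (Subsingleton.elim _ _)

noncomputable def equivδ (n : ℕ) [Subsingleton ((H n).obj S.X₂)]
    [Subsingleton ((H (n + 1)).obj S.X₂)] : (H n).obj S.X₃ ≃ₗ[k] (H (n + 1)).obj S.X₁ :=
  LinearEquiv.ofBijective (D.δ hS n) (D.bijective_δ hS n)

end Delta

end Groth.Agent.Sga2.PnDeltaFun
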