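import Groth.Agent.CohqB.HSeqMod
import Groth.Agent.Sga2.PnDeltaFun

/-!
# The cohomology of `O_X`-modules (`X` over `Spec A`) as a δ-functor with values in `A`-modules
-/

set_option autoImplicit false
universe u

open CategoryTheory CategoryTheory.Limits AlgebraicGeometry Opposite TopologicalSpace

namespace Groth.Agent.Sga2.PnHHDelta

open Groth.Agent.CohqB.HSeqMod Groth.Agent.Sga2.PnDeltaFun

section Sh
open Groth.Agent.CohqB

variable {X : Scheme.{u}} {S : ShortComplex (HSeq.Sh X)}

theorem map_δ (hS : S.ShortExact) (n : ℕ) (x : Sheaf.H S.X₃ n) :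
    Sheaf.H.map S.f (n + 1) (HSeq.δ hS n x) = 0 := by
  rw [HSeq.δ_apply, Sheaf.H.map_apply,
    Abelian.Ext.comp_assoc (X := HSeq.ZZ X) x hS.extClass (Abelian.Ext.mk₀ S.f) rfl
      (add_zero 1) (by omega), hS.extClass_comp, Abelian.Ext.comp_zero]

theorem map_injective_zero {F G : HSeq.Sh X} (f : F ⟶ G) [Mono f] :
    Function.Injective (Sheaf.H.map f 0) :=
  Abelian.Ext.postcomp_mk₀_injective_of_mono (HSeq.ZZ X) f

end Sh

variable (A : Type u) [CommRing A] (X : Scheme.{u}) [X.Over (Spec (CommRingCat.of A))]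

variable {X} in
theorem hmap_δ {S : ShortComplex X.Modules} (hS : S.ShortExact) (n : ℕ) (x : Coh.HH X S.X₃ n) :
    hmap S.f (n + 1) (δ hS n x) = 0 :=
  map_δ (Groth.Agent.CohqB.ToSheafExact.shortExact_toAb hS) n x

variable {X} in
theorem hmap_injective_zero {S : ShortComplex X.Modules} (hS : S.ShortExact) :
    Function.Injective (hmap S.f 0) :=
  @map_injective_zero X _ _ ((Groth.Agent.CohqB.ToSheafExact.toAbF X).map S.f)
    (Groth.Agent.CohqB.ToSheafExact.shortExact_toAb hS).mono_f

variable {X} in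
theorem smulModΓ_naturality {M N : X.Modules} (φ : M ⟶ N) (r : Coh.Γtop X) :
    Formal.smulModΓ M r ≫ φ = φ ≫ Formal.smulModΓ N r := by
  ext U m
  exact φ.app_smul (X.presheaf.map (homOfLE (le_top (a := U))).op r) m

variable {X} in
theorem hmap_smulΓ {M N : X.Modules} (φ : M ⟶ N) (n : ℕ) (r : Coh.Γtop X) (x : Coh.HH X M n) :
    hmap φ n (r • x) = r • hmap φ n x := by
  rw [← hmap_smulModΓ, ← hmap_smulModΓ, ← hmap_comp_apply, ← hmap_comp_apply, smulModΓ_naturality]

variable {X} in
theorem δ_smulΓ {S : ShortComplex X.Modules} (hS : S.ShortExact) (n : ℕ) (r : Coh.Γtop X)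
    (x : Coh.HH X S.X₃ n) : δ hS n (r • x) = r • δ hS n x := by
  rw [← hmap_smulModΓ, ← hmap_smulModΓ]
  let f : S ⟶ S :=
    { τ₁ := Formal.smulModΓ S.X₁ r, τ₂ := Formal.smulModΓ S.X₂ r, τ₃ := Formal.smulModΓ S.X₃ r
      comm₁₂ := smulModΓ_naturality _ _, comm₂₃ := smulModΓ_naturality _ _ }
  exact δ_naturality hS hS f n x

/-- The cohomology module. -/
noncomputable def hObj (n : ℕ) (M : X.Modules) : ModuleCat.{u} A := ModuleCat.of A (Coh.HH X M n)

/-- The cohomology functor `X.Modules ⥤ ModuleCat A`. -/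
noncomputable def hF (n : ℕ) : X.Modules ⥤ ModuleCat.{u} A where
  obj M := hObj A X n M
  map {M N} φ := ModuleCat.ofHom (X := Coh.HH X M n) (Y := Coh.HH X N n)
    { toFun := hmap φ n
      map_add' := map_add _
      map_smul' := fun a x => hmap_smulΓ φ n _ x }
  map_id M := by
    apply ModuleCat.hom_ext
    apply LinearMap.ext
    intro x
    exact hmap_id_apply n x
  map_comp φ ψ := by
    apply ModuleCat.hom_ext
    apply LinearMap.ext
    intro x
    exact hmap_comp_apply φ ψ n x

instance (n : ℕ) : (hF A X n).Additive where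
  map_add {M N f g} := by
    apply ModuleCat.hom_ext
    apply LinearMap.ext
    intro x
    exact hmap_add_apply f g n x

theorem hF_map_apply (n : ℕ) {M N : X.Modules} (φ : M ⟶ N) (x : Coh.HH X M n) :
    ((hF A X n).map φ).hom x = hmap φ n x := rfl

theorem hF_map_smulMod (n : ℕ) (M : X.Modules) (a : A) (x : (hF A X n).obj M) :
    ((hF A X n).map (Formal.smulMod A M a)).hom x = a • x := rfl

/-- The long exact sequences. -/
noncomputable def delta : Delta (fun n => hF A X n) where
  δ {S} hS n :=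
    { toFun := fun x : Coh.HH X S.X₃ n => (δ hS n x : Coh.HH X S.X₁ (n + 1))
      map_add' := map_add _
      map_smul' := fun a x => δ_smulΓ hS n _ x }
  exact₂ {S} hS n := by
    intro x
    constructor
    · exact exact₂ hS n x
    · rintro ⟨y, rfl⟩
      rw [← LinearMap.comp_apply, ← ModuleCat.hom_comp, ← (hF A X n).map_comp, S.zero,
        (hF A X n).map_zero]
      rfl
  exact₃ {S} hS n := by
    intro x
    constructor
    · exact exact₃ hS n x
    · rintro ⟨y, rfl⟩
      exact δ_hmap hS n y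
  exact₁ {S} hS n := by
    intro x
    constructor
    · exact exact₁ hS n x
    · rintro ⟨y, rfl⟩
      exact hmap_δ hS n y
  inj {S} hS := hmap_injective_zero hS

end Groth.Agent.Sga2.PnHHDelta
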