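import Mathlib.Algebra.Category.ModuleCat.Abelian
import Mathlib.Algebra.Homology.ShortComplex.ShortExact
import Mathlib.LinearAlgebra.FiniteDimensional.Basic
import Mathlib.LinearAlgebra.Dual.Lemmas

/-!
# Top degree duality in an abelian category

`T : C ⥤ ModuleCat k` additive, `ω : C` with an action `σ : k →+* End ω` such that `T.map (σ a)` is
multiplication by `a`.  `theta G : T(G) → Hom_k(Hom(G, ω), T(ω))`.
-/

set_option autoImplicit false
universe w v u

open CategoryTheory CategoryTheory.Limits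

namespace Groth.Agent.Sga2.PnTopDual

variable {C : Type u} [Category.{v} C] [Preadditive C] {k : Type w} [CommRing k] {ω : C}

/-- `Hom(G, ω)` as a `k`-module through an action of `k` on `ω`. -/
def HomTo (_ : k →+* End ω) (G : C) : Type v := G ⟶ ω

variable (σ : k →+* End ω)

instance (G : C) : AddCommGroup (HomTo σ G) := inferInstanceAs (AddCommGroup (G ⟶ ω))

/-- View a morphism as an element of `HomTo`. -/
def HomTo.of {G : C} (φ : G ⟶ ω) : HomTo σ G := φ

variable {σ} in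
/-- The underlying morphism. -/
def HomTo.hom {G : C} (φ : HomTo σ G) : G ⟶ ω := φ

noncomputable instance (G : C) : Module k (HomTo σ G) where
  smul a φ := φ.hom ≫ (σ a : ω ⟶ ω)
  one_smul φ := by
    change φ.hom ≫ (σ 1 : ω ⟶ ω) = φ.hom
    rw [map_one]; exact Category.comp_id _
  mul_smul a b φ := by
    change φ.hom ≫ (σ (a * b) : ω ⟶ ω) = (φ.hom ≫ (σ b : ω ⟶ ω)) ≫ (σ a : ω ⟶ ω)
    rw [map_mul, Category.assoc]; rfl
  smul_zero a := by
    change (0 : G ⟶ ω) ≫ (σ a : ω ⟶ ω) = 0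
    exact zero_comp
  smul_add a φ ψ := by
    change (φ.hom + ψ.hom) ≫ (σ a : ω ⟶ ω) = φ.hom ≫ (σ a : ω ⟶ ω) + ψ.hom ≫ (σ a : ω ⟶ ω)
    exact Preadditive.add_comp _ _ _ _ _ _
  add_smul a b φ := by
    change φ.hom ≫ (σ (a + b) : ω ⟶ ω) = φ.hom ≫ (σ a : ω ⟶ ω) + φ.hom ≫ (σ b : ω ⟶ ω)
    rw [map_add]; exact Preadditive.comp_add _ _ _ _ _ _
  zero_smul φ := by
    change φ.hom ≫ (σ 0 : ω ⟶ ω) = 0
    rw [map_zero]; exact comp_zero

theorem smul_hom {G : C} (a : k) (φ : HomTo σ G) : (a • φ).hom = φ.hom ≫ (σ a : ω ⟶ ω) := rfl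

theorem add_hom {G : C} (φ ψ : HomTo σ G) : (φ + ψ).hom = φ.hom + ψ.hom := rfl

/-- Precomposition. -/
noncomputable def pre {G G' : C} (f : G' ⟶ G) : HomTo σ G →ₗ[k] HomTo σ G' where
  toFun φ := (f ≫ φ.hom : G' ⟶ ω)
  map_add' φ ψ := Preadditive.comp_add _ _ _ _ _ _
  map_smul' a φ := by
    change f ≫ φ.hom ≫ (σ a : ω ⟶ ω) = (f ≫ φ.hom) ≫ (σ a : ω ⟶ ω)
    rw [Category.assoc]

theorem pre_hom {G G' : C} (f : G' ⟶ G) (φ : HomTo σ G) : (pre σ f φ).hom = f ≫ φ.hom := rfl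

theorem pre_comp {G G' G'' : C} (f : G' ⟶ G) (g : G'' ⟶ G') :
    pre σ (g ≫ f) = (pre σ g).comp (pre σ f) := by
  ext φ; exact Category.assoc _ _ _

theorem pre_id (G : C) : pre σ (𝟙 G) = LinearMap.id := by
  ext φ; exact Category.id_comp _

/-- Precomposition with an isomorphism. -/
noncomputable def preIso {G G' : C} (e : G' ≅ G) : HomTo σ G ≃ₗ[k] HomTo σ G' :=
  LinearEquiv.ofLinearMap (pre σ e.hom) (pre σ e.inv)
    (by rw [← pre_comp, e.hom_inv_id, pre_id]) (by rw [← pre_comp, e.inv_hom_id, pre_id])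

variable (T : C ⥤ ModuleCat.{w} k) [T.Additive]

/-- The pairing `T(G) × Hom(G, ω) → T(ω)`. -/
noncomputable def theta (hσ : ∀ (a : k) (x : T.obj ω), (T.map (σ a : ω ⟶ ω)).hom x = a • x) (G : C) :
    T.obj G →ₗ[k] HomTo σ G →ₗ[k] T.obj ω :=
  LinearMap.mk₂ k (fun ξ φ => (T.map φ.hom).hom ξ) (fun ξ ξ' φ => map_add _ _ _)
    (fun a ξ φ => map_smul _ _ _)
    (fun ξ φ ψ => by
      rw [add_hom, T.map_add]; rfl)
    (fun a ξ φ => by
      rw [smul_hom, T.map_comp, ModuleCat.hom_comp]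
      exact hσ a _)

variable (hσ : ∀ (a : k) (x : T.obj ω), (T.map (σ a : ω ⟶ ω)).hom x = a • x)

theorem theta_apply {G : C} (ξ : T.obj G) (φ : HomTo σ G) :
    theta σ T hσ G ξ φ = (T.map φ.hom).hom ξ := rfl

theorem theta_map {G G' : C} (f : G' ⟶ G) (ξ : T.obj G') (φ : HomTo σ G) :
    theta σ T hσ G ((T.map f).hom ξ) φ = theta σ T hσ G' ξ (pre σ f φ) := by
  rw [theta_apply, theta_apply, pre_hom, T.map_comp, ModuleCat.hom_comp]
  rfl

/-- `theta` is bijective and `T(G)` is finite: a property of `G`. -/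
structure Good (G : C) : Prop where
  inj : Function.Injective (theta σ T hσ G)
  surj : Function.Surjective (theta σ T hσ G)
  fin : Module.Finite k (T.obj G)
  finHom : Module.Finite k (HomTo σ G)

variable {σ T hσ}

theorem Good.of_iso {G G' : C} (e : G' ≅ G) (h : Good σ T hσ G') : Good σ T hσ G := by
  have hT : ∀ ξ : T.obj G, (T.map e.hom).hom ((T.map e.inv).hom ξ) = ξ := fun ξ => by
    rw [← LinearMap.comp_apply, ← ModuleCat.hom_comp, ← T.map_comp, e.inv_hom_id, T.map_id]; rfl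
  have hT' : ∀ ξ : T.obj G', (T.map e.inv).hom ((T.map e.hom).hom ξ) = ξ := fun ξ => by
    rw [← LinearMap.comp_apply, ← ModuleCat.hom_comp, ← T.map_comp, e.hom_inv_id, T.map_id]; rfl
  have hfin := h.fin
  have hfinH := h.finHom
  refine ⟨?_, ?_, ?_, ?_⟩
  · rw [injective_iff_map_eq_zero]
    intro ξ hξ
    have h0 : theta σ T hσ G' ((T.map e.inv).hom ξ) = 0 := by
      ext φ
      have h1 : theta σ T hσ G ξ (pre σ e.inv φ) = 0 := by rw [hξ]; rfl
      rw [← hT ξ, theta_map] at h1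
      have h3 : pre σ e.hom (pre σ e.inv φ) = φ := by
        rw [← LinearMap.comp_apply, ← pre_comp, e.hom_inv_id, pre_id]; rfl
      rw [h3] at h1
      exact h1
    have h2 := h.inj (h0.trans (map_zero _).symm)
    rw [← hT ξ, h2, map_zero]
  · intro lam
    obtain ⟨ξ, hξ⟩ := h.surj (lam.comp (pre σ e.inv))
    refine ⟨(T.map e.hom).hom ξ, ?_⟩
    ext φ
    rw [theta_map, hξ, LinearMap.comp_apply, ← LinearMap.comp_apply (pre σ e.inv), ← pre_comp,
      e.inv_hom_id, pre_id]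
    rfl
  · exact Module.Finite.of_surjective (T.map e.hom).hom fun ξ => ⟨_, hT ξ⟩
  · exact Module.Finite.equiv (preIso σ e.symm)

/-- Duality for a retract of a finite family. -/
theorem Good.of_decomp {J : Type*} [Fintype J] {L : J → C} {B : C} (i : ∀ j, L j ⟶ B)
    (p : ∀ j, B ⟶ L j) (hip : ∑ j, p j ≫ i j = 𝟙 B) (h : ∀ j, Good σ T hσ (L j)) :
    Good σ T hσ B := by
  have hsum : ∀ ξ : T.obj B, ∑ j, (T.map (i j)).hom ((T.map (p j)).hom ξ) = ξ := fun ξ => by
    have h1 : (T.map (∑ j, p j ≫ i j)).hom ξ = ξ := by rw [hip, T.map_id]; rfl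
    rw [Functor.map_sum, ModuleCat.hom_sum, LinearMap.sum_apply] at h1
    simp only [T.map_comp, ModuleCat.hom_comp, LinearMap.comp_apply] at h1
    exact h1
  have hsum' : ∀ φ : HomTo σ B, ∑ j, pre σ (p j) (pre σ (i j) φ) = φ := fun φ => by
    have h1 : ∀ j, pre σ (p j) (pre σ (i j) φ) = HomTo.of σ ((p j ≫ i j) ≫ φ.hom) := fun j =>
      (Category.assoc _ _ _).symm
    simp only [h1]
    change (∑ j, ((p j ≫ i j) ≫ φ.hom) : B ⟶ ω) = φ.hom
    rw [← Preadditive.sum_comp, hip, Category.id_comp]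
  have hfin : ∀ j, Module.Finite k (T.obj (L j)) := fun j => (h j).fin
  have hfinH : ∀ j, Module.Finite k (HomTo σ (L j)) := fun j => (h j).finHom
  refine ⟨?_, ?_, ?_, ?_⟩
  · rw [injective_iff_map_eq_zero]
    intro ξ hξ
    have h0 : ∀ j, (T.map (p j)).hom ξ = 0 := fun j => by
      apply (h j).inj
      ext φ
      rw [theta_map, hξ, map_zero]
      rfl
    rw [← hsum ξ]
    exact Finset.sum_eq_zero fun j _ => by rw [h0 j, map_zero]
  · intro lam
    choose ξ hξ using fun j => (h j).surj (lam.comp (pre σ (p j)))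
    refine ⟨∑ j, (T.map (i j)).hom (ξ j), ?_⟩
    ext φ
    rw [map_sum, LinearMap.sum_apply]
    simp only [theta_map, hξ, LinearMap.comp_apply]
    rw [← map_sum, hsum']
  · exact Module.Finite.of_surjective
      (∑ j, (T.map (i j)).hom.comp (LinearMap.proj j) : (∀ j, T.obj (L j)) →ₗ[k] T.obj B)
      fun ξ => ⟨fun j => (T.map (p j)).hom ξ, by
        rw [LinearMap.sum_apply]; exact hsum ξ⟩
  · exact Module.Finite.of_surjective
      (∑ j, (pre σ (p j)).comp (LinearMap.proj j) : (∀ j, HomTo σ (L j)) →ₗ[k] HomTo σ B)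
      fun φ => ⟨fun j => pre σ (i j) φ, by
        rw [LinearMap.sum_apply]; exact hsum' φ⟩

end Groth.Agent.Sga2.PnTopDual

namespace Groth.Agent.Sga2.PnTopDual

variable {C : Type u} [Category.{v} C] [Abelian C] {k : Type w} [Field k] {ω : C}
  {σ : k →+* End ω} {T : C ⥤ ModuleCat.{w} k} [T.Additive]
  {hσ : ∀ (a : k) (x : T.obj ω), (T.map (σ a : ω ⟶ ω)).hom x = a • x}

theorem exists_factor {V W U : Type*} [AddCommGroup V] [Module k V] [AddCommGroup W] [Module k W]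
    [AddCommGroup U] [Module k U] (a : V →ₗ[k] W) (b : V →ₗ[k] U)
    (h : LinearMap.ker a ≤ LinearMap.ker b) : ∃ c : W →ₗ[k] U, c.comp a = b := by
  obtain ⟨s, hs⟩ := LinearMap.exists_rightInverse_of_surjective a.rangeRestrict a.range_rangeRestrict
  obtain ⟨g, hg⟩ := LinearMap.exists_extend s
  refine ⟨b.comp g, ?_⟩
  ext v
  have h1 : g (a v) = s (a.rangeRestrict v) := by rw [← hg]; rfl
  have h2 : a.rangeRestrict (s (a.rangeRestrict v)) = a.rangeRestrict v := by
    rw [← LinearMap.comp_apply, hs]; rfl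
  have h3 : a (g (a v) - v) = 0 := by
    rw [map_sub, sub_eq_zero, h1]
    exact congrArg Subtype.val h2
  have h4 : b (g (a v) - v) = 0 := h h3
  rw [map_sub, sub_eq_zero] at h4
  exact h4

/-- Duality for the cokernel of `L₁ → L₀`, `T` right exact on this presentation. -/
theorem Good.of_presentation {L₁ L₀ G : C} (d : L₁ ⟶ L₀) (p : L₀ ⟶ G)
    (hHom : ∀ φ : L₀ ⟶ ω, d ≫ φ = 0 → ∃ ψ : G ⟶ ω, p ≫ ψ = φ) [Epi p] (hdp : d ≫ p = 0)
    (hTsurj : Function.Surjective (T.map p).hom)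
    (h₀ : Good σ T hσ L₀) (h₁ : Good σ T hσ L₁) : Good σ T hσ G := by
  have hfin := h₀.fin
  have hfinH := h₀.finHom
  have hpinj : Function.Injective (pre σ p) := by
    rw [injective_iff_map_eq_zero]
    intro φ hφ
    have h1 : p ≫ φ.hom = 0 := hφ
    exact (cancel_epi p).mp (h1.trans comp_zero.symm)
  refine ⟨?_, ?_, Module.Finite.of_surjective _ hTsurj, Module.Finite.of_injective _ hpinj⟩
  · rw [injective_iff_map_eq_zero]
    intro η hη
    obtain ⟨ξ, rfl⟩ := hTsurj η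
    -- `theta ξ` kills the kernel of `pre d`
    have hker : LinearMap.ker (pre σ d) ≤ LinearMap.ker (theta σ T hσ L₀ ξ) := by
      intro φ hφ
      obtain ⟨ψ, hψ⟩ := hHom φ.hom hφ
      have h1 : theta σ T hσ G ((T.map p).hom ξ) (HomTo.of σ ψ) = 0 := by rw [hη]; rfl
      rw [theta_map] at h1
      have h2 : pre σ p (HomTo.of σ ψ) = φ := hψ
      rw [h2] at h1
      exact h1
    obtain ⟨lam, hlam⟩ : ∃ lam : HomTo σ L₁ →ₗ[k] T.obj ω, lam.comp (pre σ d) = theta σ T hσ L₀ ξ := by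
      exact exists_factor _ _ hker
    obtain ⟨ζ, hζ⟩ := h₁.surj lam
    have h3 : theta σ T hσ L₀ ((T.map d).hom ζ) = theta σ T hσ L₀ ξ := by
      ext φ
      rw [theta_map, hζ, ← hlam]
      rfl
    have h4 := h₀.inj h3
    rw [← h4, ← LinearMap.comp_apply, ← ModuleCat.hom_comp, ← T.map_comp, hdp, T.map_zero]
    rfl
  · intro lam
    obtain ⟨lam', hlam'⟩ : ∃ lam' : HomTo σ L₀ →ₗ[k] T.obj ω, lam'.comp (pre σ p) = lam := by
      obtain ⟨g, hg⟩ := LinearMap.exists_leftInverse_of_injective (pre σ p) (LinearMap.ker_eq_bot.mpr hpinj)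
      exact ⟨lam.comp g, by rw [LinearMap.comp_assoc, hg, LinearMap.comp_id]⟩
    obtain ⟨ξ, hξ⟩ := h₀.surj lam'
    refine ⟨(T.map p).hom ξ, ?_⟩
    ext φ
    rw [theta_map, hξ, ← hlam']
    rfl

end Groth.Agent.Sga2.PnTopDual
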