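import Groth.Agent.Sga2.LefBasic
import Groth.Agent.Sga2.IdemClopen

/-!
# Clopen subsets and the Lefschetz condition
-/

universe u

open CategoryTheory CategoryTheory.Limits AlgebraicGeometry TopologicalSpace Opposite

namespace Groth.Agent.Sga2.LefClopen

open Groth.Agent.Sga2.LefBasic Groth.Agent.Sga2.IdemClopen

variable {Z : Scheme.{u}}

/-- The continuous map from a closed subscheme onto the support of the ideal. -/
noncomputable def toSupp (J : Z.IdealSheafData) : J.subscheme → (J.support : Set Z) :=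
  fun x => ⟨J.subschemeι x, by rw [← Scheme.IdealSheafData.range_subschemeι]; exact ⟨x, rfl⟩⟩

theorem continuous_toSupp (J : Z.IdealSheafData) : Continuous (toSupp J) :=
  J.subschemeι.continuous.subtype_mk _

theorem toSupp_surjective (J : Z.IdealSheafData) : Function.Surjective (toSupp J) := by
  rintro ⟨x, hx⟩
  rw [← Scheme.IdealSheafData.range_subschemeι] at hx
  obtain ⟨y, rfl⟩ := hx
  exact ⟨y, rfl⟩

/-- the map from the thickening to the support of the ideal -/
noncomputable def toSuppPow (J : Z.IdealSheafData) (n : ℕ) :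
    (J ^ (n + 1)).subscheme → (J.support : Set Z) :=
  fun x => ⟨(J ^ (n + 1)).subschemeι x, by
    rw [← Scheme.IdealSheafData.support_pow_succ J n, ← Scheme.IdealSheafData.range_subschemeι]
    exact ⟨x, rfl⟩⟩

theorem continuous_toSuppPow (J : Z.IdealSheafData) (n : ℕ) : Continuous (toSuppPow J n) :=
  (J ^ (n + 1)).subschemeι.continuous.subtype_mk _

theorem toSuppPow_surjective (J : Z.IdealSheafData) (n : ℕ) :
    Function.Surjective (toSuppPow J n) := by
  rintro ⟨x, hx⟩
  rw [← Scheme.IdealSheafData.support_pow_succ J n,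
    ← Scheme.IdealSheafData.range_subschemeι] at hx
  obtain ⟨y, rfl⟩ := hx
  exact ⟨y, rfl⟩

/-- preimage of an open subset of the support in the thickening -/
noncomputable def preOpen (J : Z.IdealSheafData) (n : ℕ) (s : Set (J.support : Set Z)) (hs : IsOpen s) :
    (J ^ (n + 1)).subscheme.Opens :=
  ⟨toSuppPow J n ⁻¹' s, hs.preimage (continuous_toSuppPow J n)⟩

theorem clopen_eq_empty_of_gammaComplete (J : Z.IdealSheafData) (h : GammaComplete J) (T : Set Z)
    (hT : IsClopen T) (h0 : ∀ x ∈ T, x ∉ J.support) : T = ∅ := by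
  let V : Z.Opens := ⟨T, hT.isOpen⟩
  let W : Z.Opens := ⟨Tᶜ, hT.compl.isOpen⟩
  have hVW : V ⊔ W = ⊤ := by
    ext x
    exact iff_of_true (em (x ∈ T)) trivial
  have hVW' : V ⊓ W = ⊥ := by
    ext x
    exact ⟨fun hx => hx.2 hx.1, fun hx => hx.elim⟩
  obtain ⟨e, he⟩ := exists_isInd hVW hVW'
  have h1 : e = 0 := by
    apply h.1
    intro n
    rw [map_zero]
    have hc := he.comap (J ^ (n + 1)).subschemeι
    refine hc.eq_zero ?_ ?_
    · ext x
      exact iff_of_true (em ((J ^ (n + 1)).subschemeι x ∈ T)) trivial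
    · ext x
      refine ⟨fun hx => ?_, fun hx => hx.elim⟩
      exact h0 _ hx (toSuppPow J n x).2
  have := he.left_eq_bot h1
  exact congrArg (fun Q : Z.Opens => (Q : Set Z)) this

theorem exists_clopen_of_gammaComplete (J : Z.IdealSheafData) (h : GammaComplete J)
    (s : Set (J.support : Set Z)) (hs : IsClopen s) :
    ∃ T : Set Z, IsClopen T ∧ Subtype.val ⁻¹' T = s := by
  have hsup : ∀ n, preOpen J n s hs.isOpen ⊔ preOpen J n sᶜ hs.compl.isOpen = ⊤ := by
    intro n
    ext x
    exact iff_of_true (em (toSuppPow J n x ∈ s)) trivial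
  have hinf : ∀ n, preOpen J n s hs.isOpen ⊓ preOpen J n sᶜ hs.compl.isOpen = ⊥ := by
    intro n
    ext x
    exact ⟨fun hx => hx.2 hx.1, fun hx => hx.elim⟩
  choose e he using fun n => exists_isInd (hsup n) (hinf n)
  have hinc : ∀ n (x : (J ^ (n + 1)).subscheme),
      toSuppPow J (n + 1) (Scheme.IdealSheafData.inclusion (Lef.pow_succ_le J n) x) = toSuppPow J n x := by
    intro n x
    apply Subtype.ext
    change (Scheme.IdealSheafData.inclusion (Lef.pow_succ_le J n) ≫ (J ^ (n + 1 + 1)).subschemeι) x = _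
    rw [Scheme.IdealSheafData.inclusion_subschemeι]
    rfl
  have hcompat : ∀ n : ℕ,
      (Scheme.IdealSheafData.inclusion (Lef.pow_succ_le J n)).appTop (e (n + 1)) = e n := by
    intro n
    have hc := (he (n + 1)).comap (Scheme.IdealSheafData.inclusion (Lef.pow_succ_le J n))
    refine IsInd.unique (hsup n) ?_ (he n)
    convert hc using 1
    · ext x
      change toSuppPow J n x ∈ s ↔ toSuppPow J (n + 1) _ ∈ s
      rw [hinc]
    · ext x
      change toSuppPow J n x ∉ s ↔ toSuppPow J (n + 1) _ ∉ s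
      rw [hinc]
  obtain ⟨f, hf⟩ := h.2 e hcompat
  have hff : f * f = f := by
    apply h.1
    intro n
    rw [map_mul, hf]
    exact (he n).idem (hsup n)
  have hclopen : IsClopen (Z.basicOpen f : Set Z) := by
    refine ⟨?_, (Z.basicOpen f).isOpen⟩
    have : (Z.basicOpen f : Set Z) = (Z.basicOpen (1 - f) : Set Z)ᶜ := by
      ext x
      have h1 : x ∈ Z.basicOpen f ⊔ Z.basicOpen (1 - f) := by rw [basicOpen_sup]; trivial
      constructor
      · intro hx hx'
        have : x ∈ Z.basicOpen f ⊓ Z.basicOpen (1 - f) := ⟨hx, hx'⟩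
        rw [basicOpen_inf hff] at this
        exact this.elim
      · intro hx
        rcases h1 with h1 | h1
        · exact h1
        · exact (hx h1).elim
    rw [this]
    exact (Z.basicOpen (1 - f)).isOpen.isClosed_compl
  refine ⟨Z.basicOpen f, hclopen, ?_⟩
  have hpre : preOpen J 0 s hs.isOpen = (J ^ (0 + 1)).subscheme.basicOpen (e 0) :=
    ((he 0).basicOpen_eq (hsup 0)).symm
  ext y
  obtain ⟨x, rfl⟩ := toSuppPow_surjective J 0 y
  have h1 : (x ∈ preOpen J 0 s hs.isOpen) ↔ toSuppPow J 0 x ∈ s := Iff.rfl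
  rw [← h1, hpre, ← hf 0, ← Scheme.preimage_basicOpen_top]
  rfl

end Groth.Agent.Sga2.LefClopen
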