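import Mathlib.CategoryTheory.Abelian.Ext
import Mathlib.CategoryTheory.Abelian.Projective.Ext
import Mathlib.Algebra.Homology.DerivedCategory.Ext.Linear
import Mathlib.Algebra.Homology.DerivedCategory.Ext.ExactSequences
import Mathlib.Algebra.Homology.ShortComplex.ModuleCat

/-!
# Comparison of the "old" Ext functor (`_root_.Ext R C n`, left derived functor of Hom in the first variable)
with the "new" `CategoryTheory.Abelian.Ext`, as a linear equivalence natural in both variables.
-/

universe w v u t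

open CategoryTheory CategoryTheory.Limits Opposite

set_option autoImplicit false
set_option linter.unusedSectionVars false

namespace Groth.Agent.Sga2.OldExt

variable {R : Type t} [Ring R] {C : Type u} [Category.{v} C] [Abelian C] [Linear R C]
  [EnoughProjectives C]

section

variable (R)
variable {X : C} (P : ProjectiveResolution X) (Y : C)

/-- degree `n` cocycles of Hom(P, Y) -/
def cocycles (n : ℕ) : Submodule R (P.complex.X n ⟶ Y) where
  carrier := {f | P.complex.d (n + 1) n ≫ f = 0}
  add_mem' {a b} ha hb := by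
    change P.complex.d (n + 1) n ≫ (a + b) = 0
    rw [Preadditive.comp_add, show P.complex.d (n + 1) n ≫ a = 0 from ha,
      show P.complex.d (n + 1) n ≫ b = 0 from hb, add_zero]
  zero_mem' := by simp
  smul_mem' r a ha := by
    change P.complex.d (n + 1) n ≫ (r • a) = 0
    rw [Linear.comp_smul, show P.complex.d (n + 1) n ≫ a = 0 from ha, smul_zero]

theorem mem_cocycles {n : ℕ} (f : P.complex.X n ⟶ Y) :
    f ∈ cocycles R P Y n ↔ P.complex.d (n + 1) n ≫ f = 0 := Iff.rfl

abbrev K : CochainComplex (ModuleCat.{v} R) ℕ := P.complex.linearYonedaObj R Y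

noncomputable def toCyc (n : ℕ) : ModuleCat.of R (cocycles R P Y n) ⟶ (K R P Y).cycles n :=
  (K R P Y).liftCycles (ModuleCat.ofHom (cocycles R P Y n).subtype) (n + 1) (by simp) (by
    ext f
    exact f.2)

theorem toCyc_i (n : ℕ) : toCyc R P Y n ≫ (K R P Y).iCycles n =
    ModuleCat.ofHom (cocycles R P Y n).subtype := by
  simp [toCyc]

theorem toCyc_surjective (n : ℕ) : Function.Surjective (toCyc R P Y n).hom := by
  intro z
  have hz : (K R P Y).iCycles n z ∈ cocycles R P Y n := by
    have := (K R P Y).iCycles_d n (n + 1)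
    exact congrArg (fun g => g.hom z) this
  refine ⟨⟨(K R P Y).iCycles n z, hz⟩, ?_⟩
  have hinj : Function.Injective ((K R P Y).iCycles n).hom :=
    (ModuleCat.mono_iff_injective _).1 inferInstance
  apply hinj
  have := toCyc_i R P Y n
  exact congrArg (fun g => g.hom (⟨(K R P Y).iCycles n z, hz⟩ : cocycles R P Y n)) this

/-- class in the homology of Hom(P, Y) -/
noncomputable def cls (n : ℕ) : cocycles R P Y n →ₗ[R] (K R P Y).homology n :=
  (toCyc R P Y n ≫ (K R P Y).homologyπ n).hom

theorem cls_surjective (n : ℕ) : Function.Surjective (cls R P Y n) := by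
  have h2 : Function.Surjective ((K R P Y).homologyπ n).hom :=
    (ModuleCat.epi_iff_surjective _).1 inferInstance
  intro x
  obtain ⟨y, rfl⟩ := h2 x
  obtain ⟨z, rfl⟩ := toCyc_surjective R P Y n y
  exact ⟨z, rfl⟩

theorem homologyπ_eq_zero_iff (n m : ℕ) (hm : (ComplexShape.up ℕ).prev n = m)
    (z : (K R P Y).cycles n) :
    ((K R P Y).homologyπ n).hom z = 0 ↔ ∃ w, ((K R P Y).toCycles m n).hom w = z := by
  have hex : (ShortComplex.mk _ _ ((K R P Y).toCycles_comp_homologyπ m n)).Exact :=
    ShortComplex.exact_of_g_is_cokernel _ ((K R P Y).homologyIsCokernel m n hm)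
  rw [ShortComplex.moduleCat_exact_iff] at hex
  constructor
  · intro h
    exact hex z h
  · rintro ⟨w, rfl⟩
    exact congrArg (fun g => g.hom w) ((K R P Y).toCycles_comp_homologyπ m n)

theorem cls_eq_zero_iff_succ (n : ℕ) (f : cocycles R P Y (n + 1)) :
    cls R P Y (n + 1) f = 0 ↔ ∃ g : P.complex.X n ⟶ Y, P.complex.d (n + 1) n ≫ g = f.1 := by
  have hinj : Function.Injective ((K R P Y).iCycles (n + 1)).hom :=
    (ModuleCat.mono_iff_injective _).1 inferInstance
  change ((K R P Y).homologyπ (n + 1)).hom ((toCyc R P Y (n + 1)).hom f) = 0 ↔ _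
  rw [homologyπ_eq_zero_iff R P Y (n + 1) n (by simp)]
  have h1 : ((K R P Y).iCycles (n + 1)).hom ((toCyc R P Y (n + 1)).hom f) = f.1 :=
    congrArg (fun g => g.hom f) (toCyc_i R P Y (n + 1))
  have h2 : ∀ w, ((K R P Y).iCycles (n + 1)).hom (((K R P Y).toCycles n (n + 1)).hom w) =
      P.complex.d (n + 1) n ≫ w := fun w =>
    congrArg (fun g => g.hom w) ((K R P Y).toCycles_i n (n + 1))
  constructor
  · rintro ⟨w, hw⟩
    exact ⟨w, by rw [← h2, hw, h1]⟩
  · rintro ⟨w, hw⟩
    exact ⟨w, hinj (by rw [h2, h1, hw])⟩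

theorem cls_eq_zero_iff_zero (f : cocycles R P Y 0) :
    cls R P Y 0 f = 0 ↔ f = 0 := by
  constructor
  · intro h
    change ((K R P Y).homologyπ 0).hom ((toCyc R P Y 0).hom f) = 0 at h
    rw [homologyπ_eq_zero_iff R P Y 0 0 (by simp)] at h
    obtain ⟨w, hw⟩ := h
    have h1 : ((K R P Y).iCycles 0).hom ((toCyc R P Y 0).hom f) = f.1 :=
      congrArg (fun g => g.hom f) (toCyc_i R P Y 0)
    have h2 : (K R P Y).toCycles 0 0 ≫ (K R P Y).iCycles 0 = 0 := by
      rw [(K R P Y).toCycles_i 0 0]
      exact (K R P Y).shape 0 0 (by simp)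
    have h3 : ((K R P Y).iCycles 0).hom (((K R P Y).toCycles 0 0).hom w) = 0 :=
      congrArg (fun g => g.hom w) h2
    apply Subtype.ext
    rw [← h1, ← hw, h3]
    rfl
  · rintro rfl
    exact map_zero _

/-- the class in old Ext of a cocycle -/
noncomputable def oldMk (n : ℕ) : cocycles R P Y n →ₗ[R] ((_root_.Ext R C n).obj (op X)).obj Y :=
  (P.isoExt (R := R) n Y).inv.hom.comp (cls R P Y n)

theorem oldMk_surjective (n : ℕ) : Function.Surjective (oldMk R P Y n) := by
  intro x
  obtain ⟨z, hz⟩ := cls_surjective R P Y n ((P.isoExt (R := R) n Y).hom.hom x)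
  refine ⟨z, ?_⟩
  change (P.isoExt (R := R) n Y).inv.hom (cls R P Y n z) = x
  rw [hz]
  exact congrArg (fun g => g.hom x) (P.isoExt (R := R) n Y).hom_inv_id

theorem oldMk_eq_zero_iff (n : ℕ) (z : cocycles R P Y n) :
    oldMk R P Y n z = 0 ↔ cls R P Y n z = 0 := by
  constructor
  · intro h
    have := congrArg (P.isoExt (R := R) n Y).hom.hom h
    rw [map_zero] at this
    rw [← this]
    exact (congrArg (fun g => g.hom (cls R P Y n z)) (P.isoExt (R := R) n Y).inv_hom_id).symm
  · intro h
    change (P.isoExt (R := R) n Y).inv.hom (cls R P Y n z) = 0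
    rw [h, map_zero]


/-- two surjections with the same kernel have isomorphic targets -/
noncomputable def equivOfSameKer {Z A B : Type*} [AddCommGroup Z] [AddCommGroup A] [AddCommGroup B]
    [Module R Z] [Module R A] [Module R B] (a : Z →ₗ[R] A) (b : Z →ₗ[R] B)
    (ha : Function.Surjective a) (hb : Function.Surjective b) (h : ∀ z, a z = 0 ↔ b z = 0) :
    A ≃ₗ[R] B :=
  (a.quotKerEquivOfSurjective ha).symm.trans
    ((Submodule.quotEquivOfEq _ _ (by ext z; exact h z)).trans (b.quotKerEquivOfSurjective hb))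

theorem equivOfSameKer_apply {Z A B : Type*} [AddCommGroup Z] [AddCommGroup A] [AddCommGroup B]
    [Module R Z] [Module R A] [Module R B] (a : Z →ₗ[R] A) (b : Z →ₗ[R] B)
    (ha : Function.Surjective a) (hb : Function.Surjective b) (h : ∀ z, a z = 0 ↔ b z = 0) (z : Z) :
    equivOfSameKer R a b ha hb h (a z) = b z := by
  have h1 : (a.quotKerEquivOfSurjective ha).symm (a z) = (LinearMap.ker a).mkQ z := by
    rw [LinearEquiv.symm_apply_eq]
    rfl
  change (b.quotKerEquivOfSurjective hb) ((Submodule.quotEquivOfEq _ _ _)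
    ((a.quotKerEquivOfSurjective ha).symm (a z))) = b z
  rw [h1]
  rfl

variable [HasExt.{w} C]

/-- the class in new Ext of a cocycle -/
noncomputable def newMk (n : ℕ) : cocycles R P Y n →ₗ[R] Abelian.Ext X Y n where
  toFun f := P.extMk f.1 (n + 1) rfl f.2
  map_add' f g := (P.add_extMk f.1 g.1 (n + 1) rfl f.2 g.2).symm
  map_smul' r f := by
    rw [RingHom.id_apply, Abelian.Ext.smul_eq_comp_mk₀, P.extMk_comp_mk₀]
    congr 1
    simp

theorem newMk_surjective (n : ℕ) : Function.Surjective (newMk R P Y n) := by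
  intro x
  obtain ⟨f, hf, rfl⟩ := P.extMk_surjective x (n + 1) rfl
  exact ⟨⟨f, hf⟩, rfl⟩

theorem newMk_eq_zero_iff_succ (n : ℕ) (f : cocycles R P Y (n + 1)) :
    newMk R P Y (n + 1) f = 0 ↔ ∃ g : P.complex.X n ⟶ Y, P.complex.d (n + 1) n ≫ g = f.1 :=
  P.extMk_eq_zero_iff f.1 (n + 2) rfl f.2 n rfl

theorem newMk_eq_zero_iff_zero (f : cocycles R P Y 0) :
    newMk R P Y 0 f = 0 ↔ f = 0 := by
  constructor
  · intro h
    change P.extMk f.1 1 rfl f.2 = 0 at h
    rw [← P.extEquivCohomologyClass.apply_eq_iff_eq,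
      ProjectiveResolution.extEquivCohomologyClass_extMk,
      ProjectiveResolution.extEquivCohomologyClass_zero,
      CochainComplex.HomComplex.CohomologyClass.mk_eq_zero_iff,
      CochainComplex.HomComplex.Cocycle.toSingleMk_mem_coboundaries_iff _ _ _ _ _ 1 (by simp)] at h
    obtain ⟨g, hg⟩ := h
    have hz : IsZero (P.cochainComplex.X 1) :=
      CochainComplex.isZero_of_isStrictlyLE _ 0 _ (by simp)
    rw [hz.eq_of_src g 0, comp_zero] at hg
    apply Subtype.ext
    rw [← cancel_epi (P.cochainComplexXIso (-((0 : ℕ) : ℤ)) 0 rfl).hom, ← hg]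
    simp
  · rintro rfl
    exact map_zero _

theorem oldMk_eq_zero_iff_newMk (n : ℕ) (z : cocycles R P Y n) :
    oldMk R P Y n z = 0 ↔ newMk R P Y n z = 0 := by
  rw [oldMk_eq_zero_iff]
  cases n with
  | zero => rw [cls_eq_zero_iff_zero, newMk_eq_zero_iff_zero]
  | succ n => rw [cls_eq_zero_iff_succ, newMk_eq_zero_iff_succ]

/-- comparison old Ext = new Ext, computed with the projective resolution `P` -/
noncomputable def oldNewOf (n : ℕ) : ((_root_.Ext R C n).obj (op X)).obj Y ≃ₗ[R] Abelian.Ext X Y n :=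
  equivOfSameKer R (oldMk R P Y n) (newMk R P Y n) (oldMk_surjective R P Y n)
    (newMk_surjective R P Y n) (oldMk_eq_zero_iff_newMk R P Y n)

theorem oldNewOf_oldMk (n : ℕ) (z : cocycles R P Y n) :
    oldNewOf R P Y n (oldMk R P Y n z) = newMk R P Y n z :=
  equivOfSameKer_apply R _ _ _ _ _ z

end

theorem homologyUnop_naturality {ι : Type*} {V : Type*} [Category V] [HasZeroMorphisms V]
    {c : ComplexShape ι} {K L : HomologicalComplex Vᵒᵖ c} (φ : K ⟶ L) (i : ι)
    [K.HasHomology i] [L.HasHomology i] :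
    (L.homologyUnop i).hom ≫ (HomologicalComplex.homologyMap φ i).unop =
      HomologicalComplex.homologyMap ((HomologicalComplex.unopFunctor V c).map φ.op) i ≫
        (K.homologyUnop i).hom := by
  have := HomologicalComplex.homologyOp_hom_naturality
    ((HomologicalComplex.unopFunctor V c).map φ.op) i
  exact congrArg (fun g => g.unop) this

/-- postcomposition on cocycles -/
def cocyclesPost {X : C} (P : ProjectiveResolution X) {Y Y' : C} (g : Y ⟶ Y') (n : ℕ) :
    cocycles R P Y n →ₗ[R] cocycles R P Y' n where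
  toFun z := ⟨z.1 ≫ g, by
    rw [mem_cocycles, ← Category.assoc, (mem_cocycles R P Y z.1).1 z.2, zero_comp]⟩
  map_add' a b := by ext; simp
  map_smul' r a := by ext; simp

/-- precomposition on cocycles -/
def cocyclesPre {X X' : C} (P : ProjectiveResolution X) (P' : ProjectiveResolution X')
    (φ : P'.complex ⟶ P.complex) (Y : C) (n : ℕ) :
    cocycles R P Y n →ₗ[R] cocycles R P' Y n where
  toFun z := ⟨φ.f n ≫ z.1, by
    rw [mem_cocycles, ← Category.assoc, ← φ.comm, Category.assoc,
      (mem_cocycles R P Y z.1).1 z.2, comp_zero]⟩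
  map_add' a b := by ext; simp
  map_smul' r a := by ext; simp

/-- the map on Hom complexes induced by `g : Y ⟶ Y'` -/
noncomputable def KPost {X : C} (P : ProjectiveResolution X) {Y Y' : C} (g : Y ⟶ Y') : K R P Y ⟶ K R P Y' :=
  (HomologicalComplex.unopFunctor (ModuleCat R) _).map
    ((NatTrans.mapHomologicalComplex (NatTrans.rightOp ((linearYoneda R C).map g)) _).app
      P.complex).op

theorem KPost_f {X : C} (P : ProjectiveResolution X) {Y Y' : C} (g : Y ⟶ Y') (n : ℕ) :
    (KPost (R := R) P g).f n = ModuleCat.ofHom (Linear.rightComp R (P.complex.X n) g) := rfl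

noncomputable def KPre {X X' : C} (P : ProjectiveResolution X) (P' : ProjectiveResolution X')
    (φ : P'.complex ⟶ P.complex) (Y : C) : K R P Y ⟶ K R P' Y :=
  (HomologicalComplex.unopFunctor (ModuleCat R) _).map
    ((((linearYoneda R C).obj Y).rightOp.mapHomologicalComplex _).map φ).op

theorem KPre_f {X X' : C} (P : ProjectiveResolution X) (P' : ProjectiveResolution X')
    (φ : P'.complex ⟶ P.complex) (Y : C) (n : ℕ) :
    (KPre (R := R) P P' φ Y).f n = ModuleCat.ofHom (Linear.leftComp R Y (φ.f n)) := rfl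

theorem cls_post {X : C} (P : ProjectiveResolution X) {Y Y' : C} (g : Y ⟶ Y') (n : ℕ)
    (z : cocycles R P Y n) :
    (HomologicalComplex.homologyMap (KPost (R := R) P g) n).hom (cls R P Y n z) =
      cls R P Y' n (cocyclesPost P g n z) := by
  have h1 : toCyc R P Y n ≫ HomologicalComplex.cyclesMap (KPost (R := R) P g) n =
      ModuleCat.ofHom (cocyclesPost (R := R) P g n) ≫ toCyc R P Y' n := by
    rw [← cancel_mono ((K R P Y').iCycles n), Category.assoc,
      HomologicalComplex.cyclesMap_i, ← Category.assoc, toCyc_i, Category.assoc, toCyc_i]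
    rfl
  have h2 : toCyc R P Y n ≫ (K R P Y).homologyπ n ≫
      HomologicalComplex.homologyMap (KPost (R := R) P g) n =
      ModuleCat.ofHom (cocyclesPost (R := R) P g n) ≫ toCyc R P Y' n ≫
        (K R P Y').homologyπ n := by
    rw [HomologicalComplex.homologyπ_naturality, ← Category.assoc, h1, Category.assoc]
  exact congrArg (fun g => g.hom z) h2

theorem cls_pre {X X' : C} (P : ProjectiveResolution X) (P' : ProjectiveResolution X')
    (φ : P'.complex ⟶ P.complex) (Y : C) (n : ℕ) (z : cocycles R P Y n) :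
    (HomologicalComplex.homologyMap (KPre (R := R) P P' φ Y) n).hom (cls R P Y n z) =
      cls R P' Y n (cocyclesPre P P' φ Y n z) := by
  have h1 : toCyc R P Y n ≫ HomologicalComplex.cyclesMap (KPre (R := R) P P' φ Y) n =
      ModuleCat.ofHom (cocyclesPre (R := R) P P' φ Y n) ≫ toCyc R P' Y n := by
    rw [← cancel_mono ((K R P' Y).iCycles n), Category.assoc,
      HomologicalComplex.cyclesMap_i, ← Category.assoc, toCyc_i, Category.assoc, toCyc_i]
    rfl
  have h2 : toCyc R P Y n ≫ (K R P Y).homologyπ n ≫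
      HomologicalComplex.homologyMap (KPre (R := R) P P' φ Y) n =
      ModuleCat.ofHom (cocyclesPre (R := R) P P' φ Y n) ≫ toCyc R P' Y n ≫
        (K R P' Y).homologyπ n := by
    rw [HomologicalComplex.homologyπ_naturality, ← Category.assoc, h1, Category.assoc]
  exact congrArg (fun g => g.hom z) h2

theorem comp_aux {D : Type*} [Category D] {A A' B B' L L' : D} {a : A ⟶ B} {u : B ⟶ L}
    {v : L ⟶ B} {h : B ⟶ B'} {u' : B' ⟶ L'} {b : A ⟶ A'} {a' : A' ⟶ B'}
    (hab : a ≫ h = b ≫ a') (huv : u ≫ v = 𝟙 B) :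
    (a ≫ u) ≫ ((v ≫ h) ≫ u') = b ≫ a' ≫ u' := by
  simp only [Category.assoc, reassoc_of% huv, reassoc_of% hab]

theorem isoExt_inv_post {X : C} (P : ProjectiveResolution X) {Y Y' : C} (g : Y ⟶ Y') (n : ℕ) :
    (P.isoExt (R := R) n Y).inv ≫ ((_root_.Ext R C n).obj (op X)).map g =
      HomologicalComplex.homologyMap (KPost (R := R) P g) n ≫ (P.isoExt (R := R) n Y').inv := by
  have e1 : ((_root_.Ext R C n).obj (op X)).map g =
    ((NatTrans.leftDerived (NatTrans.rightOp ((linearYoneda R C).map g)) n).app X).unop := rfl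
  rw [e1, P.leftDerived_app_eq]
  exact comp_aux (homologyUnop_naturality
    ((NatTrans.mapHomologicalComplex (NatTrans.rightOp ((linearYoneda R C).map g)) _).app
      P.complex) n) (congrArg (fun t => t.unop)
        (P.isoLeftDerivedObj ((linearYoneda R C).obj Y).rightOp n).inv_hom_id)

theorem isoExt_inv_pre {X X' : C} (P : ProjectiveResolution X) (P' : ProjectiveResolution X')
    (f : X' ⟶ X) (φ : P'.complex ⟶ P.complex) (hφ : φ ≫ P.π = P'.π ≫ (ChainComplex.single₀ C).map f)
    (Y : C) (n : ℕ) :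
    (P.isoExt (R := R) n Y).inv ≫ ((_root_.Ext R C n).map f.op).app Y =
      HomologicalComplex.homologyMap (KPre (R := R) P P' φ Y) n ≫ (P'.isoExt (R := R) n Y).inv := by
  have e1 : ((_root_.Ext R C n).map f.op).app Y =
    ((((linearYoneda R C).obj Y).rightOp.leftDerived n).map f).unop := rfl
  rw [e1, Functor.leftDerived_map_eq _ n f φ hφ]
  exact comp_aux (homologyUnop_naturality
    ((((linearYoneda R C).obj Y).rightOp.mapHomologicalComplex _).map φ) n)
      (congrArg (fun t => t.unop)
        (P.isoLeftDerivedObj ((linearYoneda R C).obj Y).rightOp n).inv_hom_id)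

theorem map_oldMk {X : C} (P : ProjectiveResolution X) {Y Y' : C} (g : Y ⟶ Y') (n : ℕ)
    (z : cocycles R P Y n) :
    (((_root_.Ext R C n).obj (op X)).map g).hom (oldMk R P Y n z) =
      oldMk R P Y' n (cocyclesPost P g n z) := by
  have h := congrArg (fun t => t.hom (cls R P Y n z)) (isoExt_inv_post (R := R) P g n)
  change (((_root_.Ext R C n).obj (op X)).map g).hom ((P.isoExt (R := R) n Y).inv.hom
    (cls R P Y n z)) = (P.isoExt (R := R) n Y').inv.hom (cls R P Y' n (cocyclesPost P g n z))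
  rw [← cls_post]
  exact h

theorem mapOp_oldMk {X X' : C} (P : ProjectiveResolution X) (P' : ProjectiveResolution X')
    (f : X' ⟶ X) (φ : P'.complex ⟶ P.complex) (hφ : φ ≫ P.π = P'.π ≫ (ChainComplex.single₀ C).map f)
    (Y : C) (n : ℕ) (z : cocycles R P Y n) :
    (((_root_.Ext R C n).map f.op).app Y).hom (oldMk R P Y n z) =
      oldMk R P' Y n (cocyclesPre P P' φ Y n z) := by
  have h := congrArg (fun t => t.hom (cls R P Y n z)) (isoExt_inv_pre (R := R) P P' f φ hφ Y n)
  change (((_root_.Ext R C n).map f.op).app Y).hom ((P.isoExt (R := R) n Y).inv.hom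
    (cls R P Y n z)) = (P'.isoExt (R := R) n Y).inv.hom (cls R P' Y n (cocyclesPre P P' φ Y n z))
  rw [← cls_pre]
  exact h

variable [HasExt.{w} C]

theorem newMk_post {X : C} (P : ProjectiveResolution X) {Y Y' : C} (g : Y ⟶ Y') (n : ℕ)
    (z : cocycles R P Y n) :
    (newMk R P Y n z).comp (Abelian.Ext.mk₀ g) (add_zero n) =
      newMk R P Y' n (cocyclesPost P g n z) :=
  P.extMk_comp_mk₀ z.1 (n + 1) rfl z.2 g

theorem newMk_pre {X X' : C} (P : ProjectiveResolution X) (P' : ProjectiveResolution X')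
    (f : X' ⟶ X) (φ : P'.complex ⟶ P.complex) (hφ : φ ≫ P.π = P'.π ≫ (ChainComplex.single₀ C).map f)
    (Y : C) (n : ℕ) (z : cocycles R P Y n) :
    (Abelian.Ext.mk₀ f).comp (newMk R P Y n z) (zero_add n) =
      newMk R P' Y n (cocyclesPre P P' φ Y n z) :=
  ProjectiveResolution.mk₀_comp_extMk z.1 (n + 1) rfl z.2
    (φ := ⟨φ, by rw [← HomologicalComplex.comp_f, hφ, HomologicalComplex.comp_f]⟩)

theorem oldNewOf_map {X : C} (P : ProjectiveResolution X) {Y Y' : C} (g : Y ⟶ Y') (n : ℕ)
    (x : ((_root_.Ext R C n).obj (op X)).obj Y) :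
    oldNewOf R P Y' n ((((_root_.Ext R C n).obj (op X)).map g).hom x) =
      (oldNewOf R P Y n x).comp (Abelian.Ext.mk₀ g) (add_zero n) := by
  obtain ⟨z, rfl⟩ := oldMk_surjective R P Y n x
  rw [map_oldMk, oldNewOf_oldMk, oldNewOf_oldMk, newMk_post]

theorem oldNewOf_mapOp {X X' : C} (P : ProjectiveResolution X) (P' : ProjectiveResolution X')
    (f : X' ⟶ X) (Y : C) (n : ℕ) (x : ((_root_.Ext R C n).obj (op X)).obj Y) :
    oldNewOf R P' Y n ((((_root_.Ext R C n).map f.op).app Y).hom x) =
      (Abelian.Ext.mk₀ f).comp (oldNewOf R P Y n x) (zero_add n) := by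
  obtain ⟨z, rfl⟩ := oldMk_surjective R P Y n x
  rw [mapOp_oldMk P P' f (ProjectiveResolution.lift f P' P) (by simp), oldNewOf_oldMk,
    oldNewOf_oldMk, newMk_pre P P' f (ProjectiveResolution.lift f P' P) (by simp)]

variable (R)

/-- The comparison old Ext ≃ new Ext (chosen projective resolution). -/
noncomputable def oldNew (X Y : C) (n : ℕ) :
    ((_root_.Ext R C n).obj (op X)).obj Y ≃ₗ[R] Abelian.Ext X Y n :=
  oldNewOf R (projectiveResolution X) Y n

variable {R}

theorem oldNew_map (X : C) {Y Y' : C} (g : Y ⟶ Y') (n : ℕ)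
    (x : ((_root_.Ext R C n).obj (op X)).obj Y) :
    oldNew R X Y' n ((((_root_.Ext R C n).obj (op X)).map g).hom x) =
      (oldNew R X Y n x).comp (Abelian.Ext.mk₀ g) (add_zero n) :=
  oldNewOf_map _ g n x

theorem oldNew_mapOp {X X' : C} (f : X' ⟶ X) (Y : C) (n : ℕ)
    (x : ((_root_.Ext R C n).obj (op X)).obj Y) :
    oldNew R X' Y n ((((_root_.Ext R C n).map f.op).app Y).hom x) =
      (Abelian.Ext.mk₀ f).comp (oldNew R X Y n x) (zero_add n) :=
  oldNewOf_mapOp _ _ f Y n x

end Groth.Agent.Sga2.OldExt
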