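import Mathlib.Algebra.Category.ModuleCat.Localization
import Mathlib.Algebra.Category.ModuleCat.Ext.DimensionShifting
import Mathlib.Algebra.Category.ModuleCat.Ext.Finite
import Mathlib.RingTheory.LocalProperties.Projective
import Mathlib.RingTheory.Support
import Mathlib.Algebra.Category.ModuleCat.Projective
import Mathlib.Algebra.Homology.DerivedCategory.Ext.Map
import Mathlib.Algebra.Homology.DerivedCategory.Ext.Linear
import Mathlib.Algebra.Module.FinitePresentation
import Mathlib.RingTheory.Localization.AtPrime.Basic

/-!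
# Localization of `Ext` for finite modules over a Noetherian ring
-/

set_option autoImplicit false

universe u

open CategoryTheory CategoryTheory.Abelian

namespace Groth.Agent.Sga2.ExtLoc

variable {R : Type u} [CommRing R] (S : Submonoid R)

/-- The localization functor on modules (exact). -/
noncomputable abbrev L : ModuleCat.{u} R ⥤ ModuleCat.{u} (Localization S) :=
  ModuleCat.localizedModuleFunctor S

/-- `Ext(N, M)` localizes to `Ext(N_S, M_S)`, elementwise. -/
structure LocExt (N M : ModuleCat.{u} R) (j : ℕ) : Prop where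
  inj : ∀ x : Ext.{u} N M j, x.mapExactFunctor (L S) = 0 → ∃ s : S, (s : R) • x = 0
  surj : ∀ y : Ext.{u} ((L S).obj N) ((L S).obj M) j, ∃ (s : S) (x : Ext.{u} N M j),
    x.mapExactFunctor (L S) = (algebraMap R (Localization S) s) • y

lemma locMap_smul {M : ModuleCat.{u} R} (r : R) :
    IsLocalizedModule.map S (M.localizedModuleMkLinearMap S)
      (M.localizedModuleMkLinearMap S) (r • LinearMap.id) = r • LinearMap.id := by
  apply IsLocalizedModule.ext S (M.localizedModuleMkLinearMap S)
    (IsLocalizedModule.map_units (M.localizedModuleMkLinearMap S))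
  rw [IsLocalizedModule.map_comp]
  ext m; simp

lemma L_map_smul {M : ModuleCat.{u} R} (r : R) :
    (L S).map (r • 𝟙 M) = (algebraMap R (Localization S) r) • 𝟙 ((L S).obj M) := by
  have key : ∀ x : M.localizedModule S, IsLocalizedModule.map S (M.localizedModuleMkLinearMap S)
      (M.localizedModuleMkLinearMap S) (r • LinearMap.id) x =
      (algebraMap R (Localization S) r) • x := by
    intro x
    rw [locMap_smul, algebraMap_smul]
    rfl
  exact ModuleCat.hom_ext (LinearMap.ext key)

lemma mapExt_smul {N M : ModuleCat.{u} R} {j : ℕ} (r : R) (x : Ext.{u} N M j) :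
    (r • x).mapExactFunctor (L S) =
      (algebraMap R (Localization S) r) • (x.mapExactFunctor (L S)) := by
  rw [Ext.smul_eq_comp_mk₀, Ext.mapExactFunctor_comp, Ext.mapExactFunctor_mk₀, L_map_smul,
    Ext.mk₀_smul, Ext.comp_smul, Ext.comp_mk₀_id]

lemma locExt_zero [IsNoetherianRing R] (N M : ModuleCat.{u} R) [Module.Finite R N] :
    LocExt S N M 0 := by
  have : Module.FinitePresentation R N := Module.finitePresentation_of_finite R N
  have hloc : IsLocalizedModule S (IsLocalizedModule.mapExtendScalars S
      (N.localizedModuleMkLinearMap S) (M.localizedModuleMkLinearMap S) (Localization S)) :=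
    inferInstance
  constructor
  · intro x hx
    obtain ⟨f, rfl⟩ := (Ext.mk₀_bijective N M).2 x
    rw [Ext.mapExactFunctor_mk₀] at hx
    have h0 : (L S).map f = 0 := by
      rwa [Ext.mk₀_eq_zero_iff] at hx
    have h1 : IsLocalizedModule.mapExtendScalars S
      (N.localizedModuleMkLinearMap S) (M.localizedModuleMkLinearMap S) (Localization S) f.hom =
      0 := congrArg ModuleCat.Hom.hom h0
    rw [← map_zero (IsLocalizedModule.mapExtendScalars S
      (N.localizedModuleMkLinearMap S) (M.localizedModuleMkLinearMap S) (Localization S))] at h1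
    obtain ⟨s, hs⟩ := hloc.exists_of_eq h1
    refine ⟨s, ?_⟩
    rw [← Ext.mk₀_smul, Ext.mk₀_eq_zero_iff]
    ext n
    have := LinearMap.congr_fun hs n
    rw [smul_zero] at this
    exact this
  · intro y
    obtain ⟨g, rfl⟩ := (Ext.mk₀_bijective _ _).2 y
    obtain ⟨⟨f, s⟩, hf⟩ := hloc.surj g.hom
    refine ⟨s, Ext.mk₀ (ModuleCat.ofHom f), ?_⟩
    rw [Ext.mapExactFunctor_mk₀, ← Ext.mk₀_smul]
    congr 1
    refine ModuleCat.hom_ext (LinearMap.ext fun x => ?_)
    have := LinearMap.congr_fun hf x
    exact this.symm.trans (algebraMap_smul (A := Localization S) (M := M.localizedModule S) (s : R)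
      (g.hom x : M.localizedModule S)).symm

lemma locExt_succ [IsNoetherianRing R] {T : ShortComplex (ModuleCat.{u} R)} (hT : T.ShortExact)
    (M : ModuleCat.{u} R) (j : ℕ) [Projective T.X₂] [Projective (T.map (L S)).X₂]
    (h1 : LocExt S T.X₁ M j) (h2 : LocExt S T.X₂ M j) : LocExt S T.X₃ M (j + 1) := by
  have hTS := hT.map_of_exact (L S)
  constructor
  · intro x hx
    obtain ⟨w, hw⟩ := Ext.contravariant_sequence_exact₃ hT M x (Ext.eq_zero_of_projective _)
      (add_comm 1 j)
    subst hw
    rw [Ext.mapExactFunctor_comp, Ext.mapExactFunctor_extClass] at hx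
    obtain ⟨v, hv⟩ := Ext.contravariant_sequence_exact₁ hTS _ (w.mapExactFunctor (L S))
      (add_comm 1 j) hx
    obtain ⟨s, u, hu⟩ := h2.surj v
    have h4 : ((Ext.mk₀ T.f).comp u (zero_add j)).mapExactFunctor (L S) =
        ((s : R) • w).mapExactFunctor (L S) := by
      rw [Ext.mapExactFunctor_comp, Ext.mapExactFunctor_mk₀, mapExt_smul, hu]
      exact (Ext.comp_smul _ _ _ _).trans (congrArg _ hv)
    have h3 : ((s : R) • w - (Ext.mk₀ T.f).comp u (zero_add j)).mapExactFunctor (L S) = 0 := by
      rw [← Functor.mapExtAddHom_apply, map_sub, Functor.mapExtAddHom_apply,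
        Functor.mapExtAddHom_apply, h4, sub_self]
    obtain ⟨s', hs'⟩ := h1.inj _ h3
    refine ⟨s' * s, ?_⟩
    have h5 : ((s' * s : S) : R) • w = (s' : R) • ((Ext.mk₀ T.f).comp u (zero_add j)) := by
      rw [smul_sub, sub_eq_zero, smul_smul] at hs'
      exact hs'
    rw [← Ext.comp_smul, h5, Ext.comp_smul, ShortComplex.ShortExact.extClass_comp_assoc, smul_zero]
  · intro y
    obtain ⟨z, hz⟩ := Ext.contravariant_sequence_exact₃ hTS _ y (Ext.eq_zero_of_projective _)
      (add_comm 1 j)
    obtain ⟨s, w, hw⟩ := h1.surj z
    refine ⟨s, hT.extClass.comp w (add_comm 1 j), ?_⟩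
    rw [Ext.mapExactFunctor_comp, Ext.mapExactFunctor_extClass, hw]
    exact (Ext.comp_smul _ _ _ _).trans (congrArg _ hz)

lemma projective_L (N : ModuleCat.{u} R) [Module.Projective R N] :
    Projective ((L S).obj N) := by
  have : Module.Projective (Localization S) (N.localizedModule S) :=
    Module.projective_of_isLocalizedModule S (N.localizedModuleMkLinearMap S)
  exact (IsProjective.iff_projective (R := Localization S) (N.localizedModule S)).mp this

/-- `Ext^j_R(N, M)_S = Ext^j_{R_S}(N_S, M_S)` for `N` finite over the Noetherian ring `R`. -/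
theorem locExt [IsNoetherianRing R] (M : ModuleCat.{u} R) (j : ℕ) :
    ∀ (N : ModuleCat.{u} R) [Module.Finite R N], LocExt S N M j := by
  induction j with
  | zero => intro N _; exact locExt_zero S N M
  | succ j ih =>
    intro N _
    obtain ⟨F, _, _, _, _, f, surjf⟩ := Module.exists_finite_presentation R N
    have exac := LinearMap.shortExact_shortComplexKer surjf
    have h1 : LocExt S f.shortComplexKer.X₁ M j := by
      have : Module.Finite R f.shortComplexKer.X₁ := by
        change Module.Finite R (LinearMap.ker f)
        infer_instance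
      exact ih _
    have h2 : LocExt S f.shortComplexKer.X₂ M j := by
      have : Module.Finite R f.shortComplexKer.X₂ := by
        change Module.Finite R F
        infer_instance
      exact ih _
    have hp : Module.Projective R f.shortComplexKer.X₂ := by
      change Module.Projective R F
      infer_instance
    have : Projective f.shortComplexKer.X₂ := (IsProjective.iff_projective _).mp hp
    have : Projective (f.shortComplexKer.map (L S)).X₂ := projective_L S f.shortComplexKer.X₂
    exact locExt_succ S exac M j h1 h2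

/-- Vanishing of the localized `Ext`. -/
theorem subsingleton_L_iff [IsNoetherianRing R] (N M : ModuleCat.{u} R) [Module.Finite R N]
    (j : ℕ) : Subsingleton (Ext.{u} ((L S).obj N) ((L S).obj M) j) ↔
      ∀ x : Ext.{u} N M j, ∃ s : S, (s : R) • x = 0 := by
  have h := locExt S M j N
  constructor
  · intro h0 x
    exact h.inj x (Subsingleton.elim _ _)
  · intro h0
    refine ⟨fun a b => ?_⟩
    have key : ∀ y : Ext.{u} ((L S).obj N) ((L S).obj M) j, y = 0 := by
      intro y
      obtain ⟨s, x, hx⟩ := h.surj y
      obtain ⟨t, ht⟩ := h0 x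
      have h1 : (algebraMap R (Localization S) (t * s : R)) • y = 0 := by
        rw [map_mul, mul_smul, ← hx, ← mapExt_smul, ht, Ext.mapExactFunctor_zero]
      have hu : IsUnit (algebraMap R (Localization S) (t * s : R)) :=
        IsLocalization.map_units (Localization S) (t * s)
      obtain ⟨v, hv⟩ := hu
      rw [← hv] at h1
      calc y = ((↑v⁻¹ : Localization S) * ↑v) • y := by rw [Units.inv_mul, one_smul]
        _ = 0 := by rw [mul_smul, h1, smul_zero]
    rw [key a, key b]

/-- The functor `L S` on objects, as the usual `LocalizedModule`. -/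
noncomputable def objEquiv (N : Type u) [AddCommGroup N] [Module R N] :
    (L S).obj (ModuleCat.of R N) ≃ₗ[Localization S] LocalizedModule S N :=
  Shrink.linearEquiv (Localization S) (LocalizedModule S N)

/-- The functor `L S` on the ring itself. -/
noncomputable def ringEquiv : LocalizedModule S R ≃ₗ[Localization S] Localization S :=
  (IsLocalizedModule.linearEquiv S (LocalizedModule.mkLinearMap S R)
    (Algebra.linearMap R (Localization S))).extendScalarsOfIsLocalization S (Localization S)

/-- Linear equivalences induce additive equivalences of `Ext`; in particular vanishing is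
invariant. -/
theorem ext_subsingleton_congr {A : Type u} [CommRing A] {N N' M M' : ModuleCat.{u} A}
    (e : N ≅ N') (e' : M ≅ M') (j : ℕ) :
    Subsingleton (Ext.{u} N M j) ↔ Subsingleton (Ext.{u} N' M' j) := by
  have key : ∀ {N N' M M' : ModuleCat.{u} A} (e : N ≅ N') (e' : M ≅ M'),
      Subsingleton (Ext.{u} N M j) → Subsingleton (Ext.{u} N' M' j) := by
    intro N N' M M' e e' h
    refine ⟨fun x y => ?_⟩
    have h1 : ∀ x : Ext.{u} N' M' j,
        (Ext.mk₀ e.inv).comp (((Ext.mk₀ e.hom).comp x (zero_add j)).comp (Ext.mk₀ e'.inv)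
          (add_zero j) |>.comp (Ext.mk₀ e'.hom) (add_zero j)) (zero_add j) = x := by
      intro x
      simp
    rw [← h1 x, ← h1 y]
    congr 2
    exact Subsingleton.elim _ _
  exact ⟨key e e', key e.symm e'.symm⟩

/-- `Ext^j_{R_p}(N_p, M_p) = 0` iff `p ∉ Supp Ext^j_R(N, M)`. -/
theorem subsingleton_localized_iff [IsNoetherianRing R] (p : PrimeSpectrum R)
    (N : Type u) [AddCommGroup N] [Module R N] [Module.Finite R N]
    (M : Type u) [AddCommGroup M] [Module R M] (j : ℕ) :
    Subsingleton (Ext.{u} (ModuleCat.of (Localization p.asIdeal.primeCompl)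
      (LocalizedModule p.asIdeal.primeCompl N)) (ModuleCat.of (Localization p.asIdeal.primeCompl)
      (LocalizedModule p.asIdeal.primeCompl M)) j) ↔
      p ∉ Module.support R (Ext.{u} (ModuleCat.of R N) (ModuleCat.of R M) j) := by
  rw [Module.notMem_support_iff']
  rw [← ext_subsingleton_congr (objEquiv p.asIdeal.primeCompl N).toModuleIso
    (objEquiv p.asIdeal.primeCompl M).toModuleIso j, subsingleton_L_iff]
  refine forall_congr' fun x => ?_
  constructor
  · rintro ⟨s, hs⟩; exact ⟨s, s.2, hs⟩
  · rintro ⟨s, h1, hs⟩; exact ⟨⟨s, h1⟩, hs⟩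

end Groth.Agent.Sga2.ExtLoc
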