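import Groth.Agent.Sga2.LefExtAnn
import Groth.Agent.Models.CMSeq
import Groth.Agent.Ega4A.Depth
import Groth.Agent.Localalg.Depth
import Groth.Agent.S0563
import Groth.Agent.S0564

/-!
# Ext over regular local rings: vanishing and annihilation

* `hasProjectiveDimensionLE_localized`: `pd M_p ≤ c` if `ht p ≤ δ + c` and `depth M_p ≥ δ`
  (localization of a finite module over a regular local ring).
* `ext_self_subsingleton`: `Ext^j(C, R) = 0` for `j + dim(R/Ann C) < dim R`.
-/

set_option autoImplicit false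

universe u

namespace Groth.Agent.Sga2.LefRegExt

open CategoryTheory Abelian IsLocalRing

/-- `ht p + dim R/p ≤ dim R`. -/
lemma height_add_ringKrullDim_quotient_le {R : Type u} [CommRing R] (p : Ideal R)
    [hp : p.IsPrime] : (p.height : WithBot ℕ∞) + ringKrullDim (R ⧸ p) ≤ ringKrullDim R := by
  let a : PrimeSpectrum R := ⟨p, hp⟩
  have h2 : ringKrullDim (R ⧸ p) ≤ ((Order.coheight a : ℕ∞) : WithBot ℕ∞) := by
    rw [ringKrullDim_quotient]
    unfold Order.krullDim
    refine iSup_le fun s => ?_
    let f : PrimeSpectrum.zeroLocus (R := R) p → PrimeSpectrum R := fun q => q.1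
    have hf : StrictMono f := fun q q' hqq' => hqq'
    have := Order.length_le_coheight (p := s.map f hf) (x := a) (by exact (s 0).2)
    exact_mod_cast this
  have h1 : p.height = Order.height a := PrimeSpectrum.height_eq_orderHeight a
  rw [h1]
  refine (add_le_add le_rfl h2).trans ?_
  have : Nonempty (PrimeSpectrum R) := ⟨a⟩
  unfold ringKrullDim
  rw [Order.krullDim_eq_iSup_height_add_coheight_of_nonempty]
  have := le_iSup (fun b : PrimeSpectrum R => Order.height b + Order.coheight b) a
  exact_mod_cast this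

variable {R : Type u} [CommRing R] [IsRegularLocalRing R]

lemma hasProjectiveDimensionLE_localized (M : Type u) [AddCommGroup M] [Module R M]
    [Module.Finite R M] (p : Ideal R) [p.IsPrime] (δ c : ℕ)
    (hdepth : (δ : ℕ∞) ≤ LocCoh.depth (Localization.AtPrime p) (LocalizedModule p.primeCompl M))
    (hht : p.height ≤ (δ + c : ℕ)) :
    HasProjectiveDimensionLE
      (ModuleCat.of (Localization.AtPrime p) (LocalizedModule p.primeCompl M)) c := by
  rcases subsingleton_or_nontrivial (LocalizedModule p.primeCompl M) with hM | hM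
  · have : HasProjectiveDimensionLT
        (ModuleCat.of (Localization.AtPrime p) (LocalizedModule p.primeCompl M)) 0 :=
      (ModuleCat.isZero_of_subsingleton _).hasProjectiveDimensionLT_zero
    exact hasProjectiveDimensionLT_of_ge _ 0 _ (Nat.zero_le _)
  have hreg : IsRegularLocalRing (Localization.AtPrime p) := Groth.Agent.S0564.result R p
  have hne : maximalIdeal (Localization.AtPrime p) •
      (⊤ : Submodule (Localization.AtPrime p) (LocalizedModule p.primeCompl M)) ≠ ⊤ :=
    Groth.Agent.Ega4A.Depth.smul_top_ne_top le_rfl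
  obtain ⟨rs, hlen, hmem, hrs⟩ :=
    (Groth.Agent.Localalg.Depth.natCast_le_idealDepth_iff hne δ).mp hdepth
  have hfin : p.height ≠ ⊤ := ne_top_of_le_ne_top (ENat.natCast_ne_top _) hht
  obtain ⟨d, hd⟩ := ENat.ne_top_iff_exists.mp hfin
  have hdim : ringKrullDim (Localization.AtPrime p) = d := by
    rw [IsLocalization.AtPrime.ringKrullDim_eq_height p, ← hd]
    rfl
  have h1 := ModuleCat.projectiveDimension_quotient_eq_add_length_of_isWeaklyRegular
    (ModuleCat.of (Localization.AtPrime p) (LocalizedModule p.primeCompl M)) rs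
    hrs.toIsWeaklyRegular hmem
  have h2 := Groth.Agent.S0563.result (Localization.AtPrime p) d hdim
    (LocalizedModule p.primeCompl M ⧸ Ideal.ofList rs •
      (⊤ : Submodule (Localization.AtPrime p) (LocalizedModule p.primeCompl M)))
  have h3 : projectiveDimension (ModuleCat.of (Localization.AtPrime p)
      (LocalizedModule p.primeCompl M ⧸ Ideal.ofList rs •
      (⊤ : Submodule (Localization.AtPrime p) (LocalizedModule p.primeCompl M)))) ≤ (d : ℕ) := by
    rw [projectiveDimension_le_iff]
    exact h2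
  rw [← projectiveDimension_le_iff]
  have h4 : projectiveDimension (ModuleCat.of (Localization.AtPrime p)
      (LocalizedModule p.primeCompl M)) + (δ : ℕ) ≤ (c : ℕ) + (δ : ℕ) := by
    have h5 : ((d : ℕ) : WithBot ℕ∞) ≤ ((c : ℕ) : WithBot ℕ∞) + ((δ : ℕ) : WithBot ℕ∞) := by
      rw [← hd] at hht
      have : d ≤ δ + c := by exact_mod_cast hht
      exact_mod_cast (by omega : d ≤ c + δ)
    refine le_trans (le_of_eq ?_) (h3.trans h5)
    rw [← hlen]
    exact h1.symm
  exact ENat.WithBot.add_le_add_natCast_right_iff.mp h4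

lemma depth_self (r : ℕ) (hr : ringKrullDim R = r) : LocCoh.depth R R = r := by
  have h := Groth.Agent.Models.CMSeq.isCohenMacaulayModule_self (R := R)
  rw [LocCoh.IsCohenMacaulayModule, Module.supportDim_self_eq_ringKrullDim, hr] at h
  exact_mod_cast h.symm

/-- `Ext^j(C, R) = 0` for `j + dim(R/Ann C) < dim R`. -/
lemma ext_self_subsingleton (r e : ℕ) (hr : ringKrullDim R = r) (C : Type u) [AddCommGroup C]
    [Module R C] [Module.Finite R C] (hC : ringKrullDim (R ⧸ Module.annihilator R C) ≤ e)
    (j : ℕ) (hj : j + e < r) :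
    Subsingleton (Ext (ModuleCat.of R C) (ModuleCat.of R R) j) := by
  rcases subsingleton_or_nontrivial C with h | h
  · refine Groth.Agent.Localalg.Depth.ext_subsingleton_of_annihilator_sup_eq_top ?_ j
    change Module.annihilator R C ⊔ _ = ⊤
    rw [Module.annihilator_eq_top_iff.mpr h, top_sup_eq]
  have hle : Module.annihilator R C ≤ maximalIdeal R := by
    apply IsLocalRing.le_maximalIdeal
    rw [Ne, Module.annihilator_eq_top_iff, not_subsingleton_iff_nontrivial]
    exact h
  have h1 := Groth.Agent.Ega4A.Depth.depth_le_idealDepth_add (M := R) hle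
  rw [depth_self r hr] at h1
  refine Groth.Agent.Localalg.Depth.ext_subsingleton_of_lt_idealDepth
    (Module.annihilator R C) C ?_ R j ?_
  · rw [Module.support_eq_zeroLocus]
  · by_contra hcon
    rw [not_lt] at hcon
    have h2 : ((LocCoh.idealDepth (Module.annihilator R C) R : ℕ∞) : WithBot ℕ∞) ≤ (j : ℕ) := by
      exact_mod_cast hcon
    have h3 := h1.trans (add_le_add h2 hC)
    have h4 : (r : WithBot ℕ∞) ≤ ((j + e : ℕ) : WithBot ℕ∞) := by
      push_cast
      exact_mod_cast h3
    have : r ≤ j + e := by exact_mod_cast h4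
    omega

/-- In a Noetherian local ring every non-maximal prime is contained in a prime `P` with `dim R/P = 1`. -/
lemma exists_prime_dim_one {R : Type u} [CommRing R] [IsLocalRing R] [IsNoetherianRing R]
    (p : Ideal R) [hp : p.IsPrime] (hpm : p ≠ maximalIdeal R) :
    ∃ (P : Ideal R) (_ : P.IsPrime), p ≤ P ∧ P ≠ maximalIdeal R ∧ ringKrullDim (R ⧸ P) = 1 := by
  let s : Set (Ideal R) := {P | P.IsPrime ∧ p ≤ P ∧ P ≠ maximalIdeal R}
  obtain ⟨P, ⟨hP, hpP, hPm⟩, hmax⟩ := set_has_maximal_iff_noetherian.mpr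
    (inferInstanceAs (IsNoetherian R R)) s ⟨p, hp, le_rfl, hpm⟩
  refine ⟨P, hP, hpP, hPm, ?_⟩
  have hlt : P < maximalIdeal R :=
    lt_of_le_of_ne (IsLocalRing.le_maximalIdeal hP.ne_top) hPm
  have hnt : Nontrivial (R ⧸ maximalIdeal R) :=
    Ideal.Quotient.nontrivial_iff.mpr Ideal.IsPrime.ne_top'
  have h1 : ringKrullDim (R ⧸ maximalIdeal R) + 1 ≤ ringKrullDim (R ⧸ P) :=
    Groth.Agent.Ega4A.Depth.ringKrullDim_quotient_add_one_le_of_lt hlt
  apply le_antisymm
  · have : Ring.KrullDimLE 1 (R ⧸ P) := by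
      rw [Ring.krullDimLE_one_iff_of_isPrime_bot]
      intro Q hQ0 hQ
      have h2 : P ≤ Q.comap (Ideal.Quotient.mk P) := by
        intro x hx
        rw [Ideal.mem_comap, Ideal.Quotient.eq_zero_iff_mem.mpr hx]
        exact Q.zero_mem
      have h3 : Q.comap (Ideal.Quotient.mk P) ≠ P := by
        intro h
        apply hQ0
        rw [eq_bot_iff]
        intro x hx
        obtain ⟨y, rfl⟩ := Ideal.Quotient.mk_surjective x
        have : y ∈ Q.comap (Ideal.Quotient.mk P) := hx
        rw [h] at this
        exact Ideal.Quotient.eq_zero_iff_mem.mpr this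
      have h4 : Q.comap (Ideal.Quotient.mk P) = maximalIdeal R := by
        by_contra h
        exact hmax _ ⟨Ideal.comap_isPrime _ _, hpP.trans h2, h⟩ (lt_of_le_of_ne h2 (Ne.symm h3))
      have h5 : (Q.comap (Ideal.Quotient.mk P)).IsMaximal := h4 ▸ inferInstance
      have := Ideal.map_eq_top_or_isMaximal_of_surjective (Ideal.Quotient.mk P)
        Ideal.Quotient.mk_surjective h5
      rw [Ideal.map_comap_of_surjective _ Ideal.Quotient.mk_surjective] at this
      exact this.resolve_left hQ.ne_top
    exact_mod_cast Ring.krullDimLE_iff.mp this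
  · refine le_trans ?_ h1
    have : (0 : WithBot ℕ∞) ≤ ringKrullDim (R ⧸ maximalIdeal R) :=
      ringKrullDim_nonneg_of_nontrivial
    calc (1 : WithBot ℕ∞) = 0 + 1 := by simp
      _ ≤ _ := by gcongr

/-- `R` regular local of dimension `c + 3`, `M` finite with `depth M_p ≥ 2` when `dim R/p = 1`: a power of
`t` kills `Ext^i(C, M)` for all `C` of finite length and `i ≤ 2`, and for all finite `C` of dimension
`≤ 1` and `i ≤ 1`. -/
theorem exists_pow_kills (c : ℕ) (hr : ringKrullDim R = (c + 3 : ℕ)) (t : R)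
    (ht : t ∈ maximalIdeal R) (M : Type u) [AddCommGroup M] [Module R M] [Module.Finite R M]
    (h1 : ∀ (p : Ideal R) [p.IsPrime], ringKrullDim (R ⧸ p) = 1 →
      (2 : ℕ∞) ≤ LocCoh.depth (Localization.AtPrime p) (LocalizedModule p.primeCompl M)) :
    ∃ s : ℕ, ∀ (C : Type u) [AddCommGroup C] [Module R C] [Module.Finite R C] (e i : ℕ),
      ringKrullDim (R ⧸ Module.annihilator R C) ≤ e → i + e ≤ 2 →
      ∀ x : Ext (ModuleCat.of R C) (ModuleCat.of R M) i, t ^ s • x = 0 := by
  obtain ⟨s, hs⟩ := LefExtAnn.exists_pow_smul_ext_eq_zero t c M (fun p hp htp => by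
    obtain ⟨P, hP, hpP, hPm, hdim⟩ := exists_prime_dim_one p (fun h => htp (h ▸ ht))
    refine ⟨P, hP, hpP, ?_⟩
    have hle : (P.height : WithBot ℕ∞) + ringKrullDim (R ⧸ P) ≤ (c + 3 : ℕ) := by
      rw [← hr]
      exact height_add_ringKrullDim_quotient_le P
    rw [hdim] at hle
    have hle' : P.height + 1 ≤ (c + 3 : ℕ) := WithBot.coe_le_coe.mp hle
    have hfin : P.height ≠ ⊤ := fun h => by
      rw [h, top_add] at hle'
      exact absurd hle' (by simp)
    obtain ⟨k, hk⟩ := ENat.ne_top_iff_exists.mp hfin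
    rw [← hk] at hle'
    have hke : k + 1 ≤ c + 3 := by exact_mod_cast hle'
    refine hasProjectiveDimensionLE_localized M P 2 c (h1 P hdim) ?_
    rw [← hk]
    exact_mod_cast (by omega : k ≤ 2 + c))
  refine ⟨s, fun C _ _ _ e i hC hi x => ?_⟩
  refine hs (ModuleCat.of R C) (c + 3 - e) i (fun j hj => ?_) (by omega) x
  exact ext_self_subsingleton (c + 3) e hr C hC j (by omega)

end Groth.Agent.Sga2.LefRegExt
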