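import Groth.Agent.Localalg.Depth
import Groth.Agent.S0559
import Mathlib.RingTheory.Length

/-!
# `Ext^r(N, A)` for finite length modules over a regular local ring of dimension `r`
-/

set_option autoImplicit false
set_option linter.unusedSectionVars false
universe u

open CategoryTheory Abelian Limits Pointwise

namespace Groth.Agent.Sga2.RegExt

variable {A : Type u} [CommRing A]

/-- covariant dimension shift -/
noncomputable def shiftCov {S : ShortComplex (ModuleCat.{u} A)} (hS : S.ShortExact)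
    (N : ModuleCat.{u} A) (n : ℕ) (h : Subsingleton (Ext N S.X₂ n))
    (h' : ∀ y : Ext N S.X₁ (n + 1), y.comp (Ext.mk₀ S.f) (add_zero _) = 0) :
    Ext N S.X₃ n ≃ₗ[A] Ext N S.X₁ (n + 1) :=
  LinearEquiv.ofBijective (Ext.postcompOfLinear (Y := S.X₃) (Z := S.X₁) hS.extClass A N rfl) (by
    constructor
    · rw [← LinearMap.ker_eq_bot, eq_bot_iff]
      intro y hy
      obtain ⟨z, hz⟩ := Ext.covariant_sequence_exact₃ N hS y rfl hy
      rw [Submodule.mem_bot, ← hz, h.elim z 0, Ext.zero_comp]
    · intro y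
      exact Ext.covariant_sequence_exact₁ N hS y (h' y) rfl)

/-- contravariant dimension shift -/
noncomputable def shiftContra {S : ShortComplex (ModuleCat.{u} A)} (hS : S.ShortExact)
    (N : ModuleCat.{u} A) (n : ℕ) (h₀ : Subsingleton (Ext S.X₂ N n)) (h' : Subsingleton (Ext S.X₂ N (n + 1))) :
    Ext S.X₁ N n ≃ₗ[A] Ext S.X₃ N (n + 1) :=
  LinearEquiv.ofBijective (Ext.precompOfLinear (X := S.X₃) (Y := S.X₁) hS.extClass A N
      (add_comm 1 n)) (by
    constructor
    · rw [← LinearMap.ker_eq_bot, eq_bot_iff]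
      intro y hy
      obtain ⟨z, hz⟩ := Ext.contravariant_sequence_exact₁ hS N y (add_comm 1 n) hy
      rw [Submodule.mem_bot, ← hz, h₀.elim z 0, Ext.comp_zero]
    · intro y
      exact Ext.contravariant_sequence_exact₃ hS N y (h'.elim _ _) (add_comm 1 n))

theorem ext_equiv_quotSMulTop (N M : ModuleCat.{u} A) (x : A) (hx : IsSMulRegular M x)
    (hN : x ∈ Module.annihilator A N) (n : ℕ) (h : Subsingleton (Ext N M n)) :
    Nonempty (Ext N (ModuleCat.of A (QuotSMulTop x M)) n ≃ₗ[A] Ext N M (n + 1)) := by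
  refine ⟨shiftCov hx.smulShortComplex_shortExact N n h fun (y : Ext N M (n + 1)) => ?_⟩
  change y.comp (Ext.mk₀ (x • 𝟙 M)) (add_zero _) = 0
  rw [← Ext.smul_eq_comp_mk₀]
  exact Groth.Agent.Localalg.Depth.ext_smul_eq_zero_of_mem_annihilator_left hN _ y

noncomputable def extEquivRight (N : ModuleCat.{u} A) {M M' : ModuleCat.{u} A} (e : M ≅ M') (n : ℕ) :
    Ext N M n ≃ₗ[A] Ext N M' n :=
  LinearEquiv.ofLinearMap (Ext.postcompOfLinear (Ext.mk₀ e.hom) A N (add_zero n))
    (Ext.postcompOfLinear (Ext.mk₀ e.inv) A N (add_zero n))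
    (by ext x; simp) (by ext x; simp)

noncomputable def extEquivLeft {N N' : ModuleCat.{u} A} (M : ModuleCat.{u} A) (e : N ≅ N') (n : ℕ) :
    Ext N' M n ≃ₗ[A] Ext N M n :=
  LinearEquiv.ofLinearMap (Ext.precompOfLinear (Ext.mk₀ e.hom) A M (zero_add n))
    (Ext.precompOfLinear (Ext.mk₀ e.inv) A M (zero_add n))
    (by ext x; simp) (by ext x; simp)

theorem subsingleton_ext_of_regular [IsNoetherianRing A] (N M : ModuleCat.{u} A)
    [Module.Finite A N] [Module.Finite A M] (rs : List A)
    (hN : ∀ x ∈ rs, x ∈ Module.annihilator A N) (hreg : RingTheory.Sequence.IsRegular M rs)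
    (i : ℕ) (hi : i < rs.length) : Subsingleton (Ext N M i) := by
  refine ModuleCat.subsingleton_ext_of_exists_isRegular (Ideal.ofList rs) N ?_ M ?_ rs ?_ hreg i hi
  · rw [Module.support_eq_zeroLocus]
    apply PrimeSpectrum.zeroLocus_anti_mono
    change Ideal.ofList rs ≤ _
    rw [Ideal.ofList, Ideal.span_le]
    exact fun x hx => hN x hx
  · exact lt_top_iff_ne_top.2 (Ne.symm hreg.2)
  · intro r hr
    exact Ideal.subset_span hr

theorem ext_equiv_of_regular [IsNoetherianRing A] (N : ModuleCat.{u} A)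
    [Module.Finite A N] (rs : List A) :
    ∀ (M : ModuleCat.{u} A) [Module.Finite A M],
    (∀ x ∈ rs, x ∈ Module.annihilator A N) → RingTheory.Sequence.IsRegular M rs →
    Nonempty (Ext N (ModuleCat.of A (M ⧸ (Ideal.ofList rs • (⊤ : Submodule A M)))) 0 ≃ₗ[A]
      Ext N M rs.length) := by
  induction rs with
  | nil =>
    intro M _ _ _
    have e : (M ⧸ (Ideal.ofList ([] : List A) • (⊤ : Submodule A M))) ≃ₗ[A] M :=
      Submodule.quotEquivOfEqBot _ (by simp)
    exact ⟨extEquivRight N e.toModuleIso 0⟩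
  | cons x rs ih =>
    intro M _ hN hreg
    have hreg' := (RingTheory.Sequence.isRegular_cons_iff M x rs).1 hreg
    have : Module.Finite A (ModuleCat.of A (QuotSMulTop x M)) :=
      inferInstanceAs (Module.Finite A (M ⧸ _))
    obtain ⟨e1⟩ := ih (ModuleCat.of A (QuotSMulTop x M))
      (fun y hy => hN y (List.mem_cons_of_mem _ hy)) hreg'.2
    obtain ⟨e2⟩ := ext_equiv_quotSMulTop N M x hreg'.1 (hN x List.mem_cons_self) rs.length
      (subsingleton_ext_of_regular N M (x :: rs) hN hreg _ (by simp))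
    exact ⟨(extEquivRight N (Submodule.quotOfListConsSMulTopEquivQuotSMulTopInner M x
      rs).toModuleIso 0).trans (e1.trans e2)⟩

end Groth.Agent.Sga2.RegExt
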