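import Groth.Agent.Sga2.PnHomAdj
import Groth.Agent.CohqB.HomSheafCoh
import Groth.Agent.CohqB.QC6
import Groth.Agent.PerfB.ModExact
import Groth.Agent.Dcoh.Restrict
import Groth.Agent.Ega2.BasSec

/-!
# Exactness of the explicit internal Hom in the first variable

For a short exact sequence `0 → X₁ → X₂ → X₃ → 0` of quasi-coherent modules with `X₃` finite locally free, the
sequence `0 → Hom(X₃, P) → Hom(X₂, P) → Hom(X₁, P) → 0` is exact.
-/

set_option autoImplicit false
universe u

open CategoryTheory CategoryTheory.Limits AlgebraicGeometry Opposite TopologicalSpace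

namespace Groth.Agent.Sga2.PnHomExact

open Groth.Agent.CohqB.HomSheaf Groth.Agent.Sga2.PnHomAdj

/-- Extension of linear maps along an injection with projective cokernel. -/
theorem exists_extend {R M₁ M₂ M₃ P : Type*} [Ring R] [AddCommGroup M₁] [AddCommGroup M₂] [AddCommGroup M₃]
    [AddCommGroup P] [Module R M₁] [Module R M₂] [Module R M₃] [Module R P] [Module.Projective R M₃]
    (f : M₁ →ₗ[R] M₂) (g : M₂ →ₗ[R] M₃) (hf : Function.Injective f) (hfg : Function.Exact f g)
    (hg : Function.Surjective g) (φ : M₁ →ₗ[R] P) : ∃ ψ : M₂ →ₗ[R] P, ψ ∘ₗ f = φ := by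
  obtain ⟨σ, hσ⟩ := Module.projective_lifting_property g LinearMap.id hg
  have h := (hfg.split_tfae' ).out 0 1
  obtain ⟨-, l, hl⟩ := h.1 ⟨hf, σ, hσ⟩
  refine ⟨φ ∘ₗ l, ?_⟩
  rw [LinearMap.comp_assoc, hl, LinearMap.comp_id]

/-- Descent of linear maps along a surjection. -/
theorem exists_descend {R M₁ M₂ M₃ P : Type*} [Ring R] [AddCommGroup M₁] [AddCommGroup M₂] [AddCommGroup M₃]
    [AddCommGroup P] [Module R M₁] [Module R M₂] [Module R M₃] [Module R P]
    (f : M₁ →ₗ[R] M₂) (g : M₂ →ₗ[R] M₃) (hfg : ∀ y, g y = 0 → ∃ x, f x = y)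
    (hg : Function.Surjective g) (φ : M₂ →ₗ[R] P) (hφ : ∀ x, φ (f x) = 0) :
    ∃ ψ : M₃ →ₗ[R] P, ∀ y, ψ (g y) = φ y := by
  have hk : LinearMap.ker g ≤ LinearMap.ker φ := by
    intro y hy
    obtain ⟨x, rfl⟩ := hfg y hy
    exact hφ x
  let e := g.quotKerEquivOfSurjective hg
  refine ⟨(LinearMap.ker g).liftQ φ hk ∘ₗ e.symm.toLinearMap, fun y => ?_⟩
  have : e.symm (g y) = Submodule.Quotient.mk y := by
    rw [LinearEquiv.symm_apply_eq]; rfl
  change (LinearMap.ker g).liftQ φ hk (e.symm (g y)) = _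
  rw [this]
  exact Submodule.liftQ_apply _ _ _

variable {X : Scheme.{u}}

/-- The action of a morphism of modules on sections, as a linear map. -/
noncomputable def appL {M N : X.Modules} (φ : M ⟶ N) (V : X.Opens) : Γ(M, V) →ₗ[Γ(X, V)] Γ(N, V) where
  toFun := φ.app V
  map_add' := fun m m' => map_add (φ.app V).hom m m'
  map_smul' := fun r m => φ.app_smul r m

theorem appL_apply {M N : X.Modules} (φ : M ⟶ N) (V : X.Opens) (m : Γ(M, V)) : appL φ V m = φ.app V m := rfl

theorem homMapLeft_comp {M M' M'' : X.Modules} (f : M ⟶ M') (g : M' ⟶ M'') (P : X.Modules) :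
    homMapLeft g P ≫ homMapLeft f P = homMapLeft (f ≫ g) P := rfl

theorem homMapLeft_id (M P : X.Modules) : homMapLeft (𝟙 M) P = 𝟙 _ := rfl

theorem homMapLeft_add {M M' : X.Modules} (f g : M ⟶ M') (P : X.Modules) :
    homMapLeft (f + g) P = homMapLeft f P + homMapLeft g P := by
  ext U s
  apply sec_ext
  intro V hV m
  change comp s V hV (f.app V m + g.app V m) = comp s V hV (f.app V m) + comp s V hV (g.app V m)
  exact map_add _ _ _

theorem homMapLeft_zero (M M' P : X.Modules) : homMapLeft (0 : M ⟶ M') P = 0 := by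
  ext U s
  apply sec_ext
  intro V hV m
  exact map_zero (comp s V hV)

/-- Precomposition, as an additive functor. -/
noncomputable def homFL (P : X.Modules) : X.Modulesᵒᵖ ⥤ X.Modules where
  obj M := homSheaf M.unop P
  map f := homMapLeft f.unop P
  map_id _ := rfl
  map_comp _ _ := rfl

instance (P : X.Modules) : (homFL P).Additive where
  map_add {_ _} f g := homMapLeft_add f.unop g.unop P

theorem mono_homMapLeft {M M' : X.Modules} (g : M ⟶ M') [Epi g] (P : X.Modules) : Mono (homMapLeft g P) := by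
  apply Preadditive.mono_of_cancel_zero
  intro K φ hφ
  refine homSheaf_hom_ext _ _ fun U s m' => ?_
  change comp (φ.app U s) U le_rfl m' = 0
  have hloc : ∀ x : U, ∃ (V : X.Opens) (hVU : V ≤ U) (t : Γ(M, V)), x.1 ∈ V ∧
      g.app V t = M'.presheaf.map (homOfLE hVU).op m' := fun x =>
    Dcoh.Restrict.exists_local_preimage g U m' x.1 x.2
  choose V hVU t hx ht using hloc
  refine eq_of_locally P V U ?_ hVU _ _ ?_
  · intro x hx'
    exact Opens.mem_iSup.mpr ⟨⟨x, hx'⟩, hx _⟩
  · intro x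
    rw [map_zero, ← comp_map (φ.app U s) le_rfl (hVU x) m', ← ht x]
    have h1 : comp ((homMapLeft g P).app U (φ.app U s)) (V x) (hVU x) (t x) = 0 := by
      have : (homMapLeft g P).app U (φ.app U s) = 0 := by
        change (φ ≫ homMapLeft g P).app U s = 0
        rw [hφ]; rfl
      rw [this]; rfl
    exact h1

variable {S : ShortComplex X.Modules}

/-- The short complex `Hom(X₃, P) → Hom(X₂, P) → Hom(X₁, P)`. -/
noncomputable def homSC (S : ShortComplex X.Modules) (P : X.Modules) : ShortComplex X.Modules :=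
  ShortComplex.mk (homMapLeft S.g P) (homMapLeft S.f P) (by
    rw [homMapLeft_comp, S.zero, homMapLeft_zero])

theorem exists_affine_mem {U : X.Opens} {x : X} (hx : x ∈ U) :
    ∃ V : X.Opens, IsAffineOpen V ∧ x ∈ V ∧ V ≤ U := by
  obtain ⟨V, hV, hxV, hVU⟩ := Opens.isBasis_iff_nbhd.mp X.isBasis_affineOpens hx
  exact ⟨V, hV, hxV, hVU⟩

theorem sections_exact (hS : S.ShortExact) (V : X.Opens) :
    ∀ y, appL S.g V y = 0 → ∃ x, appL S.f V x = y := by
  intro y hy
  have := hS.mono_f
  exact CohqB.QC4.exists_of_exact hS.exact V y hy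

theorem sections_exact' (hS : S.ShortExact) (V : X.Opens) : Function.Exact (appL S.f V) (appL S.g V) := by
  intro y
  constructor
  · intro hy
    obtain ⟨x, hx⟩ := sections_exact hS V y hy
    exact ⟨x, hx⟩
  · rintro ⟨x, rfl⟩
    exact CohqB.QC4.app_comp_eq_zero V x

theorem exact_homSC (hS : S.ShortExact) (h₁ : Coh.IsQCoh S.X₁) (h₂ : Coh.IsQCoh S.X₂) (P : X.Modules) :
    (homSC S P).Exact := by
  have h₃ : Coh.IsQCoh S.X₃ := by
    have := hS.epi_g
    exact CohqB.QC6.isQCoh_of_rightExact hS.exact h₁ h₂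
  apply PerfB.ModExact.exact_of_locally_lifts
  intro U y hy x hx
  obtain ⟨V, hV, hxV, hVU⟩ := exists_affine_mem hx
  refine ⟨V, hVU, hxV, ?_⟩
  change Γ(homSheaf S.X₂ P, U) at y
  change (homMapLeft S.f P).app U y = 0 at hy
  have hy' : ∀ m, comp y V hVU (appL S.f V m) = 0 := by
    intro m
    have h : comp ((homMapLeft S.f P).app U y) V hVU m = 0 := by rw [hy]; rfl
    exact h
  have hsurj : Function.Surjective (appL S.g V) := by
    have := hS.epi_g
    have := hS.mono_f
    exact CohqB.QC5.app_surjective hS.exact h₁ hV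
  obtain ⟨ψ, hψ⟩ := exists_descend (appL S.f V) (appL S.g V) (sections_exact hS V) hsurj (comp y V hVU) hy'
  refine ⟨(affineEquiv h₃ hV).symm ψ, ?_⟩
  change (homMapLeft S.g P).app V ((affineEquiv h₃ hV).symm ψ) =
    (homSheaf S.X₂ P).presheaf.map (homOfLE hVU).op y
  refine comp_injective h₂ hV fun m => ?_
  have h1 : comp ((homMapLeft S.g P).app V ((affineEquiv h₃ hV).symm ψ)) V le_rfl m =
    comp ((affineEquiv h₃ hV).symm ψ) V le_rfl (appL S.g V m) := rfl
  rw [h1, comp_affineEquiv_symm, hψ]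
  rfl

/-- Local freeness of sections. -/
theorem exists_affine_free {M : X.Modules} (hM : FlatMod.IsFinLocFree M) {U : X.Opens} {x : X} (hx : x ∈ U) :
    ∃ V : X.Opens, IsAffineOpen V ∧ x ∈ V ∧ V ≤ U ∧ Module.Free Γ(X, V) Γ(M, V) ∧
      Module.Finite Γ(X, V) Γ(M, V) := by
  obtain ⟨W, n, hxW, hW⟩ := hM x
  rw [Ega2.BasSec.nonempty_restrict_iso_freeMod_iff] at hW
  obtain ⟨e, he⟩ := hW
  obtain ⟨V, hV, hxV, hVU⟩ := exists_affine_mem (U := W ⊓ U) ⟨hxW, hx⟩
  have h := (he.res (hVU.trans inf_le_left)).bijective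
  rw [Ega2.BasSec.comb_bijective_iff] at h
  obtain ⟨b, -⟩ := h
  exact ⟨V, hV, hxV, hVU.trans inf_le_right, Module.Free.of_basis b, Module.Finite.of_basis b⟩

theorem epi_homMapLeft (hS : S.ShortExact) (h₁ : Coh.IsQCoh S.X₁) (h₂ : Coh.IsQCoh S.X₂)
    (h₃ : FlatMod.IsFinLocFree S.X₃) (P : X.Modules) : Epi (homMapLeft S.f P) := by
  apply PerfB.ModExact.epi_of_locally_surjective
  intro U y x hx
  obtain ⟨V, hV, hxV, hVU, hfree, -⟩ := exists_affine_free h₃ hx
  refine ⟨V, hVU, hxV, ?_⟩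
  have hsurj : Function.Surjective (appL S.g V) := by
    have := hS.epi_g
    have := hS.mono_f
    exact CohqB.QC5.app_surjective hS.exact h₁ hV
  have hinj : Function.Injective (appL S.f V) := by
    have := hS.mono_f
    exact CohqB.QC4.app_injective_of_mono S.f V
  obtain ⟨ψ, hψ⟩ := exists_extend (appL S.f V) (appL S.g V) hinj (sections_exact' hS V) hsurj
    (comp y V hVU)
  refine ⟨(affineEquiv h₂ hV).symm ψ, ?_⟩
  refine comp_injective h₁ hV fun m => ?_
  have h1 : comp ((homMapLeft S.f P).app V ((affineEquiv h₂ hV).symm ψ)) V le_rfl m =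
    comp ((affineEquiv h₂ hV).symm ψ) V le_rfl (appL S.f V m) := rfl
  rw [h1, comp_affineEquiv_symm]
  exact congrArg (fun f : Γ(S.X₁, V) →ₗ[Γ(X, V)] Γ(P, V) => f m) hψ

/-- `Hom(-, P)` is exact on short exact sequences with finite locally free quotient. -/
theorem shortExact_homSC (hS : S.ShortExact) (h₁ : Coh.IsQCoh S.X₁) (h₂ : Coh.IsQCoh S.X₂)
    (h₃ : FlatMod.IsFinLocFree S.X₃) (P : X.Modules) : (homSC S P).ShortExact := by
  have := hS.epi_g
  have h4 : Mono (homSC S P).f := mono_homMapLeft S.g P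
  have h5 : Epi (homSC S P).g := epi_homMapLeft hS h₁ h₂ h₃ P
  exact ShortComplex.ShortExact.mk (exact_homSC hS h₁ h₂ P)

end Groth.Agent.Sga2.PnHomExact
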