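import Groth.Agent.PerfB.TwistDer
import Groth.Agent.Sga2.PnHomExact

/-!
# Internal Hom and twists on projective space
-/

set_option autoImplicit false
universe u

open CategoryTheory CategoryTheory.Limits AlgebraicGeometry Opposite TopologicalSpace

namespace Groth.Agent.Sga2.PnTwHom

open Groth.Agent.CohqB.HomSheaf Groth.Agent.Sga2.PnHomAdj Groth.Agent.Sga2.PnHomExact
open Groth.Agent.Ega2.Tens Groth.Agent.PerfB.TwistDer Groth.Agent.PerfB.TensExact

/-- `M ⊗ - ≅ - ⊗ M`. -/
noncomputable def swapNat {X : Scheme.{u}} (M : X.Modules) : DCoh.tensorBi.obj M ≅ DCoh.tensorRightMod M :=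
  NatIso.ofComponents (fun N => swap M N) (fun {N N'} f => hom_ext _ _ fun U m n => by
    change (swapHom M N').app U (((DCoh.tensorBi.obj M).map f).app U (tmul m n)) =
      ((DCoh.tensorRightMod M).map f).app U ((swapHom M N).app U (tmul m n))
    rw [tensorBi_map_tmul, swapHom_tmul, swapHom_tmul, tensorRightMod_map_tmul])

variable (n : ℕ) (A : Type u) [CommRing A]

/-- `Hom(O(d), -) ≅ - ⊗ O(-d)`. -/
noncomputable def homFTw (d : ℤ) : homF (tw n A d) ≅ twM n A (-d) :=
  (homAdj (tw n A d)).rightAdjointUniq (((twMEquiv n A d).toAdjunction).ofNatIsoLeft (swapNat _).symm)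

/-- `Hom(O(d), O(e)) ≅ O(e - d)`. -/
noncomputable def homSheafTw (d e c : ℤ) (h : e - d = c) : homSheaf (tw n A d) (tw n A e) ≅ tw n A c :=
  (homFTw n A d).app (tw n A e) ≪≫ twMul n A e (-d) c (by omega)

end Groth.Agent.Sga2.PnTwHom
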