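import Groth.Agent.CycB.CohProp
import Groth.Agent.Dcoh.FinLocFree
import Groth.Agent.Sga2.PnTwHom
import Groth.Agent.Sga2.PnHHDelta

/-!
# Finite sums of twisting modules
-/

set_option autoImplicit false
universe w u

open CategoryTheory CategoryTheory.Limits AlgebraicGeometry Opposite TopologicalSpace

namespace Groth.Agent.Sga2.PnCoprod

open Groth.Agent.CohqB.HomSheaf Groth.Agent.Sga2.PnHomAdj Groth.Agent.Sga2.PnHomExact
open Groth.Agent.PerfB.TwistDer Groth.Agent.Sga2.PnTwHom

section Abstract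

/-- The identity of a finite coproduct. -/
theorem sum_π_ι {C : Type*} [Category C] [Preadditive C] {n : ℕ} (f : Fin n → C) [HasCoproduct f] :
    ∑ j, Sigma.π f j ≫ Sigma.ι f j = 𝟙 (∐ f) := by
  classical
  refine Sigma.hom_ext _ _ fun i => ?_
  rw [Preadditive.comp_sum, Finset.sum_eq_single i]
  · rw [← Category.assoc, Sigma.ι_π_eq_id, Category.id_comp, Category.comp_id]
  · intro j _ hj
    rw [← Category.assoc, Sigma.ι_π_of_ne _ (Ne.symm hj), zero_comp]
  · intro h
    exact absurd (Finset.mem_univ i) h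

/-- An additive functor vanishes on `M` if it vanishes on the terms of a decomposition of `M`. -/
theorem subsingleton_of_decomp {C : Type*} [Category C] [Preadditive C] {k : Type*} [Ring k]
    (T : C ⥤ ModuleCat.{w} k) [T.Additive] {M : C} {n : ℕ} (N : Fin n → C) (a : ∀ j, M ⟶ N j)
    (b : ∀ j, N j ⟶ M) (h : ∑ j, a j ≫ b j = 𝟙 M) (hN : ∀ j, Subsingleton (T.obj (N j))) :
    Subsingleton (T.obj M) := by
  refine subsingleton_of_forall_eq 0 fun x => ?_
  have h1 : (T.map (𝟙 M)).hom x = x := by rw [T.map_id]; rfl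
  rw [← h1, ← h, T.map_sum, ModuleCat.hom_sum, LinearMap.sum_apply]
  refine Finset.sum_eq_zero fun j _ => ?_
  rw [T.map_comp, ModuleCat.hom_comp, LinearMap.comp_apply, Subsingleton.elim ((T.map (a j)).hom x) 0,
    map_zero]

end Abstract

section Flf

variable (X : Scheme.{u})

/-- The property of being finite locally free. -/
def flf : ObjectProperty X.Modules := fun M => FlatMod.IsFinLocFree M

variable {X}

instance : (flf X).IsClosedUnderIsomorphisms where
  of_iso e h := Dcoh.FinLocFree.isFinLocFree_of_iso e h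

instance : (flf X).ContainsZero where
  exists_zero := ⟨_, isZero_zero _, Dcoh.FinLocFree.isFinLocFree_of_isZero (isZero_zero _)⟩

instance : (flf X).IsClosedUnderBinaryCoproducts where
  colimitsOfShape_le := by
    rintro M ⟨p⟩
    have h1 : flf X (p.diag.obj ⟨WalkingPair.left⟩) := p.prop_diag_obj _
    have h2 : flf X (p.diag.obj ⟨WalkingPair.right⟩) := p.prop_diag_obj _
    have e : M ≅ (p.diag.obj ⟨WalkingPair.left⟩) ⊞ (p.diag.obj ⟨WalkingPair.right⟩) :=
      p.isColimit.coconePointsIsoOfNatIso (BinaryBiproduct.isColimit _ _) (diagramIsoPair p.diag)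
    exact (flf X).prop_of_iso e.symm (Dcoh.FinLocFree.isFinLocFree_biprod h1 h2)

instance : (flf X).IsClosedUnderFiniteCoproducts := .mk'

theorem isFinLocFree_coproduct {J : Type w} [Finite J] (M : J → X.Modules)
    (h : ∀ j, FlatMod.IsFinLocFree (M j)) : FlatMod.IsFinLocFree (∐ M) :=
  (flf X).prop_coproduct h

/-- The decomposition of the internal Hom out of a finite coproduct. -/
theorem sum_homMapLeft {n : ℕ} (M : Fin n → X.Modules) (P : X.Modules) :
    ∑ j, homMapLeft (Sigma.ι M j) P ≫ homMapLeft (Sigma.π M j) P = 𝟙 (homSheaf (∐ M) P) := by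
  have h1 : ∀ j, homMapLeft (Sigma.ι M j) P ≫ homMapLeft (Sigma.π M j) P =
      (homFL P).map (Sigma.π M j ≫ Sigma.ι M j).op := fun j => homMapLeft_comp _ _ _
  have h2 : (homFL P).map (𝟙 (∐ M)).op = 𝟙 (homSheaf (∐ M) P) := rfl
  rw [Finset.sum_congr rfl fun j _ => h1 j, ← h2, ← sum_π_ι M, op_sum, Functor.map_sum]
  rfl

end Flf

section Twists

variable (n : ℕ) (A : Type u) [CommRing A]

theorem isFinLocFree_tw (d : ℤ) : FlatMod.IsFinLocFree (tw n A d) :=
  Ega2.QCohLocal.isFinLocFree_of_rank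
    (Ega2.QCohLocal.isFinLocFreeOfRank_one_iff.mpr (isInvertible_tw n A d))

theorem isFinLocFree_sum {m : ℕ} (d : Fin m → ℤ) : FlatMod.IsFinLocFree (∐ fun j => tw n A (d j)) :=
  isFinLocFree_coproduct _ fun j => isFinLocFree_tw n A (d j)

end Twists

end Groth.Agent.Sga2.PnCoprod
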