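import Mathlib.Algebra.Category.ModuleCat.Ext.HasExt
import Mathlib.Algebra.Category.ModuleCat.Localization
import Mathlib.Algebra.Category.ModuleCat.ProjectiveDimension
import Mathlib.Algebra.Homology.DerivedCategory.Ext.Linear
import Mathlib.Algebra.Homology.DerivedCategory.Ext.ExactSequences
import Mathlib.RingTheory.Regular.ProjectiveDimension
import Mathlib.Algebra.Module.FinitePresentation
import Mathlib.RingTheory.Localization.AtPrime.Basic
import Mathlib.RingTheory.LocalProperties.ProjectiveDimension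

/-!
# Annihilation of `Ext^i(C, M)` by powers of an element

Let `R` be a Noetherian ring, `M` a finite module and `t` an element such that every prime `p` not
containing `t` is contained in a prime `P` such that `M_P` has projective dimension `≤ c`. Then there is
`s` such that `t ^ s` kills `Ext^i(C, M)` for all modules `C` with `Ext^j(C, R) = 0` for `j < h` and all
`i` with `i + c < h`.
-/

set_option autoImplicit false

universe u

namespace Groth.Agent.Sga2.LefExtAnn

open CategoryTheory Abelian

variable {R : Type u} [CommRing R]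

lemma ext_free_subsingleton {C : ModuleCat.{u} R} {i : ℕ}
    (h : Subsingleton (Ext C (ModuleCat.of R R) i)) (n : ℕ) :
    Subsingleton (Ext C (ModuleCat.of R (Fin n → R)) i) := by
  refine subsingleton_of_forall_eq 0 fun x => ?_
  let p : ∀ k : Fin n, ModuleCat.of R (Fin n → R) ⟶ ModuleCat.of R R :=
    fun k => ModuleCat.ofHom (LinearMap.proj k)
  let q : ∀ k : Fin n, ModuleCat.of R R ⟶ ModuleCat.of R (Fin n → R) :=
    fun k => ModuleCat.ofHom (LinearMap.single R (fun _ : Fin n => R) k)
  have hid : 𝟙 (ModuleCat.of R (Fin n → R)) = ∑ k, p k ≫ q k := by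
    apply ModuleCat.hom_ext
    rw [ModuleCat.hom_sum]
    refine LinearMap.ext fun v => ?_
    rw [LinearMap.sum_apply]
    change v = ∑ k, Pi.single k (v k)
    exact (Finset.univ_sum_single v).symm
  have : x = x.comp (Ext.mk₀ (∑ k, p k ≫ q k)) (add_zero i) := by
    rw [← hid, Ext.comp_mk₀_id]
  rw [this, Ext.mk₀_sum, Ext.comp_sum]
  refine Finset.sum_eq_zero fun k _ => ?_
  rw [← Ext.mk₀_comp_mk₀, ← Ext.comp_assoc_of_third_deg_zero]
  rw [Subsingleton.elim (x.comp (Ext.mk₀ (p k)) (add_zero i)) 0, Ext.zero_comp]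

lemma smul_eq_zero_of_factor {C M F : ModuleCat.{u} R} {i : ℕ} (t : R)
    (φ : M ⟶ F) (g : F ⟶ M) (h : φ ≫ g = t • 𝟙 M) (hF : Subsingleton (Ext C F i))
    (x : Ext C M i) : t • x = 0 := by
  have : t • x = x.comp (Ext.mk₀ (t • 𝟙 M)) (add_zero i) := by
    rw [Ext.mk₀_smul, Ext.comp_smul, Ext.comp_mk₀_id]
  rw [this, ← h, ← Ext.mk₀_comp_mk₀, ← Ext.comp_assoc_of_third_deg_zero,
    Subsingleton.elim (x.comp (Ext.mk₀ φ) (add_zero i)) 0, Ext.zero_comp]

lemma smul_eq_zero_of_shortExact {S : ShortComplex (ModuleCat.{u} R)} (hS : S.ShortExact)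
    {C : ModuleCat.{u} R} {i : ℕ} (t : R) (hF : Subsingleton (Ext C S.X₂ i))
    (hK : ∀ x : Ext C S.X₁ (i + 1), t • x = 0) (x : Ext C S.X₃ i) : t • x = 0 := by
  have h0 : (t • x).comp hS.extClass (rfl : i + 1 = i + 1) = 0 := by
    rw [Ext.smul_comp]
    exact hK _
  obtain ⟨y, hy⟩ := Ext.covariant_sequence_exact₃ C hS (t • x) rfl h0
  rw [← hy, Subsingleton.elim y 0, Ext.zero_comp]

lemma hasProjectiveDimensionLE_localized_ker {M F : Type u} [AddCommGroup M] [Module R M]
    [AddCommGroup F] [Module R F] [Module.Free R F] (g : F →ₗ[R] M) (hg : Function.Surjective g)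
    (p : Ideal R) [p.IsPrime] (c : ℕ)
    (h : HasProjectiveDimensionLE (ModuleCat.of (Localization.AtPrime p)
      (LocalizedModule p.primeCompl M)) (c + 1)) :
    HasProjectiveDimensionLE (ModuleCat.of (Localization.AtPrime p)
      (LocalizedModule p.primeCompl (LinearMap.ker g))) c := by
  let S : ShortComplex (ModuleCat.{u} (Localization.AtPrime p)) :=
    ShortComplex.mk
      (ModuleCat.ofHom (LocalizedModule.map p.primeCompl (LinearMap.ker g).subtype))
      (ModuleCat.ofHom (LocalizedModule.map p.primeCompl g)) (by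
        apply ModuleCat.hom_ext
        refine LinearMap.ext fun x => ?_
        exact ((LocalizedModule.map_exact p.primeCompl (LinearMap.ker g).subtype g
          (LinearMap.exact_subtype_ker_map g)) _).mpr ⟨x, rfl⟩)
  have hS : S.ShortExact := by
    refine { exact := ?_, mono_f := ?_, epi_g := ?_ }
    · exact (ShortComplex.ShortExact.moduleCat_exact_iff_function_exact S).mpr
        (LocalizedModule.map_exact p.primeCompl (LinearMap.ker g).subtype g
          (LinearMap.exact_subtype_ker_map g))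
    · exact (ModuleCat.mono_iff_injective _).mpr
        (LocalizedModule.map_injective p.primeCompl _ (Submodule.injective_subtype _))
    · exact (ModuleCat.epi_iff_surjective _).mpr
        (LocalizedModule.map_surjective p.primeCompl _ hg)
  have hP : Projective S.X₂ := by
    rw [← IsProjective.iff_projective]
    change Module.Projective (Localization p.primeCompl) (LocalizedModule p.primeCompl F)
    infer_instance
  exact (hS.hasProjectiveDimensionLT_X₃_iff c hP).mp h

/-- If every prime `p` not containing `t` is contained in a prime `P` with `M_P` projective, then for every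
surjection `g : F → M` some power of `t` factors through `g`. -/
lemma exists_pow_smul_factor [IsNoetherianRing R] {M F : Type u} [AddCommGroup M] [Module R M]
    [Module.Finite R M] [AddCommGroup F] [Module R F] (g : F →ₗ[R] M)
    (hg : Function.Surjective g) (t : R)
    (h : ∀ (p : Ideal R) [p.IsPrime], t ∉ p → ∃ (P : Ideal R) (_ : P.IsPrime), p ≤ P ∧
      Module.Projective (Localization.AtPrime P) (LocalizedModule P.primeCompl M)) :
    ∃ (s : ℕ) (φ : M →ₗ[R] F), g ∘ₗ φ = t ^ s • LinearMap.id := by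
  let 𝔞 : Ideal R :=
    { carrier := {u | ∃ φ : M →ₗ[R] F, g ∘ₗ φ = u • LinearMap.id}
      add_mem' := by
        rintro a b ⟨φ, hφ⟩ ⟨ψ, hψ⟩
        exact ⟨φ + ψ, by rw [LinearMap.comp_add, hφ, hψ, add_smul]⟩
      zero_mem' := ⟨0, by rw [LinearMap.comp_zero, zero_smul]⟩
      smul_mem' := by
        rintro c a ⟨φ, hφ⟩
        exact ⟨c • φ, by rw [LinearMap.comp_smul, hφ, smul_eq_mul, mul_smul]⟩ }
  have ht : t ∈ 𝔞.radical := by
    rw [Ideal.radical_eq_sInf, Submodule.mem_sInf]
    rintro (p₀ : Ideal R) ⟨hle, hp₀⟩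
    by_contra htp
    obtain ⟨p, hp, hpp, hproj⟩ := h p₀ htp
    replace hle := hle.trans hpp
    have : Module.FinitePresentation R M := Module.finitePresentation_of_finite R M
    obtain ⟨σ, hσ⟩ := Module.projective_lifting_property (LocalizedModule.map p.primeCompl g)
      LinearMap.id (LocalizedModule.map_surjective p.primeCompl _ hg)
    obtain ⟨φ, u, hφ⟩ := Module.FinitePresentation.exists_lift_of_isLocalizedModule
      p.primeCompl (LocalizedModule.mkLinearMap p.primeCompl F)
      ((σ.restrictScalars R) ∘ₗ LocalizedModule.mkLinearMap p.primeCompl M)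
    obtain ⟨v, hv⟩ := Module.Finite.exists_smul_of_comp_eq_of_isLocalizedModule p.primeCompl
      (LocalizedModule.mkLinearMap p.primeCompl M) (g ∘ₗ φ) (u • LinearMap.id) (by
        refine LinearMap.ext fun x => ?_
        have h1 : LocalizedModule.mkLinearMap p.primeCompl M (g (φ x)) =
            LocalizedModule.map p.primeCompl g (LocalizedModule.mkLinearMap p.primeCompl F (φ x)) := by
          simp [LocalizedModule.mkLinearMap_apply, LocalizedModule.map_mk]
        have h2 := LinearMap.congr_fun hφ x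
        have h3 := LinearMap.congr_fun hσ (LocalizedModule.mkLinearMap p.primeCompl M x)
        simp only [LinearMap.comp_apply, LinearMap.smul_apply, LinearMap.id_apply,
          LinearMap.restrictScalars_apply] at h1 h2 h3 ⊢
        rw [h1, h2, Submonoid.smul_def, LinearMap.map_smul_of_tower, h3, Submonoid.smul_def,
          map_smul])
    have hmem : (v : R) * (u : R) ∈ 𝔞 := by
      refine ⟨(v : R) • φ, ?_⟩
      rw [LinearMap.comp_smul, mul_smul]
      exact hv
    rcases hp.mem_or_mem (hle hmem) with h1 | h1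
    · exact v.2 h1
    · exact u.2 h1
  obtain ⟨s, φ, hφ⟩ := ht
  exact ⟨s, φ, hφ⟩

/-- **Annihilation lemma.** Let `M` be a finite module over a Noetherian ring `R` and `t : R` such that
every prime `p` not containing `t` is contained in a prime `P` with `M_P` of projective dimension at most
`c`.  Then there is `s` such that `t ^ s` kills `Ext^i(C, M)` for all `C` with `Ext^j(C, R) = 0` for
`j < h` and `i + c < h`. -/
theorem exists_pow_smul_ext_eq_zero [IsNoetherianRing R] (t : R) (c : ℕ) (M : Type u)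
    [AddCommGroup M] [Module R M] [Module.Finite R M]
    (h : ∀ (p : Ideal R) [p.IsPrime], t ∉ p → ∃ (P : Ideal R) (_ : P.IsPrime), p ≤ P ∧
      HasProjectiveDimensionLE
        (ModuleCat.of (Localization.AtPrime P) (LocalizedModule P.primeCompl M)) c) :
    ∃ s : ℕ, ∀ (C : ModuleCat.{u} R) (n i : ℕ),
      (∀ j < n, Subsingleton (Ext C (ModuleCat.of R R) j)) → i + c < n →
      ∀ x : Ext C (ModuleCat.of R M) i, t ^ s • x = 0 := by
  induction c generalizing M with
  | zero =>
    obtain ⟨n, g, hg⟩ := Module.Finite.exists_fin' R M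
    obtain ⟨s, φ, hφ⟩ := exists_pow_smul_factor g hg t (fun p _ hp => by
      obtain ⟨P, hP, hpP, this⟩ := h p hp
      rw [HasProjectiveDimensionLE, zero_add, ← projective_iff_hasProjectiveDimensionLT_one,
        ← IsProjective.iff_projective] at this
      exact ⟨P, hP, hpP, this⟩)
    refine ⟨s, fun C n i hC hi x => ?_⟩
    refine smul_eq_zero_of_factor (t ^ s) (ModuleCat.ofHom φ) (ModuleCat.ofHom g) ?_
      (ext_free_subsingleton (hC i (by lia)) _) x
    apply ModuleCat.hom_ext
    exact hφ
  | succ c ih =>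
    obtain ⟨n, g, hg⟩ := Module.Finite.exists_fin' R M
    obtain ⟨s, hs⟩ := ih (LinearMap.ker g) (fun p _ hp => by
      obtain ⟨P, hP, hpP, this⟩ := h p hp
      exact ⟨P, hP, hpP, hasProjectiveDimensionLE_localized_ker g hg P c this⟩)
    refine ⟨s, fun C n i hC hi x => ?_⟩
    exact smul_eq_zero_of_shortExact (LinearMap.shortExact_shortComplexKer hg) (t ^ s)
      (ext_free_subsingleton (hC i (by lia)) _) (hs C n (i + 1) hC (by lia)) x

section Kills

variable {S : ShortComplex (ModuleCat.{u} R)} (hS : S.ShortExact) {C : ModuleCat.{u} R} {i : ℕ}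
  (a b : R)

include hS in
lemma kills_X₂ (h₁ : ∀ x : Ext C S.X₁ i, a • x = 0) (h₃ : ∀ x : Ext C S.X₃ i, b • x = 0)
    (x : Ext C S.X₂ i) : (a * b) • x = 0 := by
  have h0 : (b • x).comp (Ext.mk₀ S.g) (add_zero i) = 0 := by
    rw [Ext.smul_comp]
    exact h₃ _
  obtain ⟨y, hy⟩ := Ext.covariant_sequence_exact₂ C hS (b • x) h0
  rw [mul_smul, ← hy, ← Ext.smul_comp, h₁, Ext.zero_comp]

include hS in
lemma kills_X₃ (h₂ : ∀ x : Ext C S.X₂ i, a • x = 0) (h₁ : ∀ x : Ext C S.X₁ (i + 1), b • x = 0)
    (x : Ext C S.X₃ i) : (a * b) • x = 0 := by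
  have h0 : (b • x).comp hS.extClass (rfl : i + 1 = i + 1) = 0 := by
    rw [Ext.smul_comp]
    exact h₁ _
  obtain ⟨y, hy⟩ := Ext.covariant_sequence_exact₃ C hS (b • x) rfl h0
  rw [mul_smul, ← hy, ← Ext.smul_comp, h₂, Ext.zero_comp]

omit i in
lemma kills_of_annihilates {M : ModuleCat.{u} R} {i : ℕ} (h : ∀ m : M, a • m = 0)
    (x : Ext C M i) : a • x = 0 := by
  have h0 : a • 𝟙 M = 0 := by
    apply ModuleCat.hom_ext
    exact LinearMap.ext h
  have : a • x = x.comp (Ext.mk₀ (a • 𝟙 M)) (add_zero i) := by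
    rw [Ext.mk₀_smul, Ext.comp_smul, Ext.comp_mk₀_id]
  rw [this, h0, Ext.mk₀_zero, Ext.comp_zero]

end Kills

/-- If `a` kills `Ext^1(R/J, N)` then for every `h : J → N`, the map `a • h` extends to `R`. -/
lemma exists_smul_eq_of_kills {N : Type u} [AddCommGroup N] [Module R N] (J : Ideal R) (a : R)
    (hkill : ∀ x : Ext (ModuleCat.of R (R ⧸ J)) (ModuleCat.of R N) 1, a • x = 0)
    (h : J →ₗ[R] N) : ∃ n : N, ∀ r : J, a • h r = (r : R) • n := by
  let S : ShortComplex (ModuleCat.{u} R) :=
    ShortComplex.mk (ModuleCat.ofHom (Submodule.subtype J)) (ModuleCat.ofHom (Submodule.mkQ J)) (by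
      apply ModuleCat.hom_ext
      refine LinearMap.ext fun x => ?_
      exact (Submodule.Quotient.mk_eq_zero _).mpr x.2)
  have hS : S.ShortExact := by
    refine { exact := ?_, mono_f := ?_, epi_g := ?_ }
    · refine (ShortComplex.ShortExact.moduleCat_exact_iff_function_exact S).mpr ?_
      exact LinearMap.exact_subtype_mkQ J
    · exact (ModuleCat.mono_iff_injective _).mpr (Submodule.injective_subtype J)
    · exact (ModuleCat.epi_iff_surjective _).mpr (Submodule.mkQ_surjective J)
  have h0 : hS.extClass.comp (a • Ext.mk₀ (ModuleCat.ofHom h)) (rfl : 1 + 0 = 1) = 0 := by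
    rw [Ext.comp_smul]
    exact hkill _
  obtain ⟨y, hy⟩ := Ext.contravariant_sequence_exact₁ hS (ModuleCat.of R N)
    (a • Ext.mk₀ (ModuleCat.ofHom h)) rfl h0
  obtain ⟨g, rfl⟩ := (Ext.mk₀_bijective _ _).2 y
  rw [Ext.mk₀_comp_mk₀, ← Ext.mk₀_smul, (Ext.mk₀_bijective _ _).1.eq_iff] at hy
  refine ⟨g.hom (1 : R), fun r => ?_⟩
  have h1 : g.hom (r : R) = a • h r := congr($(hy).hom r)
  rw [← h1, ← map_smul, smul_eq_mul, mul_one]

/-- Let `ι : N → B` be injective, `b : B`, `J` an ideal with `J b ⊆ ι N` such that no nonzero element of `B`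
is killed by `J`.  If `a` kills `Ext^1(R/J, N)` then `a b ∈ ι N`. -/
lemma smul_mem_range_of_kills {N B : Type u} [AddCommGroup N] [Module R N] [AddCommGroup B]
    [Module R B] (ι : N →ₗ[R] B) (hι : Function.Injective ι) (b : B) (J : Ideal R)
    (hJ : ∀ r ∈ J, r • b ∈ LinearMap.range ι) (hsep : ∀ x : B, (∀ r ∈ J, r • x = 0) → x = 0)
    (a : R) (hkill : ∀ x : Ext (ModuleCat.of R (R ⧸ J)) (ModuleCat.of R N) 1, a • x = 0) :
    a • b ∈ LinearMap.range ι := by
  let e := LinearEquiv.ofInjective ι hι
  let h : J →ₗ[R] N := e.symm.toLinearMap ∘ₗ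
    LinearMap.codRestrict (LinearMap.range ι)
      ((LinearMap.toSpanSingleton R B b) ∘ₗ (Submodule.subtype J)) (fun r => hJ r r.2)
  have hh : ∀ r : J, ι (h r) = (r : R) • b := fun r => by
    have : e (h r) = ⟨(r : R) • b, hJ r r.2⟩ := by
      simp only [h, LinearMap.comp_apply, LinearEquiv.coe_coe, LinearEquiv.apply_symm_apply]
      rfl
    exact congrArg Subtype.val this
  obtain ⟨n, hn⟩ := exists_smul_eq_of_kills J a hkill h
  refine ⟨n, ?_⟩
  rw [← sub_eq_zero]
  refine hsep _ fun r hr => ?_
  have := congrArg ι (hn ⟨r, hr⟩)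
  rw [map_smul, map_smul, hh] at this
  rw [smul_sub, ← this, smul_comm, sub_self]

end Groth.Agent.Sga2.LefExtAnn
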