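import Groth.Agent.Sga2.PnShift

/-!
# Injectivity on `H^r` and surjectivity on homomorphisms to the dualizing module
-/

set_option autoImplicit false
universe w v u

open CategoryTheory CategoryTheory.Limits AlgebraicGeometry Opposite TopologicalSpace

namespace Groth.Agent.Sga2.PnKey

section Abstract

variable {C : Type u} [Category.{v} C] {k : Type*} [Field k] (T : C ⥤ ModuleCat.{w} k) {ω : C}
  (t : T.obj ω →ₗ[k] k)

/-- `G` is dual for the trace `t`: every functional on `T(G)` is `t ∘ T(φ)` for a unique `φ : G ⟶ ω`. -/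
def IsDual (G : C) : Prop := ∀ ψ : T.obj G →ₗ[k] k, ∃! φ : G ⟶ ω, ∀ x, ψ x = t ((T.map φ).hom x)

variable {T t} in
theorem injective_iff {K L : C} (hK : IsDual T t K) (hL : IsDual T t L) (f : K ⟶ L) :
    Function.Injective (T.map f).hom ↔ ∀ φ' : K ⟶ ω, ∃ φ : L ⟶ ω, f ≫ φ = φ' := by
  constructor
  · intro hf φ'
    obtain ⟨l, hl⟩ := (T.map f).hom.exists_leftInverse_of_injective (LinearMap.ker_eq_bot.mpr hf)
    let ψ' : T.obj K →ₗ[k] k := t ∘ₗ (T.map φ').hom
    obtain ⟨φ, hφ, -⟩ := hL (ψ' ∘ₗ l)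
    refine ⟨φ, ?_⟩
    obtain ⟨φ₀, -, huniq⟩ := hK ψ'
    rw [huniq φ' (fun x => rfl)]
    apply huniq
    intro x
    have h1 : (T.map (f ≫ φ)).hom x = (T.map φ).hom ((T.map f).hom x) := by
      rw [T.map_comp]; rfl
    have h2 : l ((T.map f).hom x) = x := LinearMap.congr_fun hl x
    rw [h1, ← hφ]
    change ψ' x = ψ' (l ((T.map f).hom x))
    rw [h2]
  · intro h
    rw [injective_iff_map_eq_zero]
    intro ξ hξ
    rw [← Module.forall_dual_apply_eq_zero_iff k]
    intro ψ'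
    obtain ⟨φ', hφ', -⟩ := hK ψ'
    obtain ⟨φ, rfl⟩ := h φ'
    have h1 : (T.map (f ≫ φ)).hom ξ = (T.map φ).hom ((T.map f).hom ξ) := by
      rw [T.map_comp]; rfl
    rw [hφ', h1, hξ, map_zero, map_zero]

end Abstract

section Curry

open Groth.Agent.CohqB.HomSheaf Groth.Agent.Sga2.PnHomAdj Groth.Agent.Sga2.PnHomExact
open Groth.Agent.Ega2.Tens Groth.Agent.PerfB.TensExact

variable {X : Scheme.{u}} {K L N P : X.Modules}

theorem curry_map (f : K ⟶ L) (φ : CohB1.tensorMod L N ⟶ P) :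
    curry ((show CohB1.tensorMod K N ⟶ CohB1.tensorMod L N from (DCoh.tensorRightMod N).map f) ≫ φ) =
      curry φ ≫ homMapLeft f P := by
  refine homSheaf_hom_ext _ _ fun U n m => ?_
  rw [comp_curry_self]
  change φ.app U (((DCoh.tensorRightMod N).map f).app U (tmul m n)) =
    comp ((curry φ).app U n) U le_rfl (f.app U m)
  rw [comp_curry_self, tensorRightMod_map_tmul]

theorem lift_iff (f : K ⟶ L) (N P : X.Modules) :
    (∀ φ' : (DCoh.tensorRightMod N).obj K ⟶ P, ∃ φ : (DCoh.tensorRightMod N).obj L ⟶ P,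
      (DCoh.tensorRightMod N).map f ≫ φ = φ') ↔
    ∀ g : N ⟶ homSheaf K P, ∃ g' : N ⟶ homSheaf L P, g' ≫ homMapLeft f P = g := by
  constructor
  · intro h g
    obtain ⟨φ, hφ⟩ := h ((curryEquiv K N P).symm g)
    refine ⟨curryEquiv L N P φ, ?_⟩
    have h1 := curry_map f (P := P) (N := N) φ
    refine h1.symm.trans ?_
    have h2 : curry ((show CohB1.tensorMod K N ⟶ CohB1.tensorMod L N from
      (DCoh.tensorRightMod N).map f) ≫ φ) = curry ((curryEquiv K N P).symm g) := congrArg _ hφ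
    exact h2.trans ((curryEquiv K N P).apply_symm_apply g)
  · intro h φ'
    obtain ⟨g', hg'⟩ := h (curryEquiv K N P φ')
    refine ⟨(curryEquiv L N P).symm g', ?_⟩
    apply (curryEquiv K N P).injective
    rw [← hg']
    refine (curry_map f (P := P) (N := N) ((curryEquiv L N P).symm g')).trans ?_
    exact congrArg (· ≫ homMapLeft f P) ((curryEquiv L N P).apply_symm_apply g')

end Curry

section Main

open Groth.Agent.CohqB.HomSheaf Groth.Agent.Sga2.PnHomAdj Groth.Agent.Sga2.PnHomExact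
open Groth.Agent.PerfB.TwistDer Groth.Agent.Sga2.PnTwHom Groth.Agent.Sga2.PnCoprod Groth.Agent.Sga2.PnHHDelta
open Groth.Agent.Sga2.PnSumCoh

variable (r : ℕ) (k : Type u) [Field k]

theorem injective_iff_epi (t : (hF k (CohB1.ProjSpace r k) r).obj (om r k) →ₗ[k] k)
    (hdual : ∀ G : (CohB1.ProjSpace r k).Modules, Coh.IsCoh G → IsDual (hF k (CohB1.ProjSpace r k) r) t G)
    (htw : ∀ (G : (CohB1.ProjSpace r k).Modules) (m : ℤ), Coh.IsCoh G → Coh.IsCoh ((twM r k m).obj G))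
    (hlift : ∀ {A B : (CohB1.ProjSpace r k).Modules} (_ : Coh.IsCoh A) (_ : Coh.IsCoh B) (f : A ⟶ B),
      Epi f ↔ ∃ m₀ : ℤ, ∀ m : ℤ, m₀ ≤ m → ∀ g : tw r k (-m) ⟶ B, ∃ g' : tw r k (-m) ⟶ A, g' ≫ f = g)
    (hhom : ∀ G : (CohB1.ProjSpace r k).Modules, Coh.IsCoh G → Coh.IsCoh (homSheaf G (om r k)))
    {K L : (CohB1.ProjSpace r k).Modules} (hK : Coh.IsCoh K) (hL : Coh.IsCoh L) (f : K ⟶ L) :
    (∃ m₀ : ℤ, ∀ m : ℤ, m₀ ≤ m →
      Function.Injective ((hF k (CohB1.ProjSpace r k) r).map ((twM r k (-m)).map f)).hom) ↔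
    Epi (homMapLeft f (om r k)) := by
  rw [hlift (hhom L hL) (hhom K hK)]
  refine exists_congr fun m₀ => forall_congr' fun m => imp_congr_right fun hm => ?_
  exact (injective_iff (hdual _ (htw K (-m) hK)) (hdual _ (htw L (-m) hL)) _).trans
    (lift_iff f (tw r k (-m)) (om r k))

end Main

end Groth.Agent.Sga2.PnKey
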