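import Groth.Agent.Sga2.PnTopDual
import Groth.Agent.Sga2.PnKey

/-!
# Perfect pairings and representability of functionals
-/

set_option autoImplicit false
universe w v u

open CategoryTheory CategoryTheory.Limits

namespace Groth.Agent.Sga2.PnGoodDual

open Groth.Agent.Sga2.PnTopDual Groth.Agent.Sga2.PnKey

variable {C : Type u} [Category.{v} C] [Preadditive C] {k : Type w} [Field k] {ω : C}
  {σ : k →+* End ω} {T : C ⥤ ModuleCat.{w} k} [T.Additive]
  {hσ : ∀ (a : k) (x : T.obj ω), (T.map (σ a : ω ⟶ ω)).hom x = a • x}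

/-- `φ ↦ t ∘ T(φ)`. -/
noncomputable def toDual (hσ : ∀ (a : k) (x : T.obj ω), (T.map (σ a : ω ⟶ ω)).hom x = a • x)
    (t : T.obj ω →ₗ[k] k) (G : C) : HomTo σ G →ₗ[k] Module.Dual k (T.obj G) where
  toFun φ := t ∘ₗ (T.map φ.hom).hom
  map_add' φ ψ := by
    ext x
    change t (theta σ T hσ G x (φ + ψ)) = t (theta σ T hσ G x φ) + t (theta σ T hσ G x ψ)
    rw [map_add, map_add]
  map_smul' a φ := by
    ext x
    change t (theta σ T hσ G x (a • φ)) = a • t (theta σ T hσ G x φ)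
    rw [map_smul, map_smul]

theorem toDual_apply (t : T.obj ω →ₗ[k] k) (G : C) (φ : HomTo σ G) (x : T.obj G) :
    toDual hσ t G φ x = t ((T.map φ.hom).hom x) := rfl

variable (t : T.obj ω ≃ₗ[k] k) {G : C}

include t in
theorem finrank_eq (h : Good σ T hσ G) : Module.finrank k (T.obj G) = Module.finrank k (HomTo σ G) := by
  have h1 := h.fin
  have h2 := h.finHom
  have e1 : T.obj G ≃ₗ[k] (HomTo σ G →ₗ[k] T.obj ω) :=
    LinearEquiv.ofBijective (theta σ T hσ G) ⟨h.inj, h.surj⟩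
  have e2 : (HomTo σ G →ₗ[k] T.obj ω) ≃ₗ[k] (HomTo σ G →ₗ[k] k) := t.congrRight
  rw [(e1.trans e2).finrank_eq]
  exact Subspace.dual_finrank_eq

theorem toDual_bijective (h : Good σ T hσ G) : Function.Bijective (toDual hσ (t : T.obj ω →ₗ[k] k) G) := by
  have h1 := h.fin
  have h2 := h.finHom
  have hinj : Function.Injective (toDual hσ (t : T.obj ω →ₗ[k] k) G) := by
    rw [injective_iff_map_eq_zero]
    intro φ hφ
    rw [← Module.forall_dual_apply_eq_zero_iff k]
    intro l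
    obtain ⟨x, hx⟩ := h.surj (t.symm.toLinearMap ∘ₗ l)
    have h3 := LinearMap.congr_fun hφ x
    rw [toDual_apply] at h3
    have h4 : (T.map φ.hom).hom x = t.symm (l φ) := LinearMap.congr_fun hx φ
    rw [h4] at h3
    simpa using h3
  refine ⟨hinj, ?_⟩
  refine (LinearMap.injective_iff_surjective_of_finrank_eq_finrank ?_).mp hinj
  rw [Subspace.dual_finrank_eq, finrank_eq t h]

theorem isDual_of_good (h : Good σ T hσ G) : IsDual T (t : T.obj ω →ₗ[k] k) G := by
  intro ψ
  obtain ⟨φ, hφ⟩ := (toDual_bijective t h).2 ψ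
  refine ⟨φ.hom, fun x => ?_, fun φ' hφ' => ?_⟩
  · rw [← hφ]; rfl
  · refine (toDual_bijective t h).1 (a₁ := HomTo.of σ φ') (a₂ := φ) ?_
    rw [hφ]
    ext x
    exact (hφ' x).symm

end Groth.Agent.Sga2.PnGoodDual
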