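import Groth.Agent.Sga2.PnDeltaFun

/-!
# Dévissage of dimensions for two δ-functors, one covariant and one contravariant
-/

set_option autoImplicit false
universe w v u u'

open CategoryTheory CategoryTheory.Limits

namespace Groth.Agent.Sga2.PnDevis

open Groth.Agent.Sga2.PnDeltaFun

section LinAlg

variable {k : Type*} [Field k] {V₁ V₂ V₃ V₄ : Type*} [AddCommGroup V₁] [AddCommGroup V₂] [AddCommGroup V₃]
  [AddCommGroup V₄] [Module k V₁] [Module k V₂] [Module k V₃] [Module k V₄]

/-- Dimensions in an exact sequence `0 → V₁ → V₂ → V₃ → V₄ → 0`. -/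
theorem finrank_four (f : V₁ →ₗ[k] V₂) (g : V₂ →ₗ[k] V₃) (h : V₃ →ₗ[k] V₄) (hf : Function.Injective f)
    (hfg : Function.Exact f g) (hgh : Function.Exact g h) (hh : Function.Surjective h)
    [Module.Finite k V₂] [Module.Finite k V₃] :
    Module.finrank k V₁ + Module.finrank k V₃ = Module.finrank k V₂ + Module.finrank k V₄ := by
  have h1 := g.finrank_range_add_finrank_ker
  have h2 := h.finrank_range_add_finrank_ker
  have h3 : Module.finrank k (LinearMap.ker g) = Module.finrank k V₁ := by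
    rw [hfg.linearMap_ker_eq, LinearMap.finrank_range_of_inj hf]
  have h4 : Module.finrank k (LinearMap.ker h) = Module.finrank k (LinearMap.range g) := by
    rw [hgh.linearMap_ker_eq]
  have h5 : Module.finrank k (LinearMap.range h) = Module.finrank k V₄ := by
    rw [LinearMap.range_eq_top.mpr hh, finrank_top]
  omega

end LinAlg

variable {C : Type u} [Category.{v} C] [Abelian C] {k : Type u'} [Field k]

/-- The data for the dévissage: `P` a class of objects, `D` a contravariant construction on them. -/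
structure Devis (H : ℕ → C ⥤ ModuleCat.{w} k) (P : C → Prop) (D : C → C) (r : ℕ) : Prop where
  pres : ∀ F, P F → ∃ S : ShortComplex C, S.ShortExact ∧ S.X₃ = F ∧ P S.X₁ ∧ P S.X₂ ∧
    (∀ i, i < r → Subsingleton ((H i).obj S.X₂)) ∧ (∀ j, 0 < j → Subsingleton ((H j).obj (D S.X₂))) ∧
    ∃ S' : ShortComplex C, S'.ShortExact ∧ S'.X₁ = D S.X₃ ∧ S'.X₂ = D S.X₂ ∧ S'.X₃ = D S.X₁
  top : ∀ F, P F → Subsingleton ((H (r + 1)).obj F)
  fin : ∀ F, P F → Module.Finite k ((H r).obj F)
  fin' : ∀ F, P F → Module.Finite k ((H 0).obj (D F))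
  eq : ∀ F, P F → Module.finrank k ((H r).obj F) = Module.finrank k ((H 0).obj (D F))

theorem Devis.main {H : ℕ → C ⥤ ModuleCat.{w} k} (Δ : Delta H) {P : C → Prop} {D : C → C} {r : ℕ}
    (d : Devis H P D r) (j : ℕ) : ∀ (i : ℕ) (_ : i + j = r) (F : C) (_ : P F),
      Module.Finite k ((H i).obj F) ∧ Module.Finite k ((H j).obj (D F)) ∧
        Module.finrank k ((H i).obj F) = Module.finrank k ((H j).obj (D F)) := by
  induction j with
  | zero =>
    intro i hi F hF
    obtain rfl : i = r := by omega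
    exact ⟨d.fin F hF, d.fin' F hF, d.eq F hF⟩
  | succ j ih =>
    intro i hi F hF
    obtain ⟨S, hS, rfl, h1, h2, hL, hL', S', hS', e1, e2, e3⟩ := d.pres F hF
    have hsub0 : Subsingleton ((H i).obj S.X₂) := hL i (by omega)
    have hsub1 : Subsingleton ((H (j + 1)).obj S'.X₂) := by rw [e2]; exact hL' _ (by omega)
    obtain ⟨f1, f2, f3⟩ := ih (i + 1) (by omega) S.X₁ h1
    rw [← e1]
    rw [← e3] at f2 f3
    rcases Nat.eq_zero_or_pos j with rfl | hj
    · obtain ⟨g1, g2, g3⟩ := ih (i + 1) (by omega) S.X₂ h2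
      obtain ⟨t1, t2, t3⟩ := ih (i + 1) (by omega) S.X₃ hF
      rw [← e2] at g2 g3
      rw [← e1] at t2 t3
      have htop : Subsingleton ((H (i + 1 + 1)).obj S.X₁) := by
        have := d.top S.X₁ h1
        rwa [show r = i + 1 by omega] at this
      -- 0 → H^i(X₃) → H^{i+1}(X₁) → H^{i+1}(X₂) → H^{i+1}(X₃) → 0
      have k1 : Function.Injective (Δ.δ hS i) := by
        rw [injective_iff_map_eq_zero]
        intro x hx
        obtain ⟨y, rfl⟩ := (Δ.exact₃ hS i x).mp hx
        rw [Subsingleton.elim y 0, map_zero]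
      have k2 := Δ.surjective_g hS (i + 1)
      have kk := finrank_four _ _ _ k1 (Δ.exact₁ hS i) (Δ.exact₂ hS (i + 1)) k2
      -- 0 → H^0(X₁') → H^0(X₂') → H^0(X₃') → H^1(X₁') → 0
      have m1 : Function.Surjective (Δ.δ hS' 0) := fun x =>
        (Δ.exact₁ hS' 0 x).mp (Subsingleton.elim _ _)
      have mm := finrank_four _ _ _ (Δ.inj hS') (Δ.exact₂ hS' 0) (Δ.exact₃ hS' 0) m1
      refine ⟨Module.Finite.of_injective _ k1, Module.Finite.of_surjective _ m1, ?_⟩
      omega
    · obtain ⟨j, rfl⟩ := Nat.exists_eq_succ_of_ne_zero hj.ne'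
      have hsub2 : Subsingleton ((H (i + 1)).obj S.X₂) := hL (i + 1) (by omega)
      have hsub3 : Subsingleton ((H (j + 1)).obj S'.X₂) := by rw [e2]; exact hL' _ (by omega)
      have a := Δ.equivδ hS i
      have b := Δ.equivδ hS' (j + 1)
      refine ⟨Module.Finite.equiv a.symm, Module.Finite.equiv b, ?_⟩
      rw [a.finrank_eq, f3, b.finrank_eq]

end Groth.Agent.Sga2.PnDevis
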