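import Groth.Agent.Ega2.TensMon
import Groth.Agent.CohqB.HomSheaf
import Groth.Prelude.Def_DCoh4

/-!
# The tensor–Hom adjunction for the explicit internal Hom of `O_X`-modules

* `tensorBi_map_tmul`: `DCoh.tensorBi.obj M` acts on pure tensors as expected;
* `homF M : X.Modules ⥤ X.Modules`, `N ↦ homSheaf M N`;
* `homAdj M : DCoh.tensorBi.obj M ⊣ homF M`; in particular `DCoh.HasSheafHom M` always holds;
* `sheafHomIso M N : (DCoh.sheafHom M).obj N ≅ homSheaf M N`.
-/

set_option autoImplicit false
universe u

open CategoryTheory CategoryTheory.Limits AlgebraicGeometry Opposite TopologicalSpace MonoidalCategory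

namespace Groth.Agent.Sga2.PnHomAdj

open Groth.Agent.Ega2.Tens Groth.Agent.CohqB.HomSheaf

variable {X : Scheme.{u}} {M M' N N' P P' : X.Modules} {U V : X.Opens}

theorem tensorBi_obj_obj (M N : X.Modules) :
    (DCoh.tensorBi.obj M).obj N = CohB1.tensorMod M N := rfl

theorem tensorBi_map_tmul (M : X.Modules) {N N' : X.Modules} (g : N ⟶ N') (m : Γ(M, U)) (n : Γ(N, U)) :
    ((DCoh.tensorBi.obj M).map g).app U (tmul m n) = tmul m (g.app U n) := by
  have h := (toSheafify_naturality (Opens.grothendieckTopology X)
    ((PresheafOfModules.toPresheaf _).map (CohB1.toPMod M ◁ g.val)))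
  have h2 := congr(($h).app (op U) (pt m n))
  exact h2.symm

theorem tensorBi_map_app_tmul {M M' : X.Modules} (f : M ⟶ M') (N : X.Modules) (m : Γ(M, U)) (n : Γ(N, U)) :
    ((DCoh.tensorBi.map f).app N).app U (tmul m n) = tmul (f.app U m) n := by
  have h := (toSheafify_naturality (Opens.grothendieckTopology X)
    ((PresheafOfModules.toPresheaf _).map
      ((show CohB1.toPMod M ⟶ CohB1.toPMod M' from f.val) ▷ CohB1.toPMod N)))
  have h2 := congr(($h).app (op U) (pt m n))
  exact h2.symm

/-- Postcomposition on the internal Hom. -/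
noncomputable def homMapRight (M : X.Modules) {N N' : X.Modules} (g : N ⟶ N') :
    homSheaf M N ⟶ homSheaf M N' :=
  mkHom (fun U =>
    { toFun := fun s => mkSec (fun V hV =>
            { toFun := fun m => g.app V (comp s V hV m)
              map_add' := fun m m' => by rw [map_add, map_add]
              map_smul' := fun r m => by rw [map_smul, Scheme.Modules.Hom.app_smul]; rfl })
            (fun V W hV h m => by
              change g.app W (comp s W (h.trans hV) (M.presheaf.map (homOfLE h).op m)) =
                N'.presheaf.map (homOfLE h).op (g.app V (comp s V hV m))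
              rw [comp_map s hV h m, app_res])
      map_add' := fun s t => by
        apply sec_ext; intro V hV m
        exact map_add (g.app V).hom _ _
      map_smul' := fun r s => by
        apply sec_ext (M := M) (N := N'); intro V hV m
        exact g.app_smul _ _ })
    (fun U V i s => rfl)

theorem comp_homMapRight (g : N ⟶ N') (s : Γ(homSheaf M N, U)) (V : X.Opens) (hV : V ≤ U) (m : Γ(M, V)) :
    comp ((homMapRight M g).app U s) V hV m = g.app V (comp s V hV m) := rfl

/-- Precomposition on the internal Hom. -/
noncomputable def homMapLeft {M M' : X.Modules} (f : M' ⟶ M) (N : X.Modules) :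
    homSheaf M N ⟶ homSheaf M' N :=
  mkHom (fun U =>
    { toFun := fun s => mkSec (fun V hV =>
            { toFun := fun m => comp s V hV (f.app V m)
              map_add' := fun m m' => by rw [map_add, map_add]
              map_smul' := fun r m => by rw [Scheme.Modules.Hom.app_smul, map_smul]; rfl })
            (fun V W hV h m => by
              change comp s W (h.trans hV) (f.app W (M'.presheaf.map (homOfLE h).op m)) =
                N.presheaf.map (homOfLE h).op (comp s V hV (f.app V m))
              rw [← app_res f, comp_map s hV h])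
      map_add' := fun s t => by
        apply sec_ext; intro V hV m
        rfl
      map_smul' := fun r s => by
        apply sec_ext (M := M') (N := N); intro V hV m
        rfl })
    (fun U V i s => rfl)

theorem comp_homMapLeft (f : M' ⟶ M) (s : Γ(homSheaf M N, U)) (V : X.Opens) (hV : V ≤ U) (m : Γ(M', V)) :
    comp ((homMapLeft f N).app U s) V hV m = comp s V hV (f.app V m) := rfl

/-- Morphisms into the internal Hom are determined by the components at the same open. -/
theorem homSheaf_hom_ext {K : X.Modules} (φ ψ : K ⟶ homSheaf M N)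
    (h : ∀ (U : X.Opens) (s : Γ(K, U)) (m : Γ(M, U)),
      comp (φ.app U s) U le_rfl m = comp (ψ.app U s) U le_rfl m) : φ = ψ := by
  ext U s
  apply sec_ext
  intro V hV m
  have h1 : ∀ χ : K ⟶ homSheaf M N, comp (χ.app U s) V hV m =
      comp (χ.app V (K.presheaf.map (homOfLE hV).op s)) V le_rfl m := fun χ => by
    rw [← app_res χ]; rfl
  rw [h1, h1, h]

variable (M) in
/-- The functor `N ↦ homSheaf M N`. -/
noncomputable def homF : X.Modules ⥤ X.Modules where
  obj N := homSheaf M N
  map g := homMapRight M g
  map_id _ := rfl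
  map_comp _ _ := rfl

theorem tmul_zero' (m : Γ(M, U)) : tmul m (0 : Γ(N, U)) = 0 := map_zero (tmulHom M N U m)

/-- The map `N ⟶ Hom(M, P)` attached to `M ⊗ N ⟶ P`. -/
noncomputable def curry (φ : CohB1.tensorMod M N ⟶ P) : N ⟶ homSheaf M P :=
  mkHom (fun U =>
    { toFun := fun n => mkSec (fun V hV =>
            { toFun := fun m => φ.app V (tmul m (N.presheaf.map (homOfLE hV).op n))
              map_add' := fun m m' => by rw [add_tmul, map_add]
              map_smul' := fun r m => by rw [smul_tmul, Scheme.Modules.Hom.app_smul]; rfl })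
            (fun V W hV h m => by
              change φ.app W (tmul (M.presheaf.map (homOfLE h).op m)
                  (N.presheaf.map (homOfLE (h.trans hV)).op n)) =
                P.presheaf.map (homOfLE h).op (φ.app V (tmul m (N.presheaf.map (homOfLE hV).op n)))
              rw [app_res, tmul_res, Groth.Agent.Ega2.Tens.res_res]; rfl)
      map_add' := fun n n' => by
        apply sec_ext; intro V hV m
        change φ.app V (tmul m (N.presheaf.map (homOfLE hV).op (n + n'))) =
          φ.app V (tmul m (N.presheaf.map (homOfLE hV).op n)) +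
          φ.app V (tmul m (N.presheaf.map (homOfLE hV).op n'))
        rw [map_add, tmul_add, map_add]
      map_smul' := fun r n => by
        apply sec_ext (M := M) (N := P); intro V hV m
        change φ.app V (tmul m (N.presheaf.map (homOfLE hV).op (r • n))) =
          X.presheaf.map (homOfLE hV).op r • φ.app V (tmul m (N.presheaf.map (homOfLE hV).op n))
        rw [Scheme.Modules.map_smul, tmul_smul, Scheme.Modules.Hom.app_smul] })
    (fun U W i n => by
      apply sec_ext (M := M) (N := P); intro V hV m
      change φ.app V (tmul m (N.presheaf.map (homOfLE (hV.trans i.le)).op n)) =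
        φ.app V (tmul m (N.presheaf.map (homOfLE hV).op (N.presheaf.map i.op n)))
      rw [Groth.Agent.Ega2.Tens.res_res]; rfl)

theorem comp_curry (φ : CohB1.tensorMod M N ⟶ P) (n : Γ(N, U)) (V : X.Opens) (hV : V ≤ U) (m : Γ(M, V)) :
    comp ((curry φ).app U n) V hV m = φ.app V (tmul m (N.presheaf.map (homOfLE hV).op n)) := rfl

theorem comp_curry_self (φ : CohB1.tensorMod M N ⟶ P) (n : Γ(N, U)) (m : Γ(M, U)) :
    comp ((curry φ).app U n) U le_rfl m = φ.app U (tmul m n) := by
  rw [comp_curry, res_self]

/-- The map `M ⊗ N ⟶ P` attached to `N ⟶ Hom(M, P)`. -/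
noncomputable def uncurry (ψ : N ⟶ homSheaf M P) : CohB1.tensorMod M N ⟶ P :=
  lift (fun U => LinearMap.mk₂ _ (fun m n => comp (ψ.app U n) U le_rfl m)
    (fun m m' n => map_add _ _ _)
    (fun r m n => map_smul _ _ _)
    (fun m n n' => by rw [map_add, comp_add]; rfl)
    (fun r m n => by rw [Scheme.Modules.Hom.app_smul, comp_self_smul]; rfl))
    (fun U V i m n => by
      change P.presheaf.map i.op (comp (ψ.app U n) U le_rfl m) =
        comp (ψ.app V (N.presheaf.map i.op n)) V le_rfl (M.presheaf.map i.op m)
      rw [← app_res ψ]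
      exact (comp_map (ψ.app U n) le_rfl i.le m).symm)

theorem uncurry_tmul (ψ : N ⟶ homSheaf M P) (m : Γ(M, U)) (n : Γ(N, U)) :
    (uncurry ψ).app U (tmul m n) = comp (ψ.app U n) U le_rfl m := lift_tmul _ _ _ _ _

/-- The tensor–Hom bijection. -/
noncomputable def curryEquiv (M N P : X.Modules) :
    (CohB1.tensorMod M N ⟶ P) ≃ (N ⟶ homSheaf M P) where
  toFun := curry
  invFun := uncurry
  left_inv φ := hom_ext _ _ fun U m n => by rw [uncurry_tmul, comp_curry_self]
  right_inv ψ := homSheaf_hom_ext _ _ fun U n m => by rw [comp_curry_self, uncurry_tmul]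

theorem uncurry_naturality {N N' : X.Modules} (f : N ⟶ N') (ψ : N' ⟶ homSheaf M P) :
    uncurry (f ≫ ψ) = (DCoh.tensorBi.obj M).map f ≫ uncurry ψ := by
  refine hom_ext _ _ fun U m n => ?_
  have h1 : (((DCoh.tensorBi.obj M).map f ≫ uncurry ψ : _ ⟶ P)).app U (tmul m n) =
    (uncurry ψ).app U (((DCoh.tensorBi.obj M).map f).app U (tmul m n)) := rfl
  refine Eq.trans ?_ h1.symm
  rw [tensorBi_map_tmul, uncurry_tmul, uncurry_tmul]
  rfl

theorem curry_naturality {P P' : X.Modules} (φ : CohB1.tensorMod M N ⟶ P) (g : P ⟶ P') :
    curry (φ ≫ g) = curry φ ≫ homMapRight M g := by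
  refine homSheaf_hom_ext _ _ fun U n m => ?_
  exact (comp_curry_self _ _ _).trans
    ((comp_homMapRight g _ _ _ _).trans (congrArg (g.app U) (comp_curry_self φ n m))).symm

variable (M) in
/-- The adjunction `M ⊗ - ⊣ Hom(M, -)`. -/
noncomputable def homAdj : (DCoh.tensorBi (X := X)).obj M ⊣ homF M :=
  Adjunction.mkOfHomEquiv
    { homEquiv := fun N P => curryEquiv M N P
      homEquiv_naturality_left_symm := fun f ψ => uncurry_naturality f ψ
      homEquiv_naturality_right := fun φ g => curry_naturality φ g }

instance hasSheafHom (M : X.Modules) : DCoh.HasSheafHom M := (homAdj M).isLeftAdjoint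

/-- The chosen right adjoint of `M ⊗ -` is the explicit internal Hom. -/
noncomputable def sheafHomIso (M : X.Modules) [DCoh.HasSheafHom M] : DCoh.sheafHom M ≅ homF M :=
  (DCoh.sheafHomAdj M).rightAdjointUniq (homAdj M)

end Groth.Agent.Sga2.PnHomAdj
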