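import Groth.Agent.Sga2.PnHHDelta
import Groth.Agent.Sga2.PnTopDual
import Groth.Agent.Sga2.PnHomAdj
import Groth.Agent.FormalB.ModPow
import Groth.Agent.CurvesB.HZero

/-!
# The action of the base ring on an `O_X`-module, and `H⁰` of the internal Hom
-/

set_option autoImplicit false
universe u

open CategoryTheory CategoryTheory.Limits AlgebraicGeometry Opposite TopologicalSpace

namespace Groth.Agent.Sga2.PnSigma

open Groth.Agent.Sga2.PnHHDelta Groth.Agent.Sga2.PnTopDual Groth.Agent.CohqB.HomSheaf

variable (A : Type u) [CommRing A] {X : Scheme.{u}} [X.Over (Spec (CommRingCat.of A))]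

/-- The action of `A` on an `O_X`-module. -/
noncomputable def sig (M : X.Modules) : A →+* End M where
  toFun a := Formal.smulMod A M a
  map_one' := FormalB.ModPow.smulMod_one M
  map_mul' a b := FormalB.ModPow.smulMod_mul M a b
  map_zero' := FormalB.ModPow.smulMod_zero M
  map_add' a b := FormalB.ModPow.smulMod_add M a b

theorem sig_apply (M : X.Modules) (a : A) : sig A M a = Formal.smulMod A M a := rfl

theorem hsig (n : ℕ) (M : X.Modules) (a : A) (x : (hF A X n).obj M) :
    ((hF A X n).map (sig A M a : M ⟶ M)).hom x = a • x := rfl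

/-- `H⁰` of the internal Hom. -/
noncomputable def homZero (F M : X.Modules) : Coh.HH X (homSheaf F M) 0 ≃ₗ[A] HomTo (sig A M) F where
  toFun x := HomTo.of (sig A M) (topEquiv F M (CurvesB.HZero.equivAdd (homSheaf F M) x))
  invFun φ := (CurvesB.HZero.equivAdd (homSheaf F M)).symm ((topEquiv F M).symm φ.hom)
  left_inv x := by
    change (CurvesB.HZero.equivAdd (homSheaf F M)).symm ((topEquiv F M).symm (topEquiv F M _)) = x
    rw [AddEquiv.symm_apply_apply, AddEquiv.symm_apply_apply]
  right_inv φ := by
    change topEquiv F M ((CurvesB.HZero.equivAdd (homSheaf F M)) ((CurvesB.HZero.equivAdd _).symm _)) = φ.hom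
    rw [AddEquiv.apply_symm_apply, AddEquiv.apply_symm_apply]
  map_add' x y := by
    rw [map_add, map_add]; rfl
  map_smul' a x := by
    rw [CurvesB.HZero.equivAdd_smul_over]
    change topEquiv F M (CurvesB.HZero.gl A X a • CurvesB.HZero.equivAdd (homSheaf F M) x) =
      topEquiv F M (CurvesB.HZero.equivAdd (homSheaf F M) x) ≫ Formal.smulMod A M a
    ext U m
    exact (FormalB.ModPow.smulMod_app M a U _).symm

end Groth.Agent.Sga2.PnSigma
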