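import Groth.Agent.Sga2.PnSumCoh
import Groth.Agent.Sga2.PnDevis
import Groth.Agent.Sga2.PnSigma

/-!
# Serre duality for finite locally free modules on projective space, by dévissage from degree zero
-/

set_option autoImplicit false
universe u

open CategoryTheory CategoryTheory.Limits AlgebraicGeometry Opposite TopologicalSpace

namespace Groth.Agent.Sga2.PnSerreFlf

open Groth.Agent.CohqB.HomSheaf Groth.Agent.Sga2.PnHomAdj Groth.Agent.Sga2.PnHomExact
open Groth.Agent.PerfB.TwistDer Groth.Agent.Sga2.PnTwHom Groth.Agent.Sga2.PnCoprod Groth.Agent.Sga2.PnHHDelta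
open Groth.Agent.Sga2.PnSumCoh Groth.Agent.Sga2.PnDevis Groth.Agent.Sga2.PnTopDual Groth.Agent.Sga2.PnSigma

variable (r : ℕ) (k : Type u) [Field k]

theorem isQCoh_of_flf {X : Scheme.{u}} {M : X.Modules} (h : FlatMod.IsFinLocFree M) : Coh.IsQCoh M :=
  Ega2.QCohLocal.isQCoh_of_isFinLocFree h

/-- The dévissage data on projective space, given presentations and duality in degree zero. -/
theorem devis (hpres : ∀ G : (CohB1.ProjSpace r k).Modules, FlatMod.IsFinLocFree G →
      ∃ (m : ℕ) (d : Fin m → ℤ), (∀ j, d j ≤ -1) ∧ ∃ φ : (∐ fun j : Fin m => tw r k (d j)) ⟶ G, Epi φ)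
    (htop : ∀ G : (CohB1.ProjSpace r k).Modules, FlatMod.IsFinLocFree G →
      Subsingleton ((hF k (CohB1.ProjSpace r k) (r + 1)).obj G))
    (hfin : ∀ G : (CohB1.ProjSpace r k).Modules, FlatMod.IsFinLocFree G →
      Module.Finite k ((hF k (CohB1.ProjSpace r k) r).obj G))
    (hfin' : ∀ G : (CohB1.ProjSpace r k).Modules, FlatMod.IsFinLocFree G →
      Module.Finite k (HomTo (sig k (om r k)) G))
    (heq : ∀ G : (CohB1.ProjSpace r k).Modules, FlatMod.IsFinLocFree G →
      Module.finrank k ((hF k (CohB1.ProjSpace r k) r).obj G) = Module.finrank k (HomTo (sig k (om r k)) G)) :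
    Devis (fun n => hF k (CohB1.ProjSpace r k) n) (fun G => FlatMod.IsFinLocFree G)
      (fun G => homSheaf G (om r k)) r where
  pres F hF := by
    obtain ⟨m, d, hd, φ, hφ⟩ := hpres F hF
    have hL : FlatMod.IsFinLocFree (∐ fun j : Fin m => tw r k (d j)) := isFinLocFree_sum r k d
    have hK : FlatMod.IsFinLocFree (kernel φ) := Dcoh.Spread.isFinLocFree_kernel φ hL hF
    let S : ShortComplex (CohB1.ProjSpace r k).Modules := ShortComplex.mk (kernel.ι φ) φ (kernel.condition φ)
    have hS : S.ShortExact := ShortComplex.ShortExact.mk (ShortComplex.exact_kernel φ)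
    refine ⟨S, hS, rfl, hK, hL, ?_, ?_, homSC S (om r k),
      shortExact_homSC hS (isQCoh_of_flf hK) (isQCoh_of_flf hL) hF (om r k), rfl, rfl, rfl⟩
    · intro i hi
      exact subsingleton_sum r k d (fun j => by have := hd j; omega) i hi
    · intro i hi
      exact subsingleton_homSheaf_sum r k d (fun j => by have := hd j; omega) i hi
  top F hF := htop F hF
  fin F hF := hfin F hF
  fin' F hF := by
    have := hfin' F hF
    exact Module.Finite.equiv (homZero k F (om r k)).symm
  eq F hF := (heq F hF).trans (homZero k F (om r k)).finrank_eq.symm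

theorem duality (hdev : Devis (fun n => hF k (CohB1.ProjSpace r k) n) (fun G => FlatMod.IsFinLocFree G)
      (fun G => homSheaf G (om r k)) r)
    (F : (CohB1.ProjSpace r k).Modules) (hF : FlatMod.IsFinLocFree F) [DCoh.HasSheafHom F] (i : ℕ) (hi : i ≤ r) :
    Nonempty (Module.Dual k (Coh.HH (CohB1.ProjSpace r k) F i) ≃ₗ[k]
      Coh.HH (CohB1.ProjSpace r k) ((DCoh.sheafHom F).obj (om r k)) (r - i)) := by
  obtain ⟨h1, h2, h3⟩ := Devis.main (delta k (CohB1.ProjSpace r k)) hdev (r - i) i (by omega) F hF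
  have e1 := LinearEquiv.ofFinrankEq (Module.Dual k ((PnHHDelta.hF k (CohB1.ProjSpace r k) i).obj F))
    ((PnHHDelta.hF k (CohB1.ProjSpace r k) (r - i)).obj (homSheaf F (om r k)))
    ((Subspace.dual_finrank_eq).trans h3)
  have e2 := ((PnHHDelta.hF k (CohB1.ProjSpace r k) (r - i)).mapIso
    ((sheafHomIso F).app (om r k))).toLinearEquiv
  exact ⟨e1.trans e2.symm⟩

end Groth.Agent.Sga2.PnSerreFlf
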