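import Groth.Agent.Sga2.LocDual
import Groth.Agent.Localalg.Matlis

/-!
# Vanishing of local cohomology over a regular local ring in terms of `Ext(-, A)`

* `subsingleton_lc_iff_ext`: `H^{r-j}_m(M) = 0 ↔ Ext^j(M, A) = 0`.
* `subsingleton_lc_iff`: in terms of syzygies.
* `subsingleton_lc_top_iff`, `subsingleton_lc_of_lt`.
-/

set_option autoImplicit false

universe u

open CategoryTheory Abelian IsLocalRing

namespace Groth.Agent.Sga2.PnLCExt

variable {A : Type u} [CommRing A]

theorem subsingleton_lc_iff_ext [IsRegularLocalRing A] {r : ℕ} (hr : ringKrullDim A = r)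
    (M : Type u) [AddCommGroup M] [Module A M] [Module.Finite A M] (j : ℕ) (hj : j ≤ r) :
    Subsingleton (LocCoh.H (maximalIdeal A) (r - j) M) ↔
      Subsingleton (Ext (ModuleCat.of A M) (ModuleCat.of A A) j) := by
  obtain ⟨E, _, _, f, hf⟩ := Groth.Agent.Localalg.InjHull.exists_injective_hull
    (R := A) (M := ResidueField A)
  obtain ⟨e⟩ := LocDual.local_duality_regular hr f hf j hj (ModuleCat.of A M)
  constructor
  · intro h
    have : Subsingleton (Ext (ModuleCat.of A M) (ModuleCat.of A A) j →ₗ[A] E) :=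
      e.symm.toEquiv.subsingleton_congr.mpr h
    exact Groth.Agent.Localalg.Matlis.subsingleton_of_dual hf _
  · intro h
    have : Subsingleton (Ext (ModuleCat.of A M) (ModuleCat.of A A) j →ₗ[A] E) := inferInstance
    exact e.toEquiv.subsingleton_congr.mpr this

theorem subsingleton_lc_top_iff (A : Type u) [CommRing A] [IsRegularLocalRing A] (r : ℕ)
    (hr : ringKrullDim A = r) (M : Type u) [AddCommGroup M] [Module A M] [Module.Finite A M] :
    Subsingleton (LocCoh.H (IsLocalRing.maximalIdeal A) r M) ↔ Subsingleton (M →ₗ[A] A) := by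
  have h := subsingleton_lc_iff_ext hr M 0 (Nat.zero_le r)
  rw [Nat.sub_zero] at h
  rw [h]
  exact ((Ext.linearEquiv₀ (R := A)).trans ModuleCat.homLinearEquiv).toEquiv.subsingleton_congr

theorem subsingleton_lc_of_lt (A : Type u) [CommRing A] [IsRegularLocalRing A] (r : ℕ)
    (hr : ringKrullDim A = r) (M : Type u) [AddCommGroup M] [Module A M]
    (i : ℕ) (hi : r < i) : Subsingleton (LocCoh.H (IsLocalRing.maximalIdeal A) i M) := by
  refine LCNew.subsingleton_of_ext _ _ (ModuleCat.of A M) fun n => ?_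
  have := RegExt.hasProjectiveDimensionLT_of_isFiniteLength r hr _
    (TopDual.isFiniteLength_quot_pow (A := A) n)
  exact HasProjectiveDimensionLT.subsingleton _ (r + 1) i hi _

section Syz

variable {K L : ℕ → Type u} [∀ t, AddCommGroup (K t)] [∀ t, Module A (K t)]
  [∀ t, AddCommGroup (L t)] [∀ t, Module A (L t)]
  (f : ∀ t, K (t + 1) →ₗ[A] L t) (g : ∀ t, L t →ₗ[A] K t)
  (hf : ∀ t, Function.Injective (f t)) (hfg : ∀ t, Function.Exact (f t) (g t))
  (hg : ∀ t, Function.Surjective (g t))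

/-- The short complex `K (t+1) → L t → K t`. -/
noncomputable def sc (hfg : ∀ t, Function.Exact (f t) (g t)) (t : ℕ) :
    ShortComplex (ModuleCat.{u} A) :=
  ShortComplex.mk (ModuleCat.ofHom (f t)) (ModuleCat.ofHom (g t)) (by
    ext x
    exact (hfg t).apply_apply_eq_zero x)

include hf hfg hg in
theorem sc_shortExact (t : ℕ) : (sc f g hfg t).ShortExact where
  exact := (ShortComplex.ShortExact.moduleCat_exact_iff_function_exact _).mpr (hfg t)
  mono_f := (ModuleCat.mono_iff_injective _).mpr (hf t)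
  epi_g := (ModuleCat.epi_iff_surjective _).mpr (hg t)

variable [∀ t, Module.Free A (L t)]

theorem subsingleton_ext_free (t i : ℕ) :
    Subsingleton (Ext (ModuleCat.of A (L t)) (ModuleCat.of A A) (i + 1)) := by
  have : Projective (ModuleCat.of A (L t)) :=
    (IsProjective.iff_projective (L t)).mp (Module.Projective.of_free)
  exact subsingleton_of_forall_eq 0 fun x => Ext.eq_zero_of_projective x

include hf hfg hg in
theorem ext_succ_iff (t i : ℕ) :
    Subsingleton (Ext (ModuleCat.of A (K t)) (ModuleCat.of A A) (i + 1 + 1)) ↔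
      Subsingleton (Ext (ModuleCat.of A (K (t + 1))) (ModuleCat.of A A) (i + 1)) :=
  (RegExt.shiftContra (sc_shortExact f g hf hfg hg t) (ModuleCat.of A A) (i + 1)
    (subsingleton_ext_free (L := L) t i)
    (subsingleton_ext_free (L := L) t (i + 1))).symm.toEquiv.subsingleton_congr

include hf hfg hg in
theorem ext_iff_aux (j : ℕ) : ∀ t s : ℕ, s = t + j →
    (Subsingleton (Ext (ModuleCat.of A (K t)) (ModuleCat.of A A) (j + 1)) ↔
      Subsingleton (Ext (ModuleCat.of A (K s)) (ModuleCat.of A A) 1)) := by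
  induction j with
  | zero =>
    rintro t s rfl
    rfl
  | succ j ih =>
    intro t s hs
    rw [ext_succ_iff f g hf hfg hg t j]
    exact ih (t + 1) s (by omega)

include hf hfg hg in
theorem ext_one_iff (t : ℕ) :
    Subsingleton (Ext (ModuleCat.of A (K t)) (ModuleCat.of A A) 1) ↔
      ∀ φ : K (t + 1) →ₗ[A] A, ∃ ψ : L t →ₗ[A] A, ψ ∘ₗ f t = φ := by
  have hS := sc_shortExact f g hf hfg hg t
  constructor
  · intro h φ
    obtain ⟨z, hz⟩ := Ext.contravariant_sequence_exact₁ hS (ModuleCat.of A A)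
      (Ext.mk₀ (ModuleCat.ofHom φ)) (add_zero 1) (h.elim _ _)
    obtain ⟨ψ, rfl⟩ := Ext.homEquiv₀.symm.surjective z
    refine ⟨ψ.hom, ?_⟩
    change (Ext.mk₀ (ModuleCat.ofHom (f t))).comp (Ext.mk₀ ψ) _ = _ at hz
    rw [Ext.mk₀_comp_mk₀] at hz
    have := Ext.homEquiv₀.symm.injective hz
    exact congrArg ModuleCat.Hom.hom this
  · intro h
    refine subsingleton_of_forall_eq 0 fun y => ?_
    obtain ⟨z, hz⟩ := Ext.contravariant_sequence_exact₃ hS (ModuleCat.of A A) y
      ((subsingleton_ext_free (L := L) t 0).elim _ _) (add_zero 1)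
    obtain ⟨φ, rfl⟩ := Ext.homEquiv₀.symm.surjective z
    obtain ⟨ψ, hψ⟩ := h φ.hom
    have hφ : φ = (sc f g hfg t).f ≫ ModuleCat.ofHom ψ := by
      ext x
      exact (LinearMap.congr_fun hψ x).symm
    rw [← hz]
    change hS.extClass.comp (Ext.mk₀ φ) _ = 0
    rw [hφ, ← Ext.mk₀_comp_mk₀, ← Ext.comp_assoc_of_second_deg_zero, hS.extClass_comp,
      Ext.zero_comp]

end Syz

theorem subsingleton_lc_iff (A : Type u) [CommRing A] [IsRegularLocalRing A] (r : ℕ)
    (hr : ringKrullDim A = r) (j : ℕ) (hj : j + 1 ≤ r) (K L : ℕ → Type u)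
    [∀ t, AddCommGroup (K t)] [∀ t, Module A (K t)] [∀ t, Module.Finite A (K t)]
    [∀ t, AddCommGroup (L t)] [∀ t, Module A (L t)] [∀ t, Module.Finite A (L t)]
    [∀ t, Module.Free A (L t)] (f : ∀ t, K (t + 1) →ₗ[A] L t) (g : ∀ t, L t →ₗ[A] K t)
    (hf : ∀ t, Function.Injective (f t)) (hfg : ∀ t, Function.Exact (f t) (g t))
    (hg : ∀ t, Function.Surjective (g t)) :
    Subsingleton (LocCoh.H (IsLocalRing.maximalIdeal A) (r - (j + 1)) (K 0)) ↔
      ∀ φ : K (j + 1) →ₗ[A] A, ∃ ψ : L j →ₗ[A] A, ψ ∘ₗ f j = φ := by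
  rw [subsingleton_lc_iff_ext hr (K 0) (j + 1) hj,
    ext_iff_aux f g hf hfg hg j 0 j (Nat.zero_add j).symm, ext_one_iff f g hf hfg hg j]

end Groth.Agent.Sga2.PnLCExt
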