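import Groth.Agent.Sga5.ProjReg
import Groth.Agent.CalgC.DimFT

/-!
# Dimension of the local rings of projective space at closed points
-/

set_option autoImplicit false
open CategoryTheory AlgebraicGeometry MvPolynomial
universe u

namespace Groth.Agent.Sga2.PnStalkDim

open Groth.Agent.Sga5.ProjChart Groth.Agent.Sga5.ProjSmooth Groth.Agent.Sga5.ProjReg

theorem ringKrullDim_stalk (k : Type u) [Field k] (r : ℕ) (x : CohB1.ProjSpace r k)
    (hx : IsClosed ({x} : Set (CohB1.ProjSpace r k))) :
    ringKrullDim ((CohB1.ProjSpace r k).presheaf.stalk x) = r := by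
  obtain ⟨j, z, rfl⟩ := exists_mem_chart r k x
  rw [ringKrullDim_stalk_of_isOpenImmersion]
  have hz : IsClosed ({z} : Set (Spec (CommRingCat.of (MvPolynomial (Fin r) k)))) := by
    have h1 := hx.preimage (chart r k j).continuous
    convert h1
    ext y
    simp only [Set.mem_singleton_iff, Set.mem_preimage]
    exact ⟨fun h => by rw [h], fun h => (chart r k j).isOpenEmbedding.injective h⟩
  have hm : (PrimeSpectrum.asIdeal z).IsMaximal :=
    (PrimeSpectrum.isClosed_singleton_iff_isMaximal z).1 hz
  have := Groth.Agent.CalgC.DimFT.height_mvPolynomial_isMaximal (k := k) r (PrimeSpectrum.asIdeal z)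
  rw [this]
  rfl

end Groth.Agent.Sga2.PnStalkDim
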