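import Groth.Agent.Sga2.PnKey
import Groth.Agent.Sga2.PnLCExt
import Groth.Agent.Sga2.PnStalkDim
import Groth.Agent.Sga5.ProjReg
import Groth.Agent.CycB.StalkExact
import Groth.Agent.Divis.StalkMod
import Groth.Agent.CycB.ModStalk
import Groth.Agent.Ega3B.CohTensor
import Groth.Agent.PerfA.CohSerre

/-!
# Vanishing of `H^i(F(-m))`, `m ≫ 0`, and local cohomology of the stalks
-/

set_option autoImplicit false
universe u

open CategoryTheory CategoryTheory.Limits AlgebraicGeometry Opposite TopologicalSpace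

namespace Groth.Agent.Sga2.PnFinal

open Groth.Agent.CohqB.HomSheaf Groth.Agent.Sga2.PnHomAdj Groth.Agent.Sga2.PnHomExact
open Groth.Agent.PerfB.TwistDer Groth.Agent.Sga2.PnTwHom Groth.Agent.Sga2.PnCoprod Groth.Agent.Sga2.PnHHDelta
open Groth.Agent.Sga2.PnSumCoh Groth.Agent.Sga2.PnShift Groth.Agent.Sga2.PnKey
open Groth.Agent.CycB.StalkExact
open scoped ZeroObject

/-- Stalks of the dualizing module. -/
theorem exists_stalk_equiv (r : ℕ) (k : Type u) [CommRing k] (d : ℤ) (x : CohB1.ProjSpace r k) :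
    Nonempty ((tw r k d).presheaf.stalk x ≃ₗ[(CohB1.ProjSpace r k).presheaf.stalk x]
      (CohB1.ProjSpace r k).presheaf.stalk x) := by
  obtain ⟨t, ht⟩ := CycB.ModStalk.exists_isGen (isInvertible_tw r k d) x
  exact ⟨(LinearEquiv.ofBijective (LinearMap.toSpanSingleton _ _ t) ht).symm⟩

/-- Extension of maps to the dualizing module and to the structure sheaf. -/
theorem forall_exists_congr {A K L P : Type*} [CommRing A] [AddCommGroup K] [AddCommGroup L] [AddCommGroup P]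
    [Module A K] [Module A L] [Module A P] (e : P ≃ₗ[A] A) (f : K →ₗ[A] L) :
    (∀ φ : K →ₗ[A] P, ∃ ψ : L →ₗ[A] P, ψ ∘ₗ f = φ) ↔ ∀ φ : K →ₗ[A] A, ∃ ψ : L →ₗ[A] A, ψ ∘ₗ f = φ := by
  constructor
  · intro h φ
    obtain ⟨ψ, hψ⟩ := h (e.symm.toLinearMap ∘ₗ φ)
    refine ⟨e.toLinearMap ∘ₗ ψ, ?_⟩
    rw [LinearMap.comp_assoc, hψ, ← LinearMap.comp_assoc]
    ext x; simp
  · intro h φ
    obtain ⟨ψ, hψ⟩ := h (e.toLinearMap ∘ₗ φ)
    refine ⟨e.symm.toLinearMap ∘ₗ ψ, ?_⟩
    rw [LinearMap.comp_assoc, hψ, ← LinearMap.comp_assoc]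
    ext x; simp

variable (r : ℕ) (k : Type u) [Field k]

/-- The geometric inputs. -/
structure Inputs where
  pres : ∀ G : (CohB1.ProjSpace r k).Modules, Coh.IsCoh G →
      ∃ (m : ℕ) (d : Fin m → ℤ), (∀ j, d j ≤ -1) ∧ ∃ φ : (∐ fun j : Fin m => tw r k (d j)) ⟶ G, Epi φ
  top : ∀ (G : (CohB1.ProjSpace r k).Modules) (i : ℕ), Coh.IsCoh G → r < i →
      Subsingleton ((hF k (CohB1.ProjSpace r k) i).obj G)
  tr : (hF k (CohB1.ProjSpace r k) r).obj (om r k) →ₗ[k] k
  dual : ∀ G : (CohB1.ProjSpace r k).Modules, Coh.IsCoh G → IsDual (hF k (CohB1.ProjSpace r k) r) tr G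
  lift : ∀ {A B : (CohB1.ProjSpace r k).Modules} (_ : Coh.IsCoh A) (_ : Coh.IsCoh B) (f : A ⟶ B),
      Epi f ↔ ∃ m₀ : ℤ, ∀ m : ℤ, m₀ ≤ m → ∀ g : tw r k (-m) ⟶ B, ∃ g' : tw r k (-m) ⟶ A, g' ≫ f = g
  stalk : ∀ {K L P : (CohB1.ProjSpace r k).Modules} (_ : Coh.IsCoh K) (_ : Coh.IsCoh L) (_ : Coh.IsCoh P)
    (f : K ⟶ L), Epi (homMapLeft f P) ↔ ∀ x : CohB1.ProjSpace r k, IsClosed ({x} : Set (CohB1.ProjSpace r k)) →
      ∀ φ : K.presheaf.stalk x →ₗ[(CohB1.ProjSpace r k).presheaf.stalk x] P.presheaf.stalk x,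
        ∃ ψ : L.presheaf.stalk x →ₗ[(CohB1.ProjSpace r k).presheaf.stalk x] P.presheaf.stalk x,
          ψ ∘ₗ stalkLin f x = φ

variable {r k}

theorem exists_congr_of_nonneg {P Q : ℤ → Prop} (h : ∀ m, 0 ≤ m → (P m ↔ Q m)) :
    (∃ m₀ : ℤ, ∀ m : ℤ, m₀ ≤ m → P m) ↔ ∃ m₀ : ℤ, ∀ m : ℤ, m₀ ≤ m → Q m := by
  constructor
  · rintro ⟨m₀, hm₀⟩
    exact ⟨max m₀ 0, fun m hm => (h m (le_of_max_le_right hm)).mp (hm₀ m (le_of_max_le_left hm))⟩
  · rintro ⟨m₀, hm₀⟩
    exact ⟨max m₀ 0, fun m hm => (h m (le_of_max_le_right hm)).mpr (hm₀ m (le_of_max_le_left hm))⟩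

theorem isLocallyNoetherian_projSpace : IsLocallyNoetherian (CohB1.ProjSpace r k) :=
  (Sga5.ProjReg.isNoetherian_projSpace r k).toIsLocallyNoetherian

theorem isCoh_tw (d : ℤ) : Coh.IsCoh (tw r k d) :=
  PerfA.CohSerre.isCoh_of_isFinLocFree (isFinLocFree_tw r k d)

theorem isCoh_twM (G : (CohB1.ProjSpace r k).Modules) (m : ℤ) (hG : Coh.IsCoh G) :
    Coh.IsCoh ((twM r k m).obj G) :=
  Ega3B.CohTensor.isCoh_tensor hG (isInvertible_tw r k m)

theorem Inputs.key (I : Inputs r k) {K L : (CohB1.ProjSpace r k).Modules} (hK : Coh.IsCoh K) (hL : Coh.IsCoh L)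
    (f : K ⟶ L) :
    (∃ m₀ : ℤ, ∀ m : ℤ, m₀ ≤ m →
      Function.Injective ((hF k (CohB1.ProjSpace r k) r).map ((twM r k (-m)).map f)).hom) ↔
    ∀ x : CohB1.ProjSpace r k, IsClosed ({x} : Set (CohB1.ProjSpace r k)) →
      ∀ φ : K.presheaf.stalk x →ₗ[(CohB1.ProjSpace r k).presheaf.stalk x] (CohB1.ProjSpace r k).presheaf.stalk x,
        ∃ ψ : L.presheaf.stalk x →ₗ[(CohB1.ProjSpace r k).presheaf.stalk x] (CohB1.ProjSpace r k).presheaf.stalk x,
          ψ ∘ₗ stalkLin f x = φ := by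
  have := isLocallyNoetherian_projSpace (r := r) (k := k)
  rw [injective_iff_epi r k I.tr I.dual isCoh_twM I.lift
    (fun G hG => isCoh_homSheaf hG (isCoh_tw _)) hK hL f, I.stalk hK hL (isCoh_tw _) f]
  refine forall_congr' fun x => imp_congr_right fun _ => ?_
  obtain ⟨e⟩ := exists_stalk_equiv r k (-((r : ℤ) + 1)) x
  exact forall_exists_congr e (stalkLin f x)

/-- Degree `i < r`. -/
theorem Inputs.lt (I : Inputs r k) (F : (CohB1.ProjSpace r k).Modules) (hF : Coh.IsCoh F) (i j : ℕ)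
    (hij : i + j + 1 = r) :
    (∃ m₀ : ℤ, ∀ m : ℤ, m₀ ≤ m →
      Subsingleton ((PnHHDelta.hF k (CohB1.ProjSpace r k) i).obj ((twM r k (-m)).obj F))) ↔
    ∀ x : CohB1.ProjSpace r k, IsClosed ({x} : Set (CohB1.ProjSpace r k)) →
      Subsingleton (LocCoh.H (IsLocalRing.maximalIdeal ((CohB1.ProjSpace r k).presheaf.stalk x)) i
        (F.presheaf.stalk x)) := by
  have := isLocallyNoetherian_projSpace (r := r) (k := k)
  obtain ⟨K, L, R, rfl⟩ := exists_res r k I.pres (fun φ hG hH => CycB.CohProp.isCoh_kernel φ hG hH)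
    (fun d => CycB.CohProp.isCoh_finite_coproduct _ fun j => isCoh_tw _) F hF
  have hLflf : ∀ t, FlatMod.IsFinLocFree (L t) := fun t => by
    obtain ⟨m, d, -, h⟩ := R.sum t
    rw [h]; exact isFinLocFree_sum r k d
  have hLcoh : ∀ t, Coh.IsCoh (L t) := fun t => by
    obtain ⟨m, d, -, h⟩ := R.sum t
    rw [h]; exact CycB.CohProp.isCoh_finite_coproduct _ fun j => isCoh_tw _
  rw [exists_congr_of_nonneg fun m hm => R.main m hm i j hij, I.key (R.coh (j + 1)) (hLcoh j) (R.f j)]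
  refine forall_congr' fun x => imp_congr_right fun hx => ?_
  have hreg := Sga5.ProjReg.isRegularLocalRing_stalk r k x
  have hdim := PnStalkDim.ringKrullDim_stalk k r x hx
  have h1 : ∀ t, Module.Finite ((CohB1.ProjSpace r k).presheaf.stalk x) ((K t).presheaf.stalk x) :=
    fun t => Divis.StalkMod.finite_stalk (R.coh t) x
  have h2 := fun t => Divis.StalkMod.finite_free_stalk (hLcoh t).1 (hLflf t) x
  have h3 := fun t => (h2 t).1
  have h4 := fun t => (h2 t).2
  have h5 := fun t => stalkLin_shortExact _ (R.ex t) x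
  have h6 := PnLCExt.subsingleton_lc_iff ((CohB1.ProjSpace r k).presheaf.stalk x) r hdim j (by omega)
    (fun t => (K t).presheaf.stalk x) (fun t => (L t).presheaf.stalk x)
    (fun t => stalkLin (R.f t) x) (fun t => stalkLin (R.g t) x)
    (fun t => (h5 t).1) (fun t => (h5 t).2.1) (fun t => (h5 t).2.2)
  rw [show r - (j + 1) = i by omega] at h6
  exact h6.symm

theorem subsingleton_iff_injective_zero {C : Type*} [Category C] [Preadditive C] {k : Type*} [Ring k]
    (T : C ⥤ ModuleCat k) [T.Additive] {M N : C} (f : M ⟶ N) (hN : IsZero N) :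
    Subsingleton (T.obj M) ↔ Function.Injective (T.map f).hom := by
  have h0 : IsZero (T.obj N) := T.map_isZero hN
  have h1 : Subsingleton (T.obj N) := ModuleCat.subsingleton_of_isZero h0
  constructor
  · intro h
    exact Function.injective_of_subsingleton _
  · intro h
    exact h.subsingleton

/-- Degree `r`. -/
theorem Inputs.eq (I : Inputs r k) (F : (CohB1.ProjSpace r k).Modules) (hF : Coh.IsCoh F) :
    (∃ m₀ : ℤ, ∀ m : ℤ, m₀ ≤ m →
      Subsingleton ((PnHHDelta.hF k (CohB1.ProjSpace r k) r).obj ((twM r k (-m)).obj F))) ↔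
    ∀ x : CohB1.ProjSpace r k, IsClosed ({x} : Set (CohB1.ProjSpace r k)) →
      Subsingleton (LocCoh.H (IsLocalRing.maximalIdeal ((CohB1.ProjSpace r k).presheaf.stalk x)) r
        (F.presheaf.stalk x)) := by
  have h0 : Coh.IsCoh (0 : (CohB1.ProjSpace r k).Modules) := PerfA.CohSerre.isCoh_of_isZero (isZero_zero _)
  have key := I.key hF h0 (0 : F ⟶ 0)
  have h1 : ∀ m : ℤ, Subsingleton ((PnHHDelta.hF k (CohB1.ProjSpace r k) r).obj ((twM r k (-m)).obj F)) ↔
      Function.Injective ((PnHHDelta.hF k (CohB1.ProjSpace r k) r).map ((twM r k (-m)).map (0 : F ⟶ 0))).hom :=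
    fun m => subsingleton_iff_injective_zero _ _ ((twM r k (-m)).map_isZero (isZero_zero _))
  rw [exists_congr fun m₀ => forall_congr' fun m => imp_congr_right fun _ => h1 m, key]
  refine forall_congr' fun x => imp_congr_right fun hx => ?_
  have hreg := Sga5.ProjReg.isRegularLocalRing_stalk r k x
  have hdim := PnStalkDim.ringKrullDim_stalk k r x hx
  have h2 := Divis.StalkMod.finite_stalk hF x
  rw [PnLCExt.subsingleton_lc_top_iff _ r hdim]
  have h3 : stalkLin (0 : F ⟶ 0) x = 0 := by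
    ext m
    have h4 : Subsingleton ((0 : (CohB1.ProjSpace r k).Modules).presheaf.stalk x) :=
      AddCommGrpCat.subsingleton_of_isZero ((stalkFun x).map_isZero (isZero_zero _))
    exact h4.elim _ _
  rw [h3]
  constructor
  · intro h
    refine subsingleton_of_forall_eq 0 fun φ => ?_
    obtain ⟨ψ, hψ⟩ := h φ
    rw [← hψ, LinearMap.comp_zero]
  · intro h φ
    exact ⟨0, h.elim _ _⟩

/-- The statement of SGA 2 XII 1.3. -/
theorem Inputs.main (I : Inputs r k) (F : (CohB1.ProjSpace r k).Modules) (hF : Coh.IsCoh F) (i : ℕ) :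
    (∃ m₀ : ℤ, ∀ m : ℤ, m₀ ≤ m →
      Subsingleton ((PnHHDelta.hF k (CohB1.ProjSpace r k) i).obj ((twM r k (-m)).obj F))) ↔
    ∀ x : CohB1.ProjSpace r k, IsClosed ({x} : Set (CohB1.ProjSpace r k)) →
      Subsingleton (LocCoh.H (IsLocalRing.maximalIdeal ((CohB1.ProjSpace r k).presheaf.stalk x)) i
        (F.presheaf.stalk x)) := by
  rcases lt_trichotomy i r with h | rfl | h
  · exact I.lt F hF i (r - i - 1) (by omega)
  · exact I.eq F hF
  · constructor
    · intro _ x hx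
      have hreg := Sga5.ProjReg.isRegularLocalRing_stalk r k x
      exact PnLCExt.subsingleton_lc_of_lt _ r (PnStalkDim.ringKrullDim_stalk k r x hx) _ i h
    · intro _
      exact ⟨0, fun m _ => I.top _ i (isCoh_twM F (-m) hF) h⟩

end Groth.Agent.Sga2.PnFinal
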