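import Mathlib.Algebra.Module.FinitePresentation
import Mathlib.RingTheory.Localization.Module
import Mathlib.RingTheory.Spectrum.Prime.Basic

/-!
# Extending homomorphisms along a map of finitely presented modules can be tested locally
-/

set_option autoImplicit false

namespace Groth.Agent.Sga2.PnStalkHom

section

variable {R Rp : Type*} [CommRing R] [CommRing Rp] [Algebra R Rp] (S : Submonoid R) [IsLocalization S Rp]
  {K L P K' L' P' : Type*} [AddCommGroup K] [AddCommGroup L] [AddCommGroup P] [AddCommGroup K']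
  [AddCommGroup L'] [AddCommGroup P'] [Module R K] [Module R L] [Module R P] [Module R K'] [Module R L']
  [Module R P'] [Module Rp K'] [Module Rp L'] [Module Rp P'] [IsScalarTower R Rp K'] [IsScalarTower R Rp L']
  [IsScalarTower R Rp P'] (iK : K →ₗ[R] K') [IsLocalizedModule S iK] (iL : L →ₗ[R] L')
  [IsLocalizedModule S iL] (iP : P →ₗ[R] P') [IsLocalizedModule S iP]

/-- Every map `K → P` extends to `L` after multiplication with an element of `S`. -/
def LocExt (f : K →ₗ[R] L) (P : Type*) [AddCommGroup P] [Module R P] : Prop :=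
  ∀ φ : K →ₗ[R] P, ∃ s ∈ S, ∃ ψ : L →ₗ[R] P, ψ ∘ₗ f = s • φ

include S iK iL iP in
theorem locExt_iff [Module.FinitePresentation R K] [Module.FinitePresentation R L] (f : K →ₗ[R] L)
    (f' : K' →ₗ[Rp] L') (hf : ∀ k, f' (iK k) = iL (f k)) :
    (∀ φ : K' →ₗ[Rp] P', ∃ ψ : L' →ₗ[Rp] P', ψ ∘ₗ f' = φ) ↔ LocExt S f P := by
  -- the localization maps on `Hom`
  let mK := IsLocalizedModule.mapExtendScalars S iK iP Rp
  let mL := IsLocalizedModule.mapExtendScalars S iL iP Rp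
  have hmK : ∀ (φ : K →ₗ[R] P) k, mK φ (iK k) = iP (φ k) := fun φ k ↦ by simp [mK]
  have hmL : ∀ (φ : L →ₗ[R] P) k, mL φ (iL k) = iP (φ k) := fun φ k ↦ by simp [mL]
  have hextK : ∀ φ ψ : K' →ₗ[Rp] P', (∀ k, φ (iK k) = ψ (iK k)) → φ = ψ := by
    intro φ ψ h
    have h1 : φ.restrictScalars R = ψ.restrictScalars R :=
      IsLocalizedModule.ext S iK (IsLocalizedModule.map_units iP) (LinearMap.ext h)
    exact LinearMap.ext fun x ↦ congrArg (fun g : K' →ₗ[R] P' ↦ g x) h1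
  have hcomp : ∀ ψ : L →ₗ[R] P, mL ψ ∘ₗ f' = mK (ψ ∘ₗ f) := fun ψ ↦ hextK _ _ fun k ↦ by
    rw [LinearMap.comp_apply, hf, hmL, hmK]; rfl
  have iHK : IsLocalizedModule S mK := inferInstanceAs
    (IsLocalizedModule S (IsLocalizedModule.mapExtendScalars S iK iP Rp))
  have iHL : IsLocalizedModule S mL := inferInstanceAs
    (IsLocalizedModule S (IsLocalizedModule.mapExtendScalars S iL iP Rp))
  have hsm : ∀ (s : R) (ψ : L' →ₗ[Rp] P'), (s • ψ) ∘ₗ f' = s • (ψ ∘ₗ f') := fun s ψ ↦ rfl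
  constructor
  · intro h φ
    obtain ⟨ψ', hψ'⟩ := h (mK φ)
    obtain ⟨⟨ψ, s⟩, hs⟩ := IsLocalizedModule.surj S mL ψ'
    have h1 : mK (ψ ∘ₗ f) = mK ((s : R) • φ) := by
      rw [← hcomp, map_smul, ← hψ', ← hsm]
      exact congrArg (fun g : L' →ₗ[Rp] P' ↦ g ∘ₗ f') hs.symm
    obtain ⟨t, ht⟩ := (IsLocalizedModule.eq_iff_exists S mK).1 h1
    refine ⟨t * s, mul_mem t.2 s.2, (t : R) • ψ, ?_⟩
    rw [mul_smul]
    exact ht
  · intro h φ'
    obtain ⟨⟨φ, s⟩, hs⟩ := IsLocalizedModule.surj S mK φ'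
    obtain ⟨t, ht, ψ, hψ⟩ := h φ
    have hu : IsUnit (algebraMap R Rp (t * s)) := IsLocalization.map_units Rp (⟨t, ht⟩ * s)
    obtain ⟨v, hv⟩ := hu
    refine ⟨(↑v⁻¹ : Rp) • mL ψ, ?_⟩
    have h1 : ((↑v⁻¹ : Rp) • mL ψ) ∘ₗ f' = (↑v⁻¹ : Rp) • (mL ψ ∘ₗ f') := rfl
    rw [h1, hcomp, hψ, map_smul]
    have h2 : (s : R) • φ' = mK φ := hs
    rw [← h2, ← mul_smul, ← algebraMap_smul Rp (t * (s : R)) φ', ← hv, ← mul_smul, Units.inv_mul, one_smul]

end

section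

variable {R : Type*} [CommRing R] {K L P : Type*} [AddCommGroup K] [AddCommGroup L] [AddCommGroup P]
  [Module R K] [Module R L] [Module R P]

theorem LocExt.mono {S T : Submonoid R} (hST : S ≤ T) {f : K →ₗ[R] L} (h : LocExt S f P) : LocExt T f P :=
  fun φ ↦ by
    obtain ⟨s, hs, ψ, hψ⟩ := h φ
    exact ⟨s, hST hs, ψ, hψ⟩

theorem forall_locExt_iff {f : K →ₗ[R] L} :
    (∀ φ : K →ₗ[R] P, ∃ ψ : L →ₗ[R] P, ψ ∘ₗ f = φ) ↔
      ∀ p : PrimeSpectrum R, LocExt p.asIdeal.primeCompl f P := by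
  constructor
  · intro h p φ
    obtain ⟨ψ, hψ⟩ := h φ
    exact ⟨1, one_mem _, ψ, by rw [hψ, one_smul]⟩
  · intro h φ
    let I : Ideal R := (LinearMap.range (LinearMap.lcomp R P f)).comap (LinearMap.toSpanSingleton R _ φ)
    have hI : I = ⊤ := by
      by_contra hne
      obtain ⟨m, hm, hle⟩ := Ideal.exists_le_maximal I hne
      obtain ⟨s, hs, ψ, hψ⟩ := h ⟨m, hm.isPrime⟩ φ
      exact hs (hle (⟨ψ, hψ⟩ : s • φ ∈ LinearMap.range (LinearMap.lcomp R P f)))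
    have h1 : (1 : R) ∈ I := hI ▸ trivial
    obtain ⟨ψ, hψ⟩ : (1 : R) • φ ∈ LinearMap.range (LinearMap.lcomp R P f) := h1
    exact ⟨ψ, by rw [one_smul] at hψ; exact hψ⟩

end

end Groth.Agent.Sga2.PnStalkHom
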