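import Groth.Agent.Sga2.PnHomAdj
import Groth.Agent.Sga2.PnStalkHomAlg
import Groth.Agent.CycB.StalkExact
import Groth.Agent.CohqB.HomSheafCoh
import Groth.Agent.CohqB.AlgMod
import Groth.Agent.FormalB.QcSect
import Groth.Agent.Fdesc.QCohStalk

/-!
# The internal Hom of coherent modules and stalks at closed points

* `epi_homMapLeft_iff`: for coherent `K`, `L`, `P` on a Noetherian scheme and `f : K ⟶ L`, the map
  `Hom(L, P) ⟶ Hom(K, P)` is an epimorphism iff at every closed point every map `K_x → P_x` factors through `f_x`.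
* `isZero_homSheaf_iff`: `Hom(K, P) = 0` iff `Hom(K_x, P_x) = 0` at every closed point.
-/

set_option autoImplicit false
universe u

open CategoryTheory CategoryTheory.Limits AlgebraicGeometry Opposite TopologicalSpace

namespace Groth.Agent.Sga2.PnStalkHom

open Groth.Agent.CohqB.HomSheaf Groth.Agent.Sga2.PnHomAdj Groth.Agent.CycB.StalkExact
open Groth.Agent.Fdesc.QCohStalk

variable {X : Scheme.{u}} {K L P : X.Modules}

/-- The map on sections as a linear map. -/
noncomputable def appLin (f : K ⟶ L) (U : X.Opens) : Γ(K, U) →ₗ[Γ(X, U)] Γ(L, U) where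
  toFun := f.app U
  map_add' := map_add _
  map_smul' := fun r s => f.app_smul r s

theorem locExt_stalk_iff [IsLocallyNoetherian X] (hK : Coh.IsCoh K) (hL : Coh.IsCoh L) (hP : Coh.IsCoh P)
    (f : K ⟶ L) {U : X.Opens} (hU : IsAffineOpen U) (x : X) (hx : x ∈ U) :
    (∀ φ : K.presheaf.stalk x →ₗ[X.presheaf.stalk x] P.presheaf.stalk x,
      ∃ ψ : L.presheaf.stalk x →ₗ[X.presheaf.stalk x] P.presheaf.stalk x, ψ ∘ₗ stalkLin f x = φ) ↔
    LocExt (hU.primeIdealOf ⟨x, hx⟩).asIdeal.primeCompl (appLin f U) Γ(P, U) := by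
  let i1 : Algebra Γ(X, U) (X.presheaf.stalk x) := (X.presheaf.germ U x hx).hom.toAlgebra
  have i2 : IsLocalization.AtPrime (X.presheaf.stalk x) (hU.primeIdealOf ⟨x, hx⟩).asIdeal :=
    hU.isLocalization_stalk ⟨x, hx⟩
  let i3 : Module Γ(X, U) (K.presheaf.stalk x) := stalkModule K x hx
  let i4 : Module Γ(X, U) (L.presheaf.stalk x) := stalkModule L x hx
  let i5 : Module Γ(X, U) (P.presheaf.stalk x) := stalkModule P x hx
  have i6 : IsScalarTower Γ(X, U) (X.presheaf.stalk x) (K.presheaf.stalk x) :=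
    IsScalarTower.of_algebraMap_smul fun _ _ => rfl
  have i7 : IsScalarTower Γ(X, U) (X.presheaf.stalk x) (L.presheaf.stalk x) :=
    IsScalarTower.of_algebraMap_smul fun _ _ => rfl
  have i8 : IsScalarTower Γ(X, U) (X.presheaf.stalk x) (P.presheaf.stalk x) :=
    IsScalarTower.of_algebraMap_smul fun _ _ => rfl
  have i9 : IsLocalizedModule (hU.primeIdealOf ⟨x, hx⟩).asIdeal.primeCompl (germₗ K x hx) :=
    isLocalizedModule_germ K hU hK.1 x hx
  have i10 : IsLocalizedModule (hU.primeIdealOf ⟨x, hx⟩).asIdeal.primeCompl (germₗ L x hx) :=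
    isLocalizedModule_germ L hU hL.1 x hx
  have i11 : IsLocalizedModule (hU.primeIdealOf ⟨x, hx⟩).asIdeal.primeCompl (germₗ P x hx) :=
    isLocalizedModule_germ P hU hP.1 x hx
  have i12 := finitePresentation_of_isCoh hK hU
  have i13 := finitePresentation_of_isCoh hL hU
  exact locExt_iff (Rp := X.presheaf.stalk x) (hU.primeIdealOf ⟨x, hx⟩).asIdeal.primeCompl (germₗ K x hx)
    (germₗ L x hx) (germₗ P x hx) (appLin f U) (stalkLin f x) fun k => stalkLin_germ f x hx k

/-- `IsLocExt` at the point `x`, in terms of stalks. -/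
def StalkExt (f : K ⟶ L) (P : X.Modules) (x : X) : Prop :=
  ∀ φ : K.presheaf.stalk x →ₗ[X.presheaf.stalk x] P.presheaf.stalk x,
      ∃ ψ : L.presheaf.stalk x →ₗ[X.presheaf.stalk x] P.presheaf.stalk x, ψ ∘ₗ stalkLin f x = φ

theorem StalkExt.of_specializes [IsLocallyNoetherian X] (hK : Coh.IsCoh K) (hL : Coh.IsCoh L) (hP : Coh.IsCoh P)
    {f : K ⟶ L} {x y : X} (h : y ⤳ x) (hx : StalkExt f P x) : StalkExt f P y := by
  obtain ⟨U, hU, hxU, -⟩ := Opens.isBasis_iff_nbhd.mp X.isBasis_affineOpens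
    (show x ∈ (⊤ : X.Opens) from trivial)
  have hyU : y ∈ U := h.mem_open U.isOpen hxU
  have h1 := (locExt_stalk_iff hK hL hP f hU x hxU).1 hx
  refine (locExt_stalk_iff hK hL hP f hU y hyU).2 (h1.mono fun g hg => ?_)
  have h2 : x ∈ X.basicOpen g := (mem_basicOpen_iff hU x hxU g).2 hg
  exact (mem_basicOpen_iff hU y hyU g).1 (h.mem_open (X.basicOpen g).isOpen h2)

theorem forall_stalkExt_iff_closed [IsLocallyNoetherian X] [CompactSpace X] (hK : Coh.IsCoh K)
    (hL : Coh.IsCoh L) (hP : Coh.IsCoh P) (f : K ⟶ L) :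
    (∀ x : X, StalkExt f P x) ↔ ∀ x : X, IsClosed ({x} : Set X) → StalkExt f P x := by
  refine ⟨fun h x _ => h x, fun h y => ?_⟩
  obtain ⟨x, hx, hcl⟩ := IsClosed.exists_closed_singleton (isClosed_closure (s := ({y} : Set X)))
    ⟨y, subset_closure rfl⟩
  exact (h x hcl).of_specializes hK hL hP (specializes_iff_mem_closure.2 hx)

theorem surjective_app_iff [IsLocallyNoetherian X] (hK : Coh.IsCoh K) (hL : Coh.IsCoh L) (hP : Coh.IsCoh P)
    (f : K ⟶ L) {U : X.Opens} (hU : IsAffineOpen U) :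
    Function.Surjective ((homMapLeft f P).app U) ↔ ∀ x ∈ U, StalkExt f P x := by
  have h1 : Function.Surjective ((homMapLeft f P).app U) ↔
      ∀ φ : Γ(K, U) →ₗ[Γ(X, U)] Γ(P, U), ∃ ψ : Γ(L, U) →ₗ[Γ(X, U)] Γ(P, U), ψ ∘ₗ appLin f U = φ := by
    constructor
    · intro h φ
      obtain ⟨s, hs⟩ := h ((affineEquiv hK.1 hU).symm φ)
      refine ⟨comp s U le_rfl, LinearMap.ext fun k => ?_⟩
      have h2 := congrArg (fun t => comp t U le_rfl k) hs
      have h3 : comp ((affineEquiv (N := P) hK.1 hU).symm φ) U le_rfl = φ := comp_affineEquiv_symm hK.1 hU φ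
      rw [comp_homMapLeft, h3] at h2
      exact h2
    · intro h t
      obtain ⟨ψ, hψ⟩ := h (comp t U le_rfl)
      refine ⟨(affineEquiv hL.1 hU).symm ψ, comp_injective hK.1 hU fun m => ?_⟩
      rw [comp_homMapLeft, comp_affineEquiv_symm, ← hψ]
      rfl
  rw [h1, forall_locExt_iff]
  constructor
  · intro h x hx
    exact (locExt_stalk_iff hK hL hP f hU x hx).2 (h (hU.primeIdealOf ⟨x, hx⟩))
  · intro h p
    have hx : hU.fromSpec p ∈ U := by
      have h2 : hU.fromSpec p ∈ hU.fromSpec.opensRange := ⟨p, rfl⟩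
      rwa [hU.opensRange_fromSpec] at h2
    have hp : hU.primeIdealOf ⟨hU.fromSpec p, hx⟩ = p :=
      hU.fromSpec.isOpenEmbedding.injective (hU.fromSpec_primeIdealOf _)
    have h3 := (locExt_stalk_iff hK hL hP f hU _ hx).1 (h _ hx)
    rwa [hp] at h3

theorem epi_homMapLeft_iff' [IsLocallyNoetherian X] (hK : Coh.IsCoh K) (hL : Coh.IsCoh L) (hP : Coh.IsCoh P)
    (f : K ⟶ L) : Epi (homMapLeft f P) ↔ ∀ x : X, StalkExt f P x := by
  constructor
  · intro h x
    obtain ⟨U, hU, hxU, -⟩ := Opens.isBasis_iff_nbhd.mp X.isBasis_affineOpens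
      (show x ∈ (⊤ : X.Opens) from trivial)
    have h1 : (homSheaf L P).IsQuasicoherent := (isCoh_homSheaf hL hP).1
    have h2 : (homSheaf K P).IsQuasicoherent := (isCoh_homSheaf hK hP).1
    exact (surjective_app_iff hK hL hP f hU).1
      (FormalB.QcSect.surjective_app_of_epi (homMapLeft f P) hU) x hxU
  · intro h
    exact CohqB.AlgMod.epi_of_surjective_affine _ fun U hU =>
      (surjective_app_iff hK hL hP f hU).2 fun x _ => h x

/-- **Extending maps along `f` locally at closed points.** -/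
theorem epi_homMapLeft_iff {X : Scheme.{u}} [IsLocallyNoetherian X] [CompactSpace X] {K L P : X.Modules}
    (hK : Coh.IsCoh K) (hL : Coh.IsCoh L) (hP : Coh.IsCoh P) (f : K ⟶ L) :
    Epi (homMapLeft f P) ↔ ∀ x : X, IsClosed ({x} : Set X) →
      ∀ φ : K.presheaf.stalk x →ₗ[X.presheaf.stalk x] P.presheaf.stalk x,
      ∃ ψ : L.presheaf.stalk x →ₗ[X.presheaf.stalk x] P.presheaf.stalk x,
        ψ ∘ₗ Groth.Agent.CycB.StalkExact.stalkLin f x = φ :=
  (epi_homMapLeft_iff' hK hL hP f).trans (forall_stalkExt_iff_closed hK hL hP f)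

theorem homMapLeft_zero (K L P : X.Modules) : homMapLeft (0 : K ⟶ L) P = 0 := by
  ext U s
  refine sec_ext fun V hV m => ?_
  rw [comp_homMapLeft]
  change comp s V hV 0 = comp (0 : Γ(homSheaf K P, U)) V hV m
  rw [map_zero, comp_zero]; rfl

theorem stalkLin_zero_apply (K L : X.Modules) (x : X) (k : K.presheaf.stalk x) :
    stalkLin (0 : K ⟶ L) x k = 0 := by
  obtain ⟨U, hxU, m, rfl⟩ := K.presheaf.exists_germ_eq k
  rw [stalkLin_germ]
  exact map_zero _

/-- `Hom(K, P) = 0` can be tested on stalks at closed points. -/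
theorem isZero_homSheaf_iff {X : Scheme.{u}} [IsLocallyNoetherian X] [CompactSpace X] {K P : X.Modules}
    (hK : Coh.IsCoh K) (hP : Coh.IsCoh P) : IsZero (homSheaf K P) ↔ ∀ x : X, IsClosed ({x} : Set X) →
      Subsingleton (K.presheaf.stalk x →ₗ[X.presheaf.stalk x] P.presheaf.stalk x) := by
  have h1 : IsZero (homSheaf K P) ↔ Epi (homMapLeft (0 : K ⟶ K) P) := by
    rw [homMapLeft_zero]
    exact ⟨fun h => ⟨fun _ _ _ => h.eq_of_src _ _⟩, fun _ => IsZero.of_epi_eq_zero (0 : homSheaf K P ⟶ _) rfl⟩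
  rw [h1, epi_homMapLeft_iff hK hK hP]
  refine forall_congr' fun x => imp_congr_right fun _ => ⟨fun h => ⟨fun φ ψ => ?_⟩, fun h φ => ⟨0, h.elim _ _⟩⟩
  have key : ∀ φ : K.presheaf.stalk x →ₗ[X.presheaf.stalk x] P.presheaf.stalk x, φ = 0 := fun φ => by
    obtain ⟨χ, rfl⟩ := h φ
    refine LinearMap.ext fun k => ?_
    rw [LinearMap.comp_apply, stalkLin_zero_apply, map_zero]; rfl
  rw [key φ, key ψ]

end Groth.Agent.Sga2.PnStalkHom
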