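import Groth.Agent.Sga2.Conv68
import Groth.Agent.Sga5.ProjReg
import Groth.Agent.VarietyA.AmpleField
import Groth.Agent.VarietyB.ProjSpaceProper

/-!
# The twists `F(-m)` on `P^r_k` in terms of powers of the inverse of the ample module `O(1)`

* `isInverseOf_twist`: `O(1) ⊗ O(-1) ≅ O`.
* `nonempty_twistBy_neg`: `F ⊗ O(-1)^m ≅ F(-m)`.
* `van_iff`: `∃ m₀ : ℤ, ∀ m ≥ m₀, ∀ i ≤ n, H^i(F(-m)) = 0` is `Conv68.Van (O(-1)) F n`.
* `lt_depth_projSpace`: SGA 2 XII 1.4 (i) ⇒ (ii).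
-/

set_option autoImplicit false
universe u

open CategoryTheory CategoryTheory.Limits AlgebraicGeometry TopologicalSpace Opposite

namespace Groth.Agent.Sga2.EszProj68

open Groth.Agent.Ega2

variable (k : Type u) [Field k] (r : ℕ)

theorem isInverseOf_twist : ClSub.IsInverseOf (Twist.twistProjSpace r k 1) (Twist.twistProjSpace r k (-1)) := by
  have h0 : (1 : ℤ) + (-1) = 0 := by norm_num
  have h1 := TwistInv.isIso_mulHom (VeryAmpleAmple.coveredByOne_poly (n := r) (R := k)) h0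
  obtain ⟨e⟩ := TwistInv.nonempty_unit_iso (CohB1.polyGrading r k)
  exact ⟨@asIso _ _ _ _ (TwistMul.mulHom (CohB1.polyGrading r k) h0) h1 ≪≫ e.symm⟩

theorem nonempty_twistBy_neg (F : (CohB1.ProjSpace r k).Modules) (m : ℕ) :
    Nonempty (CohB1.tensorMod F (CohB1.tensorPow (Twist.twistProjSpace r k (-1)) m) ≅
      Twist.twistBy _ F (-(m : ℤ))) := by
  obtain ⟨e⟩ := TwistInv.nonempty_tensorPow_iso (VeryAmpleAmple.coveredByOne_poly (n := r) (R := k)) (-1) m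
  have h : (m : ℤ) * (-1) = -(m : ℤ) := by ring
  rw [h] at e
  exact ⟨Tens.mapTIso (Iso.refl F) e⟩

theorem van_iff (F : (CohB1.ProjSpace r k).Modules) (n : ℕ) :
    (∃ m₀ : ℤ, ∀ m : ℤ, m₀ ≤ m → ∀ i : ℕ, i ≤ n →
      Subsingleton (Coh.HH (CohB1.ProjSpace r k) (Twist.twistBy _ F (-m)) i)) ↔
    Conv68.Van (Twist.twistProjSpace r k (-1)) F n := by
  constructor
  · rintro ⟨m₀, h⟩
    refine ⟨m₀.toNat, fun m hm i hi => ?_⟩
    obtain ⟨e⟩ := nonempty_twistBy_neg k r F m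
    exact Groth.Agent.Fga.HShift.subsingleton_of_iso e.symm i (h m (by omega) i hi)
  · rintro ⟨m₀, h⟩
    refine ⟨m₀, fun m hm i hi => ?_⟩
    obtain ⟨m', rfl⟩ := Int.eq_ofNat_of_zero_le (show 0 ≤ m by omega)
    obtain ⟨e⟩ := nonempty_twistBy_neg k r F m'
    exact Groth.Agent.Fga.HShift.subsingleton_of_iso e i (h m' (by omega) i hi)

theorem lt_depth_projSpace {F : (CohB1.ProjSpace r k).Modules} (hF : Coh.IsCoh F) (n : ℕ)
    (h : ∃ m₀ : ℤ, ∀ m : ℤ, m₀ ≤ m → ∀ i : ℕ, i ≤ n →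
      Subsingleton (Coh.HH (CohB1.ProjSpace r k) (Twist.twistBy _ F (-m)) i))
    (x : CohB1.ProjSpace r k) (hx : IsClosed ({x} : Set (CohB1.ProjSpace r k))) :
    (n : ℕ∞) < LocCoh.depth ((CohB1.ProjSpace r k).presheaf.stalk x) (F.presheaf.stalk x) :=
  Conv68.lt_depth_of_van (VarietyA.AmpleField.isAmple_twistProjSpace r k) (isInverseOf_twist k r) n F hF
    ((van_iff k r F n).mp h) x hx

end Groth.Agent.Sga2.EszProj68
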