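import Groth.Agent.Sga2.DimShift
import Groth.Agent.Localalg.Matlis
import Mathlib.Algebra.Category.ModuleCat.Ext.Basic
import Mathlib.Algebra.Homology.DerivedCategory.Ext.Linear
import Mathlib.Algebra.Homology.DerivedCategory.Ext.ExactSequences

/-!
# The functors `M ↦ Hom(Ext^j(M, N), E)`, `E` injective.
-/

set_option autoImplicit false
set_option linter.unusedSectionVars false
universe u

open CategoryTheory Abelian Limits

namespace Groth.Agent.Sga2.ExtDual

variable {A : Type u} [CommRing A] (N : ModuleCat.{u} A) (E : Type u) [AddCommGroup E] [Module A E]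

/-- precomposition with a morphism on Ext -/
noncomputable abbrev pre {M M' : ModuleCat.{u} A} (f : M ⟶ M') (j : ℕ) :
    Ext M' N j →ₗ[A] Ext M N j :=
  Ext.precompOfLinear (Ext.mk₀ f) A N (zero_add j)

/-- `M ↦ Hom(Ext^j(M, N), E)`. -/
noncomputable def extDual (j : ℕ) : ModuleCat.{u} A ⥤ ModuleCat.{u} A where
  obj M := ModuleCat.of A (Ext M N j →ₗ[A] E)
  map f := ModuleCat.ofHom (LinearMap.lcomp A E (pre N f j))
  map_id M := by
    ext φ x
    change φ ((Ext.mk₀ (𝟙 M)).comp x (zero_add j)) = φ x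
    rw [Ext.mk₀_id_comp]
  map_comp {M M' M''} f g := by
    ext φ x
    change φ ((Ext.mk₀ (f ≫ g)).comp x (zero_add j)) =
      φ ((Ext.mk₀ f).comp ((Ext.mk₀ g).comp x (zero_add j)) (zero_add j))
    rw [Ext.mk₀_comp_mk₀_assoc]

theorem extDual_map_apply (j : ℕ) {M M' : ModuleCat.{u} A} (f : M ⟶ M')
    (φ : Ext M N j →ₗ[A] E) (x : Ext M' N j) :
    (show Ext M' N j →ₗ[A] E from ((extDual N E j).map f).hom φ) x =
      φ ((Ext.mk₀ f).comp x (zero_add j)) := rfl

instance (j : ℕ) : (extDual N E j).Additive where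
  map_add {M M' f g} := by
    apply ModuleCat.hom_ext
    apply LinearMap.ext
    intro (φ : Ext M N j →ₗ[A] E)
    apply LinearMap.ext
    intro x
    change φ ((Ext.mk₀ (f + g)).comp x (zero_add j)) =
      φ ((Ext.mk₀ f).comp x (zero_add j)) + φ ((Ext.mk₀ g).comp x (zero_add j))
    rw [Ext.mk₀_add, Ext.add_comp, map_add]

instance (j : ℕ) : (extDual N E j).Linear A where
  map_smul {M M'} f a := by
    apply ModuleCat.hom_ext
    apply LinearMap.ext
    intro (φ : Ext M N j →ₗ[A] E)
    apply LinearMap.ext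
    intro x
    change φ ((Ext.mk₀ (a • f)).comp x (zero_add j)) =
      a • φ ((Ext.mk₀ f).comp x (zero_add j))
    rw [Ext.mk₀_smul, Ext.smul_comp, map_smul]

theorem rightExactOnFinite (hE : Module.Injective A E) :
    DimShift.RightExactOnFinite (extDual N E 0) where
  surj S hS _ := by
    have := hS.epi_g
    intro (φ : Ext S.X₃ N 0 →ₗ[A] E)
    obtain ⟨ψ, hψ⟩ := Groth.Agent.Localalg.Matlis.exists_extend hE (pre N S.g 0)
      (Ext.precomp_mk₀_injective_of_epi N S.g) φ
    refine ⟨ψ, ?_⟩
    exact hψ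
  exact S hS _ := by
    intro (φ : Ext S.X₂ N 0 →ₗ[A] E) hφ
    -- φ factors through the range of `pre N S.f`
    have h1 : LinearMap.ker (pre N S.f 0) ≤ LinearMap.ker φ := by
      intro y hy
      obtain ⟨z, hz⟩ := Ext.contravariant_sequence_exact₂ hS N y hy
      rw [LinearMap.mem_ker, ← hz]
      exact LinearMap.congr_fun hφ z
    let K := LinearMap.ker (pre N S.f 0)
    let ι : (Ext S.X₂ N 0 ⧸ K) →ₗ[A] Ext S.X₁ N 0 := K.liftQ (pre N S.f 0) le_rfl
    have hι : Function.Injective ι := by
      rw [← LinearMap.ker_eq_bot]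
      exact Submodule.ker_liftQ_eq_bot _ _ _ le_rfl
    obtain ⟨ψ, hψ⟩ := Groth.Agent.Localalg.Matlis.exists_extend hE ι hι (K.liftQ φ h1)
    refine ⟨ψ, ?_⟩
    apply LinearMap.ext
    intro x
    exact LinearMap.congr_fun hψ (K.mkQ x)

theorem shiftable (r : ℕ) : DimShift.Shiftable r (extDual N E) where
  shift j _ S hS _ hfree := by
    have hproj : Projective S.X₂ := ModuleCat.projective_of_free (Module.Free.chooseBasis A S.X₂)
    have hsub : Subsingleton (Ext S.X₂ N (j + 1)) := Ext.subsingleton_of_projective S.X₂ N j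
    let ε : Ext S.X₁ N j →ₗ[A] Ext S.X₃ N (j + 1) :=
      Ext.precompOfLinear (X := S.X₃) (Y := S.X₁) hS.extClass A N (add_comm 1 j)
    have hε : Function.Surjective ε := fun y =>
      Ext.contravariant_sequence_exact₃ hS N y (Subsingleton.elim _ _) (add_comm 1 j)
    have hker : ∀ y, ε y = 0 → ∃ z, pre N S.f j z = y := fun y hy =>
      Ext.contravariant_sequence_exact₁ hS N y (add_comm 1 j) hy
    have hzero : ∀ z, ε (pre N S.f j z) = 0 := fun z => by
      change hS.extClass.comp ((Ext.mk₀ S.f).comp z (zero_add j)) (add_comm 1 j) = 0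
      rw [← Ext.comp_assoc_of_second_deg_zero, hS.extClass_comp, Ext.zero_comp]
    refine ⟨(LinearMap.lcomp A E ε : (Ext S.X₃ N (j + 1) →ₗ[A] E) →ₗ[A] (Ext S.X₁ N j →ₗ[A] E)),
      ?_, ?_⟩
    · rw [injective_iff_map_eq_zero]
      intro φ hφ
      apply LinearMap.ext
      intro y
      obtain ⟨z, rfl⟩ := hε y
      exact LinearMap.congr_fun hφ z
    · apply le_antisymm
      · rintro _ ⟨(φ : Ext S.X₃ N (j + 1) →ₗ[A] E), rfl⟩
        apply LinearMap.ext
        intro z
        change φ (ε (pre N S.f j z)) = 0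
        rw [hzero, map_zero]
      · intro (φ : Ext S.X₁ N j →ₗ[A] E) hφ
        have h1 : LinearMap.ker ε ≤ LinearMap.ker φ := by
          intro y hy
          obtain ⟨z, rfl⟩ := hker y hy
          exact LinearMap.congr_fun hφ z
        refine ⟨((LinearMap.ker ε).liftQ φ h1) ∘ₗ
          (ε.quotKerEquivOfSurjective hε).symm.toLinearMap, ?_⟩
        apply LinearMap.ext
        intro y
        change ((LinearMap.ker ε).liftQ φ h1) ((ε.quotKerEquivOfSurjective hε).symm (ε y)) = φ y
        have : (ε.quotKerEquivOfSurjective hε).symm (ε y) = (LinearMap.ker ε).mkQ y := by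
          rw [LinearEquiv.symm_apply_eq]
          rfl
        rw [this]
        rfl
  free j hj _ P _ hfree := by
    obtain ⟨j, rfl⟩ := Nat.exists_eq_add_of_le' hj
    have hproj : Projective P := ModuleCat.projective_of_free (Module.Free.chooseBasis A P)
    have hsub : Subsingleton (Ext P N (j + 1)) := Ext.subsingleton_of_projective P N j
    exact ⟨fun φ ψ => LinearMap.ext fun x => by
      rw [Subsingleton.elim x 0, map_zero, map_zero]⟩

/-- `Hom(Ext^0(A, A), E) = E`. -/
noncomputable def extDualSelf : (extDual (ModuleCat.of A A) E 0).obj (ModuleCat.of A A) ≃ₗ[A] E :=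
  (LinearEquiv.congrLeft E A ((Ext.linearEquiv₀ (R := A)).trans
    (ModuleCat.homLinearEquiv.trans (LinearMap.ringLmapEquivSelf A A A)))).trans
    (LinearMap.ringLmapEquivSelf A A E)

end Groth.Agent.Sga2.ExtDual
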