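import Groth.Agent.Sga2.LCNew
import Groth.Agent.Sga2.ExtDual

/-!
# Local duality over a regular local ring
-/

set_option autoImplicit false
set_option linter.unusedSectionVars false
universe u

open CategoryTheory Abelian Limits Opposite IsLocalRing

namespace Groth.Agent.Sga2.LocDual

variable {A : Type u} [CommRing A]

/-- vanishing of `Ext^a(N, P)` for `P` finite free follows from the vanishing of `Ext^a(N, A)` -/
theorem subsingleton_ext_free (N P : ModuleCat.{u} A) [Module.Finite A P] [Module.Free A P] (a : ℕ)
    (h : Subsingleton (Ext N (ModuleCat.of A A) a)) : Subsingleton (Ext N P a) := by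
  let b := Module.Free.chooseBasis A P
  let ι := Module.Free.ChooseBasisIndex A P
  have : Fintype ι := Module.Free.ChooseBasisIndex.fintype A P
  refine subsingleton_of_forall_eq 0 fun x => ?_
  have hid : 𝟙 P = ∑ i, ModuleCat.ofHom (b.coord i) ≫
      ModuleCat.ofHom (LinearMap.toSpanSingleton A P (b i)) := by
    apply ModuleCat.hom_ext
    rw [ModuleCat.hom_sum]
    apply LinearMap.ext
    intro y
    simp only [ModuleCat.hom_id, LinearMap.id_apply, ModuleCat.hom_comp, ModuleCat.hom_ofHom,
      LinearMap.sum_apply, LinearMap.comp_apply, LinearMap.toSpanSingleton_apply]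
    exact (b.sum_repr y).symm
  rw [← Ext.comp_mk₀_id x, hid, Ext.mk₀_sum, Ext.comp_sum]
  refine Finset.sum_eq_zero fun i _ => ?_
  rw [← Ext.mk₀_comp_mk₀, ← Ext.comp_assoc_of_third_deg_zero,
    h.elim (x.comp (Ext.mk₀ (ModuleCat.ofHom (b.coord i))) (add_zero a)) 0, Ext.zero_comp]

section

variable [IsLocalRing A] [IsNoetherianRing A] {r : ℕ}

theorem subsingleton_H_free (h : RegExt.IsGorDim A r) (P : ModuleCat.{u} A) [Module.Finite A P]
    [Module.Free A P] (a : ℕ) (ha : a ≠ r) :
    Subsingleton ((localCohomology (maximalIdeal A) a).obj P) :=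
  LCNew.subsingleton_of_ext _ a P fun n => subsingleton_ext_free _ P a
    (h.vanish _ (TopDual.isFiniteLength_quot_pow n) a ha)

theorem shiftable (h : RegExt.IsGorDim A r) :
    DimShift.Shiftable r (fun j => localCohomology (maximalIdeal A) (r - j)) where
  shift j hj S hS hfin hfree := by
    have key : ∀ a b : ℕ, a + 1 = b → a ≠ r →
        ∃ δ : (localCohomology (maximalIdeal A) a).obj S.X₃ →ₗ[A]
          (localCohomology (maximalIdeal A) b).obj S.X₁,
        Function.Injective δ ∧
          LinearMap.range δ = LinearMap.ker ((localCohomology (maximalIdeal A) b).map S.f).hom := by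
      rintro a _ rfl ha
      have hsub : Subsingleton ((localCohomology (maximalIdeal A) a).obj S.X₂) :=
        subsingleton_H_free h S.X₂ a ha
      refine ⟨LCNew.δ (maximalIdeal A) hS a, ?_, ?_⟩
      · rw [injective_iff_map_eq_zero]
        intro x hx
        obtain ⟨y, rfl⟩ := LCNew.exact₃ (maximalIdeal A) hS a x hx
        rw [hsub.elim y 0, map_zero]
      · apply le_antisymm
        · rintro _ ⟨x, rfl⟩
          exact LCNew.δ_comp_map (maximalIdeal A) hS a x
        · intro x hx
          exact LCNew.exact₁ (maximalIdeal A) hS a x hx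
    exact key (r - (j + 1)) (r - j) (by omega) (by omega)
  free j hj hjr P _ _ := subsingleton_H_free h P (r - j) (by omega)

theorem rightExactOnFinite
    (hvan : ∀ M : ModuleCat.{u} A, Module.Finite A M →
      Subsingleton ((localCohomology (maximalIdeal A) (r + 1)).obj M)) :
    DimShift.RightExactOnFinite (localCohomology (maximalIdeal A) r) where
  surj S hS hfin := by
    intro x
    refine LCNew.exact₃ (maximalIdeal A) hS r x ?_
    have hf : Function.Injective S.f.hom := hS.moduleCat_injective_f
    have : Module.Finite A S.X₁ := Module.Finite.of_injective S.f.hom hf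
    exact (hvan S.X₁ this).elim _ _
  exact S hS hfin x hx := LCNew.exact₂ (maximalIdeal A) hS r x hx

/-- local duality, abstract form. -/
theorem local_duality (h : RegExt.IsGorDim A r)
    (hvan : ∀ M : ModuleCat.{u} A, Module.Finite A M →
      Subsingleton ((localCohomology (maximalIdeal A) (r + 1)).obj M))
    {E : Type u} [AddCommGroup E] [Module A E] (f : ResidueField A →ₗ[A] E)
    (hf : InjHull.IsInjectiveHull f) (j : ℕ) (hj : j ≤ r) (M : ModuleCat.{u} A)
    [Module.Finite A M] :
    Nonempty ((localCohomology (maximalIdeal A) (r - j)).obj M ≃ₗ[A]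
      (Ext M (ModuleCat.of A A) j →ₗ[A] E)) := by
  obtain ⟨e⟩ := TopDual.nonempty_equiv_hull h (LCNew.lcData (maximalIdeal A) r (ModuleCat.of A A))
    f hf
  obtain ⟨Φ, hΦ⟩ := DimShift.exists_natural_equiv (rightExactOnFinite hvan)
    (ExtDual.rightExactOnFinite (ModuleCat.of A A) E hf.isInjective)
    (e.trans (ExtDual.extDualSelf E).symm)
  exact DimShift.exists_equiv (shiftable h) (ExtDual.shiftable (ModuleCat.of A A) E r) Φ hΦ j hj M

end

section Regular

theorem local_duality_regular [IsRegularLocalRing A] {r : ℕ} (hr : ringKrullDim A = r)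
    {E : Type u} [AddCommGroup E] [Module A E] (f : ResidueField A →ₗ[A] E)
    (hf : InjHull.IsInjectiveHull f) (j : ℕ) (hj : j ≤ r) (M : ModuleCat.{u} A)
    [Module.Finite A M] :
    Nonempty ((localCohomology (maximalIdeal A) (r - j)).obj M ≃ₗ[A]
      (Ext M (ModuleCat.of A A) j →ₗ[A] E)) := by
  refine local_duality (RegExt.isGorDim_of_regular r hr) (fun N _ => ?_) f hf j hj M
  refine LCNew.subsingleton_of_ext _ _ _ fun n => ?_
  have := RegExt.hasProjectiveDimensionLT_of_isFiniteLength r hr _
    (TopDual.isFiniteLength_quot_pow (A := A) n)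
  exact HasProjectiveDimensionLT.subsingleton _ (r + 1) (r + 1) le_rfl N

end Regular

end Groth.Agent.Sga2.LocDual
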