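import Groth.Agent.Sga2.MatlisLen
import Groth.Agent.Sga2.ExtLoc
import Groth.Agent.Sga2.OldExt
import Groth.Agent.Ega4A.CMCatenary
import Groth.Agent.Ega4A.RegCM
import Groth.Agent.S0299
import Groth.Agent.S0326
import Groth.Agent.S0563
import Groth.Agent.S0564
import Groth.Agent.S2943

/-!
# Finite length of local cohomology over a regular local ring (SGA 2 V 3.5, regular case)
-/

set_option autoImplicit false

universe u

namespace Groth.Agent.Sga2.FinLenLC

open IsLocalRing CategoryTheory Opposite

/-- `dim R_p + dim R/p = dim R` for `R` regular local, numerically. -/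
theorem exists_dims (R : Type u) [CommRing R] [IsRegularLocalRing R] (r : ℕ)
    (hr : ringKrullDim R = r) (p : PrimeSpectrum R) :
    ∃ s e : ℕ, ringKrullDim (Localization.AtPrime p.asIdeal) = s ∧
      ringKrullDim (R ⧸ p.asIdeal) = e ∧ s + e = r := by
  have hcm := Ega4A.RegCM.isCohenMacaulayLocalRing_of_isRegularLocalRing R
  have h1 : LocCoh.IsCohenMacaulayModule R R := hcm.supportDim_eq_depth
  have h2 : Module.support R R = Set.univ := by
    rw [Set.eq_univ_iff_forall]
    intro q
    rw [Module.mem_support_iff_exists_annihilator]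
    refine ⟨1, ?_⟩
    intro a ha
    rw [Submodule.mem_annihilator_span_singleton] at ha
    have : a = 0 := by simpa using ha
    rw [this]; exact q.asIdeal.zero_mem
  have h3 := Ega4A.CMCatenary.height_add_ringKrullDim_quotient h1 h2 p.asIdeal
  have h4 : p.asIdeal.height ≠ ⊤ := Ideal.height_ne_top_of_isPrime
  obtain ⟨s, hs⟩ := ENat.ne_top_iff_exists.mp h4
  have : Nontrivial (R ⧸ p.asIdeal) := Ideal.Quotient.nontrivial_iff.mpr p.isPrime.ne_top
  have : IsLocalRing (R ⧸ p.asIdeal) :=
    IsLocalRing.of_surjective' (Ideal.Quotient.mk _) Ideal.Quotient.mk_surjective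
  obtain ⟨e, he⟩ := CalgA.RegBasic.ringKrullDim_eq_natCast (R ⧸ p.asIdeal)
  refine ⟨s, e, ?_, he, ?_⟩
  · rw [IsLocalization.AtPrime.ringKrullDim_eq_height p.asIdeal, ← hs]
    rfl
  · rw [← hs, he, hr] at h3
    exact_mod_cast h3

/-- Local cohomology over a regular local ring vanishes above the dimension. -/
theorem cdLE_regular (A : Type u) [CommRing A] [IsRegularLocalRing A] (r : ℕ)
    (hr : ringKrullDim A = r) : LocCoh.CdLE A (maximalIdeal A) r := by
  have h : ((maximalIdeal A).spanFinrank : WithBot ℕ∞) = r :=
    (IsRegularLocalRing.spanFinrank_maximalIdeal (R := A)).trans hr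
  have h' : (maximalIdeal A).spanFinrank = r := by exact_mod_cast h
  have hfg : (maximalIdeal A).FG := IsNoetherian.noetherian _
  obtain ⟨s, hs, hspan⟩ := Submodule.FG.exists_span_finset_card_eq_spanFinrank hfg
  have := S0326.result A s
  rw [hs, h'] at this
  rwa [show Ideal.span (s : Set A) = maximalIdeal A from hspan] at this

/-- Local duality gives the vanishing criterion. -/
theorem subsingleton_H_iff (A : Type u) [CommRing A] [IsRegularLocalRing A] (r : ℕ)
    (hr : ringKrullDim A = r) (M : Type u) [AddCommGroup M] [Module A M] [Module.Finite A M]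
    (i : ℕ) (hi : i ≤ r) :
    Subsingleton (LocCoh.H (maximalIdeal A) i M) ↔
      Subsingleton (Abelian.Ext.{u} (ModuleCat.of A M) (ModuleCat.of A A) (r - i)) := by
  obtain ⟨E, _, _, f, hf⟩ := S0299.result (R := A) (ResidueField A)
  obtain ⟨e⟩ := S2943.result A r hr E f hf M i hi
  rw [e.toEquiv.subsingleton_congr, MatlisLen.subsingleton_dual_iff hf]
  exact (OldExt.oldNew A (ModuleCat.of A M) (ModuleCat.of A A) (r - i)).toEquiv.subsingleton_congr

/-- Local duality gives the finite length criterion. -/
theorem isFiniteLength_H_iff (A : Type u) [CommRing A] [IsRegularLocalRing A] (r : ℕ)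
    (hr : ringKrullDim A = r) (M : Type u) [AddCommGroup M] [Module A M] [Module.Finite A M]
    (i : ℕ) (hi : i ≤ r) :
    IsFiniteLength A (LocCoh.H (maximalIdeal A) i M) ↔
      IsFiniteLength A (Abelian.Ext.{u} (ModuleCat.of A M) (ModuleCat.of A A) (r - i)) := by
  obtain ⟨E, _, _, f, hf⟩ := S0299.result (R := A) (ResidueField A)
  obtain ⟨e⟩ := S2943.result A r hr E f hf M i hi
  have e2 := OldExt.oldNew A (ModuleCat.of A M) (ModuleCat.of A A) (r - i)
  have hfin : Module.Finite A
      (((_root_.Ext A (ModuleCat.{u} A) (r - i)).obj (op (ModuleCat.of A M))).obj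
        (ModuleCat.of A A)) := Module.Finite.equiv e2.symm
  rw [← Module.length_ne_top_iff, ← Module.length_ne_top_iff, e.length_eq, ← e2.length_eq,
    Module.length_ne_top_iff, Module.length_ne_top_iff, MatlisLen.isFiniteLength_dual_iff hf]

/-- Vanishing of `Ext^n_R(M, R)` at primes, regular case, above the dimension. -/
theorem ext_subsingleton_of_dim_lt (A : Type u) [CommRing A] [IsRegularLocalRing A] (r : ℕ)
    (hr : ringKrullDim A = r) (M N : Type u) [AddCommGroup M] [Module A M] [AddCommGroup N]
    [Module A N] (j : ℕ) (hj : r < j) :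
    Subsingleton (Abelian.Ext.{u} (ModuleCat.of A M) (ModuleCat.of A N) j) := by
  have h1 : HasProjectiveDimensionLT (ModuleCat.of A M) (r + 1) := S0563.result A r hr M
  exact HasProjectiveDimensionLT.subsingleton (ModuleCat.of A M) (r + 1) j (by omega) _

/-- SGA 2 V 3.5 for a regular local ring. -/
theorem isFiniteLength_H_iff_stalks (R : Type u) [CommRing R] [IsRegularLocalRing R]
    (M : Type u) [AddCommGroup M] [Module R M] [Module.Finite R M] (i : ℕ) :
    IsFiniteLength R (LocCoh.H (maximalIdeal R) i M) ↔
      ∀ p : PrimeSpectrum R, p.asIdeal ≠ maximalIdeal R → ∀ (e j : ℕ),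
        ringKrullDim (R ⧸ p.asIdeal) = e → j + e = i →
        Subsingleton (LocCoh.H (maximalIdeal (Localization.AtPrime p.asIdeal)) j
          (LocalizedModule p.asIdeal.primeCompl M)) := by
  obtain ⟨r, hr⟩ := CalgA.RegBasic.ringKrullDim_eq_natCast R
  by_cases hi : i ≤ r
  · rw [isFiniteLength_H_iff R r hr M i hi, MatlisLen.isFiniteLength_iff_support]
    refine forall_congr' fun p => forall_congr' fun hp => ?_
    obtain ⟨s, e, hs, he, hse⟩ := exists_dims R r hr p
    have hreg : IsRegularLocalRing (Localization.AtPrime p.asIdeal) := S0564.result R p.asIdeal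
    rw [← ExtLoc.subsingleton_localized_iff p M R (r - i),
      ExtLoc.ext_subsingleton_congr (Iso.refl _) (ExtLoc.ringEquiv p.asIdeal.primeCompl).toModuleIso]
    by_cases hei : e ≤ i
    · have h1 := subsingleton_H_iff (Localization.AtPrime p.asIdeal) s hs
        (LocalizedModule p.asIdeal.primeCompl M) (i - e) (by omega)
      have h2 : s - (i - e) = r - i := by omega
      rw [h2] at h1
      rw [← h1]
      constructor
      · intro h e' j he' hj
        have : e' = e := by rw [he] at he'; exact_mod_cast he'.symm
        subst this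
        have : j = i - e' := by omega
        rw [this]; exact h
      · intro h
        exact h e (i - e) he (by omega)
    · constructor
      · intro _ e' j he' hj
        have : e' = e := by rw [he] at he'; exact_mod_cast he'.symm
        omega
      · intro _
        exact ext_subsingleton_of_dim_lt (Localization.AtPrime p.asIdeal) s hs _ _ (r - i)
          (by omega)
  · constructor
    · intro _ p _ e j he hj
      obtain ⟨s, e', hs, he', hse⟩ := exists_dims R r hr p
      have : e' = e := by rw [he] at he'; exact_mod_cast he'.symm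
      have hreg : IsRegularLocalRing (Localization.AtPrime p.asIdeal) := S0564.result R p.asIdeal
      exact cdLE_regular (Localization.AtPrime p.asIdeal) s hs _ j (by omega)
    · intro _
      have : Subsingleton (LocCoh.H (maximalIdeal R) i M) :=
        cdLE_regular R r hr M i (by omega)
      exact IsFiniteLength.of_subsingleton

end Groth.Agent.Sga2.FinLenLC
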