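import Groth.Prelude.Def_Wider
import Groth.Agent.Localalg.LCRows

set_option autoImplicit false

universe u

namespace Groth.Agent.Sga2.LCRes

/-- Independence of the base ring for local cohomology. -/
theorem exists_equiv (A B : Type u) [CommRing A] [CommRing B] [Algebra A B] [IsNoetherianRing A]
    [IsNoetherianRing B] (I : Ideal A) (J : Ideal B) (hJ : I.map (algebraMap A B) = J) (n : ℕ)
    (N : Type u) [AddCommGroup N] [Module A N] [Module B N] [IsScalarTower A B N] :
    ∃ e : LocCoh.H I n N ≃+ LocCoh.H J n N, ∀ (a : A) (x : LocCoh.H I n N),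
      e (a • x) = algebraMap A B a • e x := by
  subst hJ
  obtain ⟨e, he⟩ := Groth.Agent.Localalg.LCRows.nonempty_resEquiv (A := A) (B := B) I n N
  refine ⟨e.symm, fun a x => ?_⟩
  rw [AddEquiv.symm_apply_eq, he, AddEquiv.apply_symm_apply]

end Groth.Agent.Sga2.LCRes
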