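import Groth.Prelude.Def_Wider
import Mathlib.RingTheory.RingHom.Surjective
import Mathlib.RingTheory.Support
import Mathlib.RingTheory.FiniteLength

/-!
# Semilinear transport along surjections of rings

* finite length over `A` and over `B` for a surjection `A → B`;
* localized modules of a `B`-module over `A` and over `B`;
* functoriality of local cohomology on isomorphisms.
-/

set_option autoImplicit false

universe u v

namespace Groth.Agent.Sga2.LCSurj

open IsLocalRing CategoryTheory

section FiniteLength

variable {A B : Type*} [CommRing A] [CommRing B] [Algebra A B]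
variable {H H' : Type*} [AddCommGroup H] [AddCommGroup H'] [Module A H] [Module B H']

/-- Finite length is invariant under a semilinear equivalence along a surjection. -/
theorem isFiniteLength_iff_of_semilinear (hs : Function.Surjective (algebraMap A B))
    (e : H ≃+ H') (he : ∀ (a : A) (x : H), e (a • x) = algebraMap A B a • e x) :
    IsFiniteLength A H ↔ IsFiniteLength B H' := by
  have : RingHomSurjective (algebraMap A B) := ⟨hs⟩
  let f : H →ₛₗ[algebraMap A B] H' :=
    { toFun := e, map_add' := e.map_add, map_smul' := he }
  have hf : Function.Bijective f := e.bijective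
  have hmap : StrictMono (Submodule.map f) := Submodule.map_strictMono_of_injective hf.1
  have hcomap : StrictMono (Submodule.comap f) := Submodule.comap_strictMono_of_surjective hf.2
  rw [isFiniteLength_iff_isNoetherian_isArtinian, isFiniteLength_iff_isNoetherian_isArtinian]
  constructor
  · rintro ⟨h1, h2⟩
    refine ⟨?_, ?_⟩
    · rw [isNoetherian_iff'] at h1 ⊢
      exact hcomap.wellFoundedGT
    · change WellFoundedLT _ at h2
      change WellFoundedLT _
      exact hcomap.wellFoundedLT
  · rintro ⟨h1, h2⟩
    refine ⟨?_, ?_⟩
    · rw [isNoetherian_iff'] at h1 ⊢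
      exact hmap.wellFoundedGT
    · change WellFoundedLT _ at h2
      change WellFoundedLT _
      exact hmap.wellFoundedLT

end FiniteLength

section Functor

variable {A : Type u} [CommRing A]

/-- Local cohomology on isomorphic modules. -/
noncomputable def hCongr (I : Ideal A) (i : ℕ) {M N : Type u} [AddCommGroup M] [Module A M]
    [AddCommGroup N] [Module A N] (e : M ≃ₗ[A] N) : LocCoh.H I i M ≃ₗ[A] LocCoh.H I i N :=
  ((localCohomology I i).mapIso e.toModuleIso).toLinearEquiv

end Functor

section Localization

variable {R A : Type u} [CommRing R] [CommRing A] (π : R →+* A) (hπ : Function.Surjective π)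
  (p : PrimeSpectrum A) (P : PrimeSpectrum R) (hP : P.asIdeal = p.asIdeal.comap π)

include hπ in
/-- The map `M → M_p`, viewed over `R`, is a localization at the preimage of `p`. -/
theorem isLocalizedModule_of_surjective (M : Type v) [AddCommGroup M] [Module A M] [Module R M]
    (hM : ∀ (r : R) (m : M), r • m = π r • m)
    [Module R (LocalizedModule p.asIdeal.primeCompl M)]
    (hM' : ∀ (r : R) (m : LocalizedModule p.asIdeal.primeCompl M), r • m = π r • m)
    (hP : P.asIdeal = p.asIdeal.comap π) :
    IsLocalizedModule P.asIdeal.primeCompl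
      ({ toFun := LocalizedModule.mkLinearMap p.asIdeal.primeCompl M
         map_add' := map_add _
         map_smul' := fun r m => by rw [hM, map_smul, RingHom.id_apply, hM'] } :
        M →ₗ[R] LocalizedModule p.asIdeal.primeCompl M) := by
  have hmem : ∀ r : R, r ∈ P.asIdeal.primeCompl ↔ π r ∈ p.asIdeal.primeCompl := by
    intro r
    change (r ∉ P.asIdeal) ↔ (π r ∉ p.asIdeal)
    rw [hP, Ideal.mem_comap]
  constructor
  · intro s
    rw [Module.End.isUnit_iff]
    have h := (Module.End.isUnit_iff _).mp (IsLocalizedModule.map_units
      (LocalizedModule.mkLinearMap p.asIdeal.primeCompl M) ⟨π s, (hmem s).mp s.2⟩)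
    convert h using 1
    ext x
    exact hM' s x
  · intro y
    obtain ⟨⟨m, s⟩, hs⟩ := IsLocalizedModule.surj p.asIdeal.primeCompl
      (LocalizedModule.mkLinearMap p.asIdeal.primeCompl M) y
    obtain ⟨r, hr⟩ := hπ s
    refine ⟨⟨m, ⟨r, (hmem r).mpr (hr ▸ s.2)⟩⟩, ?_⟩
    exact (hM' r y).trans ((congrArg (· • y) hr).trans hs)
  · intro x y h
    obtain ⟨s, hs⟩ := IsLocalizedModule.exists_of_eq (S := p.asIdeal.primeCompl)
      (f := LocalizedModule.mkLinearMap p.asIdeal.primeCompl M) h
    obtain ⟨r, hr⟩ := hπ s
    refine ⟨⟨r, (hmem r).mpr (hr ▸ s.2)⟩, ?_⟩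
    refine (hM r x).trans (Eq.trans ?_ (hM r y).symm)
    rw [hr]
    exact hs

end Localization

end Groth.Agent.Sga2.LCSurj
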