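import Mathlib.RingTheory.Ideal.KrullsHeightTheorem

/-!
# Immediate specializations avoiding a function
-/

set_option autoImplicit false
universe u

namespace Groth.Agent.Sga2.AvoidCov

/-- No prime lies strictly between `p` and `r'` when `r'` is minimal over `p + (g)`. -/
theorem not_between {R : Type u} [CommRing R] [IsNoetherianRing R] {p r r' : Ideal R} [p.IsPrime]
    [r.IsPrime] {g : R} (h : r' ∈ (p ⊔ Ideal.span {g}).minimalPrimes) (h1 : p < r) (h2 : r < r') :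
    False := by
  have hr' : r'.IsPrime := h.1.1
  have h3 := Ideal.map_height_le_one_of_mem_minimalPrimes h
  let f := Ideal.Quotient.mk p
  have hf : Function.Surjective f := Ideal.Quotient.mk_surjective
  have hk : RingHom.ker f = p := Ideal.mk_ker
  have hr1 : (r.map f).IsPrime := Ideal.map_isPrime_of_surjective hf (by rw [hk]; exact h1.le)
  have hr2 : (r'.map f).IsPrime := Ideal.map_isPrime_of_surjective hf (by rw [hk]; exact (h1.trans h2).le)
  have c1 : (r.map f).comap f = r := by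
    rw [Ideal.comap_map_of_surjective' f hf, hk]; exact sup_eq_left.2 h1.le
  have c2 : (r'.map f).comap f = r' := by
    rw [Ideal.comap_map_of_surjective' f hf, hk]; exact sup_eq_left.2 (h1.trans h2).le
  have l1 : (⊥ : Ideal (R ⧸ p)) < r.map f := by
    refine bot_lt_iff_ne_bot.2 fun h0 => h1.ne ?_
    rw [← c1, h0]
    exact hk.symm
  have l2 : r.map f < r'.map f := by
    refine lt_of_le_of_ne (Ideal.map_mono h2.le) fun h0 => h2.ne ?_
    rw [← c1, h0, c2]
  have k1 := Ideal.height_add_one_le_of_lt_of_isPrime l1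
  have k2 := Ideal.height_add_one_le_of_lt_of_isPrime l2
  rw [Ideal.height_bot, zero_add] at k1
  have k3 : (1 : ℕ∞) + 1 ≤ 1 := (add_le_add_left k1 1).trans (k2.trans h3)
  exact absurd k3 (by decide)

theorem exists_covBy (R : Type u) [CommRing R] [IsNoetherianRing R] (f : R) (p q : PrimeSpectrum R)
    (hpq : p ≤ q) (hp : f ∉ p.asIdeal) (hq : f ∈ q.asIdeal) :
    ∃ p1 : PrimeSpectrum R, p ≤ p1 ∧ p1 ⋖ q ∧ f ∉ p1.asIdeal := by
  -- choose `p1` maximal among primes in `[p, q]` avoiding `f`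
  let S : Set (Ideal R) := {I | I.IsPrime ∧ p.asIdeal ≤ I ∧ I ≤ q.asIdeal ∧ f ∉ I}
  obtain ⟨P, hP, hmax⟩ := (inferInstance : WellFoundedGT (Ideal R)).wf.has_min S
    ⟨p.asIdeal, p.isPrime, le_rfl, hpq, hp⟩
  obtain ⟨hPp, hpP, hPq, hfP⟩ := hP
  have hmax' : ∀ r : Ideal R, r.IsPrime → P < r → r ≤ q.asIdeal → f ∈ r := by
    intro r hr h1 h2
    by_contra hf
    exact hmax r ⟨hr, hpP.trans h1.le, h2, hf⟩ h1
  have hPq' : P < q.asIdeal := lt_of_le_of_ne hPq fun h => hfP (h ▸ hq)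
  refine ⟨⟨P, hPp⟩, hpP, ⟨hPq', ?_⟩, hfP⟩
  intro r hPr hrq
  have hPr' : P < r.asIdeal := hPr
  have hrq' : r.asIdeal < q.asIdeal := hrq
  have hr' := r.isPrime
  -- `q` is not minimal over `P + (f)`
  let J := P ⊔ Ideal.span {f}
  have hJ : ∀ r : Ideal R, P < r → f ∈ r → J ≤ r := fun r h1 h2 =>
    sup_le h1.le ((Ideal.span_singleton_le_iff_mem _).2 h2)
  have hqJ : ∀ r ∈ J.minimalPrimes, ¬ q.asIdeal ≤ r := by
    intro s hs hqs
    have h1 : J ≤ r.asIdeal := hJ _ hPr' (hmax' _ r.isPrime hPr' hrq'.le)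
    have h2 : s ≤ r.asIdeal := hs.2 ⟨r.isPrime, h1⟩ ((hrq'.le).trans hqs)
    exact absurd (hqs.trans h2) (not_le_of_gt hrq')
  -- prime avoidance
  have hfin : J.minimalPrimes.Finite := J.finite_minimalPrimes_of_isNoetherianRing
  obtain ⟨g, hgq, hg⟩ : ∃ g ∈ q.asIdeal, ∀ s ∈ J.minimalPrimes, g ∉ s := by
    have h1 : ¬ (q.asIdeal : Set R) ⊆ ⋃ s ∈ (hfin.toFinset : Set (Ideal R)), (s : Set R) := by
      rw [Ideal.subset_union_prime ⊥ ⊥ (fun s hs _ _ => (hfin.mem_toFinset.1 hs).1.1)]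
      rintro ⟨s, hs, h2⟩
      exact hqJ s (hfin.mem_toFinset.1 hs) h2
    obtain ⟨g, hg, hg'⟩ := Set.not_subset.1 h1
    refine ⟨g, hg, fun s hs hgs => hg' ?_⟩
    simp only [Set.mem_iUnion]
    exact ⟨s, by simpa using hs, hgs⟩
  obtain ⟨r', hr'min, hr'q⟩ := Ideal.exists_minimalPrimes_le
    (show P ⊔ Ideal.span {g} ≤ q.asIdeal from
      sup_le hPq ((Ideal.span_singleton_le_iff_mem _).2 hgq))
  have hgr' : g ∈ r' := hr'min.1.2 (Ideal.mem_sup_right (Ideal.mem_span_singleton_self g))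
  have hPr1 : P ≤ r' := le_sup_left.trans hr'min.1.2
  have hJq : J ≤ q.asIdeal := hJ _ hPq' hq
  have hgP : g ∉ P := by
    obtain ⟨s, hs, -⟩ := Ideal.exists_minimalPrimes_le hJq
    exact fun h => hg s hs (hs.1.2 (Ideal.mem_sup_left h))
  have hPr2 : P < r' := lt_of_le_of_ne hPr1 fun h => hgP (h ▸ hgr')
  have hr'p : r'.IsPrime := hr'min.1.1
  have hfr' : f ∈ r' := hmax' r' hr'p hPr2 hr'q
  obtain ⟨s, hs, hsr'⟩ := Ideal.exists_minimalPrimes_le (hJ _ hPr2 hfr')
  have hsp : s.IsPrime := hs.1.1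
  have hPs : P < s := by
    refine lt_of_le_of_ne (le_sup_left.trans hs.1.2) fun h => hfP ?_
    rw [h]
    exact hs.1.2 (Ideal.mem_sup_right (Ideal.mem_span_singleton_self f))
  have hsr : s < r' := lt_of_le_of_ne hsr' fun h => hg s hs (h ▸ hgr')
  exact not_between hr'min hPs hsr

end Groth.Agent.Sga2.AvoidCov
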