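import Groth.Agent.Sga2.ExtLoc
import Groth.Agent.Localalg.Depth
import Groth.Agent.Ega4A.Depth
import Groth.Agent.Ega4A.CMCatenary
import Groth.Agent.Ega4A.CMFields
import Groth.Agent.S0563
import Mathlib.RingTheory.Depth.Rees
import Mathlib.RingTheory.RegularLocalRing.Defs

/-!
# Vanishing of `Ext^p(N, R)` over a regular ring, by codimension of the points of the support
-/

set_option autoImplicit false

universe u

open CategoryTheory CategoryTheory.Limits

namespace Groth.Agent.Sga2.CodimExt

/-- A chain of length `n` of primes containing `I` ends at a prime of height at least `n` more than the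
minimal height of the primes containing `I`. -/
lemma exists_height_ge (S : Type u) [CommRing S] (I : Ideal S) (n : ℕ)
    (hn : (n : WithBot ℕ∞) ≤ ringKrullDim (S ⧸ I)) (p : ℕ∞)
    (h : ∀ r : PrimeSpectrum S, I ≤ r.asIdeal → p ≤ r.asIdeal.height) :
    ∃ r : PrimeSpectrum S, p + n ≤ r.asIdeal.height := by
  obtain ⟨l, hl⟩ := Order.le_krullDim_iff.1 hn
  let c : PrimeSpectrum (S ⧸ I) → PrimeSpectrum S := PrimeSpectrum.comap (Ideal.Quotient.mk I)
  have hc : StrictMono c := by
    intro x y hxy
    refine lt_of_le_of_ne (Ideal.comap_mono hxy.le) (fun h' => hxy.ne ?_)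
    exact PrimeSpectrum.comap_injective_of_surjective _ Ideal.Quotient.mk_surjective h'
  have hcI : ∀ x, I ≤ (c x).asIdeal := by
    intro x a ha
    change Ideal.Quotient.mk I a ∈ x.asIdeal
    rw [Ideal.Quotient.eq_zero_iff_mem.2 ha]
    exact x.asIdeal.zero_mem
  have key : ∀ i : Fin (l.length + 1), p + (i : ℕ) ≤ (c (l i)).asIdeal.height := by
    intro i
    induction i using Fin.induction with
    | zero => simpa using h _ (hcI _)
    | succ i ih =>
      have h1 : c (l i.castSucc) < c (l i.succ) := hc (l.step i)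
      have h2 : (c (l i.castSucc)).asIdeal.height + 1 ≤ (c (l i.succ)).asIdeal.height := by
        rw [PrimeSpectrum.height_eq_orderHeight, PrimeSpectrum.height_eq_orderHeight]
        exact Order.height_add_one_le h1
      refine le_trans ?_ h2
      rw [Fin.val_succ, Nat.cast_add, ← add_assoc, Nat.cast_one]
      gcongr
      exact ih
  refine ⟨c (l (Fin.last _)), ?_⟩
  have := key (Fin.last _)
  rw [Fin.val_last] at this
  exact le_trans (by rw [hl]) this

lemma exists_ringKrullDim_eq (S : Type u) [CommRing S] [IsLocalRing S] [IsNoetherianRing S] :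
    ∃ r : ℕ, ringKrullDim S = r := by
  have h3 : ringKrullDim S < ⊤ := ringKrullDim_lt_top
  have h4 : ringKrullDim S ≠ ⊥ := ringKrullDim_ne_bot
  obtain ⟨a, ha⟩ := WithBot.ne_bot_iff_exists.1 h4
  have h5 : a ≠ ⊤ := by
    rintro rfl
    exact h3.ne ha.symm
  obtain ⟨b, hb⟩ := ENat.ne_top_iff_exists.mp h5
  exact ⟨b, by rw [← ha, ← hb]; rfl⟩

/-- Over a regular local ring, `Ext^p(N, S) = 0` when all points of the support of `N` have height `> p`. -/
theorem subsingleton_ext_of_lt_height (S : Type u) [CommRing S] [IsRegularLocalRing S] (N : Type u)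
    [AddCommGroup N] [Module S N] [Module.Finite S N] (p : ℕ)
    (h : ∀ r ∈ Module.support S N, (p : ℕ∞) < r.asIdeal.height) :
    Subsingleton (Abelian.Ext (ModuleCat.of S N) (ModuleCat.of S S) p) := by
  by_cases hN : Subsingleton N
  · have : IsZero (ModuleCat.of S N) := ModuleCat.isZero_of_subsingleton _
    exact Localalg.Depth.ext_subsingleton_of_annihilator_sup_eq_top (by
      have : Module.annihilator S (ModuleCat.of S N) = ⊤ := Module.annihilator_eq_top_iff.2 hN
      rw [this, top_sup_eq]) p
  rw [not_subsingleton_iff_nontrivial] at hN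
  let I := Module.annihilator S N
  have hI : I ≠ ⊤ := fun hI => not_subsingleton N (Module.annihilator_eq_top_iff.1 hI)
  have hIm : I ≤ IsLocalRing.maximalIdeal S := IsLocalRing.le_maximalIdeal hI
  have hsupp : Module.support S N = PrimeSpectrum.zeroLocus (I : Set S) := Module.support_eq_zeroLocus
  have key : ((p + 1 : ℕ) : ℕ∞) ≤ LocCoh.idealDepth I S := by
    by_contra hlt
    rw [not_le] at hlt
    obtain ⟨e, he⟩ := ENat.ne_top_iff_exists.mp (ne_top_of_lt hlt)
    rw [← he] at hlt
    have hlt' : e < p + 1 := by exact_mod_cast hlt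
    have h1 := Ega4A.Depth.depth_le_idealDepth_add (M := S) hIm
    have h2 := (Ega4A.CMFields.isCohenMacaulayLocalRing_of_isRegularLocalRing S).supportDim_eq_depth
    rw [← h2, Module.supportDim_self_eq_ringKrullDim, ← he] at h1
    obtain ⟨r, hr⟩ := exists_ringKrullDim_eq S
    rw [hr] at h1
    have hn : ((r - e : ℕ) : WithBot ℕ∞) ≤ ringKrullDim (S ⧸ I) := by
      by_contra hlt2
      rw [not_le] at hlt2
      have h3 : ringKrullDim (S ⧸ I) ≠ ⊥ := by
        have : Nontrivial (S ⧸ I) := Ideal.Quotient.nontrivial_iff.2 hI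
        exact ringKrullDim_ne_bot
      obtain ⟨a, ha⟩ := WithBot.ne_bot_iff_exists.1 h3
      rw [← ha] at h1 hlt2
      have h4 : a < ((r - e : ℕ) : ℕ∞) := WithBot.coe_lt_coe.1 hlt2
      obtain ⟨b, rfl⟩ := ENat.ne_top_iff_exists.mp (ne_top_of_lt h4)
      have h5 : b < r - e := by exact_mod_cast h4
      have h6 : r ≤ e + b := by exact_mod_cast h1
      omega
    obtain ⟨x, hx⟩ := exists_height_ge S I (r - e) hn (p + 1 : ℕ) (fun x hx => by
      have := h x (by rw [hsupp]; exact hx)
      rw [Nat.cast_add, Nat.cast_one]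
      exact Order.add_one_le_of_lt this)
    have h7 : (x.asIdeal.height : WithBot ℕ∞) ≤ ringKrullDim S :=
      Ideal.height_le_ringKrullDim_of_ne_top x.2.ne_top
    rw [hr] at h7
    have h8 : x.asIdeal.height ≤ r := by exact_mod_cast h7
    have h9 : ((p + 1 : ℕ) : ℕ∞) + ((r - e : ℕ) : ℕ∞) ≤ r := hx.trans h8
    have h10 : (p + 1) + (r - e) ≤ r := by exact_mod_cast h9
    omega
  refine Localalg.Depth.ext_subsingleton_of_lt_idealDepth I N hsupp.subset S p (lt_of_lt_of_le ?_ key)
  exact_mod_cast Nat.lt_succ_self p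

section order

variable {R : Type u} [CommRing R] [IsNoetherianRing R]

lemma exists_covBy_le {r q : PrimeSpectrum R} (h : r < q) : ∃ x, r ⋖ x ∧ x ≤ q := by
  let T : Set ℕ := {n | ∃ x : PrimeSpectrum R, r < x ∧ x ≤ q ∧ x.asIdeal.height = n}
  have hT : T.Nonempty := by
    have hq : q.asIdeal.height ≠ ⊤ := Ideal.height_ne_top_of_isPrime
    obtain ⟨n, hn⟩ := ENat.ne_top_iff_exists.mp hq
    exact ⟨n, q, h, le_rfl, hn.symm⟩
  obtain ⟨x, hx1, hx2, hx3⟩ := Nat.sInf_mem hT
  refine ⟨x, ⟨hx1, fun y hy1 hy2 => ?_⟩, hx2⟩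
  have h1 : y.asIdeal.height + 1 ≤ x.asIdeal.height := by
    rw [PrimeSpectrum.height_eq_orderHeight, PrimeSpectrum.height_eq_orderHeight]
    exact Order.height_add_one_le hy2
  obtain ⟨n, hn⟩ := ENat.ne_top_iff_exists.mp
    (Ideal.height_ne_top_of_isPrime : y.asIdeal.height ≠ ⊤)
  rw [hx3, ← hn] at h1
  have h2 : n + 1 ≤ sInf T := by exact_mod_cast h1
  have h3 : sInf T ≤ n := Nat.sInf_le ⟨y, hy1, hy2.le.trans hx2, hn.symm⟩
  omega

/-- Intermediate values of the height function. -/
lemma exists_height_eq (hR : ∀ p q : PrimeSpectrum R, p ⋖ q → q.asIdeal.height = p.asIdeal.height + 1)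
    (q : PrimeSpectrum R) (n : ℕ) (hn : (n : ℕ∞) ≤ q.asIdeal.height) :
    ∀ (k : ℕ) (r : PrimeSpectrum R), r ≤ q → r.asIdeal.height + k = n →
      ∃ x, r ≤ x ∧ x ≤ q ∧ x.asIdeal.height = n := by
  intro k
  induction k with
  | zero => exact fun r hr h => ⟨r, le_rfl, hr, by simpa using h⟩
  | succ k ih =>
    intro r hr h
    have hrq : r < q := by
      refine lt_of_le_of_ne hr ?_
      rintro rfl
      obtain ⟨m, hm⟩ := ENat.ne_top_iff_exists.mp
        (Ideal.height_ne_top_of_isPrime : r.asIdeal.height ≠ ⊤)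
      rw [← hm] at h hn
      have h1 : m + (k + 1) = n := by exact_mod_cast h
      have h2 : n ≤ m := by exact_mod_cast hn
      omega
    obtain ⟨y, hy1, hy2⟩ := exists_covBy_le hrq
    obtain ⟨x, hx1, hx2, hx3⟩ := ih y hy2 (by rw [hR r y hy1, ← h]; push_cast; ring)
    exact ⟨x, hy1.le.trans hx1, hx2, hx3⟩

end order

/-- Over a regular ring, `Ext^p(N, R) = 0` when no point of the support of `N` has height `p`. -/
theorem subsingleton_ext_of_height_ne (R : Type u) [CommRing R] [IsRegularRing R] (N : Type u)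
    [AddCommGroup N] [Module R N] [Module.Finite R N] (p : ℕ)
    (h : ∀ q ∈ Module.support R N, q.asIdeal.height ≠ p) :
    Subsingleton (Abelian.Ext (ModuleCat.of R N) (ModuleCat.of R R) p) := by
  rw [← Module.support_eq_empty_iff (R := R), Set.eq_empty_iff_forall_notMem]
  intro q
  rw [← ExtLoc.subsingleton_localized_iff]
  have hreg : IsRegularLocalRing (Localization q.asIdeal.primeCompl) :=
    IsRegularRing.isRegularLocalRing_localization q.asIdeal
  rw [ExtLoc.ext_subsingleton_congr (Iso.refl _)
    (show ModuleCat.of (Localization q.asIdeal.primeCompl) (LocalizedModule q.asIdeal.primeCompl R) ≅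
      ModuleCat.of (Localization q.asIdeal.primeCompl) (Localization q.asIdeal.primeCompl) from
      (ExtLoc.ringEquiv q.asIdeal.primeCompl).toModuleIso)]
  by_cases hq : (p : ℕ∞) ≤ q.asIdeal.height
  · refine subsingleton_ext_of_lt_height (Localization q.asIdeal.primeCompl)
      (LocalizedModule q.asIdeal.primeCompl N) p (fun r' hr' => ?_)
    let r : PrimeSpectrum R := PrimeSpectrum.comap (algebraMap R (Localization q.asIdeal.primeCompl)) r'
    have hr : r ∈ Module.support R N := by
      rw [Module.mem_support_iff_of_finite] at hr' ⊢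
      intro a ha
      refine hr' ?_
      rw [Module.mem_annihilator] at ha ⊢
      intro x
      obtain ⟨⟨n, s⟩, rfl⟩ := IsLocalizedModule.mk'_surjective q.asIdeal.primeCompl
        (LocalizedModule.mkLinearMap q.asIdeal.primeCompl N) x
      rw [algebraMap_smul, Function.uncurry_apply_pair, ← IsLocalizedModule.mk'_smul, ha n,
        IsLocalizedModule.mk'_zero]
    have hrq : r ≤ q := by
      intro a ha
      by_contra haq
      exact r'.2.ne_top (Ideal.eq_top_of_isUnit_mem _ ha
        (IsLocalization.map_units (Localization q.asIdeal.primeCompl)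
          (⟨a, haq⟩ : q.asIdeal.primeCompl)))
    have hh : r'.asIdeal.height = r.asIdeal.height :=
      (IsLocalization.height_under q.asIdeal.primeCompl r'.asIdeal).symm
    rw [hh]
    by_contra hlt
    rw [not_lt] at hlt
    have : LocCoh.IsCohenMacaulayRing R := Ega4A.CMFields.isCohenMacaulayRing_of_isRegularRing R
    obtain ⟨m, hm⟩ := ENat.ne_top_iff_exists.mp
      (Ideal.height_ne_top_of_isPrime : r.asIdeal.height ≠ ⊤)
    rw [← hm] at hlt
    have hlt' : m ≤ p := by exact_mod_cast hlt
    obtain ⟨x, hx1, -, hx3⟩ := exists_height_eq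
      (fun _ _ => Ega4A.CMCatenary.height_eq_of_covBy_of_isCohenMacaulayRing) q p hq (p - m) r hrq (by
        rw [← hm]; exact_mod_cast Nat.add_sub_cancel' hlt')
    refine h x ?_ hx3
    rw [Module.mem_support_iff_of_finite] at hr ⊢
    exact hr.trans hx1
  · rw [not_le] at hq
    obtain ⟨m, hm⟩ := ENat.ne_top_iff_exists.mp
      (Ideal.height_ne_top_of_isPrime : q.asIdeal.height ≠ ⊤)
    rw [← hm] at hq
    have hq' : m < p := by exact_mod_cast hq
    have hd : ringKrullDim (Localization q.asIdeal.primeCompl) = m := by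
      have := IsLocalization.AtPrime.ringKrullDim_eq_height q.asIdeal (Localization.AtPrime q.asIdeal)
      rw [← hm] at this
      exact this
    have hpd := S0563.result (Localization q.asIdeal.primeCompl) m hd
      (LocalizedModule q.asIdeal.primeCompl N)
    exact hpd.subsingleton _ (m + 1) p (by omega) _

end Groth.Agent.Sga2.CodimExt
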