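import Groth.Prelude.Def_SGA2
import Groth.Agent.Ega4B.CatHeight
import Groth.Agent.Ega4A.CMCatenary
import Groth.Agent.Ega4A.Catenary
import Groth.Agent.Ega4A.RegCM
import Groth.Agent.LoccohA.EquidimS2
import Groth.Agent.CalgB.CM2
import Groth.Agent.S0564

/-!
# Relative codimensions and depth

* `isCatenary_of_regular_quotient`: a quotient of a regular ring is catenary.
* `ringKrullDim_quotient_localization`: `dim A_p / P = ht(p / p₀)` for `P` over `p₀`.
* `depth_le_rlen`: `depth M_p ≤ ht(p/p₀)` for `p₀ ≤ p` associated to `M`.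
* `rlen_le_supportDim`: `ht(p/p₀) ≤ dim M_p` for `p₀ ≤ p` in the support of `M`.
* `exists_covBy_of_mem`: for `p₀ ≤ q`, `I ≤ q`, `¬ I ≤ p₀` there are `p ⋖ q' ≤ q` with `p₀ ≤ p`, `¬ I ≤ p`, `I ≤ q'`.
-/

set_option autoImplicit false

universe u v

namespace Groth.Agent.Sga2.CMCodim

open IsLocalRing Groth.Agent.Ega4B.CatHeight Groth.Agent.CalgB

section Cat

theorem isCohenMacaulayRing_of_isRegularRing (R : Type u) [CommRing R] [IsRegularRing R] :
    LocCoh.IsCohenMacaulayRing R where
  isCohenMacaulayLocalRing_localization _ _ :=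
    Groth.Agent.Ega4A.RegCM.isCohenMacaulayLocalRing_of_isRegularLocalRing _

theorem isCatenary_of_regular_quotient (R : Type u) [CommRing R] [IsRegularRing R]
    (A : Type u) [CommRing A] (π : R →+* A) (hπ : Function.Surjective π) :
    CAlg.IsCatenary A := by
  have := isCohenMacaulayRing_of_isRegularRing R
  exact Groth.Agent.Ega4A.Catenary.isCatenary_of_surjective π hπ
    (Groth.Agent.Ega4A.CMCatenary.isCatenary_of_isCohenMacaulayRing R)

end Cat

section Loc

variable {A : Type u} [CommRing A]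

/-- The prime of `A_p` over `p₀ ≤ p`. -/
theorem exists_loc_prime {p₀ p : PrimeSpectrum A} (h : p₀ ≤ p) :
    ∃ P : PrimeSpectrum (Localization.AtPrime p.asIdeal),
      PrimeSpectrum.comap (algebraMap A _) P = p₀ := by
  have hdisj : Disjoint (p.asIdeal.primeCompl : Set A) (p₀.asIdeal : Set A) := by
    rw [Set.disjoint_left]
    intro x hx hx'
    exact hx (h hx')
  exact ⟨⟨_, IsLocalization.isPrime_of_isPrime_disjoint p.asIdeal.primeCompl
    (Localization.AtPrime p.asIdeal) p₀.asIdeal p₀.2 hdisj⟩, by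
      ext1
      exact IsLocalization.under_map_of_isPrime_disjoint p.asIdeal.primeCompl
        (Localization.AtPrime p.asIdeal) p₀.2 hdisj⟩

theorem comap_closedPoint (p : PrimeSpectrum A) :
    PrimeSpectrum.comap (algebraMap A _) (closedPoint (Localization.AtPrime p.asIdeal)) = p := by
  ext1
  exact Localization.AtPrime.under_maximalIdeal

/-- relative heights in a localization -/
theorem rlen_comap (p : PrimeSpectrum A) (P Q : PrimeSpectrum (Localization.AtPrime p.asIdeal)) :
    rlen (PrimeSpectrum.comap (algebraMap A _) P) (PrimeSpectrum.comap (algebraMap A _) Q) =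
      rlen P Q := by
  let e := IsLocalization.orderEmbedding p.asIdeal.primeCompl (Localization.AtPrime p.asIdeal)
  have hlt : ∀ x y : PrimeSpectrum (Localization.AtPrime p.asIdeal),
      PrimeSpectrum.comap (algebraMap A _) x < PrimeSpectrum.comap (algebraMap A _) y ↔ x < y :=
    fun x y => (IsLocalization.orderEmbedding p.asIdeal.primeCompl
      (Localization.AtPrime p.asIdeal)).lt_iff_lt
  apply le_antisymm
  · rw [rlen_le_iff]
    intro s h1 h2
    have hs : ∀ i, s i ≤ p := fun i =>
      ((s.monotone (Fin.le_last i)).trans h2.le).trans (by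
        conv_rhs => rw [← comap_closedPoint p]
        exact Ideal.comap_mono (le_maximalIdeal Q.2.ne_top))
    choose t ht using fun i => exists_loc_prime (hs i)
    let s' : LTSeries (PrimeSpectrum (Localization.AtPrime p.asIdeal)) :=
      { length := s.length
        toFun := t
        step := fun i => by
          change t _ < t _
          rw [← hlt, ht, ht]
          exact s.step i }
    have hinj : Function.Injective (PrimeSpectrum.comap
        (algebraMap A (Localization.AtPrime p.asIdeal))) :=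
      PrimeSpectrum.localization_comap_injective _ p.asIdeal.primeCompl
    have e1 : s'.head = P := hinj ((ht 0).trans h1)
    have e2 : s'.last = Q := hinj ((ht (Fin.last _)).trans h2)
    exact le_rlen s' e1 e2
  · rw [rlen_le_iff]
    intro s h1 h2
    let s' : LTSeries (PrimeSpectrum A) := s.map (PrimeSpectrum.comap (algebraMap A _))
      (fun x y h => (hlt x y).2 h)
    refine le_rlen (p := PrimeSpectrum.comap (algebraMap A _) P) s' ?_ ?_
    · rw [← h1]
      exact LTSeries.head_map _ _ _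
    · rw [← h2]
      exact LTSeries.last_map _ _ _

/-- `dim A_p/P = ht(p/p₀)` for `P` over `p₀`. -/
theorem ringKrullDim_quotient_localization (p : PrimeSpectrum A)
    (P : PrimeSpectrum (Localization.AtPrime p.asIdeal)) :
    ringKrullDim (Localization.AtPrime p.asIdeal ⧸ P.asIdeal) =
      ((rlen (PrimeSpectrum.comap (algebraMap A _) P) p : ℕ∞) : WithBot ℕ∞) := by
  rw [Groth.Agent.LoccohA.EquidimS2.ringKrullDim_quotient_eq_rlen, ← rlen_comap,
    comap_closedPoint]

variable [IsNoetherianRing A] {M : Type u} [AddCommGroup M] [Module A M] [Module.Finite A M]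

/-- `depth M_p ≤ ht(p/p₀)` for `p₀ ≤ p` associated to `M`. -/
theorem depth_le_rlen {p₀ p : PrimeSpectrum A} (h : p₀ ≤ p)
    (hp₀ : p₀.asIdeal ∈ associatedPrimes A M) :
    LocCoh.depth (Localization.AtPrime p.asIdeal) (LocalizedModule p.asIdeal.primeCompl M) ≤
      rlen p₀ p := by
  obtain ⟨P, rfl⟩ := exists_loc_prime h
  have hP : P.asIdeal ∈ associatedPrimes (Localization.AtPrime p.asIdeal)
      (LocalizedModule p.asIdeal.primeCompl M) :=
    Module.associatedPrimes.mem_associatedPrimes_of_comap_mem_associatedPrimes_of_isLocalizedModule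
      p.asIdeal.primeCompl (LocalizedModule.mkLinearMap p.asIdeal.primeCompl M) _ hp₀
  have hnt : Nontrivial (LocalizedModule p.asIdeal.primeCompl M) :=
    Module.nonempty_support_iff.mp ⟨_, CM2.mem_support_of_mem_associatedPrimes hP⟩
  obtain ⟨d, hd⟩ := ENat.ne_top_iff_exists.mp
    (Depth1.depth_lt_top (R := Localization.AtPrime p.asIdeal)
      (M := LocalizedModule p.asIdeal.primeCompl M)).ne
  obtain ⟨rs, hlen, mem, reg⟩ := (Depth1.le_depth_iff_weak d).mp hd.le
  have := CM1.length_le_ringKrullDim_quotient rs mem reg hP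
  rw [← hd]
  rw [hlen, ringKrullDim_quotient_localization] at this
  exact_mod_cast this

/-- `ht(p/p₀) ≤ dim M_p` for `p₀ ≤ p` in the support of `M`. -/
theorem rlen_le_supportDim {p₀ p : PrimeSpectrum A} (h : p₀ ≤ p)
    (hp₀ : Module.annihilator A M ≤ p₀.asIdeal) :
    ((rlen p₀ p : ℕ∞) : WithBot ℕ∞) ≤
      Module.supportDim (Localization.AtPrime p.asIdeal)
        (LocalizedModule p.asIdeal.primeCompl M) := by
  obtain ⟨P, rfl⟩ := exists_loc_prime h
  rw [← ringKrullDim_quotient_localization]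
  apply CM2.ringKrullDim_quotient_le_supportDim
  have hsupp : PrimeSpectrum.comap (algebraMap A (Localization.AtPrime p.asIdeal)) P ∈
      Module.support A M := by
    rwa [Module.mem_support_iff_of_finite]
  rw [Module.mem_support_iff'] at hsupp ⊢
  obtain ⟨m, hm⟩ := hsupp
  refine ⟨LocalizedModule.mkLinearMap p.asIdeal.primeCompl M m, fun r hr hr0 => ?_⟩
  obtain ⟨a, s, rfl⟩ := IsLocalization.exists_mk'_eq p.asIdeal.primeCompl r
  have h1 : LocalizedModule.mkLinearMap p.asIdeal.primeCompl M (a • m) = 0 := by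
    rw [map_smul, ← algebraMap_smul (Localization.AtPrime p.asIdeal) a,
      ← IsLocalization.mk'_spec (Localization.AtPrime p.asIdeal) a s, mul_comm, mul_smul, hr0,
      smul_zero]
  rw [← LinearMap.mem_ker, LocalizedModule.mem_ker_mkLinearMap_iff] at h1
  obtain ⟨t, ht, ht'⟩ := h1
  refine hm (t * a) ?_ (by rw [mul_smul]; exact ht')
  intro hta
  have hta' : algebraMap A (Localization.AtPrime p.asIdeal) t *
      algebraMap A (Localization.AtPrime p.asIdeal) a ∈ P.asIdeal := by
    rw [← map_mul]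
    exact hta
  rcases P.2.mem_or_mem hta' with h2 | h2
  · exact ht (h h2)
  · apply hr
    rw [IsLocalization.mk'_eq_mul_mk'_one]
    exact P.asIdeal.mul_mem_right _ h2

end Loc

section Chains

variable {A : Type u} [CommRing A] [IsNoetherianRing A]

/-- For `p₀ ≤ q`, `I ≤ q`, `¬ I ≤ p₀` there are `p ⋖ q'` with `p₀ ≤ p`, `q' ≤ q`, `¬ I ≤ p`, `I ≤ q'`. -/
theorem exists_covBy {I : Ideal A} {p₀ q : PrimeSpectrum A} (h : p₀ ≤ q) (hq : I ≤ q.asIdeal)
    (hp₀ : ¬ I ≤ p₀.asIdeal) :
    ∃ p q' : PrimeSpectrum A, p₀ ≤ p ∧ p ⋖ q' ∧ q' ≤ q ∧ ¬ I ≤ p.asIdeal ∧ I ≤ q'.asIdeal := by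
  obtain ⟨Q, hQ, hQq⟩ := Ideal.exists_minimalPrimes_le (I := p₀.asIdeal ⊔ I) (J := q.asIdeal)
    (sup_le h hq)
  let q' : PrimeSpectrum A := ⟨Q, hQ.1.1⟩
  have h0 : p₀ ≤ q' := le_sup_left.trans hQ.1.2
  have hI : I ≤ q'.asIdeal := le_sup_right.trans hQ.1.2
  obtain ⟨s, hs1, hs2, -, hs⟩ := exists_sat h0 (rlen_ne_top p₀ q')
  have hlen : s.length ≠ 0 := by
    intro h0
    apply hp₀
    have : p₀ = q' := by
      rw [← hs1, ← hs2]
      change s _ = s _
      congr 1
      ext
      simp [h0]
    rw [this]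
    exact hI
  obtain ⟨k, hk⟩ := Nat.exists_eq_succ_of_ne_zero hlen
  have hcov := hs ⟨k, by omega⟩
  have hlast : s (Fin.succ ⟨k, by omega⟩) = q' := by
    rw [← hs2]
    change s _ = s _
    congr 1
    ext
    simp [hk]
  rw [hlast] at hcov
  have hp : p₀ ≤ s (Fin.castSucc ⟨k, by omega⟩) := by
    rw [← hs1]
    exact s.head_le _
  refine ⟨_, q', hp, hcov, hQq, fun hcon => ?_, hI⟩
  have := hQ.2 ⟨(s (Fin.castSucc ⟨k, by omega⟩)).2, sup_le hp hcon⟩ hcov.le
  exact absurd hcov.lt (not_lt_of_ge this)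

theorem relCodim_le {I : Ideal A} {p q : PrimeSpectrum A} (h : p ≤ q) (hq : I ≤ q.asIdeal) :
    SGA2.relCodim I p ≤ rlen p q := by
  rw [← height_Ici h]
  exact iInf_le (fun q : {q : PrimeSpectrum A // p ≤ q ∧ I ≤ q.asIdeal} =>
    Order.height (⟨q.1, q.2.1⟩ : Set.Ici p)) ⟨q, h, hq⟩

theorem le_relCodim {I : Ideal A} {p : PrimeSpectrum A} {n : ℕ∞}
    (h : ∀ q : PrimeSpectrum A, p ≤ q → I ≤ q.asIdeal → n ≤ rlen p q) :
    n ≤ SGA2.relCodim I p := by
  refine le_iInf fun q => ?_
  rw [height_Ici q.2.1]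
  exact h q.1 q.2.1 q.2.2

end Chains

end Groth.Agent.Sga2.CMCodim
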