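import Groth.Agent.S1727
import Groth.Agent.S1772
import Groth.Agent.S0330
import Groth.Agent.S0342
import Groth.Agent.LoccohA.HTV
import Groth.Agent.LoccohA.CutoffLoc
import Groth.Agent.LoccohB.RAdj
import Groth.Agent.Localalg.DGor
import Groth.Agent.Localalg.LCRows
import Groth.Agent.Ega4A.Depth
import Groth.Agent.Sga2.CMCodim

/-!
# Faltings' finiteness theorem for quotients of regular rings

* `finite_H_iff`: for `A` a quotient of a regular ring, `H^i_I(M)` is finite for all `i ≤ s` iff
  `s < s_{A,I}(M)` (`Dual2.cutoff`).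
* `natCast_lt_cutoff_iff_covBy`: `s < s_{A,I}(M)` iff `s ≤ depth M_p` for all `p ⋖ q`, `I ≤ q`, `¬ I ≤ p`.
-/

set_option autoImplicit false
universe u
open CategoryTheory
attribute [local instance] HasDerivedCategory.standard

namespace Groth.Agent.Sga2.FaltReg

open Groth.Agent.LoccohA Groth.Agent.LoccohA.CutoffLoc Groth.Agent.Ega4B.CatHeight
open Groth.Agent.Sga2.CMCodim

/-- With a dualizing complex: `H^i_I(M)` is finite for `i ≤ s` iff `s < s_{A,I}(M)`. -/
theorem finite_H_iff_of_dualizing (A : Type u) [CommRing A] [IsNoetherianRing A]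
    (hA : ∃ ω : Dual.D A, Dual.IsDualizing A ω) (I : Ideal A) (M : Type u) [AddCommGroup M]
    [Module A M] [Module.Finite A M] (s : ℕ) :
    (∀ i : ℕ, i ≤ s → Module.Finite A (LocCoh.H I i M)) ↔ (s : ℕ∞) < Dual2.cutoff A I M := by
  have h := Groth.Agent.S1727.result A hA (PrimeSpectrum.zeroLocus (I : Set A))
    (PrimeSpectrum.isClosed_zeroLocus _).stableUnderSpecialization s M
  have h1 : (∀ i : ℕ, i ≤ s → Module.Finite A (LocCoh.H I i M)) ↔
      ∀ i : ℕ, i ≤ s → Module.Finite A (Dual2.HT (PrimeSpectrum.zeroLocus (I : Set A)) i M) := by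
    refine forall₂_congr fun i _ => ?_
    exact ⟨fun _ => Module.Finite.equiv (HTV.equivH I i M).symm,
      fun _ => Module.Finite.equiv (HTV.equivH I i M)⟩
  rw [h1, h, natCast_lt_cutoff_iff]
  constructor
  · intro h p q hpq hp hq
    have := h p q hp hq hpq
    rw [krullDim_Icc hpq, ← WithBot.coe_add] at this
    exact WithBot.coe_lt_coe.1 this
  · intro h p q hp hq hpq
    have := h p q hpq hp hq
    rw [krullDim_Icc hpq, ← WithBot.coe_add]
    exact WithBot.coe_lt_coe.2 this

/-- A quotient of a regular local ring has a dualizing complex. -/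
theorem exists_dualizing (R A : Type u) [CommRing R] [IsRegularLocalRing R] [CommRing A]
    [IsNoetherianRing A] (f : R →+* A) (hf : Function.Surjective f) :
    ∃ ω : Dual.D A, Dual.IsDualizing A ω := by
  have hG := Groth.Agent.S0342.result R
  have hD := Groth.Agent.Localalg.DGor.isDualizing_of_gorenstein R
  let _ : Algebra R A := f.toAlgebra
  have hfin : Module.Finite R A := Module.Finite.of_surjective (Algebra.linearMap R A) hf
  exact ⟨_, Groth.Agent.S1772.result R A
    (Groth.Agent.LoccohB.RAdj.RCoext (algebraMap R A))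
    (Groth.Agent.LoccohB.RAdj.coextAdj (algebraMap R A)) _ hD⟩

/-- Faltings' finiteness theorem for quotients of regular rings. -/
theorem finite_H_iff (R : Type u) [CommRing R] [IsRegularRing R] (A : Type u) [CommRing A]
    [IsNoetherianRing A] (π : R →+* A) (hπ : Function.Surjective π)
    (I : Ideal A) (M : Type u) [AddCommGroup M] [Module A M] [Module.Finite A M] (s : ℕ) :
    (∀ i : ℕ, i ≤ s → Module.Finite A (LocCoh.H I i M)) ↔ (s : ℕ∞) < Dual2.cutoff A I M := by
  rw [Groth.Agent.S0330.result, natCast_lt_cutoff_iff_forall_localization]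
  have hkey : ∀ (q : PrimeSpectrum A),
      (∀ i : ℕ, i ≤ s → Module.Finite (Localization.AtPrime q.asIdeal)
        (LocalizedModule q.asIdeal.primeCompl (LocCoh.H I i M))) ↔
      (s : ℕ∞) < Dual2.cutoff (Localization.AtPrime q.asIdeal)
        (I.map (algebraMap A (Localization.AtPrime q.asIdeal)))
        (LocalizedModule q.asIdeal.primeCompl M) := by
    intro q
    rw [← finite_H_iff_of_dualizing (Localization.AtPrime q.asIdeal)
      (exists_dualizing (Localization.AtPrime (q.asIdeal.comap π)) _
        (Localization.localRingHom (q.asIdeal.comap π) q.asIdeal π rfl)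
        (RingHom.surjective_localRingHom_of_surjective π hπ q.asIdeal))]
    refine forall₂_congr fun i _ => ?_
    obtain ⟨g⟩ := Groth.Agent.Localalg.LCRows.nonempty_localizationEquiv
      I q.asIdeal.primeCompl i M
    exact ⟨fun _ => Module.Finite.equiv g, fun _ => Module.Finite.equiv g.symm⟩
  constructor
  · intro h q
    exact (hkey q).1 fun i hi => h q.asIdeal i hi
  · intro h p hp i hi
    exact (hkey ⟨p, hp⟩).2 (h ⟨p, hp⟩) i hi

section Depth

variable {A : Type u} [CommRing A] [IsNoetherianRing A] {M : Type u} [AddCommGroup M] [Module A M]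
  [Module.Finite A M]

/-- `depth M_q ≤ depth M_p + ht(q/p)` for `p ≤ q`. -/
theorem depth_le_depth_add_rlen {p q : PrimeSpectrum A} (h : p ≤ q) :
    LocCoh.depth (Localization.AtPrime q.asIdeal) (LocalizedModule q.asIdeal.primeCompl M) ≤
      LocCoh.depth (Localization.AtPrime p.asIdeal) (LocalizedModule p.asIdeal.primeCompl M) +
        rlen p q := by
  obtain ⟨P, rfl⟩ := exists_loc_prime h
  have e := Groth.Agent.Ega4B.LocTransfer.depth_eq_of_isLocalization q.asIdeal.primeCompl
      (LocalizedModule.mkLinearMap q.asIdeal.primeCompl M) P.asIdeal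
  by_cases hnt : Nontrivial (LocalizedModule P.asIdeal.primeCompl
      (LocalizedModule q.asIdeal.primeCompl M))
  · have := Groth.Agent.Ega4A.Depth.depth_le_depth_localizedModule_add
      (M := LocalizedModule q.asIdeal.primeCompl M) P.asIdeal
    rw [ringKrullDim_quotient_localization, e, ← WithBot.coe_add] at this
    exact WithBot.coe_le_coe.mp this
  · rw [not_nontrivial_iff_subsingleton] at hnt
    rw [Groth.Agent.CalgB.Depth1.depth_of_subsingleton] at e
    have e' : LocCoh.depth (Localization.AtPrime
        (PrimeSpectrum.comap (algebraMap A (Localization.AtPrime q.asIdeal)) P).asIdeal)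
        (LocalizedModule (PrimeSpectrum.comap
          (algebraMap A (Localization.AtPrime q.asIdeal)) P).asIdeal.primeCompl M) = ⊤ := e.symm
    rw [e']
    simp

/-- The cutoff condition in terms of immediate specializations into `V(I)`. -/
theorem natCast_lt_cutoff_iff_covBy (I : Ideal A) (s : ℕ) :
    (s : ℕ∞) < Dual2.cutoff A I M ↔
      ∀ p q : PrimeSpectrum A, ¬ I ≤ p.asIdeal → I ≤ q.asIdeal → p ⋖ q →
        (s : ℕ∞) ≤ LocCoh.depth (Localization.AtPrime p.asIdeal)
          (LocalizedModule p.asIdeal.primeCompl M) := by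
  rw [natCast_lt_cutoff_iff]
  constructor
  · intro h p q hp hq hpq
    have := h p q hpq.le hp hq
    rw [rlen_eq_one_of_covBy hpq, ← ENat.add_one_le_iff (ENat.natCast_ne_top s)] at this
    exact (ENat.add_le_add_iff_right ENat.one_ne_top).mp this
  · intro h p q hpq hp hq
    obtain ⟨p', q', h1, h2, h3, h4, h5⟩ := exists_covBy hpq hq hp
    rw [← ENat.add_one_le_iff (ENat.natCast_ne_top s)]
    calc (s : ℕ∞) + 1 ≤ _ := add_le_add ((h p' q' h4 h5 h2).trans (depth_le_depth_add_rlen h1)) le_rfl
      _ = LocCoh.depth (Localization.AtPrime p.asIdeal)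
          (LocalizedModule p.asIdeal.primeCompl M) + (rlen p p' + rlen p' q') := by
          rw [add_assoc, rlen_eq_one_of_covBy h2]
      _ ≤ LocCoh.depth (Localization.AtPrime p.asIdeal)
          (LocalizedModule p.asIdeal.primeCompl M) + (rlen p q' + rlen q' q) := by
          refine add_le_add le_rfl ?_
          exact (rlen_add_le h1 h2.le).trans le_self_add
      _ ≤ _ := by
          refine add_le_add le_rfl ?_
          exact rlen_add_le (h1.trans h2.le) h3

end Depth

end Groth.Agent.Sga2.FaltReg
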