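import Groth.Prelude.Def_SGA2
import Groth.Prelude.Def_FlatMod2
import Groth.Agent.Pi1A.DepthSpread
import Groth.Agent.Pi1A.DepthPunctured
import Groth.Agent.Pi1A.FEtGlue
import Groth.Agent.Pi1C.FEtExtend
import Groth.Agent.Picfga.FiniteDescent

/-!
# Purity of a pair descends along faithfully flat quasi-compact morphisms (SGA 2 X 3.6)
-/

set_option autoImplicit false
universe u

open CategoryTheory CategoryTheory.Limits AlgebraicGeometry
open Groth.Agent.Pi1C.SectionsOverAffine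

namespace Groth.Agent.Sga2.PureDescent

/-- Base changes of `U.ι` along isomorphic morphisms are isomorphic arrows. -/
noncomputable def arrowIso {X P₁ P₂ Y₁ Y₂ W : Scheme.{u}} {i : W ⟶ X} {a₁ : P₁ ⟶ W} {f₁ : P₁ ⟶ Y₁}
    {g₁ : Y₁ ⟶ X} {a₂ : P₂ ⟶ W} {f₂ : P₂ ⟶ Y₂} {g₂ : Y₂ ⟶ X} (h₁ : IsPullback a₁ f₁ i g₁)
    (h₂ : IsPullback a₂ f₂ i g₂) (e : Y₁ ≅ Y₂) (he : e.hom ≫ g₂ = g₁) :
    Arrow.mk f₁ ≅ Arrow.mk f₂ :=
  have h₃ : IsPullback a₂ (f₂ ≫ e.inv) i g₁ :=
    h₂.of_iso (Iso.refl _) (Iso.refl _) e.symm (Iso.refl _) (by simp) (by simp) (by simp)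
      (by simp [← he])
  Arrow.isoMk (h₁.isoIsPullback _ _ h₃) e (by
    simp only [Arrow.mk_left, Arrow.mk_right, Arrow.mk_hom]
    rw [← Iso.comp_inv_eq, Category.assoc, h₁.isoIsPullback_hom_snd _ _ h₃])

section Depth

variable {X : Scheme.{u}} [IsLocallyNoetherian X] (U : X.Opens)
  (hU : ∀ x : X, x ∉ U → (2 : ℕ∞) ≤ LocCoh.depth (X.presheaf.stalk x) (X.presheaf.stalk x))

include hU

theorem isIso_appTop {Z : Scheme.{u}} (p : Z ⟶ X) [Flat p] : IsIso (p ⁻¹ᵁ U).ι.appTop := by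
  rw [ConcreteCategory.isIso_iff_bijective]
  refine (Pi1A.DepthTwo.bijective_app_iff (p ⁻¹ᵁ U).ι ⊤).mpr ?_
  rw [Scheme.Opens.opensRange_ι]
  exact Pi1A.DepthSpread.bijective_res_of_depth U hU p ⊤

theorem full_faithful {Z : Scheme.{u}} (p : Z ⟶ X) [Flat p] :
    (FEt.restrict (p ⁻¹ᵁ U).ι).Full ∧ (FEt.restrict (p ⁻¹ᵁ U).ι).Faithful := by
  refine Pi1A.FEtHom.full_faithful_of_bijective_app _ fun T V => ?_
  rw [Pi1A.DepthTwo.bijective_app_iff, Pi1A.DepthPunctured.proj_opensRange]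
  have : Etale T.hom := T.prop.2
  exact Pi1A.DepthSpread.bijective_res_of_depth U hU (T.hom ≫ p) V

end Depth

theorem isPullback_preimage {X Y : Scheme.{u}} (f : X ⟶ Y) (U : Y.Opens) :
    IsPullback (f ∣_ U) (f ⁻¹ᵁ U).ι U.ι f := isPullback_morphismRestrict f U

/-- Purity of a pair restricts to open immersions. -/
theorem isEquivalence_of_isPurePair {X Y : Scheme.{u}} (U : X.Opens) (h : SGA2.IsPurePair X U)
    (g : Y ⟶ X) [IsOpenImmersion g] : (FEt.restrict (g ⁻¹ᵁ U).ι).IsEquivalence := by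
  refine Pi1A.FEtGlue.isEquivalence_of_arrowIso ?_ (h g.opensRange)
  exact arrowIso (isPullback_preimage g U) (isPullback_opens_inf g.opensRange U).flip
    g.isoOpensRange (by simp)

/-- The ring map to global sections is finite étale iff the corresponding morphism of spectra is. -/
theorem prop_spec_iff {R S : CommRingCat.{u}} (φ : R ⟶ S) :
    FEt.prop (Spec.map φ) ↔ φ.hom.Finite ∧ φ.hom.Etale :=
  and_congr (IsFinite.SpecMap_iff φ) (HasRingHomProperty.Spec_iff (P := @Etale))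

open Picfga.FiniteDescent in
instance descendsAlong_prop : MorphismProperty.DescendsAlong FEt.prop.{u}
    (@Surjective ⊓ @Flat ⊓ @QuasiCompact : MorphismProperty Scheme.{u}) := by
  unfold FEt.prop
  infer_instance

/-- Flat base change of global sections over affine schemes. -/
theorem isPullback_toΓ {R S : CommRingCat.{u}} {P Y : Scheme.{u}} {φ : R ⟶ S}
    {g : Y ⟶ Spec R} {fst : P ⟶ Spec S} {snd : P ⟶ Y} (H : IsPullback fst snd (Spec.map φ) g)
    [CompactSpace Y] [QuasiSeparatedSpace Y] [Flat (Spec.map φ)] :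
    IsPullback (Spec.map (CommRingCat.ofHom (toΓ fst))) (Spec.map snd.appTop) (Spec.map φ)
      (Spec.map (CommRingCat.ofHom (toΓ g))) := by
  have h := Picfga.FiniteDescent.isPullback_SpecMap_appTop_of_flat H
  refine h.of_iso (Iso.refl _) (asIso (Spec.map (Scheme.ΓSpecIso S).inv)) (Iso.refl _)
    (asIso (Spec.map (Scheme.ΓSpecIso R).inv)) ?_ ?_ ?_ ?_
  · simp only [Iso.refl_hom, Category.id_comp, asIso_hom]
    rw [← Spec.map_comp]
    rfl
  · simp
  · simp only [asIso_hom]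
    rw [← Spec.map_comp, ← Spec.map_comp]
    congr 1
    exact (Scheme.ΓSpecIso_inv_naturality φ).symm
  · simp only [Iso.refl_hom, Category.id_comp, asIso_hom]
    rw [← Spec.map_comp]
    rfl

section Main

variable {X X₁ : Scheme.{u}} [IsLocallyNoetherian X] (U : X.Opens)
  (hU : ∀ x : X, x ∉ U → (2 : ℕ∞) ≤ LocCoh.depth (X.presheaf.stalk x) (X.presheaf.stalk x))
  (f : X₁ ⟶ X) [Flat f] [Surjective f] [QuasiCompact f] (h : SGA2.IsPurePair X₁ (f ⁻¹ᵁ U))

include hU h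

omit [Surjective f] [QuasiCompact f] in
theorem finiteEtale_chart {R B : CommRingCat.{u}} (g : Spec R ⟶ X) [IsOpenImmersion g]
    (W : FEt.Cat (g ⁻¹ᵁ U : Scheme.{u})) {X' : Scheme.{u}} (f' : X' ⟶ Spec R) (g' : X' ⟶ X₁)
    (H : IsPullback g' f' f g) (k : Spec B ⟶ X') [IsOpenImmersion k] :
    FEt.prop (pullback.snd (pullback.fst f'
      (Spec.map (CommRingCat.ofHom (toΓ (W.hom ≫ (g ⁻¹ᵁ U).ι))))) k) := by
  have hW : IsFinite W.hom := W.prop.1
  have : IsLocallyNoetherian (Spec R) := isLocallyNoetherian_of_isOpenImmersion g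
  have hN : IsNoetherian (Spec R) := {}
  have hc : CompactSpace (g ⁻¹ᵁ U : (Spec R).Opens) :=
    isCompact_iff_compactSpace.mp (TopologicalSpace.NoetherianSpace.isCompact _)
  have hcW : CompactSpace W.left :=
    QuasiCompact.compactSpace_of_compactSpace (Y := (g ⁻¹ᵁ U : (Spec R).Opens)) W.hom
  have hqW : QuasiSeparatedSpace W.left :=
    quasiSeparatedSpace_of_quasiSeparated (Y := Spec R) (W.hom ≫ (g ⁻¹ᵁ U).ι)
  have hcW' : CompactSpace ((𝟭 Scheme.{u}).obj W.left : Scheme.{u}) := hcW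
  have hqW' : QuasiSeparatedSpace ((𝟭 Scheme.{u}).obj W.left : Scheme.{u}) := hqW
  set q := Spec.map (CommRingCat.ofHom (toΓ (W.hom ≫ (g ⁻¹ᵁ U).ι))) with hq
  have hf' : Flat f' := MorphismProperty.of_isPullback H inferInstance
  have hg' : IsOpenImmersion g' := MorphismProperty.of_isPullback H.flip inferInstance
  obtain ⟨φ, hφ⟩ : ∃ φ, Spec.map φ = k ≫ f' := ⟨_, Spec.map_preimage _⟩
  have hflat : Flat (Spec.map φ) := by rw [hφ]; infer_instance
  -- the pullback of `W`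
  let UB := Spec.map φ ⁻¹ᵁ (g ⁻¹ᵁ U)
  let WB : FEt.Cat (UB : Scheme.{u}) := (FEt.restrict (Spec.map φ ∣_ (g ⁻¹ᵁ U))).obj W
  have H1 : IsPullback (pullback.fst W.hom (Spec.map φ ∣_ (g ⁻¹ᵁ U))) WB.hom W.hom
      (Spec.map φ ∣_ (g ⁻¹ᵁ U)) := IsPullback.of_hasPullback _ _
  have H2 := isPullback_preimage (Spec.map φ) (g ⁻¹ᵁ U)
  have H3 : IsPullback (pullback.fst W.hom (Spec.map φ ∣_ (g ⁻¹ᵁ U))) (WB.hom ≫ UB.ι)
      (W.hom ≫ (g ⁻¹ᵁ U).ι) (Spec.map φ) := H1.paste_vert H2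
  have H4 := isPullback_toΓ H3.flip
  -- `WB` extends
  have hcB : CompactSpace UB := isCompact_iff_compactSpace.mp
    (QuasiCompact.isCompact_preimage (f := Spec.map φ) _ (g ⁻¹ᵁ U).2 (isCompact_iff_compactSpace.mpr hc))
  have hUB : IsIso UB.ι.appTop := isIso_appTop U hU (Spec.map φ ≫ g)
  have hUB' : UB = (k ≫ g') ⁻¹ᵁ (f ⁻¹ᵁ U) := by
    change (Spec.map φ ≫ g) ⁻¹ᵁ U = ((k ≫ g') ≫ f) ⁻¹ᵁ U
    have : Spec.map φ ≫ g = (k ≫ g') ≫ f := by
      rw [hφ, Category.assoc, Category.assoc, H.w]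
    rw [this]
  have hE : (FEt.restrict UB.ι).IsEquivalence := by
    rw [hUB']
    exact isEquivalence_of_isPurePair (f ⁻¹ᵁ U) h _
  have h5 := (Pi1C.FEtExtend.ext_iff UB hUB WB).mp
    ⟨(FEt.restrict UB.ι).objPreimage WB, ⟨(FEt.restrict UB.ι).objObjPreimageIso WB⟩⟩
  have h6 : FEt.prop (Spec.map (CommRingCat.ofHom (toΓ (WB.hom ≫ UB.ι)))) :=
    (prop_spec_iff _).mpr h5
  -- conclusion
  have H7 : IsPullback (pullback.fst (pullback.fst f' q) k ≫ pullback.snd f' q)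
      (pullback.snd (pullback.fst f' q) k) q (k ≫ f') :=
    (IsPullback.of_hasPullback (pullback.fst f' q) k).paste_horiz
      (IsPullback.of_hasPullback f' q).flip
  rw [← hφ] at H7
  have e := arrowIso H7 H4.flip (Iso.refl _) (by simp)
  exact (MorphismProperty.arrow_iso_iff FEt.prop e).mpr h6

theorem finiteEtale {R : CommRingCat.{u}} (g : Spec R ⟶ X) [IsOpenImmersion g]
    (W : FEt.Cat (g ⁻¹ᵁ U : Scheme.{u})) :
    FEt.prop (Spec.map (CommRingCat.ofHom (toΓ (W.hom ≫ (g ⁻¹ᵁ U).ι)))) := by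
  refine MorphismProperty.of_pullback_fst_of_descendsAlong
    (P := FEt.prop) (Q := @Surjective ⊓ @Flat ⊓ @QuasiCompact) (f := pullback.snd f g)
    ⟨⟨inferInstance, inferInstance⟩, inferInstance⟩ ?_
  rw [IsZariskiLocalAtTarget.iff_of_openCover (P := FEt.prop)
    (pullback f g).affineOpenCover.openCover]
  intro i
  exact finiteEtale_chart U hU f h g W _ _ (IsPullback.of_hasPullback f g)
    ((pullback f g).affineOpenCover.f i)

theorem isEquivalence_spec {R : CommRingCat.{u}} (g : Spec R ⟶ X) [IsOpenImmersion g] :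
    (FEt.restrict (g ⁻¹ᵁ U).ι).IsEquivalence := by
  have : IsLocallyNoetherian (Spec R) := isLocallyNoetherian_of_isOpenImmersion g
  have hN : IsNoetherian (Spec R) := {}
  have hc : CompactSpace (g ⁻¹ᵁ U : (Spec R).Opens) :=
    isCompact_iff_compactSpace.mp (TopologicalSpace.NoetherianSpace.isCompact _)
  have h1 := full_faithful U hU g
  exact
    { full := h1.1
      faithful := h1.2
      essSurj := ⟨fun W => by
        obtain ⟨Y, hY⟩ := (Pi1C.FEtExtend.ext_iff (g ⁻¹ᵁ U) (isIso_appTop U hU g) W).mpr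
          ((prop_spec_iff _).mp (finiteEtale U hU f h g W))
        exact ⟨Y, hY⟩⟩ }

theorem isPurePair : SGA2.IsPurePair X U := by
  intro V
  refine Pi1A.FEtGlue.isEquivalence_of_affineOpens _ fun T => ?_
  refine Pi1A.FEtGlue.isEquivalence_of_arrowIso ?_ (isEquivalence_spec U hU f h (T.2.fromSpec ≫ V.ι))
  exact arrowIso ((isPullback_preimage (X.homOfLE (inf_le_left : V ⊓ U ≤ V)) T.1).flip.paste_horiz
    (isPullback_opens_inf V U).flip)
    (isPullback_preimage (T.2.fromSpec ≫ V.ι) U) T.2.isoSpec (by simp)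

end Main

end Groth.Agent.Sga2.PureDescent
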