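import Groth.Agent.Sga2.GrLoc
import Mathlib.RingTheory.Smooth.Fiber
import Mathlib.RingTheory.Unramified.Basic
import Mathlib.RingTheory.Kaehler.TensorProduct
import Mathlib.LinearAlgebra.TensorProduct.Quotient
import Mathlib.RingTheory.Finiteness.ModuleFinitePresentation

/-!
SGA 2 XII 4.7, purity: algebra. A finite free algebra over a local ring `A` whose reduction modulo a proper ideal `J`
is étale is étale; sections of a finite étale cover of the punctured spectrum.
-/

set_option autoImplicit false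

namespace Groth.Agent.Sga2.FEtAlg

universe u v w

open TensorProduct Groth.Agent.Sga2.GrLoc Groth.Agent.Sga2.GrReg Groth.Agent.Sga2.GrKey

theorem subsingleton_of_quotient {A M : Type*} [CommRing A] [IsLocalRing A] [AddCommGroup M]
    [Module A M] [Module.Finite A M] (J : Ideal A) (hJ : J ≠ ⊤) (h : Subsingleton ((A ⧸ J) ⊗[A] M)) :
    Subsingleton M := by
  have e := TensorProduct.quotTensorEquivQuotSMul M J
  have h1 : Subsingleton (M ⧸ J • (⊤ : Submodule A M)) := e.symm.injective.subsingleton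
  rw [Submodule.Quotient.subsingleton_iff] at h1
  have h2 : (⊤ : Submodule A M) = ⊥ := by
    refine Submodule.eq_bot_of_le_smul_of_le_jacobson_bot J ⊤ Module.Finite.fg_top h1.ge ?_
    rw [IsLocalRing.jacobson_eq_maximalIdeal ⊥ bot_ne_top]
    exact IsLocalRing.le_maximalIdeal hJ
  exact (Submodule.subsingleton_iff A).mp (subsingleton_iff_bot_eq_top.mp h2.symm)

theorem formallyUnramified_of_quotient {A R B : Type u} [CommRing A] [IsLocalRing A] [CommRing R]
    [Algebra A R] [Module.Finite A R] (J : Ideal A) (hJ : J ≠ ⊤) [CommRing B] [Algebra (A ⧸ J) B]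
    [Algebra.FormallyUnramified (A ⧸ J) B] (ψ : R →+* B)
    (hψ : ∀ a, ψ (algebraMap A R a) = algebraMap (A ⧸ J) B (Ideal.Quotient.mk J a))
    (hs : Function.Surjective ψ) (hk : ∀ x, ψ x = 0 → x ∈ J • (⊤ : Submodule A R)) :
    Algebra.FormallyUnramified A R := by
  let _ : Algebra A B := ((algebraMap (A ⧸ J) B).comp (algebraMap A (A ⧸ J))).toAlgebra
  have : IsScalarTower A (A ⧸ J) B := IsScalarTower.of_algebraMap_eq fun a => rfl
  let ψ' : R →ₐ[A] B := { ψ with commutes' := fun a => hψ a }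
  let Φ : (A ⧸ J) ⊗[A] R →ₐ[A ⧸ J] B :=
    Algebra.TensorProduct.lift (Algebra.ofId _ _) ψ' (fun _ _ => Commute.all _ _)
  have hΦ : Function.Bijective Φ := by
    constructor
    · rw [injective_iff_map_eq_zero]
      intro t ht
      obtain ⟨x, rfl⟩ := TensorProduct.mk_surjective A R (A ⧸ J) Ideal.Quotient.mk_surjective t
      rw [TensorProduct.mk_apply] at ht ⊢
      have h1 : ψ x = 0 := by
        have := ht
        simpa [Φ, ψ'] using this
      have h2 := hk x h1
      induction h2 using Submodule.smul_induction_on' with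
      | smul j hj x _ =>
        rw [tmul_smul, smul_tmul']
        have : (j • (1 : A ⧸ J)) = 0 := by
          rw [Algebra.smul_def, mul_one]
          exact Ideal.Quotient.eq_zero_iff_mem.mpr hj
        rw [this, zero_tmul]
      | add x hx y hy ih1 ih2 =>
        have key : ∀ z ∈ J • (⊤ : Submodule A R), ψ z = 0 := by
          intro z hz
          induction hz using Submodule.smul_induction_on' with
          | smul j hj x _ =>
            rw [Algebra.smul_def, map_mul, hψ, Ideal.Quotient.eq_zero_iff_mem.mpr hj, map_zero,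
              zero_mul]
          | add x _ y _ h1 h2 => rw [map_add, h1, h2, add_zero]
        have e : ∀ z, Φ (1 ⊗ₜ z) = ψ z := fun z => by simp [Φ, ψ']
        rw [tmul_add, ih1 (by rw [e, key x hx]) (key x hx), ih2 (by rw [e, key y hy]) (key y hy),
          add_zero]
    · intro b
      obtain ⟨x, rfl⟩ := hs b
      exact ⟨1 ⊗ₜ x, by simp [Φ, ψ']⟩
  have h1 : Algebra.FormallyUnramified (A ⧸ J) ((A ⧸ J) ⊗[A] R) :=
    Algebra.FormallyUnramified.of_equiv (AlgEquiv.ofBijective Φ hΦ).symm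
  let _ : Algebra R ((A ⧸ J) ⊗[A] R) := Algebra.TensorProduct.rightAlgebra
  have h2 : Subsingleton (Ω[(A ⧸ J) ⊗[A] R⁄(A ⧸ J)]) := inferInstance
  have h3 : Subsingleton ((A ⧸ J) ⊗[A] Ω[R⁄A]) :=
    (KaehlerDifferential.tensorKaehlerEquivBase A (A ⧸ J) R ((A ⧸ J) ⊗[A] R)).injective.subsingleton
  have h4 : Module.Finite A (Ω[R⁄A]) := Module.Finite.trans R _
  exact ⟨subsingleton_of_quotient J hJ h3⟩

theorem etale_of_quotient {A R B : Type u} [CommRing A] [IsLocalRing A] [CommRing R]
    [Algebra A R] [Module.Finite A R] [Module.Free A R] (J : Ideal A) (hJ : J ≠ ⊤) [CommRing B]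
    [Algebra (A ⧸ J) B]
    [Algebra.FormallyUnramified (A ⧸ J) B] (ψ : R →+* B)
    (hψ : ∀ a, ψ (algebraMap A R a) = algebraMap (A ⧸ J) B (Ideal.Quotient.mk J a))
    (hs : Function.Surjective ψ) (hk : ∀ x, ψ x = 0 → x ∈ J • (⊤ : Submodule A R)) :
    Algebra.Etale A R := by
  have := formallyUnramified_of_quotient J hJ ψ hψ hs hk
  have : Algebra.FinitePresentation A R := by
    have : Module.FinitePresentation A R := Module.finitePresentation_of_projective A R
    infer_instance
  exact Algebra.Etale.of_formallyUnramified_of_flat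

/-- the sections `R` of a finite étale cover of the punctured spectrum. -/
theorem finiteEtale_of_punctured {A : Type u} [CommRing A] [IsLocalRing A] [IsNoetherianRing A]
    {J : Ideal A} (hJ : J ≠ ⊤) {x y z : A} (h : Reg3 (A ⧸ J) x y z)
    (hfree : ∀ n, Module.Free (A ⧸ J) (↥(J ^ n) ⧸ (J • (⊤ : Submodule A ↥(J ^ n)))))
    {R : Type u} [CommRing R] [Algebra A R] {B : Type u} [CommRing B] [Algebra (A ⧸ J) B]
    [Algebra.FormallyUnramified (A ⧸ J) B] (ψ : R →+* B)
    (hψ : ∀ a, ψ (algebraMap A R a) = algebraMap (A ⧸ J) B (Ideal.Quotient.mk J a))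
    {r : ℕ} (b : Module.Basis (Fin r) (A ⧸ J) B)
    {ι : Type*} [Finite ι] (g : ι → A)
    (hx : x ∈ (Ideal.span (Set.range g)).radical) (hy : y ∈ (Ideal.span (Set.range g)).radical)
    (hz : z ∈ (Ideal.span (Set.range g)).radical)
    (M' : ι → Type w) [∀ i, AddCommGroup (M' i)] [∀ i, Module A (M' i)]
    (f : ∀ i, R →ₗ[A] M' i) (hf : ∀ i, IsLocalizedModule.Away (g i) (f i))
    (l : ∀ i, (Fin r → A) →ₗ[A] M' i) (hl : ∀ i, IsLocalizedModule.Away (g i) (l i))
    (hker : ∀ i (m : R), ψ m = 0 → ∃ s : ℕ, g i ^ s • m ∈ J • (⊤ : Submodule A R))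
    (hcok : ∀ i (v : B), ∃ (s : ℕ) (m : R), ψ m = (Ideal.Quotient.mk J (g i)) ^ s • v)
    (hinj : ∀ m : R, (∀ i, ∃ s : ℕ, g i ^ s • m = 0) → m = 0)
    (hglue : ∀ (s : ι → ℕ) (m : ι → R), (∀ i j, g j ^ s j • m i = g i ^ s i • m j) →
      ∃ m' : R, ∀ i, ∃ t : ℕ, g i ^ t • (g i ^ s i • m' - m i) = 0) :
    Module.Finite A R ∧ Algebra.Etale A R := by
  let _ : Algebra A B := ((algebraMap (A ⧸ J) B).comp (algebraMap A (A ⧸ J))).toAlgebra
  have : IsScalarTower A (A ⧸ J) B := IsScalarTower.of_algebraMap_eq fun a => rfl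
  let ψ' : R →ₐ[A] B := { ψ with commutes' := fun a => hψ a }
  have hψ' : ∀ x, ψ' x = ψ x := fun _ => rfl
  let φ₁ : R →ₗ[A] (Fin r → A ⧸ J) :=
    (b.equivFun.restrictScalars A).toLinearMap ∘ₗ ψ'.toLinearMap
  have hφ₁ : ∀ x, φ₁ x = b.equivFun (ψ x) := fun _ => rfl
  have hφ₁0 : ∀ x, φ₁ x = 0 ↔ ψ x = 0 := fun x => by
    rw [hφ₁, LinearEquiv.map_eq_zero_iff]
  have hiso : ∀ i, IsoModJ J φ₁ (g i) := by
    intro i
    refine ⟨fun m hm => hker i m ((hφ₁0 m).1 hm), fun v => ?_⟩
    obtain ⟨s, m, hm⟩ := hcok i (b.equivFun.symm v)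
    refine ⟨s, m, ?_⟩
    rw [hφ₁, hm, map_smul, LinearEquiv.apply_symm_apply]
    rfl
  obtain ⟨φ, hφ, hφi⟩ := exists_iso_off' hJ h hfree g hx hy hz M' f hf l hl φ₁ hiso
  have hbij : Function.Bijective φ := by
    have hφinj : ∀ m, φ m = 0 → m = 0 := fun m hm => hinj m fun i => (hφi i).1 m hm
    constructor
    · rw [injective_iff_map_eq_zero]
      exact hφinj
    · intro v
      have h1 := fun i => (hφi i).2 v
      choose s m hm using h1
      obtain ⟨m', hm'⟩ := hglue s m (fun i j => by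
        rw [← sub_eq_zero]
        apply hφinj
        rw [map_sub, map_smul, map_smul, hm, hm, smul_smul, smul_smul, mul_comm, sub_self])
      refine ⟨m', ?_⟩
      rw [← sub_eq_zero]
      -- `φ m' - v` is killed by powers of each `g i`
      have h2 : ∀ i, ∃ t : ℕ, g i ^ t • (φ m' - v) = 0 := by
        intro i
        obtain ⟨t, ht⟩ := hm' i
        refine ⟨t + s i, ?_⟩
        have h3 := congrArg φ ht
        rw [map_smul, map_sub, map_smul, hm, map_zero, ← smul_sub, smul_smul, ← pow_add] at h3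
        exact h3
      have h4 := (reg3_self hJ h hfree).pi (Fin r)
      obtain ⟨n, hn⟩ := GrMain.exists_pow_mem hx
        (LinearMap.ker (LinearMap.toSpanSingleton A (Fin r → A) (φ m' - v))) (fun i => by
          obtain ⟨t, ht⟩ := h2 i
          exact ⟨t, ht⟩)
      have h5 : x ^ n • (φ m' - v) = 0 := hn
      have h6 : IsSMulRegular (Fin r → A) (x ^ n) := (h4.isSMulRegular).pow n
      exact h6 (h5.trans (smul_zero _).symm)
  let e : R ≃ₗ[A] (Fin r → A) := LinearEquiv.ofBijective φ hbij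
  have hfin : Module.Finite A R := Module.Finite.equiv e.symm
  have hfr : Module.Free A R := Module.Free.of_equiv e.symm
  refine ⟨hfin, etale_of_quotient J hJ ψ hψ ?_ ?_⟩
  · intro c
    -- surjectivity
    have hv : ∃ v : Fin r → A, ∀ j, Ideal.Quotient.mk J (v j) = b.equivFun c j := by
      choose v hv using fun j => Ideal.Quotient.mk_surjective (b.equivFun c j)
      exact ⟨v, hv⟩
    obtain ⟨v, hv⟩ := hv
    obtain ⟨m, rfl⟩ := hbij.2 v
    refine ⟨m, ?_⟩
    apply b.equivFun.injective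
    rw [← hφ₁]
    ext j
    rw [← hφ, hv]
  · intro m hm
    rw [← hφ₁0] at hm
    have h1 : ∀ j, φ m j ∈ J := fun j => by
      rw [← Ideal.Quotient.eq_zero_iff_mem, hφ, hm]
      rfl
    have h2 : m = ∑ j, φ m j • e.symm (Pi.single j 1) := by
      apply e.injective
      rw [map_sum]
      have h3 : ∀ j, e (φ m j • e.symm (Pi.single j 1)) = Pi.single j (φ m j) := by
        intro j
        rw [map_smul, LinearEquiv.apply_symm_apply, ← Pi.single_smul, smul_eq_mul, mul_one]
      simp only [h3]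
      exact (Finset.univ_sum_single (φ m)).symm
    rw [h2]
    exact Submodule.sum_mem _ fun j _ => Submodule.smul_mem_smul (h1 j) trivial

end Groth.Agent.Sga2.FEtAlg
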