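import Groth.Agent.Sga2.PuncFEt
import Groth.Agent.Sga2.FEtAlg
import Groth.Agent.Sga2.IdemClopen
import Groth.Agent.Pi1C.PuncturedSections
import Groth.Agent.Pi1A.FEtAffine
import Mathlib.RingTheory.Idempotents

/-!
SGA 2 XII 4.7, purity part.
-/

set_option autoImplicit false
universe u

open CategoryTheory CategoryTheory.Limits AlgebraicGeometry Opposite TopologicalSpace

namespace Groth.Agent.Sga2.PuncPur

open Groth.Agent.Fdesc.LocGen Groth.Agent.Sga2.PuncSections Groth.Agent.Sga2.PuncRed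
  Groth.Agent.Sga2.FnSec Groth.Agent.Sga2.FreeLoc Groth.Agent.Sga2.PuncFEt

section Conn

variable {B : Type u} [CommRing B] [IsLocalRing B] (hB : (2 : ℕ∞) ≤ LocCoh.depth B B)

include hB in
theorem finrank_eq {V : Scheme.{u}} (π : V ⟶ P B) [IsFinite π] [Flat π]
    [LocallyOfFinitePresentation π] {r : ℕ} (p₀ : P B) (h₀ : π.finrank p₀ = r) (p : P B) :
    π.finrank p = r := by
  have hlc := Scheme.Hom.isLocallyConstant_finrank π
  let U : (P B).Opens := ⟨{p | π.finrank p = r}, hlc.isOpen_fiber r⟩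
  let W : (P B).Opens := ⟨{p | π.finrank p ≠ r}, (hlc.isClosed_fiber r).isOpen_compl⟩
  have h1 : U ⊔ W = ⊤ := by
    ext q
    simp only [Opens.coe_sup, Opens.coe_top, Set.mem_union, Set.mem_univ, iff_true]
    exact em (π.finrank q = r)
  have h2 : U ⊓ W = ⊥ := by
    ext q
    simp only [Opens.coe_inf, Opens.coe_bot, Set.mem_inter_iff, Set.mem_empty_iff_false, iff_false]
    rintro ⟨h3, h4⟩
    exact h4 h3
  obtain ⟨e, he⟩ := IdemClopen.exists_isInd h1 h2
  obtain ⟨b, rfl⟩ := (rho_bijective B hB).2 e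
  have hidem : b * b = b := (rho_bijective B hB).1 (by rw [map_mul, he.idem h1])
  rcases IsLocalRing.isUnit_or_isUnit_one_sub_self b with hb | hb
  · have hb1 : b = 1 := hb.mul_left_cancel (hidem.trans (mul_one b).symm)
    subst hb1
    have h3 := he.symm.left_eq_bot (by rw [map_one, sub_self])
    by_contra hp
    have h4 : p ∈ W := hp
    rw [h3] at h4
    exact h4
  · have hb0 : b = 0 := by
      have h5 : (1 - b) * b = 0 := by rw [sub_mul, hidem, one_mul, sub_self]
      exact hb.mul_right_eq_zero.mp h5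
    subst hb0
    have h3 := he.left_eq_bot (map_zero _)
    have h4 : p₀ ∈ U := h₀
    rw [h3] at h4
    exact h4.elim

include hB in
theorem nonempty_P : Nonempty (P B) := by
  by_contra hne
  rw [not_nonempty_iff] at hne
  have : Subsingleton Γ(P B, ⊤) := by
    have h1 : (⊤ : (P B).Opens) = ⊥ := by
      ext q
      exact (hne.false q).elim
    rw [h1]
    infer_instance
  have h2 := (rho_bijective B hB).1 (Subsingleton.elim (rho B 0) (rho B 1))
  exact zero_ne_one h2

open Pi1A.FEtAffine in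
include hB in
/-- the sections of a cover which extends. -/
theorem exists_sections (T : FEt.Cat (P B))
    (hT : ∃ S : FEt.Cat (Spec (.of B)),
      Nonempty ((FEt.restrict (FEt.puncturedSpec B).ι).obj S ≅ T)) :
    ∃ (C : Type u) (_ : CommRing C) (_ : Algebra B C) (_ : Module.Finite B C)
      (_ : Algebra.Etale B C) (ψ : C →+* Γ(T.left, ⊤)), Function.Bijective ψ ∧
      ∀ b, ψ (algebraMap B C b) = rhoV T.hom b := by
  obtain ⟨S, ⟨i⟩⟩ := hT
  obtain ⟨C, _, _, _, _, ⟨j⟩⟩ := exists_iso_ofAlgebra S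
  let i' : (FEt.restrict (FEt.puncturedSpec B).ι).obj (ofAlgebra B C) ≅ T :=
    (FEt.restrict (FEt.puncturedSpec B).ι).mapIso j.symm ≪≫ i
  let w : T.left ⟶ Spec (.of C) := i'.inv.left ≫ proj (FEt.puncturedSpec B).ι (ofAlgebra B C)
  have hw : w ≫ Spec.map (CommRingCat.ofHom (algebraMap B C)) = T.hom ≫ (FEt.puncturedSpec B).ι := by
    have h1 := (isPullback (FEt.puncturedSpec B).ι (ofAlgebra B C)).w
    rw [Category.assoc]
    refine (congrArg (i'.inv.left ≫ ·) h1).trans ?_
    rw [← Category.assoc, hom_w]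
  have hbij : Function.Bijective w.appTop := by
    have h2 : Function.Bijective (proj (FEt.puncturedSpec B).ι (ofAlgebra B C)).appTop :=
      Pi1A.DepthPunctured.bijective_proj_app B hB (ofAlgebra B C) ⊤
    let t : T.left ⟶ ((FEt.restrict (FEt.puncturedSpec B).ι).obj (ofAlgebra B C)).left := i'.inv.left
    have h3 : IsIso t := by
      refine ⟨i'.hom.left, ?_, ?_⟩
      · exact congrArg (fun f : T ⟶ T => f.left) i'.inv_hom_id
      · exact congrArg (fun f : (FEt.restrict (FEt.puncturedSpec B).ι).obj (ofAlgebra B C) ⟶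
          (FEt.restrict (FEt.puncturedSpec B).ι).obj (ofAlgebra B C) => f.left) i'.hom_inv_id
    have h4 : IsIso t.appTop := inferInstanceAs (IsIso (t.app ⊤))
    have h5 : Function.Bijective t.appTop := ConcreteCategory.bijective_of_isIso _
    have h6 : w.appTop = (proj (FEt.puncturedSpec B).ι (ofAlgebra B C)).appTop ≫
        t.appTop := Scheme.Hom.comp_appTop _ _
    rw [h6]
    exact h5.comp h2
  let ψ : CommRingCat.of C ⟶ Γ(T.left, ⊤) := (Scheme.ΓSpecIso (.of C)).inv ≫ w.appTop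
  refine ⟨C, inferInstance, inferInstance, inferInstance, inferInstance, ψ.hom, ?_, ?_⟩
  · exact hbij.comp (ConcreteCategory.bijective_of_isIso (Scheme.ΓSpecIso (.of C)).inv)
  · intro b
    have h1 := congr($(congrArg Scheme.Hom.appTop hw) ((Scheme.ΓSpecIso (.of B)).inv b))
    rw [Scheme.Hom.comp_appTop, Scheme.Hom.comp_appTop] at h1
    have h2 := congr($(Scheme.ΓSpecIso_inv_naturality (CommRingCat.ofHom (algebraMap B C))) b)
    refine Eq.trans ?_ h1
    exact congrArg w.appTop h2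

end Conn

section Sections

variable {B : Type u} [CommRing B] [IsLocalRing B]

/-- `V = Spec Γ(V) ×_{Spec B} P B`. -/
theorem isPullback_sections {V : Scheme.{u}} [CompactSpace V] [QuasiSeparatedSpace V]
    (π : V ⟶ P B) [IsAffineHom π] :
    IsPullback V.toSpecΓ π (Spec.map (CommRingCat.ofHom (rhoV π))) (FEt.puncturedSpec B).ι := by
  have h := Pi1C.PuncturedSections.isPullback_toSpecΓ (A := CommRingCat.of B)
    (U := FEt.puncturedSpec B) π
  have e : (Scheme.ΓSpecIso (CommRingCat.of B)).inv ≫ (π ≫ (FEt.puncturedSpec B).ι).appTop =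
      CommRingCat.ofHom (rhoV π) := by
    rw [Scheme.Hom.comp_appTop]
    rfl
  rw [e] at h
  exact h

open Pi1A.FEtAffine in
theorem exists_extension (T : FEt.Cat (P B)) [CompactSpace T.left] [QuasiSeparatedSpace T.left]
    (h1 : (rhoV T.hom).Finite) (h2 : (rhoV T.hom).Etale) :
    ∃ S : FEt.Cat (Spec (.of B)), Nonempty ((FEt.restrict (FEt.puncturedSpec B).ι).obj S ≅ T) := by
  have : IsFinite T.hom := T.prop.1
  let _ : Algebra B Γ(T.left, ⊤) := (rhoV T.hom).toAlgebra
  have h1' : Module.Finite B Γ(T.left, ⊤) := h1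
  have h2' : Algebra.Etale B Γ(T.left, ⊤) := h2
  refine ⟨ofAlgebra B Γ(T.left, ⊤), ⟨?_⟩⟩
  have H := isPullback_sections (V := T.left) T.hom
  have H' := isPullback (FEt.puncturedSpec B).ι (ofAlgebra B Γ(T.left, ⊤))
  refine isoMk (H'.isoIsPullback _ _ H) ?_
  exact IsPullback.isoIsPullback_hom_snd _ _ H' H

theorem finrank_eq_of_sections {V : Scheme.{u}} [CompactSpace V] [QuasiSeparatedSpace V]
    (π : V ⟶ P B) [IsAffineHom π] {C : Type u} [CommRing C] [Algebra B C] [Module.Finite B C]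
    [Module.Free B C] (ψ : C →+* Γ(V, ⊤)) (hψ : Function.Bijective ψ)
    (h : ∀ b, ψ (algebraMap B C b) = rhoV π b) (p : P B) :
    π.finrank p = Module.finrank B C := by
  have H := isPullback_sections π
  let ψ' : CommRingCat.of C ≅ Γ(V, ⊤) := (RingEquiv.ofBijective ψ hψ).toCommRingCatIso
  have e : CommRingCat.ofHom (rhoV π) = CommRingCat.ofHom (algebraMap B C) ≫ ψ'.hom := by
    ext b
    exact (h b).symm
  have H' : IsPullback (V.toSpecΓ ≫ Spec.map ψ'.hom) π
      (Spec.map (CommRingCat.ofHom (algebraMap B C))) (FEt.puncturedSpec B).ι := by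
    refine IsPullback.of_iso H (Iso.refl _) (Scheme.Spec.mapIso ψ'.op) (Iso.refl _) (Iso.refl _)
      ?_ ?_ ?_ ?_
    · simp
    · simp
    · rw [e, Spec.map_comp]
      simp
    · simp
  have hfin : IsFinite (Spec.map (CommRingCat.ofHom (algebraMap B C))) :=
    (IsFinite.SpecMap_iff _).mpr (RingHom.finite_algebraMap.mpr inferInstance)
  have hflat : Flat (Spec.map (CommRingCat.ofHom (algebraMap B C))) :=
    Flat.SpecMap_iff.mpr (RingHom.flat_algebraMap_iff.mpr inferInstance)
  rw [Scheme.Hom.finrank_of_isPullback _ _ _ _ H' p, Scheme.Hom.finrank_SpecMap_algebraMap,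
    Module.rankAtStalk_eq_finrank_of_free]
  rfl

end Sections

section Main

open Pi1A.FEtAffine

theorem purityHolds (A : Type u) [CommRing A] [IsLocalRing A] [IsNoetherianRing A] (J : Ideal A)
    (hJ : J ≠ ⊤) [IsLocalRing (A ⧸ J)] (hd : (3 : ℕ∞) ≤ LocCoh.depth (A ⧸ J) (A ⧸ J))
    (hgr : ∀ n : ℕ, Module.Free (A ⧸ J) (↥(J ^ n) ⧸ (J • (⊤ : Submodule A ↥(J ^ n)))))
    (h0 : FEt.PurityHolds (A ⧸ J)) : FEt.PurityHolds A := by
  have hdA : (3 : ℕ∞) ≤ LocCoh.depth A A := GrLoc.depth_ge_three_of_quot hJ hd hgr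
  have h23 : (2 : ℕ∞) ≤ 3 := by decide
  obtain ⟨x, hx, y, hy, z, hz, hreg⟩ := GrLoc.exists_reg3_quot hd
  refine ⟨fun T => ?_⟩
  change ∃ S : FEt.Cat (Spec (.of A)), Nonempty ((FEt.restrict (FEt.puncturedSpec A).ι).obj S ≅ T)
  let T₀ : FEt.Cat (P (A ⧸ J)) := (FEt.restrict (inc A J)).obj T
  let κ : T₀.left ⟶ T.left := proj (inc A J) T
  let π : T.left ⟶ P A := T.hom
  let π₀ : T₀.left ⟶ P (A ⧸ J) := T₀.hom
  have hπf : IsFinite π := T.prop.1
  have hπe : Etale π := T.prop.2
  have hπf' : IsFinite π₀ := T₀.prop.1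
  have hπe' : Etale π₀ := T₀.prop.2
  have H : IsPullback κ π₀ π (inc A J) := isPullback (inc A J) T
  have c1 := compactSpace_P A
  have c2 := compactSpace_P (A ⧸ J)
  have q1 : CompactSpace T.left := QuasiCompact.compactSpace_of_compactSpace π
  have q2 : CompactSpace T₀.left := QuasiCompact.compactSpace_of_compactSpace π₀
  have s1 : QuasiSeparatedSpace T.left := quasiSeparatedSpace_of_quasiSeparated π
  have s2 : QuasiSeparatedSpace T₀.left := quasiSeparatedSpace_of_quasiSeparated π₀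
  have hT₀ : ∃ S : FEt.Cat (Spec (.of (A ⧸ J))),
      Nonempty ((FEt.restrict (FEt.puncturedSpec (A ⧸ J)).ι).obj S ≅ T₀) := h0.mem_essImage T₀
  obtain ⟨C, _, _, _, _, ψ, hψ, hψc⟩ := exists_sections (h23.trans hd) T₀ hT₀
  have hfree : Module.Free (A ⧸ J) C := by
    have : Module.Flat (A ⧸ J) C := inferInstance
    exact Module.free_of_flat_of_isLocalRing
  obtain ⟨p₀⟩ := nonempty_P (h23.trans hd)
  have hr : ∀ p, π.finrank p = Module.finrank (A ⧸ J) C := by
    refine finrank_eq (h23.trans hdA) π (inc A J p₀) ?_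
    rw [← Scheme.Hom.finrank_of_isPullback _ _ _ _ H p₀]
    exact finrank_eq_of_sections π₀ ψ hψ hψc p₀
  obtain ⟨ι, _, g, hgm, hcov, hl⟩ := exists_cover_gens π hr
  choose l hl using hl
  let e := RingEquiv.ofBijective ψ hψ
  let Ψ : Fn (rhoV π) ⊤ →+* C := e.symm.toRingHom.comp
    (κ.appTop.hom.comp (toFn (rhoV π) ⊤).symm.toRingHom)
  have hΨ : ∀ m, ψ (Ψ m) = κ.appTop ((toFn (rhoV π) ⊤).symm m) := fun m => e.apply_symm_apply _
  have hcV : (⊤ : T.left.Opens) ≤ ⨆ i, T.left.basicOpen (rhoV π (g i)) := by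
    intro v _
    obtain ⟨i, hi⟩ := Opens.mem_iSup.mp (hcov (trivial : π v ∈ (⊤ : (P A).Opens)))
    refine Opens.mem_iSup.mpr ⟨i, ?_⟩
    rw [basicOpen_rhoV]
    exact hi
  have key := FEtAlg.finiteEtale_of_punctured hJ hreg hgr (R := Fn (rhoV π) ⊤) Ψ (fun a => hψ.1 (by
      rw [hΨ, hψc, algebraMap_top, RingEquiv.symm_apply_apply]
      exact kappa_rhoV H a)) (Module.finBasis (A ⧸ J) C) g
    (mem_radical_of_cover A g hcov x hx) (mem_radical_of_cover A g hcov y hy)
    (mem_radical_of_cover A g hcov z hz)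
    (fun i => Fn (rhoV π) (π ⁻¹ᵁ (P A).basicOpen (rho A (g i))))
    (fun i => (resF (rhoV π) (le_top : π ⁻¹ᵁ (P A).basicOpen (rho A (g i)) ≤ ⊤)).toLinearMap)
    (fun i => isLocalizedModule_resF (rhoV π) (g i) (basicOpen_rhoV π (g i)).symm) l hl
    (fun i m hm => exists_pow_smul_mem H (hgm i) m (by rw [← hΨ, hm, map_zero]))
    (fun i v => by
      obtain ⟨s, m, hm⟩ := exists_appTop_eq H (hgm i) (toFn (rhoV π₀) ⊤ (ψ v))
      refine ⟨s, m, hψ.1 ?_⟩
      rw [hΨ]
      have h1 := (toFn (rhoV π₀) ⊤).injective (hm.trans (smul_eq _ _ _ _))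
      rw [h1, Algebra.smul_def, map_mul, hψc, RingEquiv.symm_apply_apply, resA, RingHom.comp_apply,
        ores_refl])
    (eq_zero_of_cover (rhoV π) g hcV) (exists_glue (rhoV π) g hcV)
  have e1 : resA (rhoV π) ⊤ = rhoV π := by
    ext a
    exact ores_refl _
  refine exists_extension T ?_ ?_
  · have h1 : (resA (rhoV π) ⊤).Finite := key.1
    rw [e1] at h1
    exact h1
  · have h1 : (resA (rhoV π) ⊤).Etale := key.2
    rw [e1] at h1
    exact h1

end Main

end Groth.Agent.Sga2.PuncPur
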