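import Groth.Agent.Sga2.GrMain
import Mathlib.Algebra.Module.LocalizedModule.Away
import Mathlib.Algebra.Module.FinitePresentation

/-!
SGA 2 XII 4.7, algebraic core, part 3: version of `exists_iso_off` for modules of sections `T` over the punctured
spectrum (not assumed finite), whose localizations at `g i` are free of rank `r`.
Also: depth of `A` from depth of `A/J`.
-/

set_option autoImplicit false

namespace Groth.Agent.Sga2.GrLoc

universe u v w

open Groth.Agent.Sga2.GrLift Groth.Agent.Sga2.GrReg Groth.Agent.Sga2.GrKey Groth.Agent.Sga2.GrMain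

variable {A : Type u} [CommRing A]

theorem freeAt_of_isLocalizedModule [IsNoetherianRing A] {M : Type v} [AddCommGroup M] [Module A M]
    [Module.Finite A M] {r : ℕ} {h : A} {M' : Type*} [AddCommGroup M'] [Module A M']
    (f : M →ₗ[A] M') [IsLocalizedModule.Away h f] (l : (Fin r → A) →ₗ[A] M')
    [IsLocalizedModule.Away h l] : FreeAt M r h := by
  have : Module.FinitePresentation A M := Module.finitePresentation_of_finite A M
  obtain ⟨β, ⟨_, s, rfl⟩, hβ⟩ :=
    Module.FinitePresentation.exists_lift_of_isLocalizedModule (Submonoid.powers h) l f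
  obtain ⟨α, ⟨_, t, rfl⟩, hα⟩ :=
    Module.FinitePresentation.exists_lift_of_isLocalizedModule (Submonoid.powers h) f l
  have hβ' : ∀ m, l (β m) = h ^ s • f m := fun m => LinearMap.congr_fun hβ m
  have hα' : ∀ v, f (α v) = h ^ t • l v := fun v => LinearMap.congr_fun hα v
  obtain ⟨⟨_, p, rfl⟩, hp⟩ := Module.Finite.exists_smul_of_comp_eq_of_isLocalizedModule
    (Submonoid.powers h) f (α ∘ₗ β) (h ^ (s + t) • LinearMap.id) (by
      ext m
      simp only [LinearMap.comp_apply, LinearMap.smul_apply, LinearMap.id_apply, map_smul]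
      rw [hα', hβ', smul_smul, pow_add, mul_comm])
  obtain ⟨⟨_, q, rfl⟩, hq⟩ := Module.Finite.exists_smul_of_comp_eq_of_isLocalizedModule
    (Submonoid.powers h) l (β ∘ₗ α) (h ^ (s + t) • LinearMap.id) (by
      refine LinearMap.ext fun v => ?_
      simp only [LinearMap.comp_apply, LinearMap.smul_apply, LinearMap.id_apply, map_smul]
      rw [hβ', hα', smul_smul, pow_add])
  have hp' : ∀ m, h ^ p • α (β m) = h ^ p • h ^ (s + t) • m := fun m => LinearMap.congr_fun hp m
  have hq' : ∀ v, h ^ q • β (α v) = h ^ q • h ^ (s + t) • v := fun v => LinearMap.congr_fun hq v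
  refine ⟨p + q + (s + t), h ^ (p + q) • α, β, ?_, ?_⟩
  · intro v
    rw [LinearMap.smul_apply, map_smul, pow_add, mul_smul, hq', smul_smul, smul_smul, ← pow_add,
      ← pow_add]
  · intro m
    rw [LinearMap.smul_apply, add_comm p q, pow_add, mul_smul, hp', smul_smul, smul_smul, ← pow_add,
      ← pow_add]

theorem exists_iso_off' [IsNoetherianRing A] [IsLocalRing A] {J : Ideal A} (hJ : J ≠ ⊤) {x y z : A}
    (h : Reg3 (A ⧸ J) x y z)
    (hfree : ∀ n, Module.Free (A ⧸ J) (↥(J ^ n) ⧸ (J • (⊤ : Submodule A ↥(J ^ n)))))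
    {T : Type v} [AddCommGroup T] [Module A T] {ι : Type*} [Finite ι] (g : ι → A)
    (hx : x ∈ (Ideal.span (Set.range g)).radical) (hy : y ∈ (Ideal.span (Set.range g)).radical)
    (hz : z ∈ (Ideal.span (Set.range g)).radical) {r : ℕ}
    (M' : ι → Type w) [∀ i, AddCommGroup (M' i)] [∀ i, Module A (M' i)]
    (f : ∀ i, T →ₗ[A] M' i) (hf : ∀ i, IsLocalizedModule.Away (g i) (f i))
    (l : ∀ i, (Fin r → A) →ₗ[A] M' i) (hl : ∀ i, IsLocalizedModule.Away (g i) (l i))
    (φ₁ : T →ₗ[A] (Fin r → A ⧸ J)) (hφ : ∀ i, IsoModJ J φ₁ (g i)) :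
    ∃ φ : T →ₗ[A] (Fin r → A), (∀ m j, Ideal.Quotient.mk J (φ m j) = φ₁ m j) ∧
      ∀ i, (∀ m, φ m = 0 → ∃ s : ℕ, g i ^ s • m = 0) ∧
        ∀ v, ∃ (s : ℕ) (m : T), φ m = g i ^ s • v := by
  have hreg := reg3_self hJ h hfree
  -- choice of a finite submodule
  have ht : ∀ (i : ι) (k : Fin r), ∃ (n : ℕ) (t : T), g i ^ n • l i (Pi.single k 1) = f i t :=
    fun i k => IsLocalizedModule.Away.surj (f i) (g i) _
  choose n t ht using ht
  let T' : Submodule A T := Submodule.span A (Set.range fun p : ι × Fin r => t p.1 p.2)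
  have hfin : Module.Finite A T' := Module.Finite.span_of_finite A (Set.finite_range _)
  -- every element of `T` lies in `T'` up to powers of `g i`
  have hT' : ∀ (i : ι) (τ : T), ∃ s : ℕ, g i ^ s • τ ∈ T' := by
    intro i τ
    obtain ⟨a, v, hv⟩ := IsLocalizedModule.Away.surj (l i) (g i) (f i τ)
    obtain ⟨N, hN⟩ : ∃ N, ∀ k, n i k ≤ N := ⟨Finset.univ.sup (n i), fun k => Finset.le_sup (Finset.mem_univ k)⟩
    have h1 : f i (g i ^ (N + a) • τ) = f i (∑ k, v k • g i ^ (N - n i k) • t i k) := by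
      rw [map_smul, pow_add, mul_smul, hv, map_sum]
      have h2 : v = ∑ k, (v k) • (Pi.single k 1 : Fin r → A) := by
        conv_lhs => rw [← LinearMap.sum_single_apply (φ := fun _ => A) v]
        refine Finset.sum_congr rfl fun k _ => ?_
        rw [← Pi.single_smul, smul_eq_mul, mul_one]
      conv_lhs => rw [h2, map_sum, Finset.smul_sum]
      refine Finset.sum_congr rfl fun k _ => ?_
      rw [map_smul, map_smul, map_smul, ← ht, smul_smul (g i ^ (N - n i k)), ← pow_add,
        Nat.sub_add_cancel (hN k), smul_comm]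
    obtain ⟨b, hb⟩ := IsLocalizedModule.Away.exists_of_eq (g i) h1
    refine ⟨b + (N + a), ?_⟩
    rw [pow_add, mul_smul, hb]
    refine T'.smul_mem _ (T'.sum_mem fun k _ => T'.smul_mem _ (T'.smul_mem _ ?_))
    exact Submodule.subset_span ⟨(i, k), rfl⟩
  -- localizations of `T'`
  have hf' : ∀ i, IsLocalizedModule.Away (g i) ((f i) ∘ₗ T'.subtype) := by
    intro i
    refine IsLocalizedModule.Away.mk_of_addCommGroup
      (IsLocalizedModule.Away.isUnit_algebraMap (f i) (g i)) ?_ ?_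
    · intro m
      obtain ⟨a, τ, hτ⟩ := IsLocalizedModule.Away.surj (f i) (g i) m
      obtain ⟨s, hs⟩ := hT' i τ
      refine ⟨s + a, ⟨_, hs⟩, ?_⟩
      rw [pow_add, mul_smul, hτ, LinearMap.comp_apply, Submodule.subtype_apply, map_smul]
    · intro m hm
      obtain ⟨s, hs⟩ := IsLocalizedModule.Away.exists_of_eq (f := f i) (g i) (x := (m : T)) (y := 0)
        (by rw [map_zero]; exact hm)
      refine ⟨s, Subtype.ext ?_⟩
      rw [smul_zero] at hs
      exact hs
  have hfreeAt : ∀ i, FreeAt T' r (g i) := fun i => by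
    have := hf' i
    have := hl i
    exact freeAt_of_isLocalizedModule ((f i) ∘ₗ T'.subtype) (l i)
  -- the restriction of `φ₁`
  have hφ' : ∀ i, IsoModJ J (φ₁ ∘ₗ T'.subtype) (g i) := by
    intro i
    refine ⟨?_, ?_⟩
    · intro m hm
      obtain ⟨s, hs⟩ := (hφ i).ker m hm
      have key : ∀ τ ∈ J • (⊤ : Submodule A T), ∃ (N : ℕ) (hN : g i ^ N • τ ∈ T'),
          (⟨g i ^ N • τ, hN⟩ : T') ∈ J • (⊤ : Submodule A T') := by
        intro τ hτ
        induction hτ using Submodule.smul_induction_on' with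
        | smul j hj τ _ =>
          obtain ⟨N, hN⟩ := hT' i τ
          have hN' : g i ^ N • j • τ ∈ T' := by
            rw [smul_comm]; exact T'.smul_mem _ hN
          refine ⟨N, hN', ?_⟩
          have : (⟨g i ^ N • j • τ, hN'⟩ : T') = j • (⟨g i ^ N • τ, hN⟩ : T') :=
            Subtype.ext (smul_comm _ _ _)
          rw [this]
          exact Submodule.smul_mem_smul hj trivial
        | add τ _ τ' _ h1 h2 =>
          obtain ⟨N, hN, h1⟩ := h1
          obtain ⟨N', hN', h2⟩ := h2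
          have e : g i ^ (N + N') • (τ + τ') = g i ^ N' • g i ^ N • τ + g i ^ N • g i ^ N' • τ' := by
            rw [smul_add, smul_smul, smul_smul, ← pow_add, ← pow_add, add_comm N' N]
          have hmem : g i ^ (N + N') • (τ + τ') ∈ T' := by
            rw [e]
            exact T'.add_mem (T'.smul_mem _ hN) (T'.smul_mem _ hN')
          refine ⟨N + N', hmem, ?_⟩
          have : (⟨g i ^ (N + N') • (τ + τ'), hmem⟩ : T') =
              g i ^ N' • (⟨g i ^ N • τ, hN⟩ : T') + g i ^ N • (⟨g i ^ N' • τ', hN'⟩ : T') :=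
            Subtype.ext e
          rw [this]
          exact Submodule.add_mem _ (Submodule.smul_mem _ _ h1) (Submodule.smul_mem _ _ h2)
      obtain ⟨N, hN, h3⟩ := key _ hs
      refine ⟨N + s, ?_⟩
      have : g i ^ (N + s) • m = (⟨g i ^ N • g i ^ s • (m : T), hN⟩ : T') :=
        Subtype.ext (by rw [Submodule.coe_smul, pow_add, mul_smul])
      rw [this]
      exact h3
    · intro v
      obtain ⟨s, τ, hτ⟩ := (hφ i).cok v
      obtain ⟨N, hN⟩ := hT' i τ
      refine ⟨N + s, ⟨_, hN⟩, ?_⟩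
      rw [LinearMap.comp_apply, Submodule.subtype_apply, map_smul, hτ, pow_add, mul_smul]
  obtain ⟨φ', h1, h2⟩ := exists_iso_off hJ h hfree g hx hy hz hfreeAt _ hφ'
  -- extend to `T`
  have hTx : ∀ (a : A), a ∈ (Ideal.span (Set.range g)).radical → ∀ v : T,
      ∃ (s : ℕ) (m : T'), T'.subtype m = a ^ s • v := by
    intro a ha v
    obtain ⟨s, hs⟩ := exists_pow_mem ha
      (Submodule.comap (LinearMap.toSpanSingleton A T v) T') (fun i => hT' i v)
    exact ⟨s, ⟨_, hs⟩, rfl⟩
  have hpi := hreg.pi (Fin r)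
  obtain ⟨φ, hφφ⟩ := exists_factor (N := Fin r → A) (y := x) (z := y) hpi.isSMulRegular hpi.h2
    T'.subtype φ' (fun m hm => by
      have : m = 0 := Subtype.ext hm
      rw [this, map_zero]) (hTx x hx) (hTx y hy)
  refine ⟨φ, ?_, ?_⟩
  · -- compatibility with `φ₁`
    have hpi1 := h.pi (Fin r)
    let red : (Fin r → A) →ₗ[A] (Fin r → A ⧸ J) :=
      LinearMap.pi fun j => (Submodule.mkQ J) ∘ₗ (LinearMap.proj j)
    have hred : red ∘ₗ φ = φ₁ := by
      refine factor_unique hpi1.isSMulRegular T'.subtype (hTx x hx) _ _ fun m => ?_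
      ext j
      rw [LinearMap.comp_apply, hφφ]
      exact h1 m j
    intro m j
    exact congrFun (LinearMap.congr_fun hred m) j
  · intro i
    refine ⟨?_, ?_⟩
    · intro m hm
      obtain ⟨N, hN⟩ := hT' i m
      have h3 : φ' ⟨_, hN⟩ = 0 := by
        rw [← hφφ, Submodule.subtype_apply, map_smul, hm, smul_zero]
      obtain ⟨s, hs⟩ := (h2 i).1 _ h3
      refine ⟨s + N, ?_⟩
      rw [pow_add, mul_smul]
      exact congrArg Subtype.val hs
    · intro v
      obtain ⟨s, m, hm⟩ := (h2 i).2 v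
      exact ⟨s, m, by rw [← hm, ← hφφ]; rfl⟩

/-! ### depth -/

theorem exists_reg3_of_depth {B : Type u} [CommRing B] [IsLocalRing B]
    (h : (3 : ℕ∞) ≤ LocCoh.depth B B) : ∃ x ∈ IsLocalRing.maximalIdeal B,
      ∃ y ∈ IsLocalRing.maximalIdeal B, ∃ z ∈ IsLocalRing.maximalIdeal B, Reg3 B x y z := by
  have hne : IsLocalRing.maximalIdeal B • (⊤ : Submodule B B) ≠ ⊤ := by
    rw [smul_eq_mul, Ideal.mul_top]
    exact (IsLocalRing.maximalIdeal.isMaximal B).ne_top
  rw [LocCoh.depth, LocCoh.idealDepth, if_neg hne] at h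
  by_contra hcon
  have hle : (⨆ (rs : List B) (_ : RingTheory.Sequence.IsWeaklyRegular B rs ∧
      ∀ r ∈ rs, r ∈ IsLocalRing.maximalIdeal B), (rs.length : ℕ∞)) ≤ 2 := by
    refine iSup₂_le fun rs hrs => ?_
    by_contra hlt
    rw [not_le] at hlt
    have hlen : 3 ≤ rs.length := by
      have : (2 : ℕ∞) < rs.length := hlt
      exact_mod_cast this
    match rs, hlen, hrs with
    | x :: y :: z :: tl, _, hrs =>
      apply hcon
      refine ⟨x, hrs.2 x (by simp), y, hrs.2 y (by simp), z, hrs.2 z (by simp), ?_⟩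
      rw [reg3_iff]
      have h1 : (x :: y :: z :: tl) = [x, y, z] ++ tl := rfl
      have h2 := hrs.1
      rw [h1, RingTheory.Sequence.isWeaklyRegular_append_iff] at h2
      exact h2.1
  have := h.trans hle
  exact absurd this (by decide)

theorem depth_ge_three {B : Type u} [CommRing B] [IsLocalRing B] {x y z : B}
    (hx : x ∈ IsLocalRing.maximalIdeal B) (hy : y ∈ IsLocalRing.maximalIdeal B)
    (hz : z ∈ IsLocalRing.maximalIdeal B) (h : Reg3 B x y z) : (3 : ℕ∞) ≤ LocCoh.depth B B := by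
  have hne : IsLocalRing.maximalIdeal B • (⊤ : Submodule B B) ≠ ⊤ := by
    rw [smul_eq_mul, Ideal.mul_top]
    exact (IsLocalRing.maximalIdeal.isMaximal B).ne_top
  rw [LocCoh.depth, LocCoh.idealDepth, if_neg hne]
  refine le_iSup₂_of_le [x, y, z] ⟨(reg3_iff x y z).1 h, ?_⟩ le_rfl
  intro r hr
  simp only [List.mem_cons, List.not_mem_nil, or_false] at hr
  rcases hr with rfl | rfl | rfl <;> assumption

/-- regular sequences of length three in the maximal ideal of `A/J` lift to `A`. -/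
theorem exists_reg3_quot [IsLocalRing A] {J : Ideal A} [IsLocalRing (A ⧸ J)]
    (hd : (3 : ℕ∞) ≤ LocCoh.depth (A ⧸ J) (A ⧸ J)) : ∃ x ∈ IsLocalRing.maximalIdeal A,
      ∃ y ∈ IsLocalRing.maximalIdeal A, ∃ z ∈ IsLocalRing.maximalIdeal A,
        Reg3 (A ⧸ J) x y z := by
  obtain ⟨x, hx, y, hy, z, hz, h⟩ := exists_reg3_of_depth hd
  obtain ⟨x, rfl⟩ := Ideal.Quotient.mk_surjective x
  obtain ⟨y, rfl⟩ := Ideal.Quotient.mk_surjective y
  obtain ⟨z, rfl⟩ := Ideal.Quotient.mk_surjective z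
  have hm : ∀ a : A, Ideal.Quotient.mk J a ∈ IsLocalRing.maximalIdeal (A ⧸ J) →
      a ∈ IsLocalRing.maximalIdeal A := by
    intro a ha
    rw [IsLocalRing.mem_maximalIdeal] at ha ⊢
    exact fun hu => ha (hu.map _)
  exact ⟨x, hm x hx, y, hm y hy, z, hm z hz, ⟨h.h1, h.h2, h.h3⟩⟩

theorem depth_ge_three_of_quot [IsNoetherianRing A] [IsLocalRing A] {J : Ideal A} (hJ : J ≠ ⊤)
    [IsLocalRing (A ⧸ J)] (hd : (3 : ℕ∞) ≤ LocCoh.depth (A ⧸ J) (A ⧸ J))
    (hfree : ∀ n, Module.Free (A ⧸ J) (↥(J ^ n) ⧸ (J • (⊤ : Submodule A ↥(J ^ n))))) :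
    (3 : ℕ∞) ≤ LocCoh.depth A A := by
  obtain ⟨x, hx, y, hy, z, hz, h⟩ := exists_reg3_quot hd
  exact depth_ge_three hx hy hz (reg3_self hJ h hfree)

end Groth.Agent.Sga2.GrLoc
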