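import Groth.Agent.Sga2.PuncRed
import Groth.Agent.Sga2.GrLoc

/-!
Invertible modules on the punctured spectrum of `A` are trivial if they are trivial on the punctured spectrum of
`A/J`, for `A/J` of depth `≥ 3` and `gr_J(A)` free (SGA 2 XII 4.7).
-/

set_option autoImplicit false
universe u

open CategoryTheory CategoryTheory.Limits AlgebraicGeometry Opposite TopologicalSpace

namespace Groth.Agent.Sga2.PuncTriv

open Groth.Agent.Fdesc.LocGen Groth.Agent.Sga2.PuncSections Groth.Agent.Sga2.PuncRed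
open Groth.Agent.Sga2.GrReg Groth.Agent.Sga2.GrKey Groth.Agent.Sga2.GrLoc

variable (A : Type u) [CommRing A] [IsLocalRing A] (J : Ideal A) [IsLocalRing (A ⧸ J)]

/-- the coefficient of the pullback of a global section with respect to a generator. -/
theorem exists_coeff (hd : (2 : ℕ∞) ≤ LocCoh.depth (A ⧸ J) (A ⧸ J)) (L : (P A).Modules)
    (g₀ : Γ((Scheme.Modules.pullback (inc A J)).obj L, ⊤)) (hg₀ : IsGen g₀) :
    ∃ π : SecA (rho A) L ⊤ →ₗ[A] (A ⧸ J), ∀ m,
      pullTop (inc A J) (toSec (rho A) L m) = rho (A ⧸ J) (π m) • g₀ := by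
  have hb := rho_bijective (A ⧸ J) hd
  have key : ∀ m : SecA (rho A) L ⊤, ∃ c : A ⧸ J,
      pullTop (inc A J) (toSec (rho A) L m) = rho (A ⧸ J) c • g₀ := by
    intro m
    obtain ⟨b, hb'⟩ := hg₀.exists_eq (pullTop (inc A J) (toSec (rho A) L m))
    obtain ⟨c, rfl⟩ := hb.2 b
    exact ⟨c, hb'⟩
  choose c hc using key
  have uniq : ∀ m c', pullTop (inc A J) (toSec (rho A) L m) = rho (A ⧸ J) c' • g₀ → c m = c' := by
    intro m c' h
    exact hb.1 (hg₀.ext ((hc m).symm.trans h))
  refine ⟨{ toFun := c, map_add' := ?_, map_smul' := ?_ }, hc⟩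
  · intro m n
    apply uniq
    rw [map_add, map_add, add_smul, ← hc, ← hc]
    exact pullSec_add _ _ _
  · intro a m
    apply uniq
    rw [toSec_smul, RingHom.id_apply]
    have h1 : resA (rho A) ⊤ a = rho A a := by simp [resA]
    have h2 : (a • c m : A ⧸ J) = Ideal.Quotient.mk J a * c m := rfl
    rw [h1, h2, map_mul, mul_smul, ← hc, ← inc_appTop_rho]
    exact pullSec_smul _ _ _

/-- `π` is an isomorphism modulo `J` after inverting `a` when `L` has a generator on `D(a)`. -/
theorem isoModJ_coeff [IsNoetherianRing A] (L : (P A).Modules) (hL : PicF.IsInvertible L)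
    (g₀ : Γ((Scheme.Modules.pullback (inc A J)).obj L, ⊤)) (hg₀ : IsGen g₀)
    (π : SecA (rho A) L ⊤ →ₗ[A] (A ⧸ J))
    (hπ : ∀ m, pullTop (inc A J) (toSec (rho A) L m) = rho (A ⧸ J) (π m) • g₀)
    (a : A) (ha : a ∈ IsLocalRing.maximalIdeal A) (e : Γ(L, (P A).basicOpen (rho A a)))
    (he : IsGen e) :
    IsoModJ J (LinearMap.pi fun _ : Fin 1 => π) a := by
  have := compactSpace_P A
  have hloc := isLocalizedModule_resL (rho A) L hL a
  have ha' : Ideal.Quotient.mk J a ∈ IsLocalRing.maximalIdeal (A ⧸ J) := by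
    rw [IsLocalRing.mem_maximalIdeal] at ha ⊢
    intro hu
    have : IsLocalHom (Ideal.Quotient.mk J) := Ideal.Quotient.mk_surjective.isLocalHom
    exact ha (isUnit_of_map_unit _ _ hu)
  obtain ⟨h1, h2⟩ := loc_punctured A ha (rfl : _ = (P A).basicOpen (rho A a))
  obtain ⟨h3, h4⟩ := loc_punctured (A ⧸ J) ha' (inc_preimage_basicOpen A J a)
  -- a global section restricting to a multiple of the generator
  obtain ⟨k, t, ht⟩ := IsLocalizedModule.Away.surj (resL (rho A) L (le_top :
    (P A).basicOpen (rho A a) ≤ ⊤)) a ((toSec (rho A) L).symm e)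
  have ht' : resA (rho A) ((P A).basicOpen (rho A a)) a ^ k • e =
      res L le_top (toSec (rho A) L t) := by
    rw [← map_pow]
    exact congrArg (toSec (rho A) L) ht
  have he₀ := he.pullSec (inc A J)
  have hpull : ∀ m : SecA (rho A) L ⊤, pullSec (inc A J) (res L (le_top :
      (P A).basicOpen (rho A a) ≤ ⊤) (toSec (rho A) L m)) =
      resA (rho (A ⧸ J)) (inc A J ⁻¹ᵁ (P A).basicOpen (rho A a)) (π m) • res _ (le_top) g₀ := by
    intro m
    rw [← res_pullSec]
    have h5 : pullSec (inc A J) (toSec (rho A) L m) = rho (A ⧸ J) (π m) • g₀ := hπ m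
    rw [h5]
    exact res_smul _ _ _ _
  refine ⟨?_, ?_⟩
  · intro m hm
    have hm0 : π m = 0 := congrFun hm 0
    obtain ⟨b, hb⟩ := he.exists_eq (res L (le_top :
      (P A).basicOpen (rho A a) ≤ ⊤) (toSec (rho A) L m))
    obtain ⟨n, c, hc⟩ := h1 b
    have h6 : resA (rho (A ⧸ J)) (inc A J ⁻¹ᵁ (P A).basicOpen (rho A a)) (Ideal.Quotient.mk J c) = 0 := by
      apply he₀.ext
      rw [zero_smul, ← inc_app_resA, ← pullSec_smul, ← hc, mul_smul, ← hb, pullSec_smul, hpull, hm0,
        map_zero, zero_smul, smul_zero]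
    obtain ⟨N, hN⟩ := h4 _ h6
    rw [← map_pow, ← map_mul, Ideal.Quotient.eq_zero_iff_mem] at hN
    have h7 : resL (rho A) L (le_top : (P A).basicOpen (rho A a) ≤ ⊤) (a ^ (k + N + n) • m) =
        resL (rho A) L le_top ((a ^ N * c) • t) := by
      apply (toSec (rho A) L).injective
      rw [toSec_resL, toSec_resL, toSec_smul, toSec_smul, res_smul, res_smul, ← ht', hb, ores_resA,
        ores_resA, smul_smul, smul_smul]
      congr 1
      rw [map_pow, pow_add, mul_assoc, hc, map_mul, map_pow, pow_add]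
      ring
    obtain ⟨q, hq⟩ := IsLocalizedModule.Away.exists_of_eq a h7
    refine ⟨q + (k + N + n), ?_⟩
    rw [pow_add, mul_smul, hq, smul_smul, mul_comm, mul_smul]
    exact Submodule.smul_mem_smul hN trivial
  · intro v
    obtain ⟨b, hb⟩ := he₀.exists_eq (resA (rho (A ⧸ J)) (inc A J ⁻¹ᵁ (P A).basicOpen (rho A a))
      (v 0) • res _ (le_top) g₀)
    obtain ⟨n, c, hc⟩ := h3 b
    obtain ⟨c, rfl⟩ := Ideal.Quotient.mk_surjective c
    have h8 : resA (rho (A ⧸ J)) (inc A J ⁻¹ᵁ (P A).basicOpen (rho A a))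
        (π (c • t) - Ideal.Quotient.mk J a ^ (n + k) * v 0) = 0 := by
      apply (hg₀.res le_top).ext
      rw [zero_smul, map_sub, sub_smul, ← hpull, map_mul, mul_smul, hb, toSec_smul, res_smul, ← ht',
        pullSec_smul, pullSec_smul, ores_resA, ← map_pow, inc_app_resA, inc_app_resA, smul_smul,
        smul_smul, ← sub_smul]
      have : resA (rho (A ⧸ J)) (inc A J ⁻¹ᵁ (P A).basicOpen (rho A a)) (Ideal.Quotient.mk J c) *
        resA (rho (A ⧸ J)) (inc A J ⁻¹ᵁ (P A).basicOpen (rho A a)) (Ideal.Quotient.mk J (a ^ k)) -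
        resA (rho (A ⧸ J)) (inc A J ⁻¹ᵁ (P A).basicOpen (rho A a))
          (Ideal.Quotient.mk J a ^ (n + k)) * b = 0 := by
        rw [← hc, pow_add, map_mul, map_pow, map_pow, map_pow]
        ring
      rw [this, zero_smul]
    obtain ⟨N, hN⟩ := h4 _ h8
    refine ⟨N + (n + k), a ^ N • c • t, ?_⟩
    ext j
    rw [Subsingleton.elim j 0]
    change π (a ^ N • c • t) = a ^ (N + (n + k)) • v 0
    rw [mul_sub, sub_eq_zero] at hN
    rw [map_smul, Algebra.smul_def, Algebra.smul_def, pow_add, map_mul, mul_assoc]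
    rw [map_pow, map_pow]
    exact hN

/-- global generator from a linear map which is an isomorphism after inverting each `g i`. -/
theorem exists_isGen_of_iso_off [IsNoetherianRing A] (L : (P A).Modules) {ι : Type*} (g : ι → A)
    (e : ∀ i, Γ(L, (P A).basicOpen (rho A (g i))))
    (hcov : ⊤ ≤ ⨆ i, (P A).basicOpen (rho A (g i))) (he : ∀ i, IsGen (e i))
    (hL : PicF.IsInvertible L) (φ : SecA (rho A) L ⊤ →ₗ[A] (Fin 1 → A))
    (hker : ∀ i m, φ m = 0 → ∃ s : ℕ, g i ^ s • m = 0)
    (hcok : ∀ i v, ∃ (s : ℕ) (m : SecA (rho A) L ⊤), φ m = g i ^ s • v) :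
    ∃ s : Γ(L, ⊤), IsGen s := by
  have := compactSpace_P A
  choose s m hm using fun i => hcok i (fun _ => 1)
  -- a relation between sections with the same image holds over `D(g i)`
  have hrel : ∀ i (t t' : SecA (rho A) L ⊤), φ t = φ t' → ∀ (V : (P A).Opens),
      V ≤ (P A).basicOpen (rho A (g i)) →
      res L le_top (toSec (rho A) L t) = res L (le_top : V ≤ ⊤) (toSec (rho A) L t') := by
    intro i t t' htt V hV
    obtain ⟨N, hN⟩ := hker i (t - t') (by rw [map_sub, htt, sub_self])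
    have h1 : resA (rho A) V (g i ^ N) • res L (le_top : V ≤ ⊤) (toSec (rho A) L (t - t')) = 0 := by
      rw [← ores_resA (rho A) le_top, ← res_smul, ← toSec_smul, hN, map_zero, map_zero]
    have hu : IsUnit (resA (rho A) V (g i ^ N)) := by
      rw [map_pow]
      exact (isUnit_resA (rho A) hV).pow N
    have h2 := (hu.smul_eq_zero (x := res L (le_top : V ≤ ⊤) (toSec (rho A) L (t - t')))).1 h1
    rw [map_sub, map_sub, sub_eq_zero] at h2
    exact h2
  -- local sections
  have hu : ∀ i, IsUnit (resA (rho A) ((P A).basicOpen (rho A (g i))) (g i ^ s i)) := fun i => by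
    rw [map_pow]
    exact (isUnit_resA (rho A) le_rfl).pow _
  have hσ : ∀ i, ∃ σ : Γ(L, (P A).basicOpen (rho A (g i))),
      resA (rho A) ((P A).basicOpen (rho A (g i))) (g i ^ s i) • σ =
        res L le_top (toSec (rho A) L (m i)) := by
    intro i
    obtain ⟨w, hw⟩ := (hu i).exists_right_inv
    refine ⟨w • res L le_top (toSec (rho A) L (m i)), ?_⟩
    rw [smul_smul, hw, one_smul]
  choose σ hσ using hσ
  have hglue : ∀ i j, res L (inf_le_left : (P A).basicOpen (rho A (g i)) ⊓
      (P A).basicOpen (rho A (g j)) ≤ _) (σ i) = res L inf_le_right (σ j) := by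
    intro i j
    set V := (P A).basicOpen (rho A (g i)) ⊓ (P A).basicOpen (rho A (g j)) with hV
    have h1 := hrel i (g j ^ s j • m i) (g i ^ s i • m j) (by
      rw [map_smul, map_smul, hm, hm, smul_comm]) V inf_le_left
    rw [toSec_smul, toSec_smul, res_smul, res_smul, ores_resA, ores_resA] at h1
    have h2 := congr(res L (inf_le_left : V ≤ (P A).basicOpen (rho A (g i))) $(hσ i))
    have h3 := congr(res L (inf_le_right : V ≤ (P A).basicOpen (rho A (g j))) $(hσ j))
    rw [res_smul, res_res, ores_resA] at h2 h3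
    rw [← h2, ← h3, smul_smul, smul_smul, mul_comm (resA (rho A) V (g j ^ s j))] at h1
    have hu' : IsUnit (resA (rho A) V (g i ^ s i) * resA (rho A) V (g j ^ s j)) := by
      rw [map_pow, map_pow]
      exact ((isUnit_resA (rho A) inf_le_left).pow _).mul ((isUnit_resA (rho A) inf_le_right).pow _)
    exact hu'.smul_left_cancel.1 h1
  obtain ⟨t, ht⟩ := res_glue L (V := ⊤) (fun i => (P A).basicOpen (rho A (g i)))
    (fun i => le_top) hcov σ hglue
  refine ⟨t, IsGen.of_cover (fun i => (P A).basicOpen (rho A (g i))) (fun i => le_top) hcov ?_⟩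
  intro i
  rw [ht i]
  obtain ⟨a, ha⟩ := (he i).exists_eq (σ i)
  have hloc := isLocalizedModule_resL (rho A) L hL (g i)
  obtain ⟨k, τ, hτ⟩ := IsLocalizedModule.Away.surj (resL (rho A) L (le_top :
    (P A).basicOpen (rho A (g i)) ≤ ⊤)) (g i) ((toSec (rho A) L).symm (e i))
  have hτ' : resA (rho A) ((P A).basicOpen (rho A (g i))) (g i ^ k) • e i =
      res L le_top (toSec (rho A) L τ) := congrArg (toSec (rho A) L) hτ
  have h1 := hrel i (φ τ 0 • m i) (g i ^ s i • τ) (by
    rw [map_smul, map_smul, hm]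
    ext j
    rw [Subsingleton.elim j 0]
    simp [mul_comm]) ((P A).basicOpen (rho A (g i))) le_rfl
  rw [toSec_smul, toSec_smul, res_smul, res_smul, ores_resA, ores_resA, ← hσ, ← hτ', smul_smul,
    smul_smul, mul_comm, mul_smul, mul_smul] at h1
  have h2 := (hu i).smul_left_cancel.1 h1
  rw [ha, smul_smul] at h2
  have h3 := (he i).ext h2
  have hua : IsUnit a := by
    have h4 : IsUnit (resA (rho A) ((P A).basicOpen (rho A (g i))) (g i ^ k)) := by
      rw [map_pow]
      exact (isUnit_resA (rho A) le_rfl).pow _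
    rw [← h3] at h4
    exact isUnit_of_mul_isUnit_right h4
  rw [ha]
  exact (he i).unit_smul hua

/-- SGA 2 XII 4.7, parafactoriality. -/
theorem nonempty_iso [IsNoetherianRing A] (hJ : J ≠ ⊤)
    (hd : (3 : ℕ∞) ≤ LocCoh.depth (A ⧸ J) (A ⧸ J))
    (hgr : ∀ n : ℕ, Module.Free (A ⧸ J) (↥(J ^ n) ⧸ (J • (⊤ : Submodule A ↥(J ^ n)))))
    (h0 : ∀ L : (P (A ⧸ J)).Modules, PicF.IsInvertible L → Nonempty (L ≅ Coh.structureModule _))
    (L : (P A).Modules) (hL : PicF.IsInvertible L) : Nonempty (L ≅ Coh.structureModule _) := by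
  have := compactSpace_P A
  obtain ⟨x, hx, y, hy, z, hz, h⟩ := exists_reg3_quot hd
  obtain ⟨e₀⟩ := h0 _ (isInvertible_pullback (inc A J) hL)
  have hg₀ : IsGen (e₀.inv.app ⊤ (one ⊤)) := (isGen_one ⊤).app e₀.inv
  obtain ⟨π, hπ⟩ := exists_coeff A J (le_trans (by norm_num) hd) L _ hg₀
  obtain ⟨ι, _, g, e, hgm, hcov, he⟩ := exists_cover A L hL
  obtain ⟨φ, -, hφ⟩ := exists_iso_off' hJ h hgr g (mem_radical_of_cover A g hcov x hx)
    (mem_radical_of_cover A g hcov y hy) (mem_radical_of_cover A g hcov z hz)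
    (fun i => SecA (rho A) L ((P A).basicOpen (rho A (g i))))
    (fun i => resL (rho A) L le_top) (fun i => isLocalizedModule_resL (rho A) L hL (g i))
    (fun i => genL A L (e i))
    (fun i => isLocalizedModule_gen A (hgm i) L rfl (e i) (he i) _ (toSec_genL A L (e i)))
    (LinearMap.pi fun _ : Fin 1 => π)
    (fun i => isoModJ_coeff A J L hL _ hg₀ π hπ (g i) (hgm i) (e i) (he i))
  obtain ⟨s, hs⟩ := exists_isGen_of_iso_off A L g e hcov he hL φ (fun i => (hφ i).1)
    (fun i => (hφ i).2)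
  have : IsIso (homOf s) := by
    rw [isIso_iff_isGen, sec_homOf, res_refl]
    exact hs
  exact ⟨(asIso (homOf s)).symm⟩

end Groth.Agent.Sga2.PuncTriv
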