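import Groth.Agent.Sga2.LefBasic

/-!
# Left exactness of the comparison maps Hom(D, O_U) → lim Hom(D, O_U/J^{n+1}) in D
-/

universe u w

open CategoryTheory CategoryTheory.Limits AlgebraicGeometry TopologicalSpace Opposite

namespace Groth.Agent.Sga2.LefLeftExact

variable {U : Scheme.{u}} (J : U.IdealSheafData)

/-- Injectivity half of `Lef.HomToFormalBijective`. -/
def FormalInj (D : U.Modules) : Prop :=
  ∀ φ ψ : D ⟶ Coh.structureModule U,
    (∀ n : ℕ, φ ≫ ClSub.toSubscheme (J ^ (n + 1)) = ψ ≫ ClSub.toSubscheme (J ^ (n + 1))) → φ = ψ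

variable {J}

theorem formalInj_of_bijective {D : U.Modules} (h : Lef.HomToFormalBijective J D) : FormalInj J D := h.1

theorem formalInj_of_epi {D D' : U.Modules} (b : D ⟶ D') [Epi b] (h : FormalInj J D) :
    FormalInj J D' := by
  intro φ ψ hn
  rw [← cancel_epi b]
  apply h
  intro n
  rw [Category.assoc, Category.assoc, hn n]

theorem bijective_of_iso {D D' : U.Modules} (e : D ≅ D') (h : Lef.HomToFormalBijective J D) :
    Lef.HomToFormalBijective J D' := by
  refine ⟨formalInj_of_epi e.hom h.1, fun y hy => ?_⟩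
  obtain ⟨φ, hφ⟩ := h.2 (fun n => e.hom ≫ y n) (by
    intro n
    rw [Category.assoc, hy n])
  refine ⟨e.inv ≫ φ, fun n => ?_⟩
  rw [Category.assoc, hφ n, Iso.inv_hom_id_assoc]

/-- If `D₁ → D₂ → D → 0` is exact, bijectivity for `D₂` and injectivity for `D₁` imply bijectivity for `D`. -/
theorem bijective_of_cokernel {D₁ D₂ D : U.Modules} (a : D₁ ⟶ D₂) (b : D₂ ⟶ D) (w : a ≫ b = 0)
    (hc : IsColimit (CokernelCofork.ofπ b w)) (h₁ : FormalInj J D₁)
    (h₂ : Lef.HomToFormalBijective J D₂) : Lef.HomToFormalBijective J D := by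
  have hb : Epi b := by
    constructor
    intro W f g hfg
    exact Cofork.IsColimit.hom_ext hc hfg
  refine ⟨formalInj_of_epi b h₂.1, fun y hy => ?_⟩
  obtain ⟨χ, hχ⟩ := h₂.2 (fun n => b ≫ y n) (by
    intro n
    rw [Category.assoc, hy n])
  have ha : a ≫ χ = 0 := by
    apply h₁
    intro n
    rw [Category.assoc, hχ n, reassoc_of% w, zero_comp, zero_comp]
  obtain ⟨φ, hφ⟩ := CokernelCofork.IsColimit.desc' hc χ ha
  change b ≫ φ = χ at hφ
  refine ⟨φ, fun n => ?_⟩
  rw [← cancel_epi b, ← Category.assoc, hφ, hχ n]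

/-- Stability under arbitrary coproducts. -/
theorem bijective_of_isColimit_cofan {ι : Type w} {D : ι → U.Modules} (c : Cofan D) (hc : IsColimit c)
    (h : ∀ i, Lef.HomToFormalBijective J (D i)) : Lef.HomToFormalBijective J c.pt := by
  constructor
  · intro φ ψ hn
    refine Cofan.IsColimit.hom_ext hc _ _ fun i => ?_
    apply (h i).1
    intro n
    rw [Category.assoc, Category.assoc, hn n]
  · intro y hy
    choose χ hχ using fun i => (h i).2 (fun n => c.inj i ≫ y n) (by
      intro n
      rw [Category.assoc, hy n])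
    refine ⟨Cofan.IsColimit.desc hc χ, fun n => ?_⟩
    refine Cofan.IsColimit.hom_ext hc _ _ fun i => ?_
    rw [← Category.assoc, Cofan.IsColimit.fac, hχ i n]

theorem formalInj_of_isColimit_cofan {ι : Type w} {D : ι → U.Modules} (c : Cofan D) (hc : IsColimit c)
    (h : ∀ i, FormalInj J (D i)) : FormalInj J c.pt := by
  intro φ ψ hn
  refine Cofan.IsColimit.hom_ext hc _ _ fun i => ?_
  apply h i
  intro n
  rw [Category.assoc, Category.assoc, hn n]

theorem bijective_sigma {ι : Type w} (D : ι → U.Modules) [HasCoproduct D]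
    (h : ∀ i, Lef.HomToFormalBijective J (D i)) : Lef.HomToFormalBijective J (∐ D) :=
  bijective_of_isColimit_cofan _ (colimit.isColimit _) h

end Groth.Agent.Sga2.LefLeftExact
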