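import Groth.Agent.Sga2.ThickCoh
import Groth.Agent.Sga2.LefLeftExact
import Groth.Agent.PerfB.TensInv
import Groth.Agent.Ega3B.SectExact
import Groth.Agent.Fga.PicMon

/-!
# The comparison `Hom(P^a, O_X) → lim Hom(P^a, O_X/I^{n+1})` for `P = idealMod I` invertible

* `equivOfInv`: `- ⊗ A` is an equivalence of categories if `A ⊗ B ≅ O`.
* `hom_eq_zero`: `Hom(B, G) = 0` if `A ⊗ B ≅ O` and `H^0(G ⊗ A) = 0`.
* `hom_surjective`: `Hom(B, G₂) → Hom(B, G₃)` is surjective if `0 → G₁ → G₂ → G₃ → 0` is exact and `H^1(G₁ ⊗ A) = 0`.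
* `homToFormalBijective_tensorPow`: `Lef.HomToFormalBijective I (P^a)` from `H^i(X, P^m) = 0`, `i ≤ 1`, `m ≫ 0`
  (`P = idealMod I` with an inverse `L`).

Author: helper644
-/

set_option autoImplicit false
universe u

open CategoryTheory CategoryTheory.Limits AlgebraicGeometry Opposite TopologicalSpace

namespace Groth.Agent.Sga2.LefPow644

open Groth.Agent Groth.Agent.PerfB Groth.Agent.Fga.PicMon

variable {X : Scheme.{u}}

/-- `- ⊗ A` is an equivalence of categories if `A ⊗ B ≅ O`. -/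
noncomputable def equivOfInv {A B : X.Modules} (e : CohB1.tensorMod A B ≅ Coh.structureModule X) :
    X.Modules ≌ X.Modules :=
  CategoryTheory.Equivalence.mk (DCoh.tensorRightMod A) (DCoh.tensorRightMod B)
    (TensInv.tensorInvIso e).symm (TensInv.tensorInvIso (Ega2.Tens.swap B A ≪≫ e))

theorem isEquivalence_of_inv {A B : X.Modules} (e : CohB1.tensorMod A B ≅ Coh.structureModule X) :
    (DCoh.tensorRightMod A).IsEquivalence :=
  inferInstanceAs (equivOfInv e).functor.IsEquivalence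

theorem hom_eq_zero {A B G : X.Modules} (e : CohB1.tensorMod A B ≅ Coh.structureModule X)
    (h : Subsingleton (Coh.HH X (CohB1.tensorMod G A) 0)) (φ : B ⟶ G) : φ = 0 := by
  have := isEquivalence_of_inv e
  apply (DCoh.tensorRightMod A).map_injective
  let e' : (DCoh.tensorRightMod A).obj B ≅ Coh.structureModule X := Ega2.Tens.swap B A ≪≫ e
  rw [← cancel_epi e'.inv]
  apply Dcoh.Restrict.unit_hom_ext
  apply (Ega3B.SectExact.secEquiv (CohB1.tensorMod G A)).symm.injective
  exact Subsingleton.elim (α := Coh.HH X (CohB1.tensorMod G A) 0) _ _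

theorem hom_surjective {A B : X.Modules} (e : CohB1.tensorMod A B ≅ Coh.structureModule X)
    {S : ShortComplex X.Modules} (hS : S.ShortExact)
    (h : Subsingleton (Coh.HH X (CohB1.tensorMod S.X₁ A) 1)) (y : B ⟶ S.X₃) :
    ∃ φ : B ⟶ S.X₂, φ ≫ S.g = y := by
  have := isEquivalence_of_inv e
  let T := DCoh.tensorRightMod A
  let e' : T.obj B ≅ Coh.structureModule X := Ega2.Tens.swap B A ≪≫ e
  have hT : (S.map T).ShortExact := hS.map_of_exact T
  obtain ⟨t, ht⟩ := Ega3B.SectExact.surjective_of_H1 hT h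
    ((e'.inv ≫ T.map y).app ⊤ (Dcoh.Restrict.one ⊤))
  obtain ⟨φ, hφ⟩ := T.map_surjective (e'.hom ≫ Dcoh.Restrict.unitHom t)
  refine ⟨φ, T.map_injective ?_⟩
  rw [Functor.map_comp, hφ, ← cancel_epi e'.inv, Category.assoc, Iso.inv_hom_id_assoc]
  apply Dcoh.Restrict.unit_hom_ext
  rw [← ht]
  have h2 := Dcoh.Restrict.unitHom_comp t (T.map S.g)
  exact (congr(($h2).app ⊤ (Dcoh.Restrict.one ⊤))).trans (Dcoh.Restrict.unitHom_app_one _)

theorem epi_toSubscheme (I : X.IdealSheafData) : Epi (ClSub.toSubscheme I) :=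
  (CohqB.ToSheafExact.toAbF X).epi_of_epi_map
    (CohqA.H1Lift.epi_toAb_of_locSurj _ (CohqA.IdealMod.toSubscheme_locSurj I))

theorem shortExact_idealMod (I : X.IdealSheafData) :
    (ShortComplex.mk (ClSub.idealModι I) (ClSub.toSubscheme I) (kernel.condition _)).ShortExact where
  exact := ShortComplex.exact_of_f_is_kernel _ (kernelIsKernel _)
  mono_f := inferInstanceAs (Mono (kernel.ι (ClSub.toSubscheme I)))
  epi_g := epi_toSubscheme I

theorem app_inclusion {I J : X.IdealSheafData} (h : I ≤ J) (V : X.Opens) (e) :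
    I.subschemeι.app V ≫ (Scheme.IdealSheafData.inclusion h).appLE (I.subschemeι ⁻¹ᵁ V)
      (J.subschemeι ⁻¹ᵁ V) e = J.subschemeι.app V := by
  have h1 : ∀ (f : J.subscheme ⟶ X) (hf : f = J.subschemeι) (e' : J.subschemeι ⁻¹ᵁ V ≤ f ⁻¹ᵁ V),
      f.appLE V (J.subschemeι ⁻¹ᵁ V) e' = J.subschemeι.app V := by
    rintro f rfl e'
    exact (Scheme.Hom.app_eq_appLE _).symm
  rw [← h1 _ (Scheme.IdealSheafData.inclusion_subschemeι h) e]
  exact (Scheme.Hom.comp_appLE _ _ _ _ _).symm

theorem toSubscheme_quotMap {I J : X.IdealSheafData} (h : I ≤ J) :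
    ClSub.toSubscheme I ≫ Lef.quotMap h = ClSub.toSubscheme J := by
  ext V s
  refine (LefBasic.quotMap_app I J h V (I.subschemeι.app V s)).trans ?_
  exact congr($(app_inclusion h V _) s)

/-- A morphism inducing one member of a compatible family induces all the lower ones. -/
theorem down {I : X.IdealSheafData} {D : X.Modules} {y : ∀ n : ℕ, D ⟶ ClSub.quotMod (I ^ (n + 1))}
    (hy : Lef.IsFormalHom I D y) (φ : D ⟶ Coh.structureModule X) (k n : ℕ)
    (h : φ ≫ ClSub.toSubscheme (I ^ (n + k + 1)) = y (n + k)) :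
    φ ≫ ClSub.toSubscheme (I ^ (n + 1)) = y n := by
  induction k with
  | zero => exact h
  | succ k ih =>
    apply ih
    have h1 : φ ≫ ClSub.toSubscheme (I ^ (n + k + 2)) = y (n + k + 1) := h
    rw [← hy (n + k), ← h1, Category.assoc, toSubscheme_quotMap]

/-- If `Hom(D, O) → Hom(D, O/I^{n+1})` is bijective for large `n` then the comparison map is bijective. -/
theorem homToFormalBijective_of_eventually {I : X.IdealSheafData} {D : X.Modules} (N : ℕ)
    (hinj : ∀ n : ℕ, N ≤ n → ∀ φ : D ⟶ Coh.structureModule X,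
      φ ≫ ClSub.toSubscheme (I ^ (n + 1)) = 0 → φ = 0)
    (hsurj : ∀ n : ℕ, N ≤ n → ∀ y : D ⟶ ClSub.quotMod (I ^ (n + 1)),
      ∃ φ : D ⟶ Coh.structureModule X, φ ≫ ClSub.toSubscheme (I ^ (n + 1)) = y) :
    Lef.HomToFormalBijective I D := by
  have hinj' : ∀ n : ℕ, N ≤ n → ∀ φ ψ : D ⟶ Coh.structureModule X,
      φ ≫ ClSub.toSubscheme (I ^ (n + 1)) = ψ ≫ ClSub.toSubscheme (I ^ (n + 1)) → φ = ψ := by
    intro n hn φ ψ hφψ
    rw [← sub_eq_zero]
    apply hinj n hn
    rw [Preadditive.sub_comp, hφψ, sub_self]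
  refine ⟨fun φ ψ hφψ => hinj' N le_rfl φ ψ (hφψ _), fun y hy => ?_⟩
  choose φ hφ using fun n : ℕ => hsurj (N + n) (Nat.le_add_right _ _) (y (N + n))
  have hconst : ∀ n : ℕ, φ n = φ 0 := by
    intro n
    induction n with
    | zero => rfl
    | succ n ih =>
      rw [← ih]
      apply hinj' (N + n) (Nat.le_add_right _ _)
      rw [hφ n]
      exact down hy _ 1 (N + n) (hφ (n + 1))
  refine ⟨φ 0, fun n => down hy _ N n ?_⟩
  rw [← hconst n]
  have h1 : n + N = N + n := add_comm _ _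
  have h2 : ∀ (m : ℕ), m = N + n → φ n ≫ ClSub.toSubscheme (I ^ (m + 1)) = y m := by
    rintro m rfl
    exact hφ n
  exact h2 _ h1

theorem mc_inv {L P : X.Modules} (hL : ClSub.IsInverseOf L P) : mc L * mc P = 1 := by
  obtain ⟨e⟩ := hL
  exact mc_eq e

theorem homToFormalBijective_tensorPow (I : X.IdealSheafData) (L : X.Modules)
    (hL : ClSub.IsInverseOf L (ClSub.idealMod I))
    (h : ∃ m₀ : ℕ, ∀ m : ℕ, m₀ ≤ m → ∀ i ≤ 1, Subsingleton (Coh.HH X
      (CohB1.tensorMod (Coh.structureModule X) (CohB1.tensorPow (ClSub.idealMod I) m)) i)) (a : ℕ) :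
    Lef.HomToFormalBijective I (CohB1.tensorPow (ClSub.idealMod I) a) := by
  obtain ⟨m₀, h⟩ := h
  obtain ⟨e⟩ : Nonempty (CohB1.tensorMod (CohB1.tensorPow L a) (CohB1.tensorPow (ClSub.idealMod I) a) ≅
      Coh.structureModule X) := by
    rw [← mc_eq_iff, mc_tensor, mc_tensorPow, mc_tensorPow, ← mul_pow, mc_inv hL, one_pow, mc_one]
  have hv : ∀ n : ℕ, m₀ + a ≤ n → ∀ i ≤ 1, Subsingleton (Coh.HH X
      (CohB1.tensorMod (ClSub.idealMod (I ^ n)) (CohB1.tensorPow L a)) i) := by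
    intro n hn i hi
    obtain ⟨e'⟩ : Nonempty (CohB1.tensorMod (Coh.structureModule X)
        (CohB1.tensorPow (ClSub.idealMod I) (n - a)) ≅
        CohB1.tensorMod (ClSub.idealMod (I ^ n)) (CohB1.tensorPow L a)) := by
      obtain ⟨e1⟩ := ThickCoh.idealMod_pow (Dix.IdealModCartier.isEffCartierIdeal_of_isInverseOf hL) n
      rw [← mc_eq_iff, mc_tensor, mc_tensorPow, mc_tensor, mc_tensorPow, mc_one, one_mul, ← mc_eq e1,
        mc_tensorPow]
      conv_rhs => rw [show n = (n - a) + a by omega, pow_add, mul_assoc, ← mul_pow, mul_comm (mc _) (mc L),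
        mc_inv hL, one_pow, mul_one]
    exact ThickCoh.subsingleton_HH_of_iso e' i (h (n - a) (by omega) i hi)
  refine homToFormalBijective_of_eventually (m₀ + a) (fun n hn φ hφ => ?_) (fun n hn y => ?_)
  · have h1 := hom_eq_zero e (hv (n + 1) (by omega) 0 (by omega)) (kernel.lift _ φ hφ)
    rw [← kernel.lift_ι _ φ hφ]
    exact (congrArg (· ≫ kernel.ι (ClSub.toSubscheme (I ^ (n + 1)))) h1).trans zero_comp
  · exact hom_surjective e (shortExact_idealMod (I ^ (n + 1))) (hv (n + 1) (by omega) 1 le_rfl) y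

/-- The same for finite (in fact arbitrary) coproducts. -/
theorem homToFormalBijective_sigma (I : X.IdealSheafData) (L : X.Modules)
    (hL : ClSub.IsInverseOf L (ClSub.idealMod I))
    (h : ∃ m₀ : ℕ, ∀ m : ℕ, m₀ ≤ m → ∀ i ≤ 1, Subsingleton (Coh.HH X
      (CohB1.tensorMod (Coh.structureModule X) (CohB1.tensorPow (ClSub.idealMod I) m)) i)) (a : ℕ)
    (J : Type) [Finite J] :
    Lef.HomToFormalBijective I (∐ fun _ : J => CohB1.tensorPow (ClSub.idealMod I) a) :=
  LefLeftExact.bijective_sigma _ fun _ => homToFormalBijective_tensorPow I L hL h a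

end Groth.Agent.Sga2.LefPow644
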