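import Groth.Agent.Sga2.LefLeftExact
import Groth.Agent.Ega1.QcqsPush
import Mathlib.AlgebraicGeometry.Modules.Tilde

/-!
# The Lefschetz comparison for quasi-coherent modules on a quasi-affine scheme

`D` quasi-coherent on a quasi-compact open of an affine scheme has a global presentation by free modules, so the
comparison `Hom(D, O_U) → lim Hom(D, O_U/J^{n+1})` is bijective if it is for `D = O_U`.
-/

set_option autoImplicit false

universe u

open CategoryTheory CategoryTheory.Limits AlgebraicGeometry TopologicalSpace Opposite

namespace Groth.Agent.Sga2.LefQcoh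

theorem nonempty_presentation {R : CommRingCat.{u}} {U : Scheme.{u}} (j : U ⟶ Spec R)
    [IsOpenImmersion j] [QuasiCompact j] (D : U.Modules) (hD : Coh.IsQCoh D) :
    Nonempty (SheafOfModules.Presentation.{u} D) := by
  have h1 : Coh.IsQCoh ((Scheme.Modules.pushforward j).obj D) :=
    Groth.Agent.Ega1.QcqsPush.isQCoh_pushforward j D hD
  have h2 : IsIso (Scheme.Modules.fromTildeΓ ((Scheme.Modules.pushforward j).obj D)) :=
    @Scheme.Modules.isIso_fromTildeΓ_of_isQuasicoherent R _ h1
  let P1 := presentationTilde.{u} (modulesSpecToSheaf.obj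
    ((Scheme.Modules.pushforward j).obj D) |>.presheaf.obj (.op ⊤)) .univ (by simp) _
    (Submodule.span_eq _)
  let P2 := @SheafOfModules.Presentation.ofIsIso.{u, u, u} _ _ _ _ _ _ _ _
    (Scheme.Modules.fromTildeΓ ((Scheme.Modules.pushforward j).obj D)) h2 P1
  let P3 := Scheme.Modules.presentationRestrict j P2
  exact ⟨SheafOfModules.Presentation.ofIsIso.{u, u, u}
    ((Scheme.Modules.restrictFunctorAdjCounitIso j).hom.app D) P3⟩

variable {U : Scheme.{u}} {J : U.IdealSheafData}

theorem bijective_of_presentation {D : U.Modules} (P : SheafOfModules.Presentation.{u} D)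
    (h : Lef.HomToFormalBijective J (Coh.structureModule U)) : Lef.HomToFormalBijective J D :=
  LefLeftExact.bijective_of_cokernel _ _ _ P.isColimit
    (LefLeftExact.formalInj_of_bijective (LefLeftExact.bijective_sigma _ fun _ => h))
    (LefLeftExact.bijective_sigma _ fun _ => h)

theorem bijective_of_isQCoh {R : CommRingCat.{u}} (j : U ⟶ Spec R)
    [IsOpenImmersion j] [QuasiCompact j] (D : U.Modules) (hD : Coh.IsQCoh D)
    (h : LefBasic.GammaComplete J) : Lef.HomToFormalBijective J D := by
  obtain ⟨P⟩ := nonempty_presentation j D hD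
  exact bijective_of_presentation P (LefBasic.homToFormalBijective_of_gammaComplete J h)

end Groth.Agent.Sga2.LefQcoh
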