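import Groth.Agent.Sga2.LefGamma
import Groth.Agent.Divis.IdealComap
import Mathlib.AlgebraicGeometry.Morphisms.Flat
import Mathlib.RingTheory.Regular.Flat

/-!
# Functions on opens of an affine scheme and on principal thickenings

`j : U ⟶ Spec A` open immersion, `toΓ j : A →+* Γ(U, ⊤)`.
-/

set_option autoImplicit false

universe u

open CategoryTheory CategoryTheory.Limits AlgebraicGeometry TopologicalSpace Opposite
open Groth.Agent.Ega1.QCohLoc (resO resO_resO resO_rfl basicOpen_resO)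

namespace Groth.Agent.Sga2.LefSpec

open LefGamma

variable {A : Type u} [CommRing A] {U : Scheme.{u}} (j : U ⟶ Spec (CommRingCat.of A))

/-- the ring map `A → Γ(U, ⊤)` -/
noncomputable def toΓ : A →+* Γ(U, ⊤) :=
  (j.appTop.hom).comp (Scheme.ΓSpecIso (CommRingCat.of A)).inv.hom

/-- the global function on `Spec A` -/
noncomputable def fn (f : A) : Γ(Spec (CommRingCat.of A), ⊤) :=
  (Scheme.ΓSpecIso (CommRingCat.of A)).inv.hom f

lemma toΓ_apply (f : A) : toΓ j f = j.appTop (fn f) := rfl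

lemma basicOpen_fn (f : A) :
    (Spec (CommRingCat.of A)).basicOpen (fn f) = PrimeSpectrum.basicOpen f := by
  rw [basicOpen_eq_of_affine']
  congr 1
  exact congr($((Scheme.ΓSpecIso (CommRingCat.of A)).inv_hom_id) f)

lemma fn_surjective (a : Γ(Spec (CommRingCat.of A), ⊤)) : ∃ f : A, fn f = a :=
  ⟨(Scheme.ΓSpecIso (CommRingCat.of A)).hom a,
    congr($((Scheme.ΓSpecIso (CommRingCat.of A)).hom_inv_id) a)⟩

lemma fn_injective : Function.Injective (fn : A → _) := fun a b h => by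
  have := congr((Scheme.ΓSpecIso (CommRingCat.of A)).hom $h)
  have h1 : ∀ a : A, (Scheme.ΓSpecIso (CommRingCat.of A)).hom (fn a) = a := fun a =>
    congr($((Scheme.ΓSpecIso (CommRingCat.of A)).inv_hom_id) a)
  rwa [h1, h1] at this

lemma basicOpen_toΓ (f : A) :
    j ⁻¹ᵁ ((Spec (CommRingCat.of A)).basicOpen (fn f)) = U.basicOpen (toΓ j f) :=
  j.preimage_basicOpen (fn f)

lemma mem_basicOpen_toΓ (f : A) (x : U) : x ∈ U.basicOpen (toΓ j f) ↔ f ∉ (j x).asIdeal := by
  rw [← basicOpen_toΓ, basicOpen_fn]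
  rfl

variable [IsOpenImmersion j]

lemma isAffineOpen_basicOpen (f : A)
    (hf : (Spec (CommRingCat.of A)).basicOpen (fn f) ≤ j.opensRange) :
    IsAffineOpen (U.basicOpen (toΓ j f)) := by
  rw [← basicOpen_toΓ, ← Scheme.Hom.isAffineOpen_iff_of_isOpenImmersion j,
    Scheme.Hom.image_preimage_eq_opensRange_inf, inf_eq_right.mpr hf]
  exact (isAffineOpen_top (Spec (CommRingCat.of A))).basicOpen (fn f)

lemma exists_basicOpen_le (x : U) : ∃ f : A, f ∉ (j x).asIdeal ∧
    (Spec (CommRingCat.of A)).basicOpen (fn f) ≤ j.opensRange := by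
  obtain ⟨_, ⟨_, ⟨f, rfl⟩, rfl⟩, hx, hle⟩ := PrimeSpectrum.isBasis_basic_opens.exists_subset_of_mem_open
    (show j x ∈ (j.opensRange : Set _) from ⟨x, rfl⟩) j.opensRange.isOpen
  refine ⟨f, hx, ?_⟩
  rw [basicOpen_fn]
  exact hle

/-- numerators -/
lemma exists_eq_pow_mul (f : A)
    (hf : (Spec (CommRingCat.of A)).basicOpen (fn f) ≤ j.opensRange)
    (c : Γ(U, U.basicOpen (toΓ j f))) :
    ∃ (n : ℕ) (a : A), resO le_top (toΓ j a) = resO le_top (toΓ j f) ^ n * c := by
  have := Scheme.Hom.isIso_app j _ hf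
  have hbij : Function.Bijective (j.app ((Spec (CommRingCat.of A)).basicOpen (fn f))) :=
    ConcreteCategory.bijective_of_isIso _
  obtain ⟨c', hc'⟩ := hbij.2 (resO (basicOpen_toΓ j f).le c)
  obtain ⟨n, a', ha'⟩ := exists_eq_pow_mul_of_isCompact_of_isQuasiSeparated
    (Spec (CommRingCat.of A)) ⊤ CompactSpace.isCompact_univ isQuasiSeparated_univ (fn f) c'
  obtain ⟨a, rfl⟩ := fn_surjective a'
  have h1 : resO le_top (fn a) = resO (le_top :
    (Spec (CommRingCat.of A)).basicOpen (fn f) ≤ ⊤) (fn f) ^ n * c' := ha'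
  have h2 := congr(resO (basicOpen_toΓ j f).ge (j.app _ $h1))
  rw [map_mul, map_mul, hc', map_pow, map_pow, app_resO, app_resO, resO_resO, resO_resO,
    resO_resO] at h2
  refine ⟨n, a, ?_⟩
  rw [resO_rfl] at h2
  exact h2

lemma exists_pow_mul_eq_zero (f : A)
    (hf : (Spec (CommRingCat.of A)).basicOpen (fn f) ≤ j.opensRange) (a : A)
    (ha : toΓ j a = 0) : ∃ n : ℕ, f ^ n * a = 0 := by
  have := Scheme.Hom.isIso_app j _ hf
  have hbij : Function.Bijective (j.app ((Spec (CommRingCat.of A)).basicOpen (fn f))) :=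
    ConcreteCategory.bijective_of_isIso _
  have h1 : resO (le_top : (Spec (CommRingCat.of A)).basicOpen (fn f) ≤ ⊤) (fn a) = 0 := by
    apply hbij.1
    rw [app_resO, map_zero]
    have : j.app ⊤ (fn a) = 0 := ha
    rw [this, map_zero]
  obtain ⟨n, hn⟩ := exists_pow_mul_eq_zero_of_res_basicOpen_eq_zero_of_isCompact
    (Spec (CommRingCat.of A)) (U := ⊤) CompactSpace.isCompact_univ _ _ h1
  refine ⟨n, fn_injective ?_⟩
  have h2 : fn (f ^ n * a) = fn f ^ n * fn a := by
    unfold fn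
    rw [map_mul, map_pow]
  have h3 : fn (0 : A) = 0 := map_zero _
  rw [h2, hn, h3]

/-- local description of global functions -/
lemma exists_mul_eq [CompactSpace U] (b : Γ(U, ⊤)) (x : U) :
    ∃ f ∉ (j x).asIdeal, ∃ a : A, toΓ j a = toΓ j f * b := by
  obtain ⟨f, hfx, hf⟩ := exists_basicOpen_le j x
  obtain ⟨n, a, ha⟩ := exists_eq_pow_mul j f hf (resO le_top b)
  have h1 : resO (le_top : U.basicOpen (toΓ j f) ≤ ⊤) (toΓ j a - toΓ j f ^ n * b) = 0 := by
    rw [map_sub, map_mul, map_pow, ha, sub_self]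
  obtain ⟨m, hm⟩ := exists_pow_mul_eq_zero_of_res_basicOpen_eq_zero_of_isCompact U (U := ⊤)
    CompactSpace.isCompact_univ _ _ h1
  refine ⟨f ^ (m + n), fun h => hfx ((j x).isPrime.mem_of_pow_mem _ h), f ^ m * a, ?_⟩
  rw [mul_sub, sub_eq_zero] at hm
  rw [map_mul, map_pow, hm, map_pow, pow_add, mul_assoc]

lemma exists_mul_eq_zero (a : A) (ha : toΓ j a = 0) (x : U) : ∃ f ∉ (j x).asIdeal, f * a = 0 := by
  obtain ⟨f, hfx, hf⟩ := exists_basicOpen_le j x
  obtain ⟨n, hn⟩ := exists_pow_mul_eq_zero j f hf a ha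
  exact ⟨f ^ n, fun h => hfx ((j x).isPrime.mem_of_pow_mem _ h), hn⟩

variable (A) in
/-- the ideal sheaf of `V(t)` on `Spec A` -/
noncomputable abbrev idl (t : A) : (Spec (CommRingCat.of A)).IdealSheafData :=
  (Spec.map (CommRingCat.ofHom (Ideal.Quotient.mk (Ideal.span {t})))).ker

lemma idl_ideal_top (t : A) : (idl A t).ideal ⟨⊤, isAffineOpen_top _⟩ = Ideal.span {fn t} := by
  rw [Scheme.Hom.ker_apply]
  ext y
  obtain ⟨a, rfl⟩ := fn_surjective y
  have h1 := congr($(Scheme.ΓSpecIso_inv_naturality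
    (CommRingCat.ofHom (Ideal.Quotient.mk (Ideal.span {t})))) a)
  have h2 : (Spec.map (CommRingCat.ofHom (Ideal.Quotient.mk (Ideal.span {t})))).app ⊤ (fn a) =
      fn (Ideal.Quotient.mk (Ideal.span {t}) a) := h1.symm
  rw [RingHom.mem_ker]
  have h3 : ((Spec.map (CommRingCat.ofHom (Ideal.Quotient.mk (Ideal.span {t})))).app ⊤).hom (fn a) =
    0 ↔ a ∈ Ideal.span {t} := by
    rw [← Ideal.Quotient.eq_zero_iff_mem]
    constructor
    · intro h
      refine fn_injective (h2.symm.trans (h.trans ?_))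
      exact (map_zero (Scheme.ΓSpecIso (CommRingCat.of (A ⧸ Ideal.span {t}))).inv.hom).symm
    · intro h
      refine h2.trans ?_
      rw [h]
      exact (map_zero (Scheme.ΓSpecIso (CommRingCat.of (A ⧸ Ideal.span {t}))).inv.hom)
  rw [h3, Ideal.mem_span_singleton, Ideal.mem_span_singleton]
  constructor
  · rintro ⟨b, rfl⟩
    exact ⟨fn b, map_mul (Scheme.ΓSpecIso (CommRingCat.of A)).inv.hom _ _⟩
  · rintro ⟨b', hb'⟩
    obtain ⟨b, rfl⟩ := fn_surjective b'
    refine ⟨b, fn_injective (hb'.trans ?_)⟩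
    exact (map_mul (Scheme.ΓSpecIso (CommRingCat.of A)).inv.hom _ _).symm

omit [IsOpenImmersion j] in
lemma isGenBy (t : A) : IsGenBy ((idl A t).comap j) (toΓ j t) := by
  intro V
  rw [Groth.Agent.Divis.IdealComap.ideal_comap (idl A t) j ⟨⊤, isAffineOpen_top _⟩ V le_top, idl_ideal_top,
    Ideal.map_span, Set.image_singleton]
  rfl

lemma isSMulRegular {t : A} (hreg : IsSMulRegular A t) (V : U.affineOpens) :
    IsSMulRegular Γ(U, V.1) (resO (le_top : V.1 ≤ ⊤) (toΓ j t)) := by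
  have h1 : (j.appLE ⊤ V.1 le_top).hom.Flat := j.flat_appLE (isAffineOpen_top _) V.2 _
  let φ : A →+* Γ(U, V.1) := (j.appLE ⊤ V.1 le_top).hom.comp
    (Scheme.ΓSpecIso (CommRingCat.of A)).inv.hom
  have h2 : φ.Flat := RingHom.Flat.comp (RingHom.Flat.of_bijective
    (f := (Scheme.ΓSpecIso (CommRingCat.of A)).inv.hom)
    (ConcreteCategory.bijective_of_isIso (Scheme.ΓSpecIso (CommRingCat.of A)).inv)) h1
  let _ := φ.toAlgebra
  have h3 : Module.Flat A Γ(U, V.1) := h2
  exact hreg.of_flat (S := Γ(U, V.1))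

end Groth.Agent.Sga2.LefSpec
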