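import Groth.Agent.Sga2.LefAlg4
import Groth.Agent.Sga2.LefSpec
import Groth.Agent.Sga2.LefQcoh

/-!
# The Lefschetz condition for the punctured spectrum (SGA 2 X 2.1)
-/

set_option autoImplicit false

universe u

open CategoryTheory CategoryTheory.Limits AlgebraicGeometry TopologicalSpace Opposite
open Groth.Agent.Ega1.QCohLoc (resO resO_resO resO_rfl basicOpen_resO)

namespace Groth.Agent.Sga2.LefPunct

open LefGamma LefSpec

lemma inclusion_appTop {U : Scheme.{u}} {I J : U.IdealSheafData} (h : I ≤ J) (b : Γ(U, ⊤)) :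
    (Scheme.IdealSheafData.inclusion h).appTop (I.subschemeι.appTop b) = J.subschemeι.appTop b := by
  have h1 := Scheme.IdealSheafData.inclusion_subschemeι h
  have h2 := congr($(congrArg Scheme.Hom.appTop h1) b)
  rw [← h2]
  rfl

variable {R : Type u} [CommRing R] [IsRegularLocalRing R] {A : Type u} [CommRing A]
  [IsLocalRing A] [IsNoetherianRing A] (π : R →+* A) (hπ : Function.Surjective π) (t : A)
  (ht : t ∈ IsLocalRing.maximalIdeal A) (hreg : IsSMulRegular A t)
  [IsAdicComplete (Ideal.span {t}) A]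
  (hdepth : ∀ p : PrimeSpectrum A, ringKrullDim (A ⧸ p.asIdeal) = 1 →
    (2 : ℕ∞) ≤ LocCoh.depth (Localization.AtPrime p.asIdeal) (Localization.AtPrime p.asIdeal))
  {U : Scheme.{u}} (j : U ⟶ Spec (CommRingCat.of A)) [IsOpenImmersion j]
  (hU : ∀ q : PrimeSpectrum A, t ∈ q.asIdeal → q.asIdeal ≠ IsLocalRing.maximalIdeal A →
    q ∈ Set.range j)

include hπ ht hreg hdepth hU in
theorem gammaComplete : LefBasic.GammaComplete ((idl A t).comap j) := by
  have hNU : NoetherianSpace U := j.isOpenEmbedding.isInducing.noetherianSpace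
  have hQU : QuasiSeparatedSpace U := inferInstance
  set J := (idl A t).comap j with hJdef
  have hJ : IsGenBy J (toΓ j t) := isGenBy j t
  let _ : Module A Γ(U, ⊤) := Module.compHom _ (toΓ j)
  let _ : ∀ n, Module A Γ((J ^ (n + 1)).subscheme, ⊤) := fun n =>
    Module.compHom _ ((J ^ (n + 1)).subschemeι.appTop.hom.comp (toΓ j))
  let ι : A →ₗ[A] Γ(U, ⊤) :=
    { toFun := toΓ j
      map_add' := map_add _
      map_smul' := fun a b => map_mul (toΓ j) a b }
  let ρ : ∀ n, Γ(U, ⊤) →ₗ[A] Γ((J ^ (n + 1)).subscheme, ⊤) := fun n =>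
    { toFun := (J ^ (n + 1)).subschemeι.appTop.hom
      map_add' := map_add _
      map_smul' := fun a b => map_mul (J ^ (n + 1)).subschemeι.appTop.hom (toΓ j a) b }
  let τ : ∀ n, Γ((J ^ (n + 1 + 1)).subscheme, ⊤) →ₗ[A] Γ((J ^ (n + 1)).subscheme, ⊤) := fun n =>
    { toFun := (Scheme.IdealSheafData.inclusion (Lef.pow_succ_le J n)).appTop.hom
      map_add' := map_add _
      map_smul' := fun a z => by
        refine (map_mul (Scheme.IdealSheafData.inclusion (Lef.pow_succ_le J n)).appTop.hom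
          ((J ^ (n + 1 + 1)).subschemeι.appTop.hom (toΓ j a)) z).trans ?_
        exact congr($(inclusion_appTop (Lef.pow_succ_le J n) (toΓ j a)) * _) }
  have key := LefAlg4.main π hπ t ht hreg hdepth (Set.range j) hU ι ρ τ
    (fun n b => inclusion_appTop (Lef.pow_succ_le J n) b)
    (fun n b => by
      constructor
      · intro h
        obtain ⟨b', hb'⟩ := exists_of_appTop_eq_zero hJ (n + 1) (isSMulRegular j hreg) b h
        refine ⟨b', hb'.trans ?_⟩
        exact congr($((map_pow (toΓ j) t (n + 1)).symm) * b')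
      · rintro ⟨b', rfl⟩
        have h1 := appTop_pow_mul hJ (n + 1) b'
        rw [← map_pow] at h1
        exact h1)
    (fun a ha q hq => by
      obtain ⟨x, rfl⟩ := hq
      exact exists_mul_eq_zero j a ha x)
    (fun z hz => by
      refine eq_zero_of_forall z fun x => ?_
      obtain ⟨f, hf, hfz⟩ := hz (j x) ⟨x, rfl⟩
      exact ⟨toΓ j f, (mem_basicOpen_toΓ j f x).mpr hf, hfz⟩)
    (fun b q hq => by
      obtain ⟨x, rfl⟩ := hq
      obtain ⟨f, hf, a, ha⟩ := exists_mul_eq j b x
      exact ⟨f, hf, a, ha⟩)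
    (fun n z hz => by
      refine eq_zero_of_forall z fun y => ?_
      obtain ⟨f, hf, hfz⟩ := hz (j ((J ^ (n + 1)).subschemeι y)) ⟨_, rfl⟩
      refine ⟨(J ^ (n + 1)).subschemeι.appTop (toΓ j f), ?_, hfz⟩
      have h1 : y ∈ (J ^ (n + 1)).subschemeι ⁻¹ᵁ (U.basicOpen (toΓ j f)) :=
        (mem_basicOpen_toΓ j f _).mpr hf
      rw [(J ^ (n + 1)).subschemeι.preimage_basicOpen (toΓ j f)] at h1
      exact h1)
    (fun n z q hq => by
      obtain ⟨x, rfl⟩ := hq
      obtain ⟨f, hfx, hf⟩ := exists_basicOpen_le j x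
      obtain ⟨m, b, hb⟩ := exists_pow_mul_eq (J ^ (n + 1)).subschemeι (toΓ j f)
        (isAffineOpen_basicOpen j f hf) z
      refine ⟨f ^ m, fun h => hfx ((j x).isPrime.mem_of_pow_mem _ h), b, ?_⟩
      refine hb.trans ?_
      have h1 : (J ^ (n + 1)).subschemeι.appTop (toΓ j (f ^ m)) =
          (J ^ (n + 1)).subschemeι.appTop (toΓ j f) ^ m := by
        rw [map_pow, map_pow]
      exact congr($(h1.symm) * z))
  refine ⟨fun s s' h => ?_, fun y hy => key.2 y hy⟩
  rw [← sub_eq_zero]
  refine key.1 _ fun n => ?_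
  rw [map_sub, sub_eq_zero]
  exact h n

end Groth.Agent.Sga2.LefPunct
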