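import Groth.Agent.Sga2.LefOpen

/-!
# Extension of families of units to all thickenings
-/

set_option autoImplicit false

universe u

open CategoryTheory CategoryTheory.Limits AlgebraicGeometry TopologicalSpace Opposite

namespace Groth.Agent.Sga2.LefSeq

open Groth.Agent.Fdesc.LocGen Groth.Agent.Sga2.LineLift Groth.Agent.Sga2.LefThick
  Groth.Agent.Sga2.LefOpen

section Seq

variable {ι : Type u} {Y : Scheme.{u}} {W : ι → Y.Opens} {g : ∀ x y, Γ(Y, W x ⊓ W y)}
  (J : Y.IdealSheafData)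

lemma pow_le_pow {m m' : ℕ} (h : m ≤ m') : J ^ (m' + 1) ≤ J ^ (m + 1) := by
  intro V
  rw [Scheme.IdealSheafData.ideal_pow, Scheme.IdealSheafData.ideal_pow, Pi.pow_apply, Pi.pow_apply]
  exact Ideal.pow_le_pow_right (by omega)

/-- transition maps between arbitrary levels -/
noncomputable def incLE {m m' : ℕ} (h : m ≤ m') : T J m ⟶ T J m' :=
  Scheme.IdealSheafData.inclusion (pow_le_pow J h)

lemma incLE_tι {m m' : ℕ} (h : m ≤ m') : incLE J h ≫ tι J m' = tι J m :=
  Scheme.IdealSheafData.inclusion_subschemeι _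

lemma inc_incLE {m m' : ℕ} (h : m ≤ m') (h' : m + 1 ≤ m') :
    inc J m ≫ incLE J h' = incLE J h := by
  rw [← cancel_mono (tι J m'), Category.assoc, incLE_tι, incLE_tι, inc_tι]

lemma incLE_self (m : ℕ) (h : m ≤ m) : incLE J h = 𝟙 (T J m) := by
  rw [← cancel_mono (tι J m), incLE_tι, Category.id_comp]

variable (g) in
/-- Families at level `m`. -/
abbrev FamAt (m : ℕ) : Type u := {c : ∀ x, Γ(T J m, tι J m ⁻¹ᵁ W x) // IsFam (tι J m) g c}

/-- restriction of a family to a lower level -/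
noncomputable def restr {n : ℕ} (c : FamAt g J n) (m : ℕ) (h : m ≤ n) : FamAt g J m :=
  ⟨_, c.2.pull (incLE J h) (incLE_tι J h)⟩

lemma restr_val {n : ℕ} (c : FamAt g J n) (m : ℕ) (h : m ≤ n) (x : ι) :
    (restr J c m h).1 x = pl (incLE J h) (show tι J m ⁻¹ᵁ W x ≤ incLE J h ⁻¹ᵁ (tι J n ⁻¹ᵁ W x) by
      rw [← Scheme.Hom.comp_preimage, incLE_tι]) (c.1 x) := rfl

lemma restr_self {n : ℕ} (c : FamAt g J n) (h : n ≤ n) : restr J c n h = c := by
  apply Subtype.ext
  funext x
  rw [restr_val, pl_congr (incLE_self J n h) _ (show tι J n ⁻¹ᵁ W x ≤ (𝟙 (T J n)) ⁻¹ᵁ (tι J n ⁻¹ᵁ W x) from le_rfl),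
    pl_id _ le_rfl, ores_refl]

lemma inc_restr {n : ℕ} (c : FamAt g J n) (m : ℕ) (h : m + 1 ≤ n) (h' : m ≤ n) (x : ι) :
    pl (inc J m) (preimage_inc J m (W x)).ge ((restr J c (m + 1) h).1 x) = (restr J c m h').1 x := by
  rw [restr_val, restr_val]
  exact pl_comp (inc_incLE J h' h) _ _ _ (c.1 x)

/-- **Extension of a family to all levels**. -/
theorem exists_seq (n : ℕ) (c₀ : FamAt g J n)
    (step : ∀ m, n ≤ m → ∀ c : FamAt g J m, ∃ d : FamAt g J (m + 1),
      ∀ x, pl (inc J m) (preimage_inc J m (W x)).ge (d.1 x) = c.1 x) :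
    ∃ c : ∀ m, FamAt g J m, c n = c₀ ∧
      ∀ m x, pl (inc J m) (preimage_inc J m (W x)).ge ((c (m + 1)).1 x) = (c m).1 x := by
  classical
  let a : ∀ m : ℕ, FamAt g J m := fun m =>
    Nat.rec (motive := fun m => FamAt g J m) (restr J c₀ 0 (Nat.zero_le n))
      (fun m c => if h : m + 1 ≤ n then restr J c₀ (m + 1) h else (step m (by omega) c).choose) m
  have h1 : ∀ m (h : m ≤ n), a m = restr J c₀ m h := by
    intro m h
    cases m with
    | zero => rfl
    | succ m => exact dif_pos h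
  have h2 : ∀ m (h : n ≤ m), a (m + 1) = (step m h (a m)).choose := by
    intro m h
    exact dif_neg (by omega)
  refine ⟨a, (h1 n le_rfl).trans (restr_self J c₀ le_rfl), fun m x => ?_⟩
  by_cases h : m + 1 ≤ n
  · rw [h1 (m + 1) h, h1 m (by omega)]
    exact inc_restr J c₀ m h _ x
  · rw [h2 m (by omega)]
    exact (step m (by omega) (a m)).choose_spec x

end Seq

end Groth.Agent.Sga2.LefSeq
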