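import Groth.Agent.Sga2.LefLine
import Groth.Agent.Sga2.LefSeq
import Groth.Agent.Fdesc.LocGenPullback

/-!
# Isomorphisms of line bundles and families of units

* `exists_frames`: two invertible modules have generators over a common cover.
* `exists_cocycle`: the transition cocycle of a family of generators.
* `exists_fam`: an isomorphism of pullbacks gives a family of units.
* `exists_iso_of_fam`: a family of units gives an isomorphism.
* `exists_units_of_formal`: compatible families on all thickenings come from units on `Y`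
  when Lef holds.
-/

set_option autoImplicit false

universe u

open CategoryTheory CategoryTheory.Limits AlgebraicGeometry TopologicalSpace Opposite

namespace Groth.Agent.Sga2.LefPic

open Groth.Agent.Fdesc.LocGen Groth.Agent.Sga2.LineLift Groth.Agent.Sga2.LefThick
  Groth.Agent.Sga2.LefOpen Groth.Agent.Sga2.LefLine Groth.Agent.Sga2.LefSeq

section Frames

variable {Y : Scheme.{u}}

lemma exists_frames {L L' : Y.Modules} (hL : PicF.IsInvertible L) (hL' : PicF.IsInvertible L') :
    ∃ (W : Y → Y.Opens) (e : ∀ x, Γ(L, W x)) (e' : ∀ x, Γ(L', W x)), ⨆ x, W x = ⊤ ∧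
      (∀ x, IsGen (e x)) ∧ ∀ x, IsGen (e' x) := by
  rw [isInvertible_iff] at hL hL'
  choose A a ha hga using hL
  choose B b hb hgb using hL'
  refine ⟨fun x => A x ⊓ B x, fun x => res L inf_le_left (a x), fun x => res L' inf_le_right (b x),
    ?_, fun x => (hga x).res _, fun x => (hgb x).res _⟩
  rw [eq_top_iff]
  intro x _
  exact Opens.mem_iSup.mpr ⟨x, ha x, hb x⟩

variable {ι : Type u} {W : ι → Y.Opens}

/-- The transition cocycle of a family of generators. -/
lemma exists_cocycle {L : Y.Modules} {e : ∀ x, Γ(L, W x)} (he : ∀ x, IsGen (e x)) :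
    ∃ a : ∀ x y, Γ(Y, W x ⊓ W y), IsCocycle a ∧ ∀ x y (B : Y.Opens) (hx : B ≤ W x) (hy : B ≤ W y),
      res L hy (e y) = ores (le_inf hx hy) (a x y) • res L hx (e x) := by
  choose a ha using fun x y => ((he x).res (inf_le_left : W x ⊓ W y ≤ W x)).exists_eq
    (res L (inf_le_right : W x ⊓ W y ≤ W y) (e y))
  have h : ∀ x y (B : Y.Opens) (hx : B ≤ W x) (hy : B ≤ W y),
      res L hy (e y) = ores (le_inf hx hy) (a x y) • res L hx (e x) := by
    intro x y B hx hy
    have h1 := congrArg (res L (le_inf hx hy : B ≤ W x ⊓ W y)) (ha x y)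
    rw [res_smul, res_res, res_res] at h1
    exact h1
  refine ⟨a, ⟨fun x => ?_, fun x y z B hx hy hz => ?_⟩, h⟩
  · have h1 := h x x (W x ⊓ W x) inf_le_left inf_le_right
    apply ((he x).res (inf_le_left : W x ⊓ W x ≤ W x)).ext
    rw [one_smul, ← ha]
  · apply ((he x).res hx).ext
    rw [← h x z B hx hz, mul_smul, smul_comm, ← h x y B hx hy, ← h y z B hy hz]

lemma IsCocycle.mul' {g g' : ∀ x y, Γ(Y, W x ⊓ W y)} (hg : IsCocycle g) (hg' : IsCocycle g') :
    IsCocycle (fun x y => g x y * g' x y) := by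
  refine ⟨fun x => ?_, fun x y z B hx hy hz => ?_⟩
  · rw [hg.one, hg'.one, one_mul]
  · simp only [map_mul]
    rw [hg.mul x y z B hx hy hz, hg'.mul x y z B hx hy hz]
    ring

lemma IsCocycle.mul_tr {g : ∀ x y, Γ(Y, W x ⊓ W y)} (hg : IsCocycle g) (x y : ι) :
    g x y * tr g x y = 1 := by
  have h1 := hg.mul x y x (W x ⊓ W y) inf_le_left inf_le_right inf_le_left
  rw [hg.one, map_one, ores_refl] at h1
  exact h1.symm

end Frames

section Iso

variable {Y S : Scheme.{u}} (t : S ⟶ Y) {ι : Type u} {W : ι → Y.Opens}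
  {L L' : Y.Modules} {e : ∀ x, Γ(L, W x)} {e' : ∀ x, Γ(L', W x)}
  (he : ∀ x, IsGen (e x)) (he' : ∀ x, IsGen (e' x))
  {a a' : ∀ x y, Γ(Y, W x ⊓ W y)} (ha : IsCocycle a) (ha' : IsCocycle a')
  (hea : ∀ x y (B : Y.Opens) (hx : B ≤ W x) (hy : B ≤ W y),
      res L hy (e y) = ores (le_inf hx hy) (a x y) • res L hx (e x))
  (hea' : ∀ x y (B : Y.Opens) (hx : B ≤ W x) (hy : B ≤ W y),
      res L' hy (e' y) = ores (le_inf hx hy) (a' x y) • res L' hx (e' x))

include he he' ha' hea hea' in
/-- An isomorphism of pullbacks gives a family of units. -/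
theorem exists_fam (ψ : (Scheme.Modules.pullback t).obj L ⟶ (Scheme.Modules.pullback t).obj L')
    [IsIso ψ] : ∃ c : ∀ x, Γ(S, t ⁻¹ᵁ W x), IsFam t (fun x y => a x y * tr a' x y) c := by
  have h1 : ∀ x, IsGen (ψ.app (t ⁻¹ᵁ W x) (pullSec t (e x))) := fun x => ((he x).pullSec t).app ψ
  have h2 : ∀ x, IsGen (pullSec t (e' x)) := fun x => (he' x).pullSec t
  choose c hcu hc using fun x => (h2 x).exists_unit (h1 x)
  refine ⟨c, hcu, ?_⟩
  have key : ∀ x y, ores (t.preimage_mono (inf_le_right : W x ⊓ W y ≤ W y)) (c y) =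
      ores (t.preimage_mono (inf_le_left : W x ⊓ W y ≤ W x)) (c x) *
        pl t (le_refl (t ⁻¹ᵁ (W x ⊓ W y))) (a x y * tr a' x y) := by
    intro x y
    have h3 := congrArg (res _ (t.preimage_mono (inf_le_right : W x ⊓ W y ≤ W y))) (hc y)
    rw [← app_res, res_pullSec t (inf_le_right : W x ⊓ W y ≤ W y), res_smul,
      res_pullSec t (inf_le_right : W x ⊓ W y ≤ W y),
      hea x y (W x ⊓ W y) inf_le_left inf_le_right, hea' x y (W x ⊓ W y) inf_le_left inf_le_right,
      pullSec_smul, pullSec_smul, Scheme.Modules.Hom.app_smul,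
      ← res_pullSec t (inf_le_left : W x ⊓ W y ≤ W x),
      ← res_pullSec t (inf_le_left : W x ⊓ W y ≤ W x), app_res, hc x, res_smul, ores_refl, ores_refl, smul_smul, smul_smul] at h3
    have h4 := ((h2 x).res (t.preimage_mono (inf_le_left : W x ⊓ W y ≤ W x))).ext h3
    rw [← pl_eq_app, ← pl_eq_app] at h4
    have h5 : pl t (le_refl (t ⁻¹ᵁ (W x ⊓ W y))) (a' x y) *
        pl t (le_refl (t ⁻¹ᵁ (W x ⊓ W y))) (tr a' x y) = 1 := by
      rw [← map_mul, IsCocycle.mul_tr ha', map_one]
    rw [map_mul]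
    linear_combination (-pl t (le_refl (t ⁻¹ᵁ (W x ⊓ W y))) (tr a' x y)) * h4 +
      (-ores (t.preimage_mono (inf_le_right : W x ⊓ W y ≤ W y)) (c y)) * h5
  intro x y B hx hy
  have h6 := congrArg (ores (show B ≤ t ⁻¹ᵁ (W x ⊓ W y) from le_inf hx hy)) (key x y)
  rw [map_mul, ores_ores, ores_ores, ores_pl] at h6
  exact h6

include he he' ha hea hea' in
/-- A family of units gives an isomorphism. -/
theorem exists_iso_of_fam (hW : ⨆ x, W x = ⊤) (ha' : IsCocycle a') (f : ∀ x, Γ(Y, W x)) (hf : ∀ x, IsUnit (f x))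
    (hfg : ∀ x y, ores inf_le_right (f y) = ores inf_le_left (f x) * (a x y * tr a' x y)) :
    Nonempty (L ≅ L') := by
  have h1 : ∀ x y, res L (inf_le_left : W x ⊓ W y ≤ W x) (e x) =
      tr a x y • res L (inf_le_right : W x ⊓ W y ≤ W y) (e y) := by
    intro x y
    rw [hea x y (W x ⊓ W y) inf_le_left inf_le_right, ores_refl, smul_smul, mul_comm,
      IsCocycle.mul_tr ha, one_smul]
  have h2 : ∀ x y, res L' (inf_le_left : W x ⊓ W y ≤ W x) (f x • e' x) =
      tr a x y • res L' (inf_le_right : W x ⊓ W y ≤ W y) (f y • e' y) := by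
    intro x y
    rw [res_smul, res_smul, hea' x y (W x ⊓ W y) inf_le_left inf_le_right, ores_refl, smul_smul,
      smul_smul, hfg x y]
    apply congrArg (· • res L' (inf_le_left : W x ⊓ W y ≤ W x) (e' x))
    linear_combination (-ores (inf_le_left : W x ⊓ W y ≤ W x) (f x)) * IsCocycle.mul_tr ha x y +
      (-ores (inf_le_left : W x ⊓ W y ≤ W x) (f x)) * a x y * tr a x y * IsCocycle.mul_tr ha' x y
  obtain ⟨φ, -⟩ := Picfga.LineHom.exists_iso hW he (n := fun x => f x • e' x)
    (Picfga.LineHom.trans_of_inf he (fun x y => ⟨tr a x y, h1 x y, h2 x y⟩))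
    (fun x => (he' x).unit_smul (hf x))
  exact ⟨φ⟩

end Iso

section Units

variable {ι : Type u} {Y : Scheme.{u}} {W : ι → Y.Opens} {g : ∀ x y, Γ(Y, W x ⊓ W y)}
  (J : Y.IdealSheafData)

/-- **Compatible families of units on the thickenings come from units on `Y`** when Lef holds. -/
theorem exists_units_of_formal
    (hLef : ∀ D : Y.Modules, FlatMod.IsFinLocFree D → Lef.HomToFormalBijective J D)
    (hW : ⨆ x, W x = ⊤) (hg : IsCocycle g)
    (c : ∀ m x, Γ(T J m, tι J m ⁻¹ᵁ W x)) (hcu : ∀ m, IsFam (tι J m) g (c m))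
    (hcc : ∀ m x, pl (inc J m) (preimage_inc J m (W x)).ge (c (m + 1) x) = c m x) :
    ∃ f : ∀ x, Γ(Y, W x), (∀ x, IsUnit (f x)) ∧
      (∀ x y, ores inf_le_right (f y) = ores inf_le_left (f x) * g x y) ∧
      ∀ m x, pl (tι J m) le_rfl (f x) = c m x := by
  choose c' hc' using fun m x => ((hcu m).unit x).exists_right_inv
  obtain ⟨f, hf, hfc⟩ := exists_of_formal J hLef hW hg c (fun m x y => by
    exact (hcu m).trans x y _ _ _) hcc
  obtain ⟨f', hf', hfc'⟩ := exists_of_formal J hLef hW (isCocycle_tr hg) c' (fun m x y => by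
    have h1 := (hcu m).trans x y (tι J m ⁻¹ᵁ (W x ⊓ W y)) ((tι J m).preimage_mono inf_le_left)
      ((tι J m).preimage_mono inf_le_right)
    have h2 := congrArg (ores ((tι J m).preimage_mono (inf_le_left : W x ⊓ W y ≤ W x))) (hc' m x)
    have h3 := congrArg (ores ((tι J m).preimage_mono (inf_le_right : W x ⊓ W y ≤ W y))) (hc' m y)
    have h4 : pl (tι J m) (le_refl (tι J m ⁻¹ᵁ (W x ⊓ W y))) (g x y) *
        pl (tι J m) (le_refl (tι J m ⁻¹ᵁ (W x ⊓ W y))) (tr g x y) = 1 := by
      rw [← map_mul, IsCocycle.mul_tr hg, map_one]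
    rw [map_mul, map_one] at h2 h3
    have h5 := (((hcu m).unit y).map (ores ((tι J m).preimage_mono (inf_le_right : W x ⊓ W y ≤ W y))))
    apply h5.mul_left_cancel
    rw [h3, h1]
    linear_combination (-1 : Γ(T J m, tι J m ⁻¹ᵁ (W x ⊓ W y))) * h2 -
      ores ((tι J m).preimage_mono (inf_le_left : W x ⊓ W y ≤ W x)) (c m x) *
      ores ((tι J m).preimage_mono (inf_le_left : W x ⊓ W y ≤ W x)) (c' m x) * h4) (fun m x => by
    have h1 := congrArg (pl (inc J m) (preimage_inc J m (W x)).ge) (hc' (m + 1) x)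
    rw [map_mul, map_one, hcc] at h1
    apply ((hcu m).unit x).mul_left_cancel
    rw [h1, hc'])
  obtain ⟨u, hu⟩ := ores_glue W (fun x => le_top) hW.ge (fun x => f x * f' x) (fun x y => by
    rw [map_mul, map_mul, hf x y, hf' x y]
    linear_combination (-ores (inf_le_left : W x ⊓ W y ≤ W x) (f x) *
      ores (inf_le_left : W x ⊓ W y ≤ W x) (f' x)) * IsCocycle.mul_tr hg x y)
  have hu1 : u = 1 := by
    apply (LefBasic.gammaComplete_of_homToFormalBijective J
      (hLef _ (LefBasic.isFinLocFree_structureModule Y))).1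
    intro m
    rw [map_one]
    have h6 : pl (tι J m) (le_refl (tι J m ⁻¹ᵁ ⊤)) u = 1 := by
      refine ores_ext (fun x => tι J m ⁻¹ᵁ W x) (fun x => (tι J m).preimage_mono le_top) ?_
        (fun x => ?_)
      · rw [← Scheme.Hom.preimage_iSup, hW]
      · rw [ores_pl, map_one]
        have h7 := congrArg (pl (tι J m) (le_refl (tι J m ⁻¹ᵁ W x))) (hu x)
        rw [pl_ores, map_mul, hfc, hfc', hc'] at h7
        exact h7
    rw [pl_eq_app] at h6
    exact h6
  refine ⟨f, fun x => ?_, hf, hfc⟩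
  have h8 := hu x
  rw [hu1, map_one] at h8
  exact IsUnit.of_mul_eq_one _ h8.symm

end Units

end Groth.Agent.Sga2.LefPic
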