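import Groth.Agent.Sga2.ThickKer

/-!
# S2949: vanishing of the cohomology of `𝓘^{n+1}/𝓘^{n+2}`, and the injectivity of `Pic X → Pic X₀` from S2948

Author: helper868
-/

set_option autoImplicit false
universe u

open CategoryTheory CategoryTheory.Limits AlgebraicGeometry TopologicalSpace Opposite

namespace Groth.Agent.Sga2.PicInj

open Groth.Agent

variable {X : Scheme.{u}}

/-- `H^i(P^{n+1} ⊗ O/𝓘) = 0` gives `H^i(𝓘^{n+1}/𝓘^{n+2}) = 0`. -/
theorem subsingleton_HH_kernel {𝓘 : X.IdealSheafData} (hD : BlowUp.IsEffCartierIdeal 𝓘) (n i : ℕ)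
    (h : Subsingleton (Coh.HH X ((DCoh.tensorBi.obj (CohB1.tensorPow (ClSub.idealMod 𝓘) (n + 1))).obj
      (ClSub.quotMod 𝓘)) i)) :
    Subsingleton (Coh.HH X (kernel (Lef.quotMap (Lef.pow_succ_le 𝓘 n))) i) := by
  obtain ⟨e⟩ := ThickKer.kernel_iso hD (a := 1) (b := n + 1) (c := n + 2) (by omega) (Lef.pow_succ_le 𝓘 n)
  rw [pow_one] at e
  exact ThickCoh.subsingleton_HH_of_iso (Ega2.Tens.swap _ _ ≪≫ e) i h

theorem nonempty_pullback_iso_of_factor {Z W : Scheme.{u}} (j : Z ⟶ X) (i : W ⟶ X) (g : Z ⟶ W) (h : g ≫ i = j)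
    (M M' : X.Modules)
    (e : Nonempty ((Scheme.Modules.pullback i).obj M ≅ (Scheme.Modules.pullback i).obj M')) :
    Nonempty ((Scheme.Modules.pullback j).obj M ≅ (Scheme.Modules.pullback j).obj M') := by
  obtain ⟨e⟩ := e
  have key : ∀ M : X.Modules, Nonempty ((Scheme.Modules.pullback j).obj M ≅
      (Scheme.Modules.pullback g).obj ((Scheme.Modules.pullback i).obj M)) := fun M =>
    ⟨(Scheme.Modules.pullbackCongr h.symm).app M ≪≫ ((Scheme.Modules.pullbackComp g i).app M).symm⟩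
  obtain ⟨a⟩ := key M
  obtain ⟨b⟩ := key M'
  exact ⟨a ≪≫ (Scheme.Modules.pullback g).mapIso e ≪≫ b.symm⟩

theorem iso_of_pullback_iso {𝓘 : X.IdealSheafData}
    (h48 : ∀ L L' : ((⊤ : X.Opens) : Scheme.{u}).Modules, PicF.IsInvertible L → PicF.IsInvertible L' →
      Nonempty ((Scheme.Modules.pullback (((𝓘.comap (⊤ : X.Opens).ι) ^ (0 + 1)).subschemeι)).obj L ≅
        (Scheme.Modules.pullback (((𝓘.comap (⊤ : X.Opens).ι) ^ (0 + 1)).subschemeι)).obj L') → Nonempty (L ≅ L'))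
    (M M' : X.Modules) (hM : PicF.IsInvertible M) (hM' : PicF.IsInvertible M')
    (e : Nonempty ((Scheme.Modules.pullback 𝓘.subschemeι).obj M ≅
      (Scheme.Modules.pullback 𝓘.subschemeι).obj M')) : Nonempty (M ≅ M') := by
  set t := (⊤ : X.Opens).ι with ht
  have hiso : IsIso t := X.topIso.isIso_hom
  have hcomp : ∀ {Z : Scheme.{u}} (j : Z ⟶ ((⊤ : X.Opens) : Scheme.{u})) (M : X.Modules),
      Nonempty ((Scheme.Modules.pullback (j ≫ t)).obj M ≅
        (Scheme.Modules.pullback j).obj ((Scheme.Modules.pullback t).obj M)) := fun j M =>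
    ⟨((Scheme.Modules.pullbackComp j t).app M).symm⟩
  let κ := ((𝓘.comap t) ^ (0 + 1)).subschemeι
  let g : ((𝓘.comap t) ^ (0 + 1)).subscheme ⟶ 𝓘.subscheme :=
    Scheme.IdealSheafData.inclusion (show 𝓘.comap t ≤ (𝓘.comap t) ^ (0 + 1) from (pow_one _).ge) ≫
      (𝓘.comapIso t).hom ≫ pullback.snd t 𝓘.subschemeι
  have hg : g ≫ 𝓘.subschemeι = κ ≫ t := by
    simp only [g, κ, Category.assoc]
    rw [← pullback.condition, Scheme.IdealSheafData.comapIso_hom_fst_assoc, ← Category.assoc,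
      Scheme.IdealSheafData.inclusion_subschemeι]
  obtain ⟨e1⟩ := nonempty_pullback_iso_of_factor (κ ≫ t) 𝓘.subschemeι g hg M M' e
  obtain ⟨a⟩ := hcomp κ M
  obtain ⟨b⟩ := hcomp κ M'
  obtain ⟨e2⟩ := h48 _ _ (PicThick.isInvertible_pullback t hM) (PicThick.isInvertible_pullback t hM')
    ⟨a.symm ≪≫ e1 ≪≫ b⟩
  obtain ⟨c⟩ := PicThick.pullback_pullback_iso (inv t) t (by simp) M
  obtain ⟨d⟩ := PicThick.pullback_pullback_iso (inv t) t (by simp) M'
  exact ⟨c.symm ≪≫ (Scheme.Modules.pullback (inv t)).mapIso e2 ≪≫ d⟩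

end Groth.Agent.Sga2.PicInj
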