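import Groth.Agent.Sga2.PnDeltaFun
import Mathlib.LinearAlgebra.FiniteDimensional.Lemmas

/-!
# Lifting sections of formal bundles for large twists: the numerical argument

`exists_bijective`: double family `V n a` of finite dimensional vector spaces with maps
`V (n+1) a → V n a`, injective for `a + c ≤ n`, and surjections `V n a → V (n+1) (a+1)` for `a ≥ a₀`: the latter
are bijective for `a ≥ a₁` and `n ≥ n₀(a)`.

`exists_compatible_lift`: in an abelian category with a δ-functor `H` with values in finite dimensional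
vector spaces, a system `N n` with exact sequences `0 → Q (N n) → N (n+1) → N 0 → 0`,
`0 → B n → N (n+1) → N n → 0`: for large twists, all sections of `N 0` lift to compatible systems of sections.
-/

set_option autoImplicit false
universe w v u u'

open CategoryTheory CategoryTheory.Limits

namespace Groth.Agent.Sga2.FBunNum

theorem eventually_const_of_antitone (d : ℕ → ℕ) (m : ℕ) (h : ∀ n, m ≤ n → d (n + 1) ≤ d n) :
    ∃ n₀, m ≤ n₀ ∧ ∀ n, n₀ ≤ n → d n = d n₀ := by
  -- minimal value on `[m, ∞)`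
  have hne : (Set.range fun n => d (m + n)).Nonempty := Set.range_nonempty _
  obtain ⟨j, hj⟩ := Nat.sInf_mem hne
  have hanti : ∀ i n, d (m + n + i) ≤ d (m + n) := by
    intro i
    induction i with
    | zero => intro n; exact le_rfl
    | succ i ih => intro n; exact (h (m + n + i) (by omega)).trans (ih n)
  refine ⟨m + j, by omega, fun n hn => ?_⟩
  obtain ⟨i, rfl⟩ := Nat.exists_eq_add_of_le hn
  refine le_antisymm (hanti i j) ?_
  have h1 : d (m + j) = sInf (Set.range fun n => d (m + n)) := hj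
  rw [h1]
  exact Nat.sInf_le ⟨j + i, by simp [add_assoc]⟩

theorem exists_bijective {k : Type u'} [Field k] (V : ℕ → ℕ → Type w)
    [∀ n a, AddCommGroup (V n a)] [∀ n a, Module k (V n a)] [∀ n a, Module.Finite k (V n a)]
    (r : ∀ n a, V (n + 1) a →ₗ[k] V n a) (m : ∀ n a, V n a →ₗ[k] V (n + 1) (a + 1)) (a₀ c : ℕ)
    (hr : ∀ n a, a + c ≤ n → Function.Injective (r n a))
    (hm : ∀ n a, a₀ ≤ a → Function.Surjective (m n a)) :
    ∃ a₁, ∀ a, a₁ ≤ a → ∃ n₀, ∀ n, n₀ ≤ n → Function.Bijective (m n a) := by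
  have h1 : ∀ a, ∃ n₀, ∀ n, n₀ ≤ n → Module.finrank k (V n a) = Module.finrank k (V n₀ a) := by
    intro a
    obtain ⟨n₀, -, h⟩ := eventually_const_of_antitone (fun n => Module.finrank k (V n a)) (a + c)
      (fun n hn => LinearMap.finrank_le_finrank_of_injective (hr n a hn))
    exact ⟨n₀, h⟩
  choose n₀ hn₀ using h1
  have h2 : ∀ a, a₀ ≤ a → Module.finrank k (V (n₀ (a + 1)) (a + 1)) ≤
      Module.finrank k (V (n₀ a) a) := by
    intro a ha
    have h3 := LinearMap.finrank_le_finrank_of_surjective (hm (max (n₀ a) (n₀ (a + 1))) a ha)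
    rw [hn₀ a _ (le_max_left _ _), hn₀ (a + 1) _ ((le_max_right _ _).trans (Nat.le_succ _))] at h3
    exact h3
  obtain ⟨a₁, ha₁, h4⟩ := eventually_const_of_antitone
    (fun a => Module.finrank k (V (n₀ a) a)) a₀ h2
  refine ⟨a₁, fun a ha => ⟨max (n₀ a) (n₀ (a + 1)), fun n hn => ⟨?_, hm n a (ha₁.trans ha)⟩⟩⟩
  have h5 : Module.finrank k (V n a) = Module.finrank k (V (n + 1) (a + 1)) := by
    rw [hn₀ a n ((le_max_left _ _).trans hn),
      hn₀ (a + 1) (n + 1) (((le_max_right _ _).trans hn).trans (Nat.le_succ _))]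
    have e1 := h4 a ha
    have e2 := h4 (a + 1) (ha.trans (Nat.le_succ _))
    beta_reduce at e1 e2
    rw [e1, e2]
  exact (LinearMap.injective_iff_surjective_of_finrank_eq_finrank h5).mpr (hm n a (ha₁.trans ha))

section Tower

variable {S : ℕ → Type w} (f : ∀ n, S (n + 1) → S n)

/-- The transition map `S m → S n` for `n ≤ m` in a tower. -/
def tr {n m : ℕ} (h : n ≤ m) : S m → S n :=
  Nat.leRecOn (C := fun m => S m → S n) h (fun {k} φ => φ ∘ f k) id

theorem tr_self (n : ℕ) (x : S n) : tr f (le_refl n) x = x := by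
  unfold tr
  rw [Nat.leRecOn_self]
  rfl

theorem tr_succ {n m : ℕ} (h : n ≤ m) (h' : n ≤ m + 1) (x : S (m + 1)) :
    tr f h' x = tr f h (f m x) := by
  unfold tr
  rw [Nat.leRecOn_succ h]
  rfl

theorem f_tr {n : ℕ} : ∀ {m : ℕ} (h : n + 1 ≤ m) (h' : n ≤ m) (x : S m), f n (tr f h x) = tr f h' x := by
  intro m h
  induction m, h using Nat.le_induction with
  | base =>
    intro h' x
    rw [tr_self, tr_succ f le_rfl, tr_self]
  | succ m hm ih =>
    intro h' x
    rw [tr_succ f hm, ih (by omega), tr_succ f (by omega : n ≤ m)]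

theorem g_tr (g : ∀ n, S n → S 0) (hg : ∀ n x, g (n + 1) x = g n (f n x)) {n : ℕ} :
    ∀ {m : ℕ} (h : n ≤ m) (x : S m), g n (tr f h x) = g m x := by
  intro m h
  induction m, h using Nat.le_induction with
  | base => intro x; rw [tr_self]
  | succ m hm ih => intro x; rw [tr_succ f hm, ih, hg]

theorem exists_compatible (g : ∀ n, S n → S 0) (hg0 : ∀ x, g 0 x = x)
    (hg : ∀ n x, g (n + 1) x = g n (f n x)) (c : ℕ)
    (hf : ∀ n, c ≤ n → Function.Surjective (f n)) (n₀ : ℕ)
    (hs : ∀ n, n₀ ≤ n → Function.Surjective (g n)) (s : S 0) :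
    ∃ t : ∀ n, S n, t 0 = s ∧ ∀ n, f n (t (n + 1)) = t n := by
  classical
  obtain ⟨x, hx⟩ := hs (max n₀ c) (le_max_left _ _) s
  have hf' : ∀ n, ∃ φ : S n → S (n + 1), c ≤ n → ∀ y, f n (φ y) = y := by
    intro n
    by_cases h : c ≤ n
    · choose φ hφ using hf n h
      exact ⟨φ, fun _ => hφ⟩
    · have h' : n + 1 ≤ max n₀ c := by omega
      exact ⟨fun _ => tr f h' x, fun h'' => absurd h'' h⟩
  choose φ hφ using hf'
  let u : ∀ {m : ℕ}, max n₀ c ≤ m → S m := fun {m} h => Nat.leRecOn h (fun {k} y => φ k y) x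
  have hu0 : u le_rfl = x := Nat.leRecOn_self _
  have hu : ∀ {m : ℕ} (h : max n₀ c ≤ m), f m (u (h.trans (Nat.le_succ m))) = u h := by
    intro m h
    have e : u (h.trans (Nat.le_succ m)) = φ m (u h) := Nat.leRecOn_succ h _
    rw [e]
    exact hφ m ((le_max_right _ _).trans h) _
  refine ⟨fun n => if h : n ≤ max n₀ c then tr f h x else u (not_le.mp h).le, ?_, fun n => ?_⟩
  · beta_reduce
    rw [dif_pos (Nat.zero_le _), ← hg0 (tr f _ x), g_tr f g hg, hx]
  · beta_reduce
    by_cases h1 : n + 1 ≤ max n₀ c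
    · have h2 : n ≤ max n₀ c := by omega
      rw [dif_pos h1, dif_pos h2]
      exact f_tr f h1 h2 x
    · by_cases h2 : n ≤ max n₀ c
      · have h3 : n = max n₀ c := by omega
        rw [dif_neg h1, dif_pos h2]
        subst h3
        rw [tr_self]
        exact (hu le_rfl).trans hu0
      · rw [dif_neg h1, dif_neg h2]
        exact hu (not_le.mp h2).le

end Tower

open Groth.Agent.Sga2.PnDeltaFun

variable {C : Type u} [Category.{v} C] [Abelian C] {k : Type u'} [Field k]
  {H : ℕ → C ⥤ ModuleCat.{w} k} (D : Delta H)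

/-- The composite `N n ⟶ N 0` of the transition maps of a tower. -/
def toZero {C : Type u} [Category.{v} C] {N : ℕ → C} (p : ∀ n, N (n + 1) ⟶ N n) : ∀ n, N n ⟶ N 0
  | 0 => 𝟙 _
  | n + 1 => p n ≫ toZero p n

include D in
/-- For a tower `N` with exact sequences `0 → Q (N n) → N (n+1) → N 0 → 0` and
`0 → B n → N (n+1) → N n → 0` in an abelian category with exact twists `T a`, `T (a+1) (Q F) ≅ T a F`:
for large twists all sections of `N 0` lift to compatible systems of sections. -/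
theorem exists_compatible_lift (N : ℕ → C) (p : ∀ n, N (n + 1) ⟶ N n)
    (T : ℕ → C ⥤ C) [∀ a, PreservesFiniteLimits (T a)] [∀ a, PreservesFiniteColimits (T a)]
    (Q : C ⥤ C) (e : ∀ a n, (T (a + 1)).obj (Q.obj (N n)) ≅ (T a).obj (N n))
    (μ : ∀ n, Q.obj (N n) ⟶ N (n + 1)) (wA : ∀ n, μ n ≫ toZero p (n + 1) = 0)
    (hA : ∀ n, (ShortComplex.mk (μ n) (toZero p (n + 1)) (wA n)).ShortExact)
    (B : ℕ → C) (ι : ∀ n, B n ⟶ N (n + 1)) (wB : ∀ n, ι n ≫ p n = 0)
    (hB : ∀ n, (ShortComplex.mk (ι n) (p n) (wB n)).ShortExact)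
    (c : ℕ) (hBv : ∀ n a, a + c ≤ n → Subsingleton ((H 1).obj ((T a).obj (B n))))
    (a₀ : ℕ) (hN : ∀ a, a₀ ≤ a → Subsingleton ((H 1).obj ((T a).obj (N 0))))
    (hfin : ∀ a n, Module.Finite k ((H 1).obj ((T a).obj (N n)))) :
    ∃ a₁, ∀ a, a₁ ≤ a → ∀ s : (H 0).obj ((T a).obj (N 0)),
      ∃ t : ∀ n, (H 0).obj ((T a).obj (N n)), t 0 = s ∧
        ∀ n, ((H 0).map ((T a).map (p n))).hom (t (n + 1)) = t n := by
  have hAT : ∀ a n, ((ShortComplex.mk (μ n) (toZero p (n + 1)) (wA n)).map (T a)).ShortExact :=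
    fun a n => (hA n).map_of_exact (T a)
  have hBT : ∀ a n, ((ShortComplex.mk (ι n) (p n) (wB n)).map (T a)).ShortExact :=
    fun a n => (hB n).map_of_exact (T a)
  obtain ⟨a₁, ha₁⟩ := exists_bijective (k := k)
    (V := fun n a => (H 1).obj ((T a).obj (N n)))
    (r := fun n a => ((H 1).map ((T a).map (p n))).hom)
    (m := fun n a => ((H 1).map ((T (a + 1)).map (μ n))).hom ∘ₗ ((H 1).map (e a n).inv).hom)
    a₀ c (fun n a h => by
      have := hBv n a h
      rw [injective_iff_map_eq_zero]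
      intro x hx
      obtain ⟨y, rfl⟩ := (D.exact₂ (hBT a n) 1 x).mp hx
      have : y = 0 := Subsingleton.elim (α := (H 1).obj ((T a).obj (B n))) _ _
      rw [this]
      exact map_zero _) (fun n a h => by
      have h1 : Function.Surjective ((H 1).map (e a n).inv).hom := by
        intro y
        refine ⟨((H 1).map (e a n).hom).hom y, ?_⟩
        rw [← LinearMap.comp_apply, ← ModuleCat.hom_comp, ← (H 1).map_comp, (e a n).hom_inv_id,
          (H 1).map_id]
        rfl
      refine Function.Surjective.comp (g := ((H 1).map ((T (a + 1)).map (μ n))).hom) ?_ h1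
      have := hN (a + 1) (h.trans (Nat.le_succ a))
      intro x
      exact (D.exact₂ (hAT (a + 1) n) 1 x).mp
        (Subsingleton.elim (α := (H 1).obj ((T (a + 1)).obj (N 0))) _ _))
  refine ⟨a₁ + 1, fun a ha s => ?_⟩
  obtain ⟨a, rfl⟩ : ∃ b, a = b + 1 := ⟨a - 1, by omega⟩
  obtain ⟨n₀, hn₀⟩ := ha₁ a (by omega)
  refine exists_compatible (S := fun n => (H 0).obj ((T (a + 1)).obj (N n)))
    (fun n => ((H 0).map ((T (a + 1)).map (p n))).hom)
    (fun n => ((H 0).map ((T (a + 1)).map (toZero p n))).hom) ?_ ?_ (a + 1 + c) ?_ (n₀ + 1) ?_ s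
  · intro x
    change ((H 0).map ((T (a + 1)).map (𝟙 _))).hom x = x
    rw [(T (a + 1)).map_id, (H 0).map_id]
    rfl
  · intro n x
    change ((H 0).map ((T (a + 1)).map (p n ≫ toZero p n))).hom x = _
    rw [(T (a + 1)).map_comp, (H 0).map_comp]
    rfl
  · intro n hn x
    have := hBv n (a + 1) hn
    exact (D.exact₃ (hBT (a + 1) n) 0 x).mp
      (Subsingleton.elim (α := (H 1).obj ((T (a + 1)).obj (B n))) _ _)
  · intro n hn x
    obtain ⟨n, rfl⟩ : ∃ b, n = b + 1 := ⟨n - 1, by omega⟩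
    refine (D.exact₃ (hAT (a + 1) n) 0 x).mp ?_
    have h1 : ((H 1).map ((T (a + 1)).map (μ n))).hom (D.δ (hAT (a + 1) n) 0 x) = 0 :=
      (D.exact₁ (hAT (a + 1) n) 0 _).mpr ⟨x, rfl⟩
    have h2 := (hn₀ n (by omega)).1
    have h3 : ((H 1).map (e a n).inv).hom (((H 1).map (e a n).hom).hom
        (D.δ (hAT (a + 1) n) 0 x)) = D.δ (hAT (a + 1) n) 0 x := by
      rw [← LinearMap.comp_apply, ← ModuleCat.hom_comp, ← (H 1).map_comp, (e a n).hom_inv_id,
        (H 1).map_id]
      rfl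
    have h4 : ((H 1).map (e a n).hom).hom (D.δ (hAT (a + 1) n) 0 x) = 0 := by
      apply h2
      rw [map_zero, LinearMap.comp_apply, h3, h1]
    rw [← h3, h4]
    exact map_zero _

end Groth.Agent.Sga2.FBunNum
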