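import Groth.Agent.Sga2.RankOneBridge
import Groth.Agent.Sga2.TwIt
import Groth.Agent.Sga2.FBunNum
import Groth.Agent.Models2.AmplePull
import Groth.Agent.Ega2.AmpleGlobGen
import Groth.Agent.Ega1.GlobGenPt
import Groth.Agent.CurvesB.UnitCoh
import Groth.Agent.CohqB.LocalQC

/-!
# Towers of invertible modules on the thickenings of a closed subscheme: from lifting of sections of
`i_{0*} T_0 ⊗ L^a` to local generators of `i_n^* L^a ⊗ T_n`.
-/

set_option autoImplicit false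

universe u

open CategoryTheory AlgebraicGeometry TopologicalSpace Opposite

namespace Groth.Agent.Sga2.RankOneTower

open Groth.Agent.Fdesc.LocGen Groth.Agent.Grpsch.PicGrp RankOne RankOneBridge
open Groth.Agent.Ega2.Tens (mapT)
open Groth.Agent.Sga2.FBunNum (toZero)

variable {X : Scheme.{u}}

/-! ### Compatible isomorphisms on sections -/

section sections

variable {Y Y' Y'' : Scheme.{u}}

lemma exists_iso_id (j : Y ⟶ Y) (hj : j = 𝟙 Y) (T : Y.Modules) :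
    ∃ φ : (Scheme.Modules.pullback j).obj T ≅ T, ∀ (U : Y.Opens) (x : Γ(T, U)),
      φ.hom.app (j ⁻¹ᵁ U) (pullSec j x) = res T (by rw [hj]; exact le_rfl) x := by
  subst hj
  refine ⟨(Scheme.Modules.pullbackId Y).app T, fun U x => ?_⟩
  have h := unit_conjugateEquiv Adjunction.id
    (Scheme.Modules.pullbackPushforwardAdjunction (𝟙 Y)) (Scheme.Modules.pullbackId Y).hom T
  rw [Scheme.Modules.conjugateEquiv_pullbackId_hom] at h
  have h2 := congr(($(h).app U) x).symm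
  refine Eq.trans h2 ?_
  exact (res_refl T x).symm

lemma exists_iso_comp (j : Y ⟶ Y') (i : Y' ⟶ Y'') (k : Y ⟶ Y'') (hk : j ≫ i = k)
    {T : Y.Modules} {T' : Y'.Modules} {T'' : Y''.Modules}
    (φ : (Scheme.Modules.pullback j).obj T' ≅ T) (e : (Scheme.Modules.pullback i).obj T'' ≅ T') :
    ∃ ψ : (Scheme.Modules.pullback k).obj T'' ≅ T, ∀ (U : Y''.Opens) (x : Γ(T'', U)),
      ψ.hom.app (k ⁻¹ᵁ U) (pullSec k x) =
        res T (by rw [← hk]; exact le_rfl) (φ.hom.app (j ⁻¹ᵁ (i ⁻¹ᵁ U))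
          (pullSec j (e.hom.app (i ⁻¹ᵁ U) (pullSec i x)))) := by
  subst hk
  refine ⟨((Scheme.Modules.pullbackComp j i).app T'').symm ≪≫ (Scheme.Modules.pullback j).mapIso e ≪≫ φ,
    fun U x => ?_⟩
  refine Eq.trans ?_ (res_refl T _).symm
  have h1 := pullSec_comp j i x
  have h2 := pullback_map_pullSec j e.hom (pullSec i x)
  refine Eq.trans ?_ (congrArg (φ.hom.app (j ⁻¹ᵁ (i ⁻¹ᵁ U))) h2)
  rw [← h1]
  rfl

end sections

/-! ### The tower -/

section tower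

variable {Z : ℕ → Scheme.{u}} (i : ∀ n, Z n ⟶ X) (t : ∀ n, Z n ⟶ Z (n + 1))

/-- the composite `Z 0 ⟶ Z n` -/
noncomputable def jn : ∀ n : ℕ, Z 0 ⟶ Z n
  | 0 => 𝟙 _
  | n + 1 => jn n ≫ t n

variable {i t}

theorem jn_i (ht : ∀ n, t n ≫ i (n + 1) = i n) (n : ℕ) : jn t n ≫ i n = i 0 := by
  induction n with
  | zero => exact Category.id_comp _
  | succ n ih => rw [jn, Category.assoc, ht, ih]

theorem preimage_le {Y Y' : Scheme.{u}} {i : Y ⟶ X} {i' : Y' ⟶ X} {t : Y ⟶ Y'} (ht : t ≫ i' = i) (V : X.Opens) :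
    i ⁻¹ᵁ V ≤ t ⁻¹ᵁ (i' ⁻¹ᵁ V) := by
  rw [← ht]
  exact le_rfl

variable {T : ∀ n, (Z n).Modules}

/-- `q` is `x ↦ e (t^* x)` -/
def IsTransition {Y Y' : Scheme.{u}} (i : Y ⟶ X) (i' : Y' ⟶ X) (t : Y ⟶ Y') (ht : t ≫ i' = i)
    {T : Y.Modules} {T' : Y'.Modules} (e : (Scheme.Modules.pullback t).obj T' ≅ T)
    (q : (Scheme.Modules.pushforward i').obj T' ⟶ (Scheme.Modules.pushforward i).obj T) : Prop :=
  ∀ (V : X.Opens) (x : Γ(T', i' ⁻¹ᵁ V)),
    q.app V x = res T (preimage_le ht V) (e.hom.app (t ⁻¹ᵁ (i' ⁻¹ᵁ V)) (pullSec t x))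

theorem exists_toZero (ht : ∀ n, t n ≫ i (n + 1) = i n)
    (e : ∀ n, (Scheme.Modules.pullback (t n)).obj (T (n + 1)) ≅ T n)
    (p : ∀ n, (Scheme.Modules.pushforward (i (n + 1))).obj (T (n + 1)) ⟶
      (Scheme.Modules.pushforward (i n)).obj (T n))
    (hp : ∀ n, IsTransition (i n) (i (n + 1)) (t n) (ht n) (e n) (p n)) (n : ℕ) :
    ∃ φ : (Scheme.Modules.pullback (jn t n)).obj (T n) ≅ T 0,
      IsTransition (i 0) (i n) (jn t n) (jn_i ht n) φ
        (toZero (N := fun n => (Scheme.Modules.pushforward (i n)).obj (T n)) p n) := by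
  induction n with
  | zero =>
    obtain ⟨φ, hφ⟩ := exists_iso_id (jn t 0) rfl (T 0)
    refine ⟨φ, fun V x => ?_⟩
    rw [hφ, res_res]
    exact (res_refl (T 0) x).symm
  | succ n ih =>
    obtain ⟨φ, hφ⟩ := ih
    obtain ⟨ψ, hψ⟩ := exists_iso_comp (jn t n) (t n) (jn t (n + 1)) rfl φ (e n)
    refine ⟨ψ, fun V x => ?_⟩
    rw [hψ, res_res]
    have h1 : (toZero (N := fun n => (Scheme.Modules.pushforward (i n)).obj (T n)) p (n + 1)).app V x =
      (toZero (N := fun n => (Scheme.Modules.pushforward (i n)).obj (T n)) p n).app V ((p n).app V x) := rfl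
    rw [h1, hφ, hp n V x, ← res_pullSec, app_res, res_res]

/-- The map `i'_* T' ⟶ i_* T`, `x ↦ e (t^* x)` -/
noncomputable def transMap {Y Y' : Scheme.{u}} (i : Y ⟶ X) (i' : Y' ⟶ X) (t : Y ⟶ Y') (ht : t ≫ i' = i)
    {T : Y.Modules} {T' : Y'.Modules} (e : (Scheme.Modules.pullback t).obj T' ≅ T) :
    (Scheme.Modules.pushforward i').obj T' ⟶ (Scheme.Modules.pushforward i).obj T :=
  (Scheme.Modules.pushforward i').map ((Scheme.Modules.pullbackPushforwardAdjunction t).unit.app T' ≫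
    (Scheme.Modules.pushforward t).map e.hom) ≫
  (Scheme.Modules.pushforwardComp t i').hom.app T ≫ (Scheme.Modules.pushforwardCongr ht).hom.app T

theorem isTransition_transMap {Y Y' : Scheme.{u}} (i : Y ⟶ X) (i' : Y' ⟶ X) (t : Y ⟶ Y') (ht : t ≫ i' = i)
    {T : Y.Modules} {T' : Y'.Modules} (e : (Scheme.Modules.pullback t).obj T' ≅ T) :
    IsTransition i i' t ht e (transMap i i' t ht e) := fun _ _ => rfl

end tower

/-! ### Twists -/

lemma tmk_eq {M N : X.Modules} {U : X.Opens} (m : Γ(M, U)) (n : Γ(N, U)) :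
    Groth.Agent.VarietyB.InvPair.tmk M N U m n = tmul m n := rfl

theorem exists_twIso (P : X.Modules) : ∃ θ : ∀ M : X.Modules, (TwIt.Tw P).obj M ≅ CohB1.tensorMod M P,
    ∀ (M M' : X.Modules) (f : M ⟶ M'), (TwIt.Tw P).map f ≫ (θ M').hom = (θ M).hom ≫ mapT f (𝟙 P) := by
  unfold TwIt.Tw
  refine ⟨fun M => Iso.refl _, fun M M' f => ?_⟩
  change (TwIt.tmapB P f).hom ≫ 𝟙 _ = 𝟙 _ ≫ mapT f (𝟙 P)
  rw [Category.comp_id, Category.id_comp]
  refine hom_ext_tmul _ _ fun U m n => ?_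
  rw [mapT_tmul, ← tmk_eq, ← tmk_eq]
  exact TensMap.Bilin.hom_tmk _ _ _ _

theorem swap_natural (E : X.Modules) {M M' : X.Modules} (f : M ⟶ M') :
    mapT f (𝟙 E) ≫ (Groth.Agent.Ega2.Tens.swap M' E).hom =
      (Groth.Agent.Ega2.Tens.swap M E).hom ≫ mapT (𝟙 E) f := by
  refine hom_ext_tmul _ _ fun U m n => ?_
  rw [comp_app_apply, comp_app_apply, mapT_tmul]
  have h1 : (Groth.Agent.Ega2.Tens.swap M' E).hom.app U (tmul (f.app U m) ((𝟙 E : E ⟶ E).app U n)) =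
    tmul ((𝟙 E : E ⟶ E).app U n) (f.app U m) := Groth.Agent.Ega2.Tens.swapHom_tmul _ _
  have h2 : (Groth.Agent.Ega2.Tens.swap M E).hom.app U (tmul m n) = tmul n m :=
    Groth.Agent.Ega2.Tens.swapHom_tmul _ _
  rw [h1, h2, mapT_tmul]

theorem exists_mapT_of_surjective_Tw (E : X.Modules) {M M' : X.Modules} (f : M ⟶ M')
    (hs : Function.Surjective (((TwIt.Tw E).map f).app ⊤)) (s' : Γ(CohB1.tensorMod E M', ⊤)) :
    ∃ s : Γ(CohB1.tensorMod E M, ⊤), (mapT (𝟙 E) f).app ⊤ s = s' := by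
  obtain ⟨θ, hθ⟩ := exists_twIso E
  obtain ⟨x, hx⟩ := (ConcreteCategory.bijective_of_isIso
    (((θ M').hom ≫ (Groth.Agent.Ega2.Tens.swap M' E).hom).app ⊤)).2 s'
  obtain ⟨y, rfl⟩ := hs x
  refine ⟨((θ M).hom ≫ (Groth.Agent.Ega2.Tens.swap M E).hom).app ⊤ y, ?_⟩
  have h1 : ((θ M).hom ≫ (Groth.Agent.Ega2.Tens.swap M E).hom) ≫ mapT (𝟙 E) f =
      (TwIt.Tw E).map f ≫ ((θ M').hom ≫ (Groth.Agent.Ega2.Tens.swap M' E).hom) := by
    rw [Category.assoc, ← swap_natural, ← Category.assoc, ← hθ, Category.assoc]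
  have h2 := congr(($(h1).app ⊤) y)
  exact Eq.trans h2 hx

/-- **Global generation lifts**, version with `i₀ = j ≫ i`. -/
theorem gen_of_transition {Z₀ Z : Scheme.{u}} (i₀ : Z₀ ⟶ X) (i : Z ⟶ X) (j : Z₀ ⟶ Z) (hji : j ≫ i = i₀)
    {T₀ : Z₀.Modules} {T : Z.Modules} (φ : (Scheme.Modules.pullback j).obj T ≅ T₀)
    (q : (Scheme.Modules.pushforward i).obj T ⟶ (Scheme.Modules.pushforward i₀).obj T₀)
    (hq : IsTransition i₀ i j hji φ q) (E : X.Modules) (hE : PicF.IsInvertible E)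
    (hT : PicF.IsInvertible T) (hj : Function.Surjective j)
    (hs : Function.Surjective (((TwIt.Tw E).map q).app ⊤))
    (hg : ∀ z : Z₀, ∃ (s : Γ(CohB1.tensorMod ((Scheme.Modules.pullback i₀).obj E) T₀, ⊤))
      (V : Z₀.Opens), z ∈ V ∧ IsGen (res _ (le_top : V ≤ ⊤) s))
    (Q : Z.Modules) (hQ : PicF.IsInvertible Q) (hQT : mk Q hQ = mk T hT * pull i (mk E hE)) (z : Z) :
    ∃ (s : Γ(Q, ⊤)) (V : Z.Opens), z ∈ V ∧ IsGen (res Q (le_top : V ≤ ⊤) s) := by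
  subst hji
  refine gen_of_gen j i E φ q (fun V x => ?_) hE hT hj (exists_mapT_of_surjective_Tw E q hs) hg Q hQ hQT z
  rw [hq V x]
  exact res_refl T₀ _

/-! ### Serre's theorem on `Z₀` -/

theorem isCoh_of_isInvertible {L : X.Modules} (hL : PicF.IsInvertible L) : Coh.IsCoh L :=
  Groth.Agent.CohqB.LocalQC.isCoh_of_iso (Groth.Agent.Ega2.Tens.lunit L)
    (Groth.Agent.Ega2.GlobGenCrit.isCoh_tensor (Groth.Agent.CurvesB.UnitCoh.isCoh_structureModule X) hL)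

/-- **Serre**: `i₀^* L^n ⊗ T₀` is generated by its global sections for `n` large. -/
theorem exists_gen_ample {Z₀ : Scheme.{u}} [QuasiSeparatedSpace Z₀] (i₀ : Z₀ ⟶ X) [IsAffineHom i₀]
    {L : X.Modules} (hamp : CohB1.IsAmple L) {T₀ : Z₀.Modules} (hT₀ : PicF.IsInvertible T₀) :
    ∃ n₀ : ℕ, ∀ n, n₀ ≤ n → ∀ z : Z₀,
      ∃ (s : Γ(CohB1.tensorMod ((Scheme.Modules.pullback i₀).obj (CohB1.tensorPow L n)) T₀, ⊤))
        (V : Z₀.Opens), z ∈ V ∧ IsGen (res _ (le_top : V ≤ ⊤) s) := by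
  have hL := hamp.1
  have hamp' := Groth.Agent.Models2.AmplePull.isAmple_pullback i₀ hamp
  obtain ⟨n₀, hn₀⟩ := Groth.Agent.Ega2.AmpleGlobGen.exists_globGen hamp' (isCoh_of_isInvertible hT₀)
  refine ⟨n₀, fun n hn z => ?_⟩
  have hinv : PicF.IsInvertible (CohB1.tensorMod T₀
      (CohB1.tensorPow ((Scheme.Modules.pullback i₀).obj L) n)) :=
    isInvertible_tensorMod hT₀ (isInvertible_tensorPow hamp'.1 n)
  obtain ⟨s, hs⟩ := Groth.Agent.Ega1.GlobGenPt.exists_mem_genLocus hinv (hn₀ n hn) z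
  obtain ⟨V, hzV, hV⟩ := (mem_genLocus_iff s z).1 hs
  have h1 := isInvertible_pullback i₀ (isInvertible_tensorPow hL n)
  obtain ⟨e⟩ : Nonempty (CohB1.tensorMod T₀ (CohB1.tensorPow ((Scheme.Modules.pullback i₀).obj L) n) ≅
      CohB1.tensorMod ((Scheme.Modules.pullback i₀).obj (CohB1.tensorPow L n)) T₀) := by
    rw [← mk_eq_iff hinv (isInvertible_tensorMod h1 hT₀),
      ← mk_mul_mk hT₀ (isInvertible_tensorPow hamp'.1 n), ← mk_mul_mk h1 hT₀, mk_tensorPow hamp'.1,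
      ← pull_mk i₀ (isInvertible_tensorPow hL n), mk_tensorPow hL, map_pow, mul_comm, pull_mk i₀ hL]
  refine ⟨e.hom.app ⊤ (sec s ⊤), V, hzV, ?_⟩
  rw [isGen_app_res_iff, res_sec]
  exact hV

/-! ### The assembly -/

/-- Algebraization of `T 0` for a tower `T` of invertible modules on thickenings. -/
theorem assemble_tower {Z : ℕ → Scheme.{u}} (i : ∀ n, Z n ⟶ X) (t : ∀ n, Z n ⟶ Z (n + 1))
    (ht : ∀ n, t n ≫ i (n + 1) = i n) [QuasiSeparatedSpace (Z 0)] [IsAffineHom (i 0)]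
    (hjs : ∀ n, Function.Surjective (jn t n)) (L : X.Modules) (hamp : CohB1.IsAmple L)
    (T : ∀ n, (Z n).Modules) (hT : ∀ n, PicF.IsInvertible (T n))
    (hTt : ∀ n, Nonempty ((Scheme.Modules.pullback (t n)).obj (T (n + 1)) ≅ T n))
    (hsurj : ∀ (T : ∀ n, (Z n).Modules), (∀ n, PicF.IsInvertible (T n)) →
      ∀ (e : ∀ n, (Scheme.Modules.pullback (t n)).obj (T (n + 1)) ≅ T n),
      ∃ p : ∀ n, (Scheme.Modules.pushforward (i (n + 1))).obj (T (n + 1)) ⟶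
        (Scheme.Modules.pushforward (i n)).obj (T n),
      (∀ n, IsTransition (i n) (i (n + 1)) (t n) (ht n) (e n) (p n)) ∧
        ∃ a₁ : ℕ, ∀ a, a₁ ≤ a → ∀ n, Function.Surjective
          (((TwIt.Tw (CohB1.tensorPow L a)).map
            (toZero (N := fun n => (Scheme.Modules.pushforward (i n)).obj (T n)) p n)).app ⊤))
    (hlift : ∀ a : ℕ, ∃ n₀ : ℕ, ∀ n, n₀ ≤ n → ∀ (R : X.Modules) (hR : PicF.IsInvertible R),
      mk R hR = mk L hamp.1 ^ a → ∀ b : Γ((Scheme.Modules.pullback (i n)).obj R, ⊤),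
        ∃ s : Γ(R, ⊤), b = pullTop (i n) s)
    (hinj : ∀ a : ℕ, ∃ n₀ : ℕ, ∀ n, n₀ ≤ n → ∀ (R : X.Modules) (hR : PicF.IsInvertible R),
      mk R hR = mk L hamp.1 ^ a → ∀ s t : Γ(R, ⊤), pullTop (i n) s = pullTop (i n) t → s = t)
    (hext : ∀ (U : X.Opens) (M : X.Modules), (∀ z : Z 0, i 0 z ∈ U) →
      (∀ x ∈ U, ∃ (V : X.Opens) (e : Γ(M, V)), x ∈ V ∧ IsGen e) →
      ∃ M' : X.Modules, PicF.IsInvertible M' ∧ Nonempty (M'.restrict U.ι ≅ M.restrict U.ι)) :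
    ∃ (M : X.Modules), PicF.IsInvertible M ∧ Nonempty ((Scheme.Modules.pullback (i 0)).obj M ≅ T 0) := by
  have hL := hamp.1
  let e : ∀ n, (Scheme.Modules.pullback (t n)).obj (T (n + 1)) ≅ T n := fun n => (hTt n).some
  -- the inverse tower
  choose T' hT' hTT' using fun n => exists_mk (mk (T n) (hT n))⁻¹
  have hTt' : ∀ n, Nonempty ((Scheme.Modules.pullback (t n)).obj (T' (n + 1)) ≅ T' n) := fun n => by
    rw [← mk_eq_iff (isInvertible_pullback (t n) (hT' (n + 1))) (hT' n), ← pull_mk (t n) (hT' (n + 1)),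
      ← hTT', ← hTT', map_inv, pull_mk, mk_congr (e n)]
  let e' : ∀ n, (Scheme.Modules.pullback (t n)).obj (T' (n + 1)) ≅ T' n := fun n => (hTt' n).some
  obtain ⟨p, hp, a₁, ha₁⟩ := hsurj T hT e
  obtain ⟨p', hp', a₁', ha₁'⟩ := hsurj T' hT' e'
  obtain ⟨m₀, hm₀⟩ := exists_gen_ample (i 0) hamp (hT 0)
  obtain ⟨m₀', hm₀'⟩ := exists_gen_ample (i 0) hamp (hT' 0)
  obtain ⟨m, h1, h2, h3, h4⟩ : ∃ m : ℕ, a₁ ≤ m ∧ a₁' ≤ m ∧ m₀ ≤ m ∧ m₀' ≤ m :=
    ⟨max (max a₁ a₁') (max m₀ m₀'), by omega, by omega, by omega, by omega⟩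
  have hLm := isInvertible_tensorPow hL m
  have hR := isInvertible_tensorMod hLm hLm
  have hRL : mk _ hR = mk _ hLm * mk _ hLm := (mk_mul_mk hLm hLm).symm
  have hR2 : mk _ hR = mk L hL ^ (m + m) := by rw [hRL, mk_tensorPow hL, ← pow_add]
  have hRR : mk _ (isInvertible_tensorMod hR hR) = mk L hL ^ ((m + m) + (m + m)) := by
    rw [← mk_mul_mk hR hR, hR2, ← pow_add]
  obtain ⟨n₁, hn₁⟩ := hlift (m + m)
  obtain ⟨n₂, hn₂⟩ := hinj ((m + m) + (m + m))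
  obtain ⟨n, hn1, hn2⟩ : ∃ n : ℕ, n₁ ≤ n ∧ n₂ ≤ n := ⟨max n₁ n₂, le_max_left _ _, le_max_right _ _⟩
  obtain ⟨φ, hφ⟩ := exists_toZero ht e p hp n
  obtain ⟨φ', hφ'⟩ := exists_toZero ht e' p' hp' n
  obtain ⟨M, hM, hMN⟩ := RankOneAsm.assemble (jn t n) (i n) (CohB1.tensorPow L m) hLm (mk (T n) (hT n))
    _ hR hRL (fun Q hQ hQN z => by
      rcases hQN with hQN | hQN
      · exact gen_of_transition (i 0) (i n) (jn t n) (jn_i ht n) φ _ hφ (CohB1.tensorPow L m) hLm (hT n)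
          (hjs n) (ha₁ m h1 n) (hm₀ m h3) Q hQ hQN z
      · exact gen_of_transition (i 0) (i n) (jn t n) (jn_i ht n) φ' _ hφ' (CohB1.tensorPow L m) hLm (hT' n)
          (hjs n) (ha₁' m h2 n) (hm₀' m h4) Q hQ (by rw [hQN, hTT']) z)
    (hn₁ n hn1 _ hR hR2) (hn₂ n hn2 _ _ hRR)
    (fun U M hU hM => hext U M (fun z => by
      have := hU (jn t n z)
      rwa [← jn_i ht n]) hM)
  refine ⟨M, hM, ?_⟩
  rw [← mk_eq_iff (isInvertible_pullback (i 0) hM) (hT 0), ← pull_mk (i 0) hM, ← jn_i ht n, hMN, pull_mk]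
  exact mk_congr φ

end Groth.Agent.Sga2.RankOneTower
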