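import Groth.Agent.Sga2.ThickKer
import Groth.Agent.Fdesc.LocGenPullback
import Groth.Agent.Picfga.LineHom

/-!
# Sections of an invertible module on `X` and on the thickening `V(D^b)` of an effective Cartier divisor

`pullTop_injective`, `pullTop_surjective`: `Γ(X, R) → Γ(V(D^b), i^*R)` is injective (surjective) if
`H^0(X, R ⊗ P^b) = 0` (`H^1(X, R ⊗ P^b) = 0`), `P = idealMod D`.

Author: helper868
-/

set_option autoImplicit false
universe u

open CategoryTheory CategoryTheory.Limits AlgebraicGeometry TopologicalSpace Opposite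

namespace Groth.Agent.Sga2.ThickSec

open Groth.Agent.Fdesc.LocGen Groth.Agent.Sga2.HomGens Groth.Agent.Dix.IdealModCartier Groth.Agent
  Groth.Agent.Sga2.ThickKer

variable {X : Scheme.{u}}

/-- The unit `R → i_* i^* R`. -/
noncomputable abbrev unitM {Y : Scheme.{u}} (i : Y ⟶ X) (R : X.Modules) :
    R ⟶ (Scheme.Modules.pushforward i).obj ((Scheme.Modules.pullback i).obj R) :=
  (Scheme.Modules.pullbackPushforwardAdjunction i).unit.app R

/-- Local generators for an invertible module and an effective Cartier ideal on a common cover. -/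
theorem exists_cover₂ {D : X.IdealSheafData} (hD : BlowUp.IsEffCartierIdeal D) {R : X.Modules}
    (hR : PicF.IsInvertible R) :
    ∃ (U : X → X.Opens) (t : ∀ x, Γ(X, U x)) (p : ∀ x, Γ(ClSub.idealMod D, U x)) (l : ∀ x, Γ(R, U x)),
      (∀ x, x ∈ U x) ∧ (∀ x, GenOn D (t x)) ∧ (∀ x, IsGen (p x)) ∧ (∀ x, val D (p x) = t x) ∧ ∀ x, IsGen (l x) := by
  obtain ⟨U, t, p, hx, ht, hp, hpt⟩ := exists_cover hD
  choose W l hxW hl using (isInvertible_iff R).1 hR
  refine ⟨fun x => U x ⊓ W x, fun x => ores inf_le_left (t x), fun x => res _ inf_le_left (p x),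
    fun x => res _ inf_le_right (l x), fun x => ⟨hx x, hxW x⟩, fun x => (ht x).res _, fun x => (hp x).res _,
    fun x => ?_, fun x => (hl x).res _⟩
  rw [val_res, hpt]

/-- The kernel of `R → i_* i^* R` for `i : V(D^b) ⟶ X`. -/
theorem kernel_unit_iso {D : X.IdealSheafData} (hD : BlowUp.IsEffCartierIdeal D) {R : X.Modules}
    (hR : PicF.IsInvertible R) (b : ℕ) :
    Nonempty (CohB1.tensorMod R (CohB1.tensorPow (ClSub.idealMod D) b) ≅
      kernel (unitM (D ^ b).subschemeι R)) := by
  obtain ⟨U, t, p, l, hx, ht, hp, hpt, hl⟩ := exists_cover₂ hD hR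
  have hcov : ⨆ x, U x = ⊤ := by
    rw [eq_top_iff]
    intro x _
    exact Opens.mem_iSup.2 ⟨x, hx x⟩
  set i := (D ^ b).subschemeι with hi
  have hmono : Mono (kernel.ι (unitM i R)) := equalizer.ι_mono
  have hinj := fun V => @Smoothlim.ModKer.app_injective_of_mono _ _ _ (kernel.ι (unitM i R)) hmono V
  have happ : ∀ (V : X.Opens) (s : Γ(R, V)), (unitM i R).app V s = pullSec i s := fun V s => rfl
  have hzero : ∀ (x : X) (V : X.affineOpens) (hV : V.1 ≤ U x) (r : Γ(X, V.1)),
      (unitM i R).app V.1 (r • res R hV (l x)) = 0 ↔ r ∈ (D ^ b).ideal V := by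
    intro x V hV r
    rw [happ, pullSec_smul]
    have h1 : IsGen (pullSec i (res R hV (l x))) := ((hl x).res hV).pullSec i
    rw [← (D ^ b).ker_subschemeι_app V, RingHom.mem_ker]
    constructor
    · intro h
      apply h1.ext
      rw [zero_smul]
      exact h
    · intro h
      have h' : (i.app V.1 r : Γ((D ^ b).subscheme, i ⁻¹ᵁ V.1)) = 0 := h
      rw [h', zero_smul]
      rfl
  have hk : ∀ x, ∃ k : Γ(kernel (unitM i R), U x), (kernel.ι (unitM i R)).app (U x) k = t x ^ b • l x := by
    intro x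
    apply Smoothlim.ModKer.exists_of_app_eq_zero
    refine HomGens.eq_of_affine_cover _ (ι := Unit) (U := fun _ => ⊤) (by simp) fun _ W hW _ => ?_
    rw [← app_res, res_smul, map_zero, hzero x W hW, map_pow, mem_ideal_pow_iff (ht x) b W hW]
    exact ⟨1, (one_mul _).symm⟩
  choose k hk using hk
  have hkr : ∀ x (V : X.Opens) (hV : V ≤ U x) (r : Γ(X, V)),
      (kernel.ι (unitM i R)).app V (r • res _ hV (k x)) = (r * ores hV (t x) ^ b) • res R hV (l x) := by
    intro x V hV r
    rw [Scheme.Modules.Hom.app_smul, app_res, hk, res_smul, smul_smul, map_pow]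
  have hgk : ∀ x, Gen (k x) := by
    intro x V hV s
    obtain ⟨r, hr⟩ := ((hl x).res hV).exists_eq ((kernel.ι (unitM i R)).app V.1 s)
    have h1 : (unitM i R).app V.1 (r • res R hV (l x)) = 0 := by
      rw [← hr]
      exact congr(($(kernel.condition (unitM i R))).app V.1 s)
    rw [hzero, mem_ideal_pow_iff (ht x) b V hV] at h1
    obtain ⟨r', rfl⟩ := h1
    refine ⟨r', hinj V.1 ?_⟩
    rw [hkr, hr]
  obtain ⟨φ, -⟩ := exists_iso hcov (M := CohB1.tensorMod R (CohB1.tensorPow (ClSub.idealMod D) b))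
    (N := kernel (unitM i R)) (e := fun x => tmul (l x) (pow (p x) b))
    (n := k) (fun x => gen_of_isGen ((hl x).tmul ((hp x).pow b))) (fun x y V hi hj => by
      obtain ⟨r, h1, h2⟩ := exists_trans (D := D) (p := p x) (hp y) V.1 hi hj
      obtain ⟨c, hc⟩ := ((hl y).res hj).exists_eq (res R hi (l x))
      rw [hpt, hpt] at h2
      refine ⟨c * r ^ b, ?_, ?_⟩
      · rw [res_tmul, res_tmul, res_pow, res_pow, h1, smul_pow, tmul_smul, hc, smul_tmul, smul_smul, mul_comm]
      · apply hinj V.1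
        have h3 := hkr x V.1 hi 1
        rw [one_smul, one_mul] at h3
        rw [h3, hkr, h2, hc, smul_smul]
        congr 1
        ring) hgk (fun x V hV r => by
      have h5 := ((hl x).tmul ((hp x).pow b)).res hV
      constructor
      · intro h1
        have : r = 0 := h5.ext (by rw [zero_smul]; exact h1)
        rw [this, zero_smul]
      · intro h1
        have h2 := hkr x V.1 hV r
        rw [h1, map_zero] at h2
        have h3 : r * ores hV (t x) ^ b = 0 := ((hl x).res hV).ext (by rw [zero_smul]; exact h2.symm)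
        have h4 := (genOn_pow (ht x) b V hV).1
        rw [map_pow] at h4
        rw [(mul_right_mem_nonZeroDivisors_eq_zero_iff h4).1 h3, zero_smul])
  exact ⟨φ⟩

theorem locSurj_unit {D : X.IdealSheafData} {R : X.Modules} (hR : PicF.IsInvertible R) (b : ℕ) :
    CohqA.H1Lift.LocSurj (unitM (D ^ b).subschemeι R) := by
  intro U s x hx
  obtain ⟨W, l, hxW, hl⟩ := (isInvertible_iff R).1 hR x
  obtain ⟨V, hxV, hV⟩ := exists_affine_mem_le (U := U ⊓ W) ⟨hx, hxW⟩
  have h1 : IsGen (pullSec (D ^ b).subschemeι (res R (hV.trans inf_le_right) l)) := (hl.res _).pullSec _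
  obtain ⟨c, hc⟩ := h1.exists_eq (res ((Scheme.Modules.pullback (D ^ b).subschemeι).obj R)
    ((D ^ b).subschemeι.preimage_mono (hV.trans inf_le_left)) s)
  obtain ⟨a, ha⟩ := (D ^ b).subschemeι_app_surjective V c
  refine ⟨V.1, hV.trans inf_le_left, a • res R (hV.trans inf_le_right) l, hxV, ?_⟩
  change pullSec (D ^ b).subschemeι (a • res R (hV.trans inf_le_right) l) =
    res ((Scheme.Modules.pullback (D ^ b).subschemeι).obj R)
    ((D ^ b).subschemeι.preimage_mono (hV.trans inf_le_left)) s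
  rw [pullSec_smul, hc]
  congr 1

theorem pullTop_surjective {D : X.IdealSheafData} (hD : BlowUp.IsEffCartierIdeal D) {R : X.Modules}
    (hR : PicF.IsInvertible R) (b : ℕ)
    (h : Subsingleton (Coh.HH X (CohB1.tensorMod R (CohB1.tensorPow (ClSub.idealMod D) b)) 1)) :
    Function.Surjective (fun s : Γ(R, ⊤) => pullTop (D ^ b).subschemeι s) := by
  obtain ⟨e⟩ := kernel_unit_iso hD hR b
  exact CohqA.H1Lift.app_top_surjective_of_H1 (unitM (D ^ b).subschemeι R) (locSurj_unit hR b)
    (ThickCoh.subsingleton_HH_of_iso e 1 h)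

theorem subsingleton_Γ_of_H0 (M : X.Modules) (h : Subsingleton (Coh.HH X M 0)) : Subsingleton Γ(M, ⊤) :=
  (Sheaf.H.equiv₀ (Coh.toAb M) (isTerminalTop : IsTerminal (⊤ : Opens X))).symm.toEquiv.subsingleton

theorem pullTop_injective {D : X.IdealSheafData} (hD : BlowUp.IsEffCartierIdeal D) {R : X.Modules}
    (hR : PicF.IsInvertible R) (b : ℕ)
    (h : Subsingleton (Coh.HH X (CohB1.tensorMod R (CohB1.tensorPow (ClSub.idealMod D) b)) 0)) :
    Function.Injective (fun s : Γ(R, ⊤) => pullTop (D ^ b).subschemeι s) := by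
  obtain ⟨e⟩ := kernel_unit_iso hD hR b
  have h1 := subsingleton_Γ_of_H0 _ (ThickCoh.subsingleton_HH_of_iso e 0 h)
  intro s s' hs
  have h2 : (unitM (D ^ b).subschemeι R).app ⊤ (s - s') = 0 := by
    rw [map_sub, sub_eq_zero]
    exact hs
  obtain ⟨y, hy⟩ := Smoothlim.ModKer.exists_of_app_eq_zero _ ⊤ _ h2
  rw [Subsingleton.elim y 0, map_zero] at hy
  exact (sub_eq_zero.1 hy.symm)

end Groth.Agent.Sga2.ThickSec
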