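import Mathlib.RingTheory.TensorProduct.IsBaseChangeFree
import Mathlib.RingTheory.Flat.Basic
import Mathlib.RingTheory.LocalRing.ResidueField.Basic
import Mathlib.LinearAlgebra.TensorProduct.Quotient
import Mathlib.RingTheory.Ideal.Maps
import Mathlib.RingTheory.Ideal.Quotient.Operations
import Mathlib.Algebra.Module.Torsion.Basic
import Mathlib.LinearAlgebra.Basis.VectorSpace

/-!
# gr_J(B) is free over B/J for J = m B, A → B flat, m maximal

Author: helper868
-/

set_option autoImplicit false
universe u v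

namespace Groth.Agent.Sga2.GrFree

open TensorProduct

section

variable {A : Type u} {B : Type v} [CommRing A] [CommRing B] [Algebra A B]

/-- The `A`-linear map `I → I B`. -/
def toMap (I : Ideal A) : I →ₗ[A] (I.map (algebraMap A B) : Ideal B) where
  toFun x := ⟨algebraMap A B x, Ideal.mem_map_of_mem _ x.2⟩
  map_add' x y := by ext; simp
  map_smul' r x := by
    ext
    simp [Algebra.smul_def]

@[simp] theorem coe_toMap (I : Ideal A) (x : I) : ((toMap (B := B) I x : _) : B) = algebraMap A B x := rfl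

theorem isBaseChange_toMap [Module.Flat A B] (I : Ideal A) : IsBaseChange B (toMap (B := B) I) := by
  have hinj : Function.Injective ((toMap (B := B) I).liftBaseChange B) := by
    have h1 := Module.Flat.lTensor_preserves_injective_linearMap (M := B) I.subtype
      Subtype.val_injective
    have h2 : Function.Injective ((AlgebraTensorModule.rid A A B).toLinearMap ∘ₗ (I.subtype.lTensor B)) :=
      (AlgebraTensorModule.rid A A B).injective.comp h1
    have h3 : ∀ x : B ⊗[A] I, (((toMap (B := B) I).liftBaseChange B x : (I.map (algebraMap A B) : Ideal B)) : B) =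
        ((AlgebraTensorModule.rid A A B).toLinearMap ∘ₗ (I.subtype.lTensor B)) x := by
      intro x
      induction x using TensorProduct.induction_on with
      | zero => simp
      | tmul b y => simp [Algebra.smul_def, mul_comm]
      | add x y hx hy => rw [map_add, map_add, Submodule.coe_add, hx, hy]
    intro x y hxy
    apply h2
    rw [← h3, ← h3, hxy]
  have hsurj : Function.Surjective ((toMap (B := B) I).liftBaseChange B) := by
    rintro ⟨y, hy⟩
    suffices h : ∃ x, (((toMap (B := B) I).liftBaseChange B x : (I.map (algebraMap A B) : Ideal B)) : B) = y by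
      obtain ⟨x, hx⟩ := h
      exact ⟨x, Subtype.ext hx⟩
    induction hy using Submodule.span_induction with
    | mem y hy =>
      obtain ⟨a, ha, rfl⟩ := hy
      exact ⟨1 ⊗ₜ ⟨a, ha⟩, by simp⟩
    | zero => exact ⟨0, by simp⟩
    | add y z _ _ hy hz =>
      obtain ⟨a, ha⟩ := hy
      obtain ⟨b, hb⟩ := hz
      exact ⟨a + b, by simp [ha, hb]⟩
    | smul b y _ hy =>
      obtain ⟨a, ha⟩ := hy
      exact ⟨b • a, by simp [ha]⟩
  have hbij : Function.Bijective ((toMap (B := B) I).liftBaseChange B) := ⟨hinj, hsurj⟩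
  exact IsBaseChange.of_equiv (LinearEquiv.ofBijective _ hbij) (fun x => by
    rw [LinearEquiv.ofBijective_apply]; simp)

end

section

variable {R : Type u} [CommRing R]

theorem isBaseChange_mkQ (I : Ideal R) (M : Type v) [AddCommGroup M] [Module R M] :
    IsBaseChange (R ⧸ I) ((I • (⊤ : Submodule R M)).mkQ) := by
  refine IsBaseChange.of_equiv
    ((quotTensorEquivQuotSMul M I).extendScalarsOfSurjective Ideal.Quotient.mk_surjective) (fun x => ?_)
  change quotTensorEquivQuotSMul M I ((1 : R ⧸ I) ⊗ₜ[R] x) = _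
  rw [← map_one (Ideal.Quotient.mk I), quotTensorEquivQuotSMul_mk_tmul, one_smul]
  rfl

end

section

variable {A : Type u} {B : Type v} [CommRing A] [CommRing B] [Algebra A B]

theorem free_aux [Module.Flat A B] (m I : Ideal A) [m.IsMaximal] :
    Module.Free (B ⧸ m.map (algebraMap A B))
      (↥(I.map (algebraMap A B)) ⧸ (m.map (algebraMap A B) • (⊤ : Submodule B ↥(I.map (algebraMap A B))))) := by
  let _ : Field (A ⧸ m) := Ideal.Quotient.field m
  set J := m.map (algebraMap A B) with hJ
  set K := I.map (algebraMap A B) with hK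
  let _ : Algebra (A ⧸ m) (B ⧸ J) := (Ideal.Quotient.lift m ((Ideal.Quotient.mk J).comp (algebraMap A B))
    (fun a ha => Ideal.Quotient.eq_zero_iff_mem.mpr (Ideal.mem_map_of_mem _ ha))).toAlgebra
  let _ : Module (A ⧸ m) (K ⧸ (J • (⊤ : Submodule B K))) := Module.compHom _ (algebraMap (A ⧸ m) (B ⧸ J))
  have : IsScalarTower (A ⧸ m) (B ⧸ J) (K ⧸ (J • (⊤ : Submodule B K))) := ⟨fun x y z => by
    rw [Algebra.smul_def, mul_smul]; rfl⟩
  have : IsScalarTower A (A ⧸ m) (B ⧸ J) := IsScalarTower.of_algebraMap_eq' rfl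
  have : IsScalarTower A (B ⧸ J) (K ⧸ (J • (⊤ : Submodule B K))) := ⟨fun x y z => by
    rw [← algebraMap_smul B x y, ← algebraMap_smul B x (y • z), smul_assoc]⟩
  have : IsScalarTower A (A ⧸ m) (K ⧸ (J • (⊤ : Submodule B K))) := ⟨fun x y z => by
    rw [← algebraMap_smul (B ⧸ J) (x • y) z, ← algebraMap_smul (B ⧸ J) y z, Algebra.smul_def, map_mul, mul_smul,
      ← IsScalarTower.algebraMap_apply, algebraMap_smul]⟩
  have h1 : IsBaseChange (B ⧸ J) (((J • (⊤ : Submodule B K)).mkQ.restrictScalars A) ∘ₗ (toMap (B := B) I)) :=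
    (isBaseChange_toMap I).comp (isBaseChange_mkQ J K)
  have hle : (m • (⊤ : Submodule A I)) ≤
      LinearMap.ker (((J • (⊤ : Submodule B K)).mkQ.restrictScalars A) ∘ₗ (toMap (B := B) I)) := by
    rw [Submodule.smul_le]
    intro r hr x _
    rw [LinearMap.mem_ker, LinearMap.comp_apply, map_smul, map_smul, ← algebraMap_smul B r]
    rw [LinearMap.restrictScalars_apply, ← map_smul, Submodule.mkQ_apply, Submodule.Quotient.mk_eq_zero]
    exact Submodule.smul_mem_smul (Ideal.mem_map_of_mem _ hr) Submodule.mem_top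
  let g0 : (I ⧸ (m • (⊤ : Submodule A I))) →ₗ[A] (K ⧸ (J • (⊤ : Submodule B K))) :=
    Submodule.liftQ _ _ hle
  let g : (I ⧸ (m • (⊤ : Submodule A I))) →ₗ[A ⧸ m] (K ⧸ (J • (⊤ : Submodule B K))) :=
    g0.extendScalarsOfSurjective Ideal.Quotient.mk_surjective
  have h2 : IsBaseChange (B ⧸ J) g := by
    refine IsBaseChange.of_comp (isBaseChange_mkQ m I) ?_
    exact h1
  have hfree : Module.Free (A ⧸ m) (I ⧸ (m • (⊤ : Submodule A I))) :=
    @Module.Free.of_divisionRing (A ⧸ m) (I ⧸ (m • (⊤ : Submodule A I))) (Ideal.Quotient.field m).toDivisionRing _ _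
  exact h2.free

theorem gr_free (m : Ideal A) [m.IsMaximal] [Module.Flat A B] (n : ℕ) :
    Module.Free (B ⧸ m.map (algebraMap A B))
      (↥((m.map (algebraMap A B)) ^ n) ⧸
        (m.map (algebraMap A B) • (⊤ : Submodule B ↥((m.map (algebraMap A B)) ^ n)))) := by
  have key : ∀ K : Ideal B, K = (m ^ n).map (algebraMap A B) →
      Module.Free (B ⧸ m.map (algebraMap A B)) (↥K ⧸ (m.map (algebraMap A B) • (⊤ : Submodule B ↥K))) := by
    rintro K rfl
    exact free_aux m (m ^ n)
  exact key _ (Ideal.map_pow _ _ _).symm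

end

end Groth.Agent.Sga2.GrFree
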