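import Groth.Agent.Sga2.StalkGen68
import Groth.Agent.Sga2.EszDepth
import Groth.Agent.Localalg.Depth2
import Groth.Agent.Fdesc.AssPoints
import Groth.Agent.Fdesc.SubFilt
import Groth.Agent.CycB.CohStalk
import Groth.Agent.FormalB.GlueHom
import Groth.Agent.Fga.HShift
import Groth.Agent.VarietyA.H0Equiv
import Groth.Agent.Ega2.FiniteSet
import Groth.Agent.Dix.IdealModCartier
import Groth.Prelude.Def_ClSub2

/-!
# Vanishing of `H^i(X, F ⊗ P^m)`, `m ≫ 0`, `i ≤ n`, with `P` the inverse of an ample module, forces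
`depth F_x > n` at closed points

* `exists_section_ne_zero`: a closed point which is associated to a quasi-coherent module gives a nonzero global section.
* `lt_depth_of_van`: SGA 2 XII 1.4, (i) ⇒ (ii), for `X` Noetherian and separated with an ample module.
-/

set_option autoImplicit false
universe u

open CategoryTheory CategoryTheory.Limits AlgebraicGeometry TopologicalSpace Opposite

namespace Groth.Agent.Sga2.Conv68

open Groth.Agent.Fdesc.LocGen Groth.Agent.CycB.StalkExact Groth.Agent.Ega2 Groth.Agent.Ega2.TensPow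
open Groth.Agent.CohqB.SerTw Groth.Agent.Sga2.StalkGen68

variable {X : Scheme.{u}}

/-- Two sections of a sheaf of modules with the same germs are equal. -/
theorem section_ext_germ {M : X.Modules} {U : X.Opens} {s t : Γ(M, U)}
    (h : ∀ (x : X) (hx : x ∈ U), M.presheaf.germ U x hx s = M.presheaf.germ U x hx t) : s = t := by
  refine res_ext_of_forall fun x hx => ?_
  obtain ⟨W, hxW, hW, hW', hs⟩ := exists_common_res M hx hx s t (h x hx)
  exact ⟨W, hW, hxW, hs⟩

/-- A closed associated point gives a nonzero global section. -/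
theorem exists_section_ne_zero [IsLocallyNoetherian X] {M : X.Modules} (hM : Coh.IsQCoh M) (x : X)
    (hx : IsClosed ({x} : Set X)) (hA : x ∈ AssSch.Ass M) : ∃ s : Γ(M, ⊤), s ≠ 0 := by
  obtain ⟨U, hU, hxU, -⟩ := Opens.isBasis_iff_nbhd.mp X.isBasis_affineOpens (Opens.mem_top x)
  have hU' : IsAffineOpen U := hU
  have h1 := (Groth.Agent.Fdesc.AssPoints.mem_Ass_iff M hU' hM x hxU).mp hA
  have : IsNoetherianRing Γ(X, U) := IsLocallyNoetherian.component_noetherian ⟨U, hU⟩
  obtain ⟨hp, s, hs⟩ := isAssociatedPrime_iff.mp h1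
  have hs0 : s ≠ 0 := by
    rintro rfl
    apply hp.ne_top
    rw [hs, eq_top_iff]
    intro r _
    rw [Submodule.mem_colon_singleton]
    simp
  have hs1 : ∀ (y : X) (hy : y ∈ U), y ≠ x → M.presheaf.germ U y hy s = 0 := by
    intro y hy hyx
    have h2 : ¬ (hU'.primeIdealOf ⟨x, hxU⟩).asIdeal ≤ (hU'.primeIdealOf ⟨y, hy⟩).asIdeal := by
      rw [← Groth.Agent.Fdesc.AssPoints.specializes_iff hU']
      intro h
      have := specializes_iff_mem_closure.mp h
      rw [hx.closure_eq] at this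
      exact hyx this
    obtain ⟨r, hr, hr'⟩ := SetLike.not_le_iff_exists.mp h2
    have h3 : r • s = 0 := by
      rw [hs, Submodule.mem_colon_singleton] at hr
      simpa using hr
    rw [Groth.Agent.Fdesc.AssPoints.primeIdealOf_eq_comap] at hr'
    have h4 : IsUnit (X.presheaf.germ U y hy r) := by
      by_contra hne
      exact hr' ((IsLocalRing.mem_maximalIdeal _).mpr hne)
    have h5 : X.presheaf.germ U y hy r • M.presheaf.germ U y hy s = 0 := by
      rw [← germ_smul, h3, map_zero]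
    exact (h4.smul_eq_zero).mp h5
  let V : X.Opens := ⟨({x} : Set X)ᶜ, hx.isOpen_compl⟩
  have hV : ∀ y, y ∈ V ↔ y ≠ x := fun y => Iff.rfl
  obtain ⟨t, ht⟩ := Groth.Agent.FormalB.GlueHom.exists_glue M ⊤ (ι := ULift.{u} Bool)
    (fun b => match b with
      | ⟨true⟩ => U
      | ⟨false⟩ => V) (fun _ => le_top)
    (fun y _ => by
      by_cases hy : y = x
      · exact ⟨⟨true⟩, by rw [hy]; exact hxU⟩
      · exact ⟨⟨false⟩, hy⟩)
    (fun b => match b with
      | ⟨true⟩ => s
      | ⟨false⟩ => 0)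
    (by
      have hz : res M (inf_le_left : U ⊓ V ≤ U) s = 0 := by
        refine section_ext_germ fun y hy => ?_
        rw [germ_res, map_zero]
        exact hs1 y hy.1 hy.2
      rintro ⟨_ | _⟩ ⟨_ | _⟩
      · rfl
      · change res M _ (0 : Γ(M, V)) = res M (inf_le_right : V ⊓ U ≤ U) s
        rw [map_zero]
        refine (section_ext_germ fun y hy => ?_).symm
        rw [germ_res, map_zero]
        exact hs1 y hy.2 hy.1
      · change res M _ s = res M _ (0 : Γ(M, V))
        rw [map_zero]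
        exact hz
      · rfl)
  refine ⟨t, ?_⟩
  rintro rfl
  apply hs0
  have h6 : Groth.Agent.FormalB.GlueHom.res M (le_top : U ≤ ⊤) 0 = s := ht ⟨true⟩
  rw [← h6]
  exact map_zero _

theorem ass_tensor (F : X.Modules) {N : X.Modules} (hN : PicF.IsInvertible N) :
    AssSch.Ass (CohB1.tensorMod F N) = AssSch.Ass F :=
  EszDepth.ass_eq_of_stalkEquiv fun x =>
    ⟨(nonempty_stalkEquiv_tensor F hN x).some.symm⟩

/-- Nonvanishing of `H^0`. -/
theorem not_subsingleton_HH_zero [IsLocallyNoetherian X] {F N : X.Modules} (hF : Coh.IsCoh F)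
    (hN : PicF.IsInvertible N) (x : X) (hx : IsClosed ({x} : Set X)) (hA : x ∈ AssSch.Ass F) :
    ¬ Subsingleton (Coh.HH X (CohB1.tensorMod F N) 0) := by
  intro h
  obtain ⟨s, hs⟩ := exists_section_ne_zero (isCoh_tensorMod hF hN).1 x hx (by rwa [ass_tensor F hN])
  have h1 : Subsingleton Γ(CohB1.tensorMod F N, ⊤) :=
    (VarietyA.H0Equiv.hZeroEquiv (CohB1.tensorMod F N)).symm.toEquiv.subsingleton
  exact hs (h1.elim _ _)

theorem one_le_depth [IsLocallyNoetherian X] {F : X.Modules} (hF : Coh.IsCoh F) (x : X)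
    (hA : x ∉ AssSch.Ass F) :
    (0 : ℕ∞) < LocCoh.depth (X.presheaf.stalk x) (F.presheaf.stalk x) := by
  rw [pos_iff_ne_zero]
  intro h
  have := Groth.Agent.CycB.CohStalk.finite_stalk F hF x
  obtain ⟨p, hp, hle⟩ := Groth.Agent.Localalg.Depth2.exists_mem_associatedPrimes_of_idealDepth_eq_zero h
  apply hA
  have h1 : IsLocalRing.maximalIdeal (X.presheaf.stalk x) = p :=
    (IsLocalRing.maximalIdeal.isMaximal _).eq_of_le (IsAssociatedPrime.isPrime hp).ne_top hle
  change _ ∈ associatedPrimes _ _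
  rw [h1]
  exact hp

/-- The property of `SGA 2 XII 1.4 (i)`. -/
def Van (P F : X.Modules) (n : ℕ) : Prop :=
  ∃ m₀ : ℕ, ∀ m : ℕ, m₀ ≤ m → ∀ i : ℕ, i ≤ n →
    Subsingleton (Coh.HH X (CohB1.tensorMod F (CohB1.tensorPow P m)) i)

/-- Powers of the structure module. -/
noncomputable def powUnit (X : Scheme.{u}) : (n : ℕ) →
    (CohB1.tensorPow (Coh.structureModule X) n ≅ Coh.structureModule X)
  | 0 => Iso.refl _
  | n + 1 => Tens.mapTIso (powUnit X n) (Iso.refl _) ≪≫ Tens.lunit _

/-- `(F ⊗ L^b) ⊗ P^(b+m) ≅ F ⊗ P^m` for `L ⊗ P ≅ O`. -/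
theorem nonempty_twist_iso {L P : X.Modules} (hLP : ClSub.IsInverseOf L P) (F : X.Modules) (b m : ℕ) :
    Nonempty (CohB1.tensorMod (CohB1.tensorMod F (CohB1.tensorPow L b)) (CohB1.tensorPow P (b + m)) ≅
      CohB1.tensorMod F (CohB1.tensorPow P m)) := by
  obtain ⟨e⟩ := hLP
  have e1 : CohB1.tensorMod (CohB1.tensorPow L b) (CohB1.tensorPow P b) ≅ Coh.structureModule X :=
    (powTensor L P b).symm ≪≫ powIso e b ≪≫ powUnit X b
  have e2 : CohB1.tensorMod (CohB1.tensorPow L b) (CohB1.tensorPow P (b + m)) ≅ CohB1.tensorPow P m :=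
    Tens.mapTIso (Iso.refl _) (powAdd P b m).symm ≪≫ (Tens.assoc _ _ _).symm ≪≫
      Tens.mapTIso e1 (Iso.refl _) ≪≫ Tens.lunit _
  exact ⟨Tens.assoc _ _ _ ≪≫ Tens.mapTIso (Iso.refl _) e2⟩

theorem Van.mono {P F : X.Modules} {n n' : ℕ} (h : Van P F n) (hn : n' ≤ n) : Van P F n' := by
  obtain ⟨m₀, h⟩ := h
  exact ⟨m₀, fun m hm i hi => h m hm i (hi.trans hn)⟩

theorem notMem_ass_of_van [IsLocallyNoetherian X] {L P F : X.Modules} (hLP : ClSub.IsInverseOf L P)
    (hF : Coh.IsCoh F) {n : ℕ} (h : Van P F n) (x : X) (hx : IsClosed ({x} : Set X)) :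
    x ∉ AssSch.Ass F := by
  obtain ⟨m₀, h⟩ := h
  intro hA
  have hP := (Groth.Agent.Dix.IdealModCartier.isInvertible_of_isInverseOf hLP).2
  exact not_subsingleton_HH_zero hF (isInvertible_tensorPow hP m₀) x hx hA (h m₀ le_rfl 0 (Nat.zero_le n))

/-- **SGA 2, XII 1.4, (i) ⇒ (ii).** -/
theorem lt_depth_of_van [IsNoetherian X] [X.IsSeparated] {L P : X.Modules} (hL : CohB1.IsAmple L)
    (hLP : ClSub.IsInverseOf L P) (n : ℕ) : ∀ (F : X.Modules) (_ : Coh.IsCoh F) (_ : Van P F n)
      (x : X) (_ : IsClosed ({x} : Set X)),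
      (n : ℕ∞) < LocCoh.depth (X.presheaf.stalk x) (F.presheaf.stalk x) := by
  have hP := (Groth.Agent.Dix.IdealModCartier.isInvertible_of_isInverseOf hLP).2
  induction n with
  | zero =>
    intro F hF hV x hx
    exact one_le_depth hF x (notMem_ass_of_van hLP hF hV x hx)
  | succ n ih =>
    intro F hF hV x hx
    have hxA := notMem_ass_of_van hLP hF hV x hx
    obtain ⟨a, s, hs1, hs2, -⟩ := Groth.Agent.Ega2.FiniteSet.exists_affine_genLocus_of_finite hL
      (AssSch.Ass F) (Groth.Agent.Fdesc.SubFilt.finite_ass hF) ⟨({x} : Set X)ᶜ, hx.isOpen_compl⟩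
      (fun y hy (hyx : y = x) => hxA (hyx ▸ hy))
    have hN : PicF.IsInvertible (CohB1.tensorPow L (a + 1)) := isInvertible_tensorPow hL.1 (a + 1)
    have htw' := nonempty_twist_iso hLP F (a + 1)
    generalize CohB1.tensorPow L (a + 1) = N at s hs1 hs2 hN htw'
    have hFN : Coh.IsCoh (CohB1.tensorMod F N) := isCoh_tensorMod hF hN
    have htw : ∀ m : ℕ, Nonempty (CohB1.tensorMod (CohB1.tensorMod F N) (CohB1.tensorPow P ((a + 1) + m)) ≅
      CohB1.tensorMod F (CohB1.tensorPow P m)) := htw'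
    -- local equations
    have hloc : ∀ y : X, ∃ (r : X.presheaf.stalk y)
        (ε : F.presheaf.stalk y ≃ₗ[X.presheaf.stalk y] (CohB1.tensorMod F N).presheaf.stalk y),
        (∀ m, stalkLin (mulSec (sec s ⊤) F) y m = r • ε m) ∧ (IsUnit r ↔ y ∈ CohB1.genLocus _ s) := by
      intro y
      obtain ⟨U, e, hyU, he⟩ := (isInvertible_iff N).mp hN y
      obtain ⟨c, hc⟩ := he.exists_eq (sec s U)
      obtain ⟨ε, hε⟩ := exists_stalkLin_mulSec F (sec s ⊤) he (c := c) (by rw [res_sec]; exact hc) hyU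
      refine ⟨X.presheaf.germ U y hyU c, ε, hε, ?_⟩
      have h1 := genLocus_inf_eq s he hc
      rw [← Scheme.mem_basicOpen _ _ _ hyU, ← h1]
      exact ⟨fun h => h.1, fun h => ⟨h, hyU⟩⟩
    choose r ε hrε hru using hloc
    have hmono : Mono (mulSec (sec s ⊤) F) :=
      EszDepth.mono_of_unit_ass hF.1 hFN.1 _ ε r hrε (fun z hz => by
        rw [ass_tensor F hN] at hz
        exact (hru z).mpr (hs1 hz))
    have hC : Coh.IsCoh (cokernel (mulSec (sec s ⊤) F)) := isCoh_cokernel _ hF.1 hFN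
    set S : ShortComplex X.Modules := ShortComplex.mk (mulSec (sec s ⊤) F) (cokernel.π _)
      (cokernel.condition _) with hSdef
    have hS : S.ShortExact :=
      { exact := ShortComplex.exact_of_g_is_cokernel _ (cokernelIsCokernel _)
        mono_f := hmono
        epi_g := inferInstanceAs (Epi (cokernel.π _)) }
    have hVC : Van P (cokernel (mulSec (sec s ⊤) F)) n := by
      obtain ⟨m₀, h⟩ := hV
      refine ⟨(a + 1) + m₀, fun m hm i hi => ?_⟩
      obtain ⟨m', rfl⟩ := Nat.exists_eq_add_of_le hm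
      have h1 := shortExact_tw (isInvertible_tensorPow hP ((a + 1) + m₀ + m')) hS
      refine Groth.Agent.Fga.HShift.subsingleton₃ h1 i ?_ ?_
      · obtain ⟨e⟩ := htw (m₀ + m')
        rw [← add_assoc] at e
        exact Groth.Agent.Fga.HShift.subsingleton_of_iso e.symm i (h (m₀ + m') (by omega) i (by omega))
      · exact h (a + 1 + m₀ + m') (by omega) (i + 1) (by omega)
    have hd := ih _ hC hVC x hx
    have : Module.Finite (X.presheaf.stalk x) ((CohB1.tensorMod F N).presheaf.stalk x) :=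
      Groth.Agent.CycB.CohStalk.finite_stalk _ hFN x
    have hreg := EszDepth.isSMulRegular_of_mono (mulSec (sec s ⊤) F) x (ε x) (r x) (hrε x)
    have hrm : r x ∈ IsLocalRing.maximalIdeal (X.presheaf.stalk x) := by
      rw [IsLocalRing.mem_maximalIdeal, mem_nonunits_iff, hru]
      intro h
      exact hs2 h rfl
    have h2 := Groth.Agent.Localalg.Depth.idealDepth_quotSMulTop_add_one
      (IsLocalRing.maximalIdeal (X.presheaf.stalk x)) ((CohB1.tensorMod F N).presheaf.stalk x) (r x) hrm hreg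
    rw [Groth.Agent.Localalg.Depth.idealDepth_congr_equiv _
      (EszDepth.cokernelStalkEquiv (mulSec (sec s ⊤) F) x (ε x) (r x) (hrε x)),
      ← Groth.Agent.Localalg.Depth.idealDepth_congr_equiv _ (ε x)] at h2
    change _ < LocCoh.idealDepth _ _
    rw [← h2]
    push_cast
    exact (ENat.add_lt_add_iff_right (by simp)).mpr hd

end Groth.Agent.Sga2.Conv68
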