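import Groth.Agent.CohqB.SerTw
import Groth.Agent.CycB.StalkExact

/-!
# Stalks of modules which are "locally isomorphic on sections"

* `exists_stalkEquiv`: a family of linear bijections `Γ(M, V) → Γ(M', V)`, `V ≤ U`, compatible with restriction induces
  an `O_x`-linear equivalence of stalks at `x ∈ U`, with the expected value on germs.
* `exists_stalkEquiv_tensor`: for a generator `e` of `N` on `U`: `F_x ≃ (F ⊗ N)_x`, `germ t ↦ germ (t ⊗ e)`.
* `stalkLin_mulSec`: on stalks, multiplication by a section `s = c • e` of `N` is `c` times this equivalence.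
-/

set_option autoImplicit false
universe u

open CategoryTheory CategoryTheory.Limits AlgebraicGeometry TopologicalSpace Opposite

namespace Groth.Agent.Sga2.StalkGen68

open Groth.Agent.Fdesc.LocGen Groth.Agent.CycB.StalkExact

variable {X : Scheme.{u}}

theorem germ_res (M : X.Modules) {U V : X.Opens} (h : V ≤ U) (x : X) (hx : x ∈ V) (s : Γ(M, U)) :
    M.presheaf.germ V x hx (res M h s) = M.presheaf.germ U x (h hx) s :=
  TopCat.Presheaf.germ_res_apply M.presheaf (homOfLE h) x hx s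

theorem germ_ores {U V : X.Opens} (h : V ≤ U) (x : X) (hx : x ∈ V) (s : Γ(X, U)) :
    X.presheaf.germ V x hx (ores h s) = X.presheaf.germ U x (h hx) s :=
  TopCat.Presheaf.germ_res_apply X.presheaf (homOfLE h) x hx s

theorem exists_germ_le (M : X.Modules) {U : X.Opens} {x : X} (hx : x ∈ U) (m : M.presheaf.stalk x) :
    ∃ (V : X.Opens) (hxV : x ∈ V) (_ : V ≤ U) (s : Γ(M, V)), M.presheaf.germ V x hxV s = m := by
  obtain ⟨V, hxV, s, rfl⟩ := M.presheaf.exists_germ_eq m
  exact ⟨V ⊓ U, ⟨hxV, hx⟩, inf_le_right, res M inf_le_left s, germ_res M _ x _ s⟩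

theorem exists_common_res (M : X.Modules) {x : X} {V V' : X.Opens} (hx : x ∈ V) (hx' : x ∈ V')
    (s : Γ(M, V)) (s' : Γ(M, V')) (h : M.presheaf.germ V x hx s = M.presheaf.germ V' x hx' s') :
    ∃ (W : X.Opens) (_ : x ∈ W) (hW : W ≤ V) (hW' : W ≤ V'), res M hW s = res M hW' s' := by
  obtain ⟨W, hxW, i, i', hW⟩ := M.presheaf.germ_eq x hx hx' s s' h
  exact ⟨W, hxW, i.le, i'.le, hW⟩

section

variable {M M' : X.Modules} {U : X.Opens} (g : ∀ V : X.Opens, V ≤ U → (Γ(M, V) →ₗ[Γ(X, V)] Γ(M', V)))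
  (nat : ∀ {V W : X.Opens} (hV : V ≤ U) (hW : W ≤ V) (t : Γ(M, V)),
    g W (hW.trans hV) (res M hW t) = res M' hW (g V hV t))
  {x : X} (hx : x ∈ U)

include nat in
theorem germ_eq_of_germ_eq {V V' : X.Opens} (hV : V ≤ U) (hV' : V' ≤ U) (hxV : x ∈ V) (hxV' : x ∈ V')
    (t : Γ(M, V)) (t' : Γ(M, V')) (h : M.presheaf.germ V x hxV t = M.presheaf.germ V' x hxV' t') :
    M'.presheaf.germ V x hxV (g V hV t) = M'.presheaf.germ V' x hxV' (g V' hV' t') := by
  obtain ⟨W, hxW, hW, hW', hs⟩ := exists_common_res M hxV hxV' t t' h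
  rw [← germ_res M' hW x hxW, ← germ_res M' hW' x hxW, ← nat, ← nat, hs]

/-- The induced map on stalks. -/
noncomputable def stalkFn (m : M.presheaf.stalk x) : M'.presheaf.stalk x :=
  M'.presheaf.germ (exists_germ_le M hx m).choose x (exists_germ_le M hx m).choose_spec.choose
    (g _ (exists_germ_le M hx m).choose_spec.choose_spec.choose
      (exists_germ_le M hx m).choose_spec.choose_spec.choose_spec.choose)

include nat in
theorem stalkFn_germ {V : X.Opens} (hV : V ≤ U) (hxV : x ∈ V) (t : Γ(M, V)) :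
    stalkFn g hx (M.presheaf.germ V x hxV t) = M'.presheaf.germ V x hxV (g V hV t) :=
  germ_eq_of_germ_eq g nat _ _ _ _ _ _
    (exists_germ_le M hx (M.presheaf.germ V x hxV t)).choose_spec.choose_spec.choose_spec.choose_spec

include nat hx in
/-- Linear bijections on sections over the opens `V ≤ U`, compatible with restriction, induce linear equivalences of
stalks. -/
theorem exists_stalkEquiv (bij : ∀ (V : X.Opens) (hV : V ≤ U), Function.Bijective (g V hV)) :
    ∃ ε : M.presheaf.stalk x ≃ₗ[X.presheaf.stalk x] M'.presheaf.stalk x,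
      ∀ (V : X.Opens) (hV : V ≤ U) (hxV : x ∈ V) (t : Γ(M, V)),
        ε (M.presheaf.germ V x hxV t) = M'.presheaf.germ V x hxV (g V hV t) := by
  have key := fun (V : X.Opens) (hV : V ≤ U) (hxV : x ∈ V) (t : Γ(M, V)) => stalkFn_germ g nat hx hV hxV t
  let ψ : M.presheaf.stalk x →ₗ[X.presheaf.stalk x] M'.presheaf.stalk x :=
    { toFun := stalkFn g hx
      map_add' := by
        intro a b
        obtain ⟨V, hxV, hV, s, rfl⟩ := exists_germ_le M hx a
        obtain ⟨V', hxV', hV', s', rfl⟩ := exists_germ_le M hx b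
        have hxW : x ∈ V ⊓ V' := ⟨hxV, hxV'⟩
        rw [← germ_res M (inf_le_left : V ⊓ V' ≤ V) x hxW, ← germ_res M (inf_le_right : V ⊓ V' ≤ V') x hxW,
          ← map_add, key _ (inf_le_left.trans hV), key _ (inf_le_left.trans hV),
          key _ (inf_le_left.trans hV), map_add, map_add]
      map_smul' := by
        intro r a
        obtain ⟨V, hxV, hV, s, rfl⟩ := exists_germ_le M hx a
        obtain ⟨V', hxV', r, rfl⟩ := X.presheaf.exists_germ_eq r
        have hxW : x ∈ V ⊓ V' := ⟨hxV, hxV'⟩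
        rw [← germ_res M (inf_le_left : V ⊓ V' ≤ V) x hxW, ← germ_ores (inf_le_right : V ⊓ V' ≤ V') x hxW,
          ← germ_smul, key _ (inf_le_left.trans hV), key _ (inf_le_left.trans hV), map_smul, germ_smul]
        rfl }
  have hψ : ∀ (V : X.Opens) (hV : V ≤ U) (hxV : x ∈ V) (t : Γ(M, V)),
      ψ (M.presheaf.germ V x hxV t) = M'.presheaf.germ V x hxV (g V hV t) := key
  refine ⟨LinearEquiv.ofBijective ψ ⟨?_, ?_⟩, hψ⟩
  · rw [injective_iff_map_eq_zero]
    intro a ha
    obtain ⟨V, hxV, hV, s, rfl⟩ := exists_germ_le M hx a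
    rw [hψ V hV] at ha
    have h0 : M'.presheaf.germ V x hxV (g V hV s) = M'.presheaf.germ V x hxV (0 : Γ(M', V)) := by
      rw [ha, map_zero]
    obtain ⟨W, hxW, hW, hW', hs⟩ := exists_common_res M' hxV hxV _ _ h0
    rw [map_zero, ← nat hV hW] at hs
    have h1 : res M hW s = 0 := (bij W (hW.trans hV)).1 (hs.trans (map_zero _).symm)
    rw [← germ_res M hW x hxW, h1, map_zero]
  · intro b
    obtain ⟨V, hxV, hV, s, rfl⟩ := exists_germ_le M' hx b
    obtain ⟨t, rfl⟩ := (bij V hV).2 s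
    exact ⟨M.presheaf.germ V x hxV t, hψ V hV hxV t⟩

end

/-- `F_x ≃ (F ⊗ N)_x` for a generator `e` of `N` near `x`. -/
theorem exists_stalkEquiv_tensor (F : X.Modules) {N : X.Modules} {U : X.Opens} {e : Γ(N, U)} (he : IsGen e)
    {x : X} (hx : x ∈ U) :
    ∃ ε : F.presheaf.stalk x ≃ₗ[X.presheaf.stalk x] (CohB1.tensorMod F N).presheaf.stalk x,
      ∀ (V : X.Opens) (hV : V ≤ U) (hxV : x ∈ V) (t : Γ(F, V)),
        ε (F.presheaf.germ V x hxV t) =
          (CohB1.tensorMod F N).presheaf.germ V x hxV (tmul t (res N hV e)) :=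
  exists_stalkEquiv (fun V hV => (CohqB.SerTw.genEquiv F (he.res hV)).toLinearMap)
    (fun {V W} hV hW t => by
      change tmul (res F hW t) (res N _ e) = res _ hW (tmul t (res N _ e))
      rw [res_tmul, res_res]) hx
    (fun V hV => (CohqB.SerTw.genEquiv F (he.res hV)).bijective)

/-- Stalk of `F ⊗ N` for `N` invertible. -/
theorem nonempty_stalkEquiv_tensor (F : X.Modules) {N : X.Modules} (hN : PicF.IsInvertible N) (x : X) :
    Nonempty (F.presheaf.stalk x ≃ₗ[X.presheaf.stalk x] (CohB1.tensorMod F N).presheaf.stalk x) := by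
  obtain ⟨U, e, hx, he⟩ := (isInvertible_iff N).mp hN x
  obtain ⟨ε, -⟩ := exists_stalkEquiv_tensor F he hx
  exact ⟨ε⟩

/-- On stalks, multiplication by a global section `s` of `N` with `s = c • e` near `x` is multiplication by the germ
of `c`. -/
theorem exists_stalkLin_mulSec (F : X.Modules) {N : X.Modules} (s : Γ(N, ⊤)) {U : X.Opens} {e : Γ(N, U)}
    (he : IsGen e) {c : Γ(X, U)} (hc : res N le_top s = c • e) {x : X} (hx : x ∈ U) :
    ∃ ε : F.presheaf.stalk x ≃ₗ[X.presheaf.stalk x] (CohB1.tensorMod F N).presheaf.stalk x,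
      ∀ m, stalkLin (CohqB.SerTw.mulSec s F) x m = X.presheaf.germ U x hx c • ε m := by
  obtain ⟨ε, hε⟩ := exists_stalkEquiv_tensor F he hx
  refine ⟨ε, fun m => ?_⟩
  obtain ⟨V, hxV, hV, t, rfl⟩ := exists_germ_le F hx m
  rw [hε V hV hxV, stalkLin_germ, CohqB.SerTw.mulSec_app, ← germ_ores hV x hxV c, ← germ_smul]
  congr 1
  rw [← tmul_smul, ← res_smul, ← hc, res_res]

end Groth.Agent.Sga2.StalkGen68
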