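import Groth.Agent.Sga2.EszDepth
import Groth.Agent.Sga2.StalkGen68
import Groth.Agent.Sga2.ThickCoh
import Groth.Agent.Fdesc.SubFilt
import Groth.Agent.Fdesc.FinStalk
import Groth.Agent.CalgA.DepthSmall
import Groth.Agent.CurvesB.HZero
import Groth.Agent.Fga.PicMon
import Groth.Agent.S2324
import Groth.Agent.Dix.IdealModCartier

/-!
# The converse of the Enriques-Severi-Zariski lemma

`X` Noetherian separated, `L` ample with inverse `P`, `F` coherent.

* `exists_section_ne_zero`, `nontrivial_HH_zero`: a closed associated point gives a nonzero global section.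
* `notMem_ass_of_vanishing`: if `H^0(X, F ⊗ P^m) = 0` for some `m` then no associated point of `F` is closed.
* `lt_depth_of_vanishing`: if `H^i(X, F ⊗ P^m) = 0` for `i ≤ n`, `m` large, then `n < depth F_x` at all closed `x`.

Author: helper409
-/

set_option autoImplicit false
universe u

open CategoryTheory CategoryTheory.Limits AlgebraicGeometry TopologicalSpace Opposite
open Groth.Agent.CycB.StalkExact Groth.Agent.Fdesc.LocGen

namespace Groth.Agent.Sga2.ConvEsz

variable {X : Scheme.{u}}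

/-- A closed associated point carries a nonzero global section. -/
theorem exists_section_ne_zero [IsLocallyNoetherian X] {F : X.Modules} (hF : Coh.IsQCoh F) (x : X)
    (hx : IsClosed ({x} : Set X)) (hxF : x ∈ AssSch.Ass F) : ∃ s : Γ(F, ⊤), s ≠ 0 := by
  obtain ⟨U, hU, hxU⟩ := Groth.Agent.Fdesc.SubFilt.exists_affine x
  have : IsNoetherianRing Γ(X, U) := IsLocallyNoetherian.component_noetherian ⟨U, hU⟩
  rw [Groth.Agent.Fdesc.AssPoints.mem_Ass_iff F hU hF x hxU] at hxF
  obtain ⟨hprime, t, ht⟩ := isAssociatedPrime_iff.mp hxF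
  have htmem (g : Γ(X, U)) : g ∈ (hU.primeIdealOf ⟨x, hxU⟩).asIdeal ↔ g • t = 0 := by
    rw [ht, Submodule.mem_colon_singleton, Submodule.mem_bot]
  let V : X.Opens := ⟨({x} : Set X)ᶜ, hx.isOpen_compl⟩
  have ht0 : t ≠ 0 := by
    rintro rfl
    apply hprime.ne_top
    rw [Ideal.eq_top_iff_one, htmem, smul_zero]
  -- `t` vanishes off `x`
  have hres : res F (inf_le_left : U ⊓ V ≤ U) t = 0 := by
    refine TopCat.Presheaf.section_ext ⟨F.presheaf, F.isSheaf⟩ (U ⊓ V) _ _ fun y hy => ?_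
    have hyU : y ∈ U := hy.1
    have hyx : y ≠ x := hy.2
    have hnle : ¬ (hU.primeIdealOf ⟨x, hxU⟩).asIdeal ≤ (hU.primeIdealOf ⟨y, hyU⟩).asIdeal := by
      rw [← Groth.Agent.Fdesc.AssPoints.specializes_iff hU x y hxU hyU]
      intro hsp
      exact hyx (hsp.mem_closed hx rfl)
    obtain ⟨f, hf1, hf2⟩ := Set.not_subset.mp hnle
    have h1 : f • t = 0 := (htmem f).mp hf1
    have hu : IsUnit (X.presheaf.germ U y hyU f) := by
      by_contra hnu
      apply hf2
      exact (Groth.Agent.Fdesc.QCohStalk.mem_primeIdealOf_iff hU y hyU f).mpr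
        ((IsLocalRing.mem_maximalIdeal _).mpr hnu)
    have h2 : X.presheaf.germ U y hyU f • F.presheaf.germ U y hyU t = 0 := by
      rw [← germ_smul, h1, map_zero]
    have h3 : F.presheaf.germ U y hyU t = 0 := hu.smul_eq_zero.mp h2
    have h4 : F.presheaf.germ (U ⊓ V) y hy (res F inf_le_left t) = F.presheaf.germ U y hyU t :=
      Groth.Agent.Sga2.StalkGen68.germ_res F inf_le_left y hy t
    refine Eq.trans h4 (h3.trans ?_)
    exact (map_zero (F.presheaf.germ (U ⊓ V) y hy).hom).symm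
  have hres' : ∀ (W : X.Opens) (hWU : W ≤ U) (hWV : W ≤ V), res F hWU t = 0 := by
    intro W hWU hWV
    have h1 : res F (le_inf hWU hWV) (res F (inf_le_left : U ⊓ V ≤ U) t) = res F hWU t :=
      res_res _ _ _ _
    rw [← h1, hres, map_zero]
  obtain ⟨s, hs⟩ := Groth.Agent.Ega1.QCohLoc.exists_gluing F (fun b : Bool => cond b U V) ⊤
    (fun _ => le_top) (fun y _ => by
      by_cases hy : y = x
      · exact Opens.mem_iSup.mpr ⟨true, hy ▸ hxU⟩
      · exact Opens.mem_iSup.mpr ⟨false, hy⟩)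
    (fun b => match b with
      | true => t
      | false => 0) (by
        rintro (_ | _) (_ | _)
        · rfl
        · change res F (inf_le_left : V ⊓ U ≤ V) 0 = res F (inf_le_right : V ⊓ U ≤ U) t
          rw [map_zero, hres' (V ⊓ U) inf_le_right inf_le_left]
        · change res F (inf_le_left : U ⊓ V ≤ U) t = res F (inf_le_right : U ⊓ V ≤ V) 0
          rw [map_zero, hres' (U ⊓ V) inf_le_left inf_le_right]
        · rfl)
  refine ⟨s, ?_⟩
  rintro rfl
  apply ht0
  have := hs true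
  rw [map_zero] at this
  exact this.symm

/-- A closed associated point: `H^0 ≠ 0`. -/
theorem nontrivial_HH_zero [IsLocallyNoetherian X] {F : X.Modules} (hF : Coh.IsQCoh F) (x : X)
    (hx : IsClosed ({x} : Set X)) (hxF : x ∈ AssSch.Ass F) : Nontrivial (Coh.HH X F 0) := by
  obtain ⟨s, hs⟩ := exists_section_ne_zero hF x hx hxF
  refine ⟨(Groth.Agent.CurvesB.HZero.equivAdd F).symm s, 0, fun h => hs ?_⟩
  have := congrArg (Groth.Agent.CurvesB.HZero.equivAdd F) h
  rwa [AddEquiv.apply_symm_apply, map_zero] at this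

theorem ass_tensor {F N : X.Modules} (hN : PicF.IsInvertible N) :
    AssSch.Ass (CohB1.tensorMod F N) = AssSch.Ass F :=
  (Groth.Agent.Sga2.EszDepth.ass_eq_of_stalkEquiv fun x =>
    Groth.Agent.Sga2.StalkGen68.nonempty_stalkEquiv_tensor F hN x).symm

/-- If `H^0(F ⊗ P^m) = 0` for some `m`, no associated point of `F` is closed. -/
theorem notMem_ass_of_vanishing [IsLocallyNoetherian X] {F P : X.Modules} (hF : Coh.IsQCoh F)
    (hP : PicF.IsInvertible P) (m : ℕ)
    (h : Subsingleton (Coh.HH X (CohB1.tensorMod F (CohB1.tensorPow P m)) 0)) (x : X)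
    (hx : IsClosed ({x} : Set X)) : x ∉ AssSch.Ass F := by
  intro hxF
  rw [← ass_tensor (isInvertible_tensorPow hP m)] at hxF
  have := nontrivial_HH_zero (Groth.Agent.Ega2.TensGen.isQCoh_tensor hF (isInvertible_tensorPow hP m)) x hx hxF
  exact not_subsingleton _ h

/-- Multiplication by a section of an invertible module on stalks. -/
theorem exists_mulSec_data (F : X.Modules) {N : X.Modules} (hN : PicF.IsInvertible N)
    (σ : Coh.structureModule X ⟶ N) :
    ∃ (r : ∀ x : X, X.presheaf.stalk x)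
      (ε : ∀ x : X, F.presheaf.stalk x ≃ₗ[X.presheaf.stalk x] (CohB1.tensorMod F N).presheaf.stalk x),
      (∀ x m, stalkLin (Groth.Agent.CohqB.SerTw.mulSec (sec σ ⊤) F) x m = r x • ε x m) ∧
      ∀ x, x ∈ CohB1.genLocus N σ ↔ IsUnit (r x) := by
  have key : ∀ x : X, ∃ (r : X.presheaf.stalk x)
      (ε : F.presheaf.stalk x ≃ₗ[X.presheaf.stalk x] (CohB1.tensorMod F N).presheaf.stalk x),
      (∀ m, stalkLin (Groth.Agent.CohqB.SerTw.mulSec (sec σ ⊤) F) x m = r • ε m) ∧
      (x ∈ CohB1.genLocus N σ ↔ IsUnit r) := by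
    intro x
    obtain ⟨U, e, hxU, he⟩ := (isInvertible_iff N).mp hN x
    obtain ⟨c, hc⟩ := he.exists_eq (sec σ U)
    have hc' : res N le_top (sec σ ⊤) = c • e := by rw [res_sec, hc]
    obtain ⟨ε, hε⟩ := Groth.Agent.Sga2.StalkGen68.exists_stalkLin_mulSec F (sec σ ⊤) he hc' hxU
    refine ⟨X.presheaf.germ U x hxU c, ε, hε, ?_⟩
    have h1 := genLocus_inf_eq σ he hc
    rw [← X.mem_basicOpen c x hxU, ← h1]
    exact ⟨fun h => ⟨h, hxU⟩, fun h => h.1⟩
  choose r ε h1 h2 using key
  exact ⟨r, ε, h1, h2⟩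

/-- The vanishing condition. -/
def Van (P F : X.Modules) (i : ℕ) : Prop :=
  ∃ m₀ : ℕ, ∀ m : ℕ, m₀ ≤ m → Subsingleton (Coh.HH X (CohB1.tensorMod F (CohB1.tensorPow P m)) i)

/-- **Converse Enriques-Severi-Zariski.** -/
theorem lt_depth_of_vanishing [IsNoetherian X] [X.IsSeparated] {L P : X.Modules} (hL : ClSub.IsInverseOf L P)
    (hamp : CohB1.IsAmple L) (n : ℕ) : ∀ (F : X.Modules) (_ : Coh.IsCoh F) (_ : ∀ i ≤ n, Van P F i) (x : X)
    (_ : IsClosed ({x} : Set X)), (n : ℕ∞) < LocCoh.depth (X.presheaf.stalk x) (F.presheaf.stalk x) := by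
  have hP : PicF.IsInvertible P := (Groth.Agent.Dix.IdealModCartier.isInvertible_of_isInverseOf hL).2
  -- no closed associated points
  have hass : ∀ (F : X.Modules) (_ : Coh.IsCoh F) (_ : Van P F 0) (x : X) (_ : IsClosed ({x} : Set X)),
      x ∉ AssSch.Ass F := by
    rintro F hF ⟨m₀, h⟩ x hx
    exact notMem_ass_of_vanishing hF.1 hP m₀ (h m₀ le_rfl) x hx
  induction n with
  | zero =>
    intro F hF h x hx
    have hfin := Groth.Agent.Fdesc.FinStalk.finite_stalk_of_isCoh F hF x
    rcases subsingleton_or_nontrivial (F.presheaf.stalk x) with hs | hs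
    · rw [LocCoh.depth, Groth.Agent.Localalg.Depth.idealDepth_eq_top_of_subsingleton]
      exact_mod_cast ENat.natCast_lt_top 0
    · have h1 := hass F hF (h 0 le_rfl) x hx
      have h2 : 1 ≤ LocCoh.depth (X.presheaf.stalk x) (F.presheaf.stalk x) :=
        Groth.Agent.CalgA.DepthSmall.one_le_depth_iff_notMem_associatedPrimes.mpr h1
      refine lt_of_lt_of_le ?_ h2
      exact_mod_cast Nat.zero_lt_one
  | succ n ih =>
    intro F hF h x hx
    have hassF := hass F hF (h 0 (Nat.zero_le _))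
    obtain ⟨k, σ, hσ1, hσ2, -⟩ := Groth.Agent.S2324.result X L hamp (AssSch.Ass F)
      (Groth.Agent.Fdesc.SubFilt.finite_ass hF) ⟨({x} : Set X)ᶜ, hx.isOpen_compl⟩
      (fun z hz hzx => by
        rw [Set.mem_singleton_iff] at hzx
        subst hzx
        exact hassF z hx hz)
    have hN : PicF.IsInvertible (CohB1.tensorPow L (k + 1)) := isInvertible_tensorPow hamp.1 _
    let G : X.Modules := CohB1.tensorMod F (CohB1.tensorPow P (k + 1))
    have hG : Coh.IsCoh G := Groth.Agent.CohqB.SerTw.isCoh_tensorMod hF (isInvertible_tensorPow hP _)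
    let H : X.Modules := CohB1.tensorMod G (CohB1.tensorPow L (k + 1))
    have hH : Coh.IsCoh H := Groth.Agent.CohqB.SerTw.isCoh_tensorMod hG hN
    have hinv : Groth.Agent.Fga.PicMon.mc L * Groth.Agent.Fga.PicMon.mc P = 1 := by
      rw [← Groth.Agent.Fga.PicMon.mc_tensor, ← Groth.Agent.Fga.PicMon.mc_one,
        Groth.Agent.Fga.PicMon.mc_eq_iff]
      exact hL
    obtain ⟨e⟩ : Nonempty (H ≅ F) := by
      rw [← Groth.Agent.Fga.PicMon.mc_eq_iff]
      change Groth.Agent.Fga.PicMon.mc F * Groth.Agent.Fga.PicMon.mc (CohB1.tensorPow P (k + 1)) *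
        Groth.Agent.Fga.PicMon.mc (CohB1.tensorPow L (k + 1)) = _
      rw [Groth.Agent.Fga.PicMon.mc_tensorPow, Groth.Agent.Fga.PicMon.mc_tensorPow, mul_assoc,
        ← mul_pow, mul_comm (Groth.Agent.Fga.PicMon.mc P), hinv, one_pow, mul_one]
    let φ : G ⟶ H := Groth.Agent.CohqB.SerTw.mulSec (sec σ ⊤) G
    obtain ⟨r, ε, hr, hu⟩ := exists_mulSec_data G hN σ
    have hassH : AssSch.Ass H = AssSch.Ass F :=
      Groth.Agent.Sga2.EszDepth.ass_eq_of_stalkEquiv fun y => ⟨stalkLinEquiv e y⟩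
    have hφ : Mono φ := Groth.Agent.Sga2.EszDepth.mono_of_unit_ass hG.1 hH.1 φ ε r hr
      (fun z hz => (hu z).mp (hσ1 (hassH ▸ hz)))
    have hC : Coh.IsCoh (cokernel φ) := Groth.Agent.CohqB.SerTw.isCoh_cokernel φ hG.1 hH
    have hS : (ShortComplex.mk φ (cokernel.π φ) (cokernel.condition φ)).ShortExact :=
      { exact := ShortComplex.exact_of_g_is_cokernel _ (cokernelIsCokernel _)
        mono_f := hφ
        epi_g := inferInstance }
    have hVan : ∀ i ≤ n, Van P (cokernel φ) i := by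
      intro i hi
      obtain ⟨m₁, h1⟩ := h i (by omega)
      obtain ⟨m₂, h2⟩ := h (i + 1) (by omega)
      refine ⟨max m₁ m₂, fun m hm => ?_⟩
      have hT := Groth.Agent.CohqB.SerTw.shortExact_tw (isInvertible_tensorPow hP m) hS
      have e1 : Subsingleton (Coh.HH X (CohB1.tensorMod H (CohB1.tensorPow P m)) i) :=
        Groth.Agent.Sga2.ThickCoh.subsingleton_HH_of_iso
          (Groth.Agent.Ega2.Tens.mapTIso e.symm (Iso.refl _)) i (h1 m (le_trans (le_max_left _ _) hm))
      obtain ⟨e'⟩ : Nonempty (CohB1.tensorMod F (CohB1.tensorPow P (k + 1 + m)) ≅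
          CohB1.tensorMod G (CohB1.tensorPow P m)) := by
        rw [← Groth.Agent.Fga.PicMon.mc_eq_iff]
        change Groth.Agent.Fga.PicMon.mc F * Groth.Agent.Fga.PicMon.mc (CohB1.tensorPow P (k + 1 + m)) =
          Groth.Agent.Fga.PicMon.mc F * Groth.Agent.Fga.PicMon.mc (CohB1.tensorPow P (k + 1)) *
          Groth.Agent.Fga.PicMon.mc (CohB1.tensorPow P m)
        rw [Groth.Agent.Fga.PicMon.mc_tensorPow, Groth.Agent.Fga.PicMon.mc_tensorPow,
          Groth.Agent.Fga.PicMon.mc_tensorPow, pow_add, mul_assoc]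
      have e2 : Subsingleton (Coh.HH X (CohB1.tensorMod G (CohB1.tensorPow P m)) (i + 1)) :=
        Groth.Agent.Sga2.ThickCoh.subsingleton_HH_of_iso e' (i + 1)
          (h2 (k + 1 + m) (by have := le_trans (le_max_right _ _) hm; omega))
      refine subsingleton_of_forall_eq 0 fun a => ?_
      obtain ⟨b, rfl⟩ := Groth.Agent.CohqB.HSeqMod.exact₃ hT i a (e2.elim _ _)
      have hb : b = 0 := e1.elim b 0
      rw [hb]
      exact map_zero _
    have hd := ih (cokernel φ) hC hVan x hx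
    have hreg := Groth.Agent.Sga2.EszDepth.isSMulRegular_of_mono φ x (ε x) (r x) (hr x)
    have hrm : r x ∈ IsLocalRing.maximalIdeal (X.presheaf.stalk x) := by
      rw [IsLocalRing.mem_maximalIdeal]
      intro hunit
      exact hσ2 ((hu x).mpr hunit) rfl
    have hfinH := Groth.Agent.Fdesc.FinStalk.finite_stalk_of_isCoh H hH x
    unfold LocCoh.depth at hd ⊢
    rw [← Groth.Agent.Localalg.Depth.idealDepth_congr_equiv _
      (Groth.Agent.Sga2.EszDepth.cokernelStalkEquiv φ x (ε x) (r x) (hr x))] at hd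
    rw [← Groth.Agent.Localalg.Depth.idealDepth_congr_equiv _ (stalkLinEquiv e x)]
    have h1 : ((n + 1 : ℕ) : ℕ∞) ≤ LocCoh.idealDepth (IsLocalRing.maximalIdeal (X.presheaf.stalk x))
        (QuotSMulTop (r x) (H.presheaf.stalk x)) := by
      have := Order.add_one_le_of_lt hd
      exact_mod_cast this
    have h2 := (Groth.Agent.Localalg.Depth.natCast_succ_le_idealDepth_iff_quotSMulTop
      (IsLocalRing.maximalIdeal (X.presheaf.stalk x)) (H.presheaf.stalk x) (r x) hrm hreg (n + 1)).mpr h1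
    refine lt_of_lt_of_le ?_ h2
    exact_mod_cast Nat.lt_succ_self (n + 1)

end Groth.Agent.Sga2.ConvEsz
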