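import Mathlib.Algebra.Homology.DerivedCategory.Linear
import Mathlib.Algebra.Homology.DerivedCategory.TStructure
import Mathlib.Algebra.Homology.DerivedCategory.FullyFaithful
import Mathlib.RingTheory.Noetherian.Basic

/-!
# Dévissage: finiteness of `Hom_{D(C)}(X, Y)` from the cohomology objects of `X`

`C` an `R`-linear abelian category, `R` Noetherian.
-/

set_option autoImplicit false

universe w v u t

open CategoryTheory CategoryTheory.Limits CategoryTheory.Pretriangulated DerivedCategory

namespace Groth.Agent.Sga2.DDevissage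

variable (R : Type t) [CommRing R] {C : Type u} [Category.{v} C] [Abelian C] [Linear R C]
  [HasDerivedCategory.{w} C]

lemma finite_hom_of_iso {X X' Y : DerivedCategory C} (e : X ≅ X') [Module.Finite R (X ⟶ Y)] :
    Module.Finite R (X' ⟶ Y) :=
  Module.Finite.equiv (Linear.homCongr R e (Iso.refl Y))

lemma finite_hom_of_distTriang [IsNoetherianRing R] (T : Triangle (DerivedCategory C))
    (hT : T ∈ distTriang (DerivedCategory C)) (Y : DerivedCategory C)
    [Module.Finite R (T.obj₁ ⟶ Y)] [Module.Finite R (T.obj₃ ⟶ Y)] :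
    Module.Finite R (T.obj₂ ⟶ Y) := by
  have h := isNoetherian_of_range_eq_ker (R := R) (Linear.leftComp R Y T.mor₂)
    (Linear.leftComp R Y T.mor₁) (by
      ext f
      constructor
      · rintro ⟨g, rfl⟩
        simp [comp_distTriang_mor_zero₁₂_assoc _ hT]
      · intro hf
        obtain ⟨g, hg⟩ := Triangle.yoneda_exact₂ T hT f hf
        exact ⟨g, hg.symm⟩)
  infer_instance

section

variable (T : Triangle (DerivedCategory C)) (hT : T ∈ distTriang (DerivedCategory C))
include hT

/-- In a triangle `A ⟶ X ⟶ B ⟶ A⟦1⟧` with `B ≥ n + 1`, `H^i(A) ≅ H^i(X)` for `i ≤ n`. -/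
lemma isIso_homology_mor₁ (n : ℤ) [T.obj₃.IsGE (n + 1)] (i : ℤ) (hi : i ≤ n) :
    IsIso ((homologyFunctor C i).map T.mor₁) := by
  have h1 : (homologyFunctor C i).map T.mor₂ = 0 :=
    (isZero_of_isGE T.obj₃ (n + 1) i (by lia)).eq_of_tgt _ _
  have h2 : HomologySequence.δ T (i - 1) i = 0 :=
    (isZero_of_isGE T.obj₃ (n + 1) (i - 1) (by lia)).eq_of_src _ _
  have := (HomologySequence.epi_homologyMap_mor₁_iff T hT i).2 h1
  have := (HomologySequence.mono_homologyMap_mor₁_iff T hT (i - 1) i).2 h2
  exact isIso_of_mono_of_epi _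

/-- In a triangle `A ⟶ X ⟶ B ⟶ A⟦1⟧` with `A ≤ n`, `H^i(X) ≅ H^i(B)` for `n < i`. -/
lemma isIso_homology_mor₂ (n : ℤ) [T.obj₁.IsLE n] (i : ℤ) (hi : n < i) :
    IsIso ((homologyFunctor C i).map T.mor₂) := by
  have h1 : (homologyFunctor C i).map T.mor₁ = 0 :=
    (isZero_of_isLE T.obj₁ n i (by lia)).eq_of_src _ _
  have h2 : HomologySequence.δ T i (i + 1) = 0 :=
    (isZero_of_isLE T.obj₁ n (i + 1) (by lia)).eq_of_tgt _ _
  have := (HomologySequence.mono_homologyMap_mor₂_iff T hT i).2 h1
  have := (HomologySequence.epi_homologyMap_mor₂_iff T hT i (i + 1)).2 h2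
  exact isIso_of_mono_of_epi _

end

/-- If `X` lives in the single cohomological degree `n` then `X ≅ H^n(X)[-n]`. -/
lemma nonempty_iso_single (X : DerivedCategory C) (n : ℤ) [X.IsGE n] [X.IsLE n] :
    Nonempty (X ≅ (singleFunctor C n).obj ((homologyFunctor C n).obj X)) := by
  obtain ⟨Y, ⟨e⟩⟩ := exists_iso_singleFunctor_obj_of_isGE_of_isLE X n
  have e' : (homologyFunctor C n).obj X ≅ Y :=
    (homologyFunctor C n).mapIso e ≪≫ (singleFunctorCompHomologyFunctorIso C n).app Y
  exact ⟨e ≪≫ (singleFunctor C n).mapIso e'.symm⟩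

/-- Dévissage. -/
theorem finite_hom_of_finite_single [IsNoetherianRing R] (Y : DerivedCategory C) (a : ℤ) (k : ℕ)
    (X : DerivedCategory C) [X.IsGE a] [X.IsLE (a + k - 1)]
    (h : ∀ n : ℤ, a ≤ n → n < a + k →
      Module.Finite R ((singleFunctor C n).obj ((homologyFunctor C n).obj X) ⟶ Y)) :
    Module.Finite R (X ⟶ Y) := by
  induction k generalizing X with
  | zero =>
    have : X.IsLE (a - 1) := by simpa using ‹X.IsLE (a + (0 : ℕ) - 1)›
    have hX : IsZero X := TStructure.t.isZero X (a - 1) a (by lia)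
    have : Subsingleton (X ⟶ Y) := ⟨fun f g => hX.eq_of_src _ _⟩
    infer_instance
  | succ k ih =>
    obtain ⟨A, B, hA, hB, f, g, δ, hT⟩ :=
      (TStructure.t (C := C)).exists_triangle X (a + k - 1) (a + k) (by lia)
    have hA' : A.IsLE (a + k - 1) := ⟨hA⟩
    have hB' : B.IsGE (a + k) := ⟨hB⟩
    have hB'' : B.IsGE (a + k - 1 + 1) := by simpa using hB'
    have iso1 : ∀ i : ℤ, i ≤ a + k - 1 → IsIso ((homologyFunctor C i).map f) := fun i hi =>
      @isIso_homology_mor₁ C _ _ _ _ hT (a + k - 1) hB'' i hi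
    have iso2 : ∀ i : ℤ, a + k - 1 < i → IsIso ((homologyFunctor C i).map g) := fun i hi =>
      @isIso_homology_mor₂ C _ _ _ _ hT (a + k - 1) hA' i hi
    have hAge : A.IsGE a := by
      rw [isGE_iff]
      intro i hi
      have := iso1 i (by lia)
      exact (isZero_of_isGE X a i hi).of_iso (asIso ((homologyFunctor C i).map f))
    have hBle : B.IsLE (a + k) := by
      rw [isLE_iff]
      intro i hi
      have := iso2 i (by lia)
      exact (isZero_of_isLE X (a + (k + 1 : ℕ) - 1) i (by push_cast; lia)).of_iso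
        (asIso ((homologyFunctor C i).map g)).symm
    have fA : Module.Finite R (A ⟶ Y) := by
      refine ih A fun n hn hn' => ?_
      have := iso1 n (by lia)
      have := h n hn (by push_cast; lia)
      exact finite_hom_of_iso R ((singleFunctor C n).mapIso (asIso ((homologyFunctor C n).map f)).symm)
    have fB : Module.Finite R (B ⟶ Y) := by
      obtain ⟨e⟩ := nonempty_iso_single B (a + k)
      have := iso2 (a + k) (by lia)
      have := h (a + k) (by lia) (by push_cast; lia)
      exact finite_hom_of_iso R ((singleFunctor C (a + k)).mapIso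
        (asIso ((homologyFunctor C (a + k)).map g)) ≪≫ e.symm)
    exact @finite_hom_of_distTriang R _ C _ _ _ _ _ (Triangle.mk f g δ) hT Y fA fB

end Groth.Agent.Sga2.DDevissage
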