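import Mathlib.Algebra.Homology.DerivedCategory.KInjective
import Mathlib.Algebra.Homology.DerivedCategory.KProjective
import Mathlib.Algebra.Homology.DerivedCategory.Linear
import Mathlib.Algebra.Homology.DerivedCategory.TStructure
import Mathlib.Algebra.Homology.HomotopyCategory.HomComplexCohomology
import Mathlib.Algebra.Homology.HomotopyCategory.HomComplexSingle

/-!
# Morphisms in the derived category from cocycles, linearly

For an `R`-linear abelian category `C`, complexes `K L` and `n : ℤ`, we define the `R`-linear map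
`toD : Cocycle K L n →ₗ[R] (Q.obj K ⟶ (Q.obj L)⟦n⟧)`; its kernel consists of the coboundaries and it is
surjective when `K` is K-projective or `L` is K-injective.
-/

set_option autoImplicit false

universe w v u t

open CategoryTheory CategoryTheory.Limits CochainComplex CochainComplex.HomComplex DerivedCategory

namespace Groth.Agent.Sga2.DHomLin

variable (R : Type t) [CommRing R] {C : Type u} [Category.{v} C] [Abelian C] [Linear R C]

section

variable {K L : CochainComplex C ℤ} {n : ℤ}

lemma equivHomShift_symm_smul (r : R) (z : Cocycle K L n) :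
    Cocycle.equivHomShift.symm (r • z) = r • Cocycle.equivHomShift.symm z := by
  ext p
  simp [Cocycle.equivHomShift_symm_apply, Cochain.rightShift_smul]

variable [HasDerivedCategory.{w} C]

/-- The `R`-linear map from cocycles of degree `n` to morphisms `K ⟶ L⟦n⟧` in the derived category. -/
noncomputable def toD (K L : CochainComplex C ℤ) (n : ℤ) :
    Cocycle K L n →ₗ[R] ((Q : _ ⥤ DerivedCategory C).obj K ⟶ (Q.obj L)⟦n⟧) where
  toFun z := Q.map (Cocycle.equivHomShift.symm z) ≫ (Q.commShiftIso n).hom.app L
  map_add' z₁ z₂ := by simp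
  map_smul' r z := by
    rw [equivHomShift_symm_smul]
    simp [Functor.map_smul]

lemma toD_apply (z : Cocycle K L n) :
    toD R K L n z = Q.map (Cocycle.equivHomShift.symm z) ≫ (Q.commShiftIso n).hom.app L := rfl

lemma toD_postcomp (z : Cocycle K L n) {L' : CochainComplex C ℤ} (g : L ⟶ L') :
    toD R K L' n (z.postcomp g) = toD R K L n z ≫ (Q.map g)⟦n⟧' := by
  simp only [toD_apply, Cocycle.equivHomShift_symm_postcomp, Functor.map_comp, Category.assoc,
    Functor.commShiftIso_hom_naturality]

lemma toD_precomp (z : Cocycle K L n) {K' : CochainComplex C ℤ} (g : K' ⟶ K) :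
    toD R K' L n (z.precomp g) = Q.map g ≫ toD R K L n z := by
  simp only [toD_apply, Cocycle.equivHomShift_symm_precomp, Functor.map_comp, Category.assoc]

lemma toD_eq_Qh (z : Cocycle K L n) :
    toD R K L n z = (quotientCompQhIso C).inv.app K ≫
      Qh.map (CohomologyClass.toHom (CohomologyClass.mk z)) ≫
        (quotientCompQhIso C).hom.app (L⟦n⟧) ≫ (Q.commShiftIso n).hom.app L := by
  rw [toD_apply, CohomologyClass.toHom_mk]
  have := (quotientCompQhIso C).inv.naturality_assoc (Cocycle.equivHomShift.symm z)
    ((quotientCompQhIso C).hom.app (L⟦n⟧) ≫ (Q.commShiftIso n).hom.app L)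
  dsimp at this
  rw [← this]
  simp

lemma toD_eq_zero_of_mem (z : Cocycle K L n) (hz : z ∈ coboundaries K L n) :
    toD R K L n z = 0 := by
  rw [toD_eq_Qh, (CohomologyClass.mk_eq_zero_iff z).2 hz]
  simp

variable (K L n) in
lemma toD_surjective_of (h : Function.Bijective (DerivedCategory.Qh.map :
      ((HomotopyCategory.quotient _ _).obj K ⟶ (HomotopyCategory.quotient _ _).obj (L⟦n⟧)) → _)) :
    Function.Surjective (toD R K L n) := by
  intro f
  obtain ⟨g, hg⟩ := h.2 ((quotientCompQhIso C).hom.app K ≫ f ≫ (Q.commShiftIso n).inv.app L ≫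
    (quotientCompQhIso C).inv.app (L⟦n⟧))
  obtain ⟨x, hx⟩ := (CohomologyClass.toHom_bijective K L n).2 g
  obtain ⟨z, rfl⟩ := x.mk_surjective
  refine ⟨z, ?_⟩
  rw [toD_eq_Qh, hx, hg]
  simp

lemma toD_eq_zero_iff_of (h : Function.Bijective (DerivedCategory.Qh.map :
      ((HomotopyCategory.quotient _ _).obj K ⟶ (HomotopyCategory.quotient _ _).obj (L⟦n⟧)) → _))
    (z : Cocycle K L n) : toD R K L n z = 0 ↔ z ∈ coboundaries K L n := by
  refine ⟨fun hz => ?_, toD_eq_zero_of_mem R z⟩
  rw [← CohomologyClass.toHom_mk_eq_zero_iff]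
  apply h.1
  rw [Functor.map_zero]
  rw [toD_eq_Qh] at hz
  rw [← cancel_epi ((quotientCompQhIso C).inv.app K),
    ← cancel_mono ((quotientCompQhIso C).hom.app (L⟦n⟧)), ← cancel_mono ((Q.commShiftIso n).hom.app L)]
  simpa using hz

variable (K L n) in
lemma toD_surjective_of_isKInjective [L.IsKInjective] : Function.Surjective (toD R K L n) :=
  toD_surjective_of R K L n (IsKInjective.Qh_map_bijective _ _)

lemma toD_eq_zero_iff_of_isKInjective [L.IsKInjective] (z : Cocycle K L n) :
    toD R K L n z = 0 ↔ z ∈ coboundaries K L n :=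
  toD_eq_zero_iff_of R (IsKInjective.Qh_map_bijective _ _) z

variable (K L n) in
lemma toD_surjective_of_isKProjective [K.IsKProjective] : Function.Surjective (toD R K L n) :=
  toD_surjective_of R K L n (IsKProjective.Qh_map_bijective _ _)

lemma toD_eq_zero_iff_of_isKProjective [K.IsKProjective] (z : Cocycle K L n) :
    toD R K L n z = 0 ↔ z ∈ coboundaries K L n :=
  toD_eq_zero_iff_of R (IsKProjective.Qh_map_bijective _ _) z

end

end Groth.Agent.Sga2.DHomLin
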