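import Groth.Agent.Sga2.ConvEsz
import Groth.Agent.VarietyB.DegCartier
import Groth.Agent.Fdesc.StructMod
import Groth.Prelude.Def_Lef
import Groth.Prelude.Def_DCoh4

/-!
# Depth of `O_{X₀}` for an ample effective Cartier divisor `X₀`

* `pos_depth_quotMod`: `2 ≤ depth O_{X,x}` implies `0 < depth (O_X/I)_x` if `idealMod I` is invertible.
* `one_lt_depth_quotMod`: `1 < depth (O_X/I)_x` at closed points if moreover `H^0` and `H^1` of
  `O_X/I ⊗ (idealMod I)^m` vanish for large `m` (converse of Enriques-Severi-Zariski).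

Author: helper409
-/

set_option autoImplicit false
universe u

open CategoryTheory CategoryTheory.Limits AlgebraicGeometry TopologicalSpace Opposite
open Groth.Agent.CycB.StalkExact Groth.Agent.Fdesc.LocGen

namespace Groth.Agent.Sga2.DepthDiv

variable {X : Scheme.{u}}

/-- The stalks of an invertible module are those of the structure sheaf. -/
theorem nonempty_stalkEquiv {P : X.Modules} (hP : PicF.IsInvertible P) (x : X) :
    Nonempty (P.presheaf.stalk x ≃ₗ[X.presheaf.stalk x] (Coh.structureModule X).presheaf.stalk x) := by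
  obtain ⟨e⟩ := Groth.Agent.Sga2.StalkGen68.nonempty_stalkEquiv_tensor (Coh.structureModule X) hP x
  exact ⟨(e.trans (stalkLinEquiv (Groth.Agent.Ega2.Tens.lunit P) x)).symm⟩

/-- A linear map between free modules of rank one is a multiple of a given isomorphism. -/
theorem exists_eq_smul {R M N : Type*} [CommRing R] [AddCommGroup M] [AddCommGroup N] [Module R M] [Module R N]
    (e : M ≃ₗ[R] N) (e' : R ≃ₗ[R] N) (f : M →ₗ[R] N) : ∃ r : R, ∀ m, f m = r • e m := by
  refine ⟨e'.symm (f (e.symm (e' 1))), fun m => ?_⟩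
  have h1 : m = (e'.symm (e m)) • e.symm (e' 1) := by
    apply e.injective
    rw [map_smul, e.apply_symm_apply, ← map_smul, smul_eq_mul, mul_one, e'.apply_symm_apply]
  apply e'.symm.injective
  rw [map_smul]
  conv_lhs => rw [h1]
  rw [map_smul, map_smul, smul_eq_mul, smul_eq_mul, mul_comm]

/-- `0 < depth (O_X/I)_x` if `2 ≤ depth O_{X,x}` and `I` is invertible. -/
theorem le_depth_quotMod [IsLocallyNoetherian X] {I : X.IdealSheafData}
    (hI : PicF.IsInvertible (ClSub.idealMod I)) (x : X) (n : ℕ)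
    (hd : ((n + 1 : ℕ) : ℕ∞) ≤ LocCoh.depth (X.presheaf.stalk x) (X.presheaf.stalk x)) :
    (n : ℕ∞) ≤ LocCoh.depth (X.presheaf.stalk x) ((ClSub.quotMod I).presheaf.stalk x) := by
  have hmono := Groth.Agent.CohqA.IdealMod.mono_idealModι I
  obtain ⟨e⟩ := nonempty_stalkEquiv hI x
  obtain ⟨r, hr⟩ := exists_eq_smul e (Groth.Agent.Fdesc.StructMod.stalkEquiv x) (stalkLin (ClSub.idealModι I) x)
  have hfin := Groth.Agent.Fdesc.FinStalk.finite_stalk_of_isCoh (Coh.structureModule X)
    (Groth.Agent.CurvesB.UnitCoh.isCoh_structureModule X) x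
  have hd' : ((n + 1 : ℕ) : ℕ∞) ≤ LocCoh.depth (X.presheaf.stalk x)
      ((Coh.structureModule X).presheaf.stalk x) := by
    unfold LocCoh.depth at hd ⊢
    rwa [← Groth.Agent.Localalg.Depth.idealDepth_congr_equiv _ (Groth.Agent.Fdesc.StructMod.stalkEquiv x)]
  have h1 := Groth.Agent.Sga2.EszDepth.le_depth_cokernel (ClSub.idealModι I) x e r hr n hd'
  have hS := Groth.Agent.VarietyB.DegCartier.idealSeq_shortExact I
  have hex := hS.exact
  have hepi := hS.epi_g
  let e2 : cokernel (ClSub.idealModι I) ≅ ClSub.quotMod I :=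
    (cokernelIsCokernel _).coconePointUniqueUpToIso hex.gIsCokernel
  unfold LocCoh.depth at h1 ⊢
  rwa [← Groth.Agent.Localalg.Depth.idealDepth_congr_equiv _ (stalkLinEquiv e2 x)]

theorem isNoetherian_of_isProper (k : Type u) [Field k] (X : Scheme.{u}) [X.Over (Spec (CommRingCat.of k))]
    [IsProper (X ↘ (Spec (CommRingCat.of k)))] : IsNoetherian X := by
  have := LocallyOfFiniteType.isLocallyNoetherian (X ↘ (Spec (CommRingCat.of k)))
  have : CompactSpace X := QuasiCompact.compactSpace_of_compactSpace (X ↘ (Spec (CommRingCat.of k)))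
  exact {}

theorem isSeparated_of_isProper (k : Type u) [Field k] (X : Scheme.{u}) [X.Over (Spec (CommRingCat.of k))]
    [IsProper (X ↘ (Spec (CommRingCat.of k)))] : X.IsSeparated :=
  ⟨by rw [← terminal.comp_from (X ↘ (Spec (CommRingCat.of k)))]; infer_instance⟩

/-- **Depth of `O_{X₀}`.** -/
theorem one_lt_depth_quotMod (k : Type u) [Field k] (X : Scheme.{u}) [X.Over (Spec (CommRingCat.of k))]
    [IsProper (X ↘ (Spec (CommRingCat.of k)))] (I : X.IdealSheafData) (L : X.Modules)
    (hL : ClSub.IsInverseOf L (ClSub.idealMod I)) (hamp : CohB1.IsAmple L)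
    (h0 : ∃ m₀ : ℕ, ∀ m : ℕ, m₀ ≤ m → Subsingleton (Coh.HH X
      (CohB1.tensorMod (ClSub.quotMod I) (CohB1.tensorPow (ClSub.idealMod I) m)) 0))
    (h1 : ∃ m₀ : ℕ, ∀ m : ℕ, m₀ ≤ m → Subsingleton (Coh.HH X
      (CohB1.tensorMod (ClSub.quotMod I) (CohB1.tensorPow (ClSub.idealMod I) m)) 1))
    (x : X) (hx : IsClosed ({x} : Set X)) :
    (1 : ℕ∞) < LocCoh.depth (X.presheaf.stalk x) ((ClSub.quotMod I).presheaf.stalk x) := by
  have := isNoetherian_of_isProper k X
  have := isSeparated_of_isProper k X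
  exact Groth.Agent.Sga2.ConvEsz.lt_depth_of_vanishing hL hamp 1 (ClSub.quotMod I)
    (Groth.Agent.VarietyB.DegCartier.isCoh_quotMod I) (fun i hi => by
      obtain rfl | rfl : i = 0 ∨ i = 1 := by omega
      · exact h0
      · exact h1) x hx

/-- `0 < depth (O_X/I)_x` from `2 ≤ depth O_{X,x}`. -/
theorem zero_lt_depth_quotMod (k : Type u) [Field k] (X : Scheme.{u}) [X.Over (Spec (CommRingCat.of k))]
    [IsProper (X ↘ (Spec (CommRingCat.of k)))] (I : X.IdealSheafData) (L : X.Modules)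
    (hL : ClSub.IsInverseOf L (ClSub.idealMod I))
    (hdepth : ∀ x : X, IsClosed ({x} : Set X) → (2 : ℕ∞) ≤ LocCoh.depth (X.presheaf.stalk x) (X.presheaf.stalk x))
    (x : X) (hx : IsClosed ({x} : Set X)) :
    (0 : ℕ∞) < LocCoh.depth (X.presheaf.stalk x) ((ClSub.quotMod I).presheaf.stalk x) := by
  have := isNoetherian_of_isProper k X
  have h := le_depth_quotMod (Groth.Agent.Dix.IdealModCartier.isInvertible_of_isInverseOf hL).2 x 1
    (by exact_mod_cast hdepth x hx)
  refine lt_of_lt_of_le ?_ h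
  exact_mod_cast Nat.zero_lt_one

/-- The vanishing hypothesis of S2949 in the form used here. -/
theorem van_of_hH (I : X.IdealSheafData) (i : ℕ) (h : ∀ m : ℕ, 1 ≤ m → Subsingleton (Coh.HH X
      ((DCoh.tensorBi.obj (CohB1.tensorPow (ClSub.idealMod I) m)).obj (ClSub.quotMod I)) i)) (m : ℕ) (hm : 1 ≤ m) :
    Subsingleton (Coh.HH X (CohB1.tensorMod (ClSub.quotMod I) (CohB1.tensorPow (ClSub.idealMod I) m)) i) :=
  Groth.Agent.Sga2.ThickCoh.subsingleton_HH_of_iso
    (Groth.Agent.Ega2.Tens.swap (CohB1.tensorPow (ClSub.idealMod I) m) (ClSub.quotMod I)) i (h m hm)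

end Groth.Agent.Sga2.DepthDiv
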