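import Mathlib.Algebra.Category.ModuleCat.Abelian
import Mathlib.CategoryTheory.Linear.LinearFunctor
import Mathlib.LinearAlgebra.TensorProduct.RightExactness
import Mathlib.RingTheory.Noetherian.Basic
import Mathlib.Algebra.Homology.ShortComplex.ModuleCat

/-!
# Watts-type natural isomorphism on finite modules and homological dimension shifting
-/

set_option autoImplicit false
set_option linter.unusedSectionVars false
universe u

open CategoryTheory Limits TensorProduct

namespace Groth.Agent.Sga2.DimShift

variable {A : Type u} [CommRing A]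

section Watts

variable (F : ModuleCat.{u} A ⥤ ModuleCat.{u} A) [F.Additive] [F.Linear A]

theorem map_smul_apply {M N : ModuleCat.{u} A} (a : A) (f : M ⟶ N) (x : F.obj M) :
    (F.map (a • f)).hom x = a • (F.map f).hom x := by
  rw [F.map_smul]
  rfl

theorem map_add_apply {M N : ModuleCat.{u} A} (f g : M ⟶ N) (x : F.obj M) :
    (F.map (f + g)).hom x = (F.map f).hom x + (F.map g).hom x := by
  rw [F.map_add]
  rfl

/-- the map `A → M`, `1 ↦ m` -/
def pt {M : ModuleCat.{u} A} (m : M) : ModuleCat.of A A ⟶ M :=
  ModuleCat.ofHom (LinearMap.toSpanSingleton A M m)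

theorem pt_add {M : ModuleCat.{u} A} (m m' : M) : pt (m + m') = pt m + pt m' := by
  ext
  simp [pt]

theorem pt_smul {M : ModuleCat.{u} A} (a : A) (m : M) : pt (a • m) = a • pt m := by
  ext
  simp [pt]

theorem pt_comp {M N : ModuleCat.{u} A} (m : M) (f : M ⟶ N) : pt m ≫ f = pt (f.hom m) := by
  ext
  simp [pt]

/-- `M ⊗ F(A) → F(M)` -/
noncomputable def alpha (M : ModuleCat.{u} A) : M ⊗[A] (F.obj (ModuleCat.of A A)) →ₗ[A] F.obj M :=
  TensorProduct.lift (LinearMap.mk₂ A (fun (m : M) (h : F.obj (ModuleCat.of A A)) =>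
    (F.map (pt m)).hom h)
    (fun m m' h => by simp only [pt_add, map_add_apply])
    (fun a m h => by simp only [pt_smul, map_smul_apply])
    (fun m h h' => by simp only [map_add])
    (fun a m h => by simp only [map_smul]))

theorem alpha_tmul (M : ModuleCat.{u} A) (m : M) (h : F.obj (ModuleCat.of A A)) :
    alpha F M (m ⊗ₜ h) = (F.map (pt m)).hom h := rfl

theorem alpha_natural {M N : ModuleCat.{u} A} (f : M ⟶ N) (t : M ⊗[A] (F.obj (ModuleCat.of A A))) :
    (F.map f).hom (alpha F M t) = alpha F N (f.hom.rTensor _ t) := by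
  induction t using TensorProduct.induction_on with
  | zero => simp
  | tmul m h =>
    rw [alpha_tmul, LinearMap.rTensor_tmul, alpha_tmul, ← pt_comp, F.map_comp]
    rfl
  | add x y hx hy => rw [map_add, map_add, hx, hy, map_add, map_add]

theorem alpha_free_bijective (n : ℕ) :
    Function.Bijective (alpha F (ModuleCat.of A (Fin n → A))) := by
  let e : Fin n → (Fin n → A) := fun i => Pi.single i 1
  let π : Fin n → (ModuleCat.of A (Fin n → A) ⟶ ModuleCat.of A A) :=
    fun i => ModuleCat.ofHom (LinearMap.proj i)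
  let β : F.obj (ModuleCat.of A (Fin n → A)) →ₗ[A] (Fin n → A) ⊗[A] (F.obj (ModuleCat.of A A)) :=
    ∑ i, (TensorProduct.mk A (Fin n → A) (F.obj (ModuleCat.of A A)) (e i)) ∘ₗ (F.map (π i)).hom
  have hβ : ∀ x, β x = ∑ i, (e i) ⊗ₜ ((F.map (π i)).hom x) := by
    intro x
    simp [β]
  have h1 : ∀ x, alpha F (ModuleCat.of A (Fin n → A)) (β x) = x := by
    intro x
    rw [hβ, map_sum]
    have h2 : ∀ i, alpha F (ModuleCat.of A (Fin n → A)) ((e i) ⊗ₜ ((F.map (π i)).hom x)) =
        (F.map (π i ≫ pt (M := ModuleCat.of A (Fin n → A)) (e i))).hom x := by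
      intro i
      rw [alpha_tmul, F.map_comp]
      rfl
    rw [Finset.sum_congr rfl fun i _ => h2 i]
    have h3 : ∑ i, (F.map (π i ≫ pt (M := ModuleCat.of A (Fin n → A)) (e i))).hom x =
        (F.map (∑ i, π i ≫ pt (M := ModuleCat.of A (Fin n → A)) (e i))).hom x := by
      rw [F.map_sum, ModuleCat.hom_sum, LinearMap.sum_apply]
    rw [h3]
    have h4 : ∑ i, π i ≫ pt (M := ModuleCat.of A (Fin n → A)) (e i) = 𝟙 _ := by
      ext1
      rw [ModuleCat.hom_sum]
      ext j k
      simp only [π, pt, e, ModuleCat.hom_comp, ModuleCat.hom_ofHom, LinearMap.coe_comp,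
        Function.comp_apply, LinearMap.coe_single, LinearMap.sum_apply, LinearMap.proj_apply,
        Finset.sum_apply, LinearMap.toSpanSingleton_apply, Pi.smul_apply, ModuleCat.hom_id,
        LinearMap.id_apply, smul_eq_mul]
      rw [Finset.sum_eq_single j]
      · simp
      · intro c _ hc
        simp [Pi.single_eq_of_ne hc]
      · simp
    rw [h4, F.map_id]
    rfl
  have h2 : ∀ t, β (alpha F (ModuleCat.of A (Fin n → A)) t) = t := by
    intro t
    induction t using TensorProduct.induction_on with
    | zero => rw [map_zero, map_zero]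
    | tmul m h =>
      rw [hβ, alpha_tmul]
      have h5 : ∀ i, (F.map (π i)).hom ((F.map (pt (M := ModuleCat.of A (Fin n → A)) m)).hom h) = (m i : A) • h := by
        intro i
        have h6 : pt (M := ModuleCat.of A (Fin n → A)) m ≫ π i = (m i : A) • 𝟙 _ := by
          ext
          simp [pt, π]
        have h7 := map_smul_apply F (m i : A) (𝟙 (ModuleCat.of A A)) h
        rw [← h6, F.map_comp, F.map_id] at h7
        exact h7
      rw [Finset.sum_congr rfl fun i _ => by rw [h5 i]]
      simp only [TensorProduct.tmul_smul, TensorProduct.smul_tmul']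
      rw [← TensorProduct.sum_tmul]
      congr 1
      ext j
      simp [e, Pi.single_apply, Finset.sum_apply]
    | add x y hx hy => rw [map_add, map_add, hx, hy]
  exact ⟨Function.LeftInverse.injective h2, Function.RightInverse.surjective h1⟩

/-- `F` is right exact on short exact sequences of finite modules. -/
structure RightExactOnFinite : Prop where
  surj : ∀ S : ShortComplex (ModuleCat.{u} A), S.ShortExact → Module.Finite A S.X₂ →
    Function.Surjective (F.map S.g).hom
  exact : ∀ S : ShortComplex (ModuleCat.{u} A), S.ShortExact → Module.Finite A S.X₂ →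
    ∀ x, (F.map S.g).hom x = 0 → ∃ y, (F.map S.f).hom y = x

variable {F} [IsNoetherianRing A]

theorem alpha_surjective (hF : RightExactOnFinite F) (M : ModuleCat.{u} A) [Module.Finite A M] :
    Function.Surjective (alpha F M) := by
  obtain ⟨n, p, hp⟩ := Module.Finite.exists_fin' A M
  have hS := LinearMap.shortExact_shortComplexKer hp
  intro x
  obtain ⟨y, rfl⟩ := hF.surj _ hS (inferInstanceAs (Module.Finite A (Fin n → A))) x
  obtain ⟨t, rfl⟩ := (alpha_free_bijective F n).2 y
  exact ⟨_, (alpha_natural F (ModuleCat.ofHom p) t).symm⟩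

theorem alpha_bijective (hF : RightExactOnFinite F) (M : ModuleCat.{u} A) [Module.Finite A M] :
    Function.Bijective (alpha F M) := by
  refine ⟨?_, alpha_surjective hF M⟩
  obtain ⟨n, p, hp⟩ := Module.Finite.exists_fin' A M
  have hS := LinearMap.shortExact_shortComplexKer hp
  rw [injective_iff_map_eq_zero]
  intro t ht
  obtain ⟨t', rfl⟩ := LinearMap.rTensor_surjective (F.obj (ModuleCat.of A A)) hp t
  have h1 : (F.map (ModuleCat.ofHom p)).hom (alpha F (ModuleCat.of A (Fin n → A)) t') = 0 := by
    rw [alpha_natural]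
    exact ht
  obtain ⟨y, hy⟩ := hF.exact _ hS (inferInstanceAs (Module.Finite A (Fin n → A))) _ h1
  have : Module.Finite A (ModuleCat.of A (LinearMap.ker p)) :=
    inferInstanceAs (Module.Finite A (LinearMap.ker p))
  obtain ⟨s, hs⟩ := alpha_surjective hF (ModuleCat.of A (LinearMap.ker p)) y
  have h2 : alpha F (ModuleCat.of A (Fin n → A)) ((LinearMap.ker p).subtype.rTensor _ s) =
      alpha F (ModuleCat.of A (Fin n → A)) t' := by
    rw [← hy, ← hs]
    exact (alpha_natural F (ModuleCat.ofHom (LinearMap.ker p).subtype) s).symm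
  rw [← (alpha_free_bijective F n).1 h2, ← LinearMap.comp_apply, ← LinearMap.rTensor_comp]
  have h3 : p ∘ₗ (LinearMap.ker p).subtype = 0 := by
    ext x
    exact x.2
  rw [h3]
  simp

/-- two linear functors, right exact on finite modules, which agree on `A`, are naturally isomorphic
on finite modules. -/
theorem exists_natural_equiv {F' : ModuleCat.{u} A ⥤ ModuleCat.{u} A} [F'.Additive] [F'.Linear A]
    (hF : RightExactOnFinite F) (hF' : RightExactOnFinite F')
    (e : F.obj (ModuleCat.of A A) ≃ₗ[A] F'.obj (ModuleCat.of A A)) :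
    ∃ Φ : ∀ (M : ModuleCat.{u} A) [Module.Finite A M], F.obj M ≃ₗ[A] F'.obj M,
      ∀ (M N : ModuleCat.{u} A) [Module.Finite A M] [Module.Finite A N] (f : M ⟶ N) (x : F.obj M),
        (F'.map f).hom (Φ M x) = Φ N ((F.map f).hom x) := by
  let a := fun (M : ModuleCat.{u} A) (_ : Module.Finite A M) =>
    LinearEquiv.ofBijective (alpha F M) (alpha_bijective hF M)
  let a' := fun (M : ModuleCat.{u} A) (_ : Module.Finite A M) =>
    LinearEquiv.ofBijective (alpha F' M) (alpha_bijective hF' M)
  refine ⟨fun M hM => (a M hM).symm.trans ((TensorProduct.congr (LinearEquiv.refl A M) e).trans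
    (a' M hM)), fun M N hM hN f x => ?_⟩
  obtain ⟨t, rfl⟩ := (a M hM).surjective x
  have h1 : (F.map f).hom (a M hM t) = a N hN (f.hom.rTensor _ t) := alpha_natural F f t
  rw [h1]
  simp only [LinearEquiv.trans_apply, LinearEquiv.symm_apply_apply]
  have h2 : ∀ t', (F'.map f).hom (a' M hM t') = a' N hN (f.hom.rTensor _ t') := alpha_natural F' f
  rw [h2]
  congr 1
  clear h1
  induction t using TensorProduct.induction_on with
  | zero => simp
  | tmul m h => simp
  | add x y hx hy => simp only [map_add, hx, hy]

end Watts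

section Shift

variable [IsNoetherianRing A]

/-- the hypotheses on a homological functor: dimension shifting in degrees `< r`. -/
structure Shiftable (r : ℕ) (T : ℕ → ModuleCat.{u} A ⥤ ModuleCat.{u} A) : Prop where
  shift : ∀ j < r, ∀ (S : ShortComplex (ModuleCat.{u} A)) (_ : S.ShortExact) (_ : Module.Finite A S.X₂)
    (_ : Module.Free A S.X₂), ∃ δ : (T (j + 1)).obj S.X₃ →ₗ[A] (T j).obj S.X₁,
      Function.Injective δ ∧ LinearMap.range δ = LinearMap.ker ((T j).map S.f).hom
  free : ∀ j, 1 ≤ j → j ≤ r → ∀ (P : ModuleCat.{u} A) (_ : Module.Finite A P) (_ : Module.Free A P),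
    Subsingleton ((T j).obj P)

theorem exists_equiv {r : ℕ} {T T' : ℕ → ModuleCat.{u} A ⥤ ModuleCat.{u} A} (hT : Shiftable r T)
    (hT' : Shiftable r T')
    (Φ : ∀ (M : ModuleCat.{u} A) [Module.Finite A M], (T 0).obj M ≃ₗ[A] (T' 0).obj M)
    (hΦ : ∀ (M N : ModuleCat.{u} A) [Module.Finite A M] [Module.Finite A N] (f : M ⟶ N)
      (x : (T 0).obj M), ((T' 0).map f).hom (Φ M x) = Φ N (((T 0).map f).hom x))
    (j : ℕ) (hj : j ≤ r) (M : ModuleCat.{u} A) [Module.Finite A M] :
    Nonempty ((T j).obj M ≃ₗ[A] (T' j).obj M) := by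
  induction j generalizing M with
  | zero => exact ⟨Φ M⟩
  | succ j ih =>
    obtain ⟨n, p, hp⟩ := Module.Finite.exists_fin' A M
    have hS := LinearMap.shortExact_shortComplexKer hp
    have hfin : Module.Finite A (ModuleCat.of A (Fin n → A)) :=
      inferInstanceAs (Module.Finite A (Fin n → A))
    have hfree : Module.Free A (ModuleCat.of A (Fin n → A)) :=
      inferInstanceAs (Module.Free A (Fin n → A))
    have hK : Module.Finite A (ModuleCat.of A (LinearMap.ker p)) :=
      inferInstanceAs (Module.Finite A (LinearMap.ker p))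
    obtain ⟨δ, hδ, hr⟩ := hT.shift j hj _ hS hfin hfree
    obtain ⟨δ', hδ', hr'⟩ := hT'.shift j hj _ hS hfin hfree
    -- the isomorphism between the kernels
    have key : Nonempty (LinearMap.ker ((T j).map (LinearMap.shortComplexKer p).f).hom ≃ₗ[A]
        LinearMap.ker ((T' j).map (LinearMap.shortComplexKer p).f).hom) := by
      rcases j with _ | j
      · let f : ModuleCat.of A (LinearMap.ker p) ⟶ ModuleCat.of A (Fin n → A) :=
          (LinearMap.shortComplexKer p).f
        have h1 : LinearMap.ker ((T' 0).map f).hom =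
            (LinearMap.ker ((T 0).map f).hom).map
              (Φ (ModuleCat.of A (LinearMap.ker p))).toLinearMap := by
          ext x
          constructor
          · intro hx
            refine ⟨(Φ (ModuleCat.of A (LinearMap.ker p))).symm x, ?_, by simp⟩
            apply (Φ (ModuleCat.of A (Fin n → A))).injective
            rw [← hΦ, map_zero]
            simpa using hx
          · rintro ⟨y, hy, rfl⟩
            change ((T' 0).map f).hom (Φ (ModuleCat.of A (LinearMap.ker p)) y) = 0
            rw [hΦ, show ((T 0).map f).hom y = 0 from hy, map_zero]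
        exact ⟨((Φ (ModuleCat.of A (LinearMap.ker p))).submoduleMap _).trans
          (LinearEquiv.ofEq _ _ h1.symm)⟩
      · have h1 := hT.free (j + 1) (by omega) (by omega) _ hfin hfree
        have h2 := hT'.free (j + 1) (by omega) (by omega) _ hfin hfree
        obtain ⟨e⟩ := ih (by omega) (ModuleCat.of A (LinearMap.ker p))
        have h3 : LinearMap.ker ((T (j + 1)).map (LinearMap.shortComplexKer p).f).hom = ⊤ := by
          rw [eq_top_iff]
          intro x _
          exact Subsingleton.elim (α := (T (j + 1)).obj (ModuleCat.of A (Fin n → A))) _ _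
        have h4 : LinearMap.ker ((T' (j + 1)).map (LinearMap.shortComplexKer p).f).hom = ⊤ := by
          rw [eq_top_iff]
          intro x _
          exact Subsingleton.elim (α := (T' (j + 1)).obj (ModuleCat.of A (Fin n → A))) _ _
        rw [h3, h4]
        exact ⟨Submodule.topEquiv.trans (e.trans Submodule.topEquiv.symm)⟩
    obtain ⟨e⟩ := key
    exact ⟨(LinearEquiv.ofInjective δ hδ).trans ((LinearEquiv.ofEq _ _ hr).trans
      (e.trans ((LinearEquiv.ofEq _ _ hr'.symm).trans (LinearEquiv.ofInjective δ' hδ').symm)))⟩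

end Shift

end Groth.Agent.Sga2.DimShift
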