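import Groth.Agent.Localalg.LCAbs
import Mathlib.Algebra.Homology.HomotopyCategory.HomComplex
import Mathlib.RingTheory.Noetherian.Basic

/-!
# Finiteness of local cohomology from an "injective presentation"

If `F` is a bounded below complex of injective modules, exact outside degree `0`, with `H⁰(F) = M`, then
`H^i_I(M)` (`i ≥ 1`) is finite as soon as the cohomology `H^i(Γ_I F)` is finite.
-/

set_option autoImplicit false

universe u

open CategoryTheory CategoryTheory.Limits
open Groth.Agent.Localalg.DeltaFun Groth.Agent.Localalg.Gam Groth.Agent.Localalg.LCAbs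

namespace Groth.Agent.Sga2.LCChain

variable {R : Type u} [CommRing R] {I : Ideal R}

section finiteness

variable (T : LC I) {S : ShortComplex (ModuleCat.{u} R)} (hS : S.ShortExact)

include hS in
lemma finite_X₁ (n : ℕ) (h : IsZero (T.obj (n + 1) S.X₂)) [Module.Finite R (T.obj n S.X₃)] :
    Module.Finite R (T.obj (n + 1) S.X₁) :=
  Module.Finite.of_surjective (T.D.δ hS n).hom ((ModuleCat.epi_iff_surjective _).1 (epi_δ T.D hS n h))

include hS in
lemma finite_one (h : IsZero (T.obj 1 S.X₂))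
    [Module.Finite R (gam I S.X₃ ⧸ LinearMap.range (gamMap I S.g.hom))] :
    Module.Finite R (T.obj 1 S.X₁) := by
  have e := (ModuleCat.cokernelIsoRangeQuotient ((gamFunctor I).map S.g)).symm ≪≫ T.oneIso hS h
  have : Module.Finite R (ModuleCat.of R
      (((gamFunctor I).obj S.X₃ : ModuleCat R) ⧸ LinearMap.range ((gamFunctor I).map S.g).hom)) :=
    inferInstanceAs (Module.Finite R (gam I S.X₃ ⧸ LinearMap.range (gamMap I S.g.hom)))
  exact Module.Finite.equiv e.toLinearEquiv

include hS in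
lemma finite_X₃ [IsNoetherianRing R] (n : ℕ) [Module.Finite R (T.obj n S.X₂)]
    (h : IsZero (T.obj (n + 1) S.X₁)) :
    Module.Finite R (T.obj n S.X₃) := by
  have h3 : Epi ((T.D.T n).map S.g) := (T.D.exact₃ hS n).epi_f (h.eq_of_tgt _ _)
  exact Module.Finite.of_surjective ((T.D.T n).map S.g).hom ((ModuleCat.epi_iff_surjective _).1 h3)

end finiteness

section ses

variable {A B C : Type u} [AddCommGroup A] [AddCommGroup B] [AddCommGroup C] [Module R A] [Module R B]
  [Module R C] (f : A →ₗ[R] B) (g : B →ₗ[R] C)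

lemma ses_shortExact (hf : Function.Injective f) (hg : Function.Surjective g)
    (hfg : ∀ y, g y = 0 ↔ ∃ x, f x = y) (h : g ∘ₗ f = 0) :
    (ShortComplex.mk (ModuleCat.ofHom f) (ModuleCat.ofHom g)
      (by rw [← ModuleCat.ofHom_comp, h]; rfl)).ShortExact where
  exact := by
    rw [ShortComplex.moduleCat_exact_iff]
    intro x hx
    exact (hfg x).1 hx
  mono_f := (ModuleCat.mono_iff_injective _).2 hf
  epi_g := (ModuleCat.epi_iff_surjective _).2 hg

end ses

section chain

variable (F : CochainComplex (ModuleCat.{u} R) ℤ)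

/-- Cycles, as a submodule. -/
def Z (n : ℤ) : Submodule R (F.X n) := LinearMap.ker (F.d n (n + 1)).hom

lemma mem_Z {n m : ℤ} (h : n + 1 = m) {x : F.X n} : x ∈ Z F n ↔ (F.d n m).hom x = 0 := by
  subst h; exact LinearMap.mem_ker

/-- The differential, with values in cycles. -/
def toZ {n m : ℤ} (_h : n + 1 = m) : F.X n →ₗ[R] Z F m :=
  LinearMap.codRestrict _ (F.d n m).hom (fun x => by
    rw [mem_Z F rfl, ← LinearMap.comp_apply, ← ModuleCat.hom_comp, F.d_comp_d]
    rfl)

@[simp] lemma coe_toZ {n m : ℤ} (h : n + 1 = m) (x : F.X n) :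
    (toZ F h x : F.X m) = (F.d n m).hom x := rfl

/-- Exactness at `m`, where `n + 1 = m`. -/
def Ex (n m : ℤ) : Prop := ∀ x : F.X m, x ∈ Z F m → ∃ y : F.X n, (F.d n m).hom y = x

lemma toZ_comp {n m : ℤ} (h : n + 1 = m) : toZ F h ∘ₗ (Z F n).subtype = 0 := by
  ext x
  exact (mem_Z F h).1 x.2

lemma sesZ {n m : ℤ} (h : n + 1 = m) (hex : Ex F n m) :
    (ShortComplex.mk (ModuleCat.ofHom (Z F n).subtype) (ModuleCat.ofHom (toZ F h))
      (by rw [← ModuleCat.ofHom_comp, toZ_comp]; rfl)).ShortExact :=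
  ses_shortExact _ _ Subtype.val_injective (fun x => by
    obtain ⟨y, hy⟩ := hex x.1 x.2
    exact ⟨y, Subtype.ext hy⟩) (fun y => by
      constructor
      · intro hy
        exact ⟨⟨y, (mem_Z F h).2 (congrArg Subtype.val hy)⟩, rfl⟩
      · rintro ⟨x, rfl⟩
        exact congrArg (fun f => f x) (toZ_comp F h)) (toZ_comp F h)

/-- Boundaries, as a submodule. -/
def B (n m : ℤ) : Submodule R (F.X m) := LinearMap.range (F.d n m).hom

lemma sesB {n m : ℤ} (h : n + 1 = m) :
    (ShortComplex.mk (ModuleCat.ofHom (Z F n).subtype) (ModuleCat.ofHom (F.d n m).hom.rangeRestrict)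
      (by
        rw [← ModuleCat.ofHom_comp]
        have : (F.d n m).hom.rangeRestrict ∘ₗ (Z F n).subtype = 0 := by
          ext x
          exact (mem_Z F h).1 x.2
        rw [this]; rfl)).ShortExact :=
  ses_shortExact _ _ Subtype.val_injective (LinearMap.surjective_rangeRestrict _) (fun y => by
    constructor
    · intro hy
      exact ⟨⟨y, (mem_Z F h).2 (congrArg Subtype.val hy)⟩, rfl⟩
    · rintro ⟨x, rfl⟩
      exact Subtype.ext ((mem_Z F h).1 x.2)) (by
        ext x
        exact (mem_Z F h).1 x.2)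

variable (T : LC I) [∀ n, Injective (F.X n)]

lemma acyc_Z (a : ℤ) (ha : ∀ n < a, IsZero (F.X n)) (b : ℤ)
    (hex : ∀ n m : ℤ, n + 1 = m → m < b → Ex F n m) :
    ∀ (n : ℤ), n < b → T.Acyc (ModuleCat.of R (Z F n)) := by
  have key : ∀ (k : ℕ) (n : ℤ), n < b → n < a + k → T.Acyc (ModuleCat.of R (Z F n)) := by
    intro k
    induction k with
    | zero =>
      intro n _ hn j
      have h0 : IsZero (ModuleCat.of R (Z F n)) := by
        have := ModuleCat.subsingleton_of_isZero (ha n (by simpa using hn))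
        have : Subsingleton (Z F n) := inferInstance
        exact ModuleCat.isZero_of_subsingleton _
      exact (T.D.T (j + 1)).map_isZero h0
    | succ k ih =>
      intro n hn hn' j
      have hS := sesZ F (n := n - 1) (m := n) (by lia) (hex (n - 1) n (by lia) hn)
      exact T.isZero_X₃ hS (j + 1) (T.eff (F.X (n - 1)) j) (ih (n - 1) (by lia) (by lia) (j + 1))
  intro n hn
  exact key (n + 1 - a).toNat n hn (by lia)

/-- The chain. -/
lemma finite_chain (k : ℕ) : ∀ (n m m' : ℤ) (hm : m + 1 = m') (_ : m = n + k)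
    (_ : ∀ p q : ℤ, p + 1 = q → n < q → Ex F p q)
    (_ : Module.Finite R (gam I (Z F m') ⧸ LinearMap.range (gamMap I (toZ F hm)))),
    Module.Finite R (T.obj (k + 1) (ModuleCat.of R (Z F n))) := by
  induction k with
  | zero =>
    intro n m m' hm h hex hfin
    obtain rfl : n = m := by simpa using h.symm
    have hS := sesZ F hm (hex n m' hm (by lia))
    exact finite_one T hS (T.eff (F.X n) 0)
  | succ k ih =>
    intro n m m' hm h hex hfin
    have := ih (n + 1) m m' hm (by rw [h]; push_cast; ring) (fun p q hpq hq => hex p q hpq (by lia)) hfin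
    have hS := sesZ F (n := n) rfl (hex n (n + 1) rfl (by lia))
    exact finite_X₁ T hS (k + 1) (T.eff (F.X n) (k + 1))

theorem finite_of_complex [IsNoetherianRing R] (a : ℤ) (ha : ∀ n < a, IsZero (F.X n))
    (hex : ∀ n m : ℤ, n + 1 = m → m ≠ 0 → Ex F n m) (k : ℕ) (m m' : ℤ) (hm : m + 1 = m') (hk : m = k)
    (hfin : Module.Finite R (gam I (Z F m') ⧸ LinearMap.range (gamMap I (toZ F hm))))
    (M : ModuleCat.{u} R) (f : Z F 0 →ₗ[R] M) (hf : Function.Surjective f)
    (hker : ∀ x : Z F 0, f x = 0 ↔ ∃ y : F.X (-1), (F.d (-1) 0).hom y = x) :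
    Module.Finite R (T.obj (k + 1) M) := by
  have h1 : T.Acyc (ModuleCat.of R (Z F (-1))) :=
    acyc_Z F T a ha 0 (fun n m h hm => hex n m h (by lia)) (-1) (by lia)
  have hB := sesB F (n := -1) (m := 0) (by lia)
  have h2 : T.Acyc (ModuleCat.of R (LinearMap.range (F.d (-1) 0).hom)) := fun j =>
    T.isZero_X₃ hB (j + 1) (T.eff (F.X (-1)) j) (h1 (j + 1))
  have hle : ∀ x : LinearMap.range (F.d (-1) 0).hom, (x : F.X 0) ∈ Z F 0 := by
    rintro ⟨_, y, rfl⟩
    exact (toZ F (n := -1) (m := 0) (by lia) y).2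
  let g : LinearMap.range (F.d (-1) 0).hom →ₗ[R] Z F 0 :=
    LinearMap.codRestrict _ (Submodule.subtype _) hle
  have hfg : ∀ y, f y = 0 ↔ ∃ x, g x = y := by
    intro y
    rw [hker]
    constructor
    · rintro ⟨x, hx⟩
      exact ⟨⟨_, x, rfl⟩, Subtype.ext hx⟩
    · rintro ⟨⟨_, x, rfl⟩, rfl⟩
      exact ⟨x, rfl⟩
  have hS := ses_shortExact g f (fun x y hxy =>
    Subtype.ext (congrArg (fun z : Z F 0 => (z : F.X 0)) hxy)) hf hfg
    (by ext x; exact (hfg _).2 ⟨x, rfl⟩)
  have h3 : Module.Finite R (T.obj (k + 1) (ModuleCat.of R (Z F 0))) :=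
    finite_chain F T k 0 m m' hm (by simpa using hk) (fun p q hpq hq => hex p q hpq (by lia)) hfin
  exact finite_X₃ T hS (k + 1) (h2 (k + 1))

end chain

end Groth.Agent.Sga2.LCChain
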