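import Groth.Agent.Sga2.ToSingle
import Groth.Agent.Sga2.LCChain
import Mathlib.LinearAlgebra.Dual.Lemmas
import Mathlib.Algebra.Homology.ShortComplex.ModuleCat
import Mathlib.Algebra.Category.ModuleCat.Projective
import Mathlib.Algebra.Homology.DerivedCategory.HomologySequence

/-!
# The dual of a complex of finite projective modules
-/

set_option autoImplicit false

universe u w w'

open CategoryTheory CategoryTheory.Limits CochainComplex CochainComplex.HomComplex DerivedCategory
open Groth.Agent.Sga2.LCChain Groth.Agent.Sga2.ToSingle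

namespace Groth.Agent.Sga2.DualCx

variable {R : Type u} [CommRing R]

/-- The dual of a finite projective module is projective. -/
lemma projective_dual (M : Type u) [AddCommGroup M] [Module R M] [Module.Finite R M]
    [Module.Projective R M] : Module.Projective R (M →ₗ[R] R) := by
  obtain ⟨n, f, hf⟩ := Module.Finite.exists_fin' R M
  obtain ⟨g, H⟩ := Module.projective_lifting_property f .id hf
  refine Module.Projective.of_split (M := (Fin n → R) →ₗ[R] R) (LinearMap.lcomp R R f)
    (LinearMap.lcomp R R g) ?_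
  ext φ x
  change φ (f (g x)) = φ x
  rw [show f (g x) = x from LinearMap.congr_fun H x]

/-- The dual of a finite module over a Noetherian ring is finite. -/
lemma finite_dual [IsNoetherianRing R] (M : Type u) [AddCommGroup M] [Module R M] [Module.Finite R M] :
    Module.Finite R (M →ₗ[R] R) := by
  obtain ⟨n, f, hf⟩ := Module.Finite.exists_fin' R M
  have : Module.Finite R ((Fin n → R) →ₗ[R] R) :=
    Module.Finite.equiv ((Pi.basisFun R (Fin n)).constr R (M' := R))
  refine Module.Finite.of_injective (LinearMap.lcomp R R f) (fun φ ψ h => ?_)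
  ext x
  obtain ⟨y, rfl⟩ := hf x
  exact LinearMap.congr_fun h y

/-- The dual complex. -/
noncomputable def dualCx (P : CochainComplex (ModuleCat.{u} R) ℤ) : CochainComplex (ModuleCat.{u} R) ℤ where
  X n := ModuleCat.of R (P.X (-n) →ₗ[R] R)
  d n m := ModuleCat.ofHom (LinearMap.lcomp R R (P.d (-m) (-n)).hom)
  shape n m h := by
    ext φ x
    change φ ((P.d (-m) (-n)).hom x) = 0
    rw [P.shape (-m) (-n) (by
      intro h'
      apply h
      simp only [ComplexShape.up_Rel] at h' ⊢
      lia)]
    exact map_zero φ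
  d_comp_d' n m k _ _ := by
    ext φ x
    change φ ((P.d (-m) (-n)).hom ((P.d (-k) (-m)).hom x)) = 0
    rw [← ModuleCat.comp_apply, P.d_comp_d]
    exact map_zero φ

variable (P : CochainComplex (ModuleCat.{u} R) ℤ)

lemma dualCx_d_apply (n m : ℤ) (φ : P.X (-n) →ₗ[R] R) (x : P.X (-m)) :
    (show P.X (-m) →ₗ[R] R from ((dualCx P).d n m).hom φ) x = φ ((P.d (-m) (-n)).hom x) := rfl

instance [IsNoetherianRing R] [∀ n, Module.Finite R (P.X n)] (n : ℤ) :
    Module.Finite R ((dualCx P).X n) :=
  finite_dual (P.X (-n))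

lemma projective_dualCx_X [∀ n, Module.Finite R (P.X n)] [∀ n, Projective (P.X n)] (n : ℤ) :
    Module.Projective R ((dualCx P).X n) := by
  have : Module.Projective R (P.X (-n)) := (IsProjective.iff_projective _).2 inferInstance
  exact projective_dual (P.X (-n))

instance [∀ n, Module.Finite R (P.X n)] [∀ n, Projective (P.X n)] (n : ℤ) :
    Projective ((dualCx P).X n) := by
  have := projective_dualCx_X P n
  exact (IsProjective.iff_projective _).1 this

instance [∀ n, Module.Finite R (P.X n)] [∀ n, Projective (P.X n)] (n : ℤ) :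
    Module.Flat R ((dualCx P).X n) := by
  have := projective_dualCx_X P n
  infer_instance

lemma isZero_dualCx_X (n : ℤ) (h : IsZero (P.X (-n))) : IsZero ((dualCx P).X n) := by
  have := ModuleCat.subsingleton_of_isZero h
  have : Subsingleton (P.X (-n) →ₗ[R] R) := ⟨fun f g => by
    ext x
    rw [Subsingleton.elim x 0, map_zero, map_zero]⟩
  exact @ModuleCat.isZero_of_subsingleton _ _ (ModuleCat.of R (P.X (-n) →ₗ[R] R)) this

instance [P.IsStrictlyLE 0] : (dualCx P).IsStrictlyGE 0 := by
  rw [isStrictlyGE_iff]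
  intro i hi
  exact isZero_dualCx_X P i (P.isZero_of_isStrictlyLE 0 _ (by lia))

lemma isStrictlyLE_dualCx (d : ℤ) [P.IsStrictlyGE (-d)] : (dualCx P).IsStrictlyLE d := by
  rw [isStrictlyLE_iff]
  intro i hi
  exact isZero_dualCx_X P i (P.isZero_of_isStrictlyGE (-d) _ (by lia))

/-- Evaluation at an element. -/
noncomputable def ev (p : ℤ) : P.X (-p) →ₗ[R] ((dualCx P).X p ⟶ ModuleCat.of R R) where
  toFun x := ModuleCat.ofHom (Module.Dual.eval R (P.X (-p)) x)
  map_add' x y := by
    ext φ
    exact map_add φ x y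
  map_smul' r x := by
    ext φ
    exact map_smul φ r x

lemma ev_apply (p : ℤ) (x : P.X (-p)) (φ : P.X (-p) →ₗ[R] R) : (ev P p x).hom φ = φ x := rfl

variable [∀ n, Module.Finite R (P.X n)] [∀ n, Projective (P.X n)]

lemma isReflexive (n : ℤ) : Module.IsReflexive R (P.X n) := by
  have : Module.Projective R (P.X n) := (IsProjective.iff_projective _).2 inferInstance
  infer_instance

lemma ev_injective (p : ℤ) : Function.Injective (ev P p) := by
  have := isReflexive P (-p)
  intro x y h
  apply (Module.bijective_dual_eval R (P.X (-p))).1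
  ext φ
  exact congrArg (fun f : (dualCx P).X p ⟶ ModuleCat.of R R => f.hom φ) h

lemma ev_surjective (p : ℤ) : Function.Surjective (ev P p) := by
  have := isReflexive P (-p)
  intro f
  obtain ⟨x, hx⟩ := (Module.bijective_dual_eval R (P.X (-p))).2 f.hom
  refine ⟨x, ?_⟩
  ext φ
  exact congrArg (fun f : ((P.X (-p) →ₗ[R] R) →ₗ[R] R) => f φ) hx

omit [∀ n, Module.Finite R (P.X n)] [∀ n, Projective (P.X n)] in
lemma d_ev (n m : ℤ) (x : P.X (-m)) : (dualCx P).d n m ≫ ev P m x = ev P n ((P.d (-m) (-n)).hom x) := rfl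

/-- Evaluation, on cycles. -/
noncomputable def evZ (p : ℤ) : Z P (-p) →ₗ[R] zTo R (dualCx P) (ModuleCat.of R R) p :=
  LinearMap.codRestrict _ (ev P p ∘ₗ (Z P (-p)).subtype) (by
    intro x
    rw [mem_zTo, LinearMap.comp_apply, d_ev]
    rw [show (P.d (-p) (-(p - 1))).hom ((Z P (-p)).subtype x) = 0 from
      (mem_Z P (n := -p) (m := -(p - 1)) (by lia)).1 x.2]
    exact map_zero _)

lemma evZ_surjective (p : ℤ) : Function.Surjective (evZ P p) := by
  rintro ⟨f, hf⟩
  obtain ⟨x, rfl⟩ := ev_surjective P p f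
  refine ⟨⟨x, ?_⟩, rfl⟩
  rw [mem_Z P (n := -p) (m := -(p - 1)) (by lia)]
  apply ev_injective P (p - 1)
  rw [← d_ev, map_zero]
  exact hf

section

variable [HasDerivedCategory.{w} (ModuleCat.{u} R)]

/-- `Hom_D(C, R⟦n⟧)` is the cohomology of `P` in degree `n`, for the dual complex `C` of `P`. -/
theorem exists_map [(dualCx P).IsKProjective] (p n : ℤ) (h : p + n = 0) :
    ∃ f : Z P (-p) →ₗ[R] (Q.obj (dualCx P) ⟶
      (Q.obj ((CochainComplex.singleFunctor (ModuleCat.{u} R) 0).obj (ModuleCat.of R R)))⟦n⟧),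
      Function.Surjective f ∧ ∀ x, f x = 0 ↔ ∃ y : P.X (-(p + 1)), (P.d (-(p + 1)) (-p)).hom y = x.1 := by
  refine ⟨tsg R (dualCx P) (ModuleCat.of R R) p n 0 h ∘ₗ evZ P p,
    (tsg_surjective R _ _ p n 0 h).comp (evZ_surjective P p), fun x => ?_⟩
  rw [LinearMap.comp_apply, tsg_eq_zero_iff]
  constructor
  · rintro ⟨ψ, hψ⟩
    obtain ⟨y, rfl⟩ := ev_surjective P (p + 1) ψ
    refine ⟨y, ?_⟩
    rw [d_ev] at hψ
    exact ev_injective P p hψ
  · rintro ⟨y, hy⟩
    refine ⟨ev P (p + 1) y, ?_⟩
    rw [d_ev, hy]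
    rfl

end

end Groth.Agent.Sga2.DualCx
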