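import Mathlib.Algebra.Category.ModuleCat.Projective
import Mathlib.Algebra.Category.ModuleCat.Abelian
import Mathlib.Algebra.Category.ModuleCat.ProjectiveDimension
import Mathlib.CategoryTheory.Abelian.Projective.Resolution
import Mathlib.CategoryTheory.Abelian.Projective.Dimension
import Mathlib.CategoryTheory.Abelian.Projective.Extend
import Mathlib.RingTheory.Noetherian.Basic
import Mathlib.Algebra.Module.FinitePresentation

/-!
# Projective resolutions by finite projective modules, of finite length when the projective dimension is finite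
-/

set_option autoImplicit false

universe u

open CategoryTheory CategoryTheory.Limits

namespace Groth.Agent.Sga2.FinRes

variable {R : Type u} [CommRing R] [IsNoetherianRing R]

/-- A finite module, bundled. -/
structure FM (R : Type u) [CommRing R] where
  /-- the module -/
  X : ModuleCat.{u} R
  /-- finiteness -/
  fin : Module.Finite R X

omit [IsNoetherianRing R] in
/-- Every finite module `M` is a quotient of a finite projective module, which we take equal to `M` when `M` is
projective. -/
lemma exists_cover (M : FM R) : ∃ (P : FM R) (π : P.X ⟶ M.X), Projective P.X ∧ Epi π ∧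
    (Projective M.X → Mono π) := by
  classical
  by_cases h : Projective M.X
  · exact ⟨M, 𝟙 _, h, inferInstance, fun _ => inferInstance⟩
  · have := M.fin
    obtain ⟨P, _, _, _, _, f, hf⟩ := Module.exists_finite_presentation R M.X
    exact ⟨⟨ModuleCat.of R P, inferInstanceAs (Module.Finite R P)⟩, ModuleCat.ofHom f,
      ModuleCat.projective_of_free (Module.Free.chooseBasis R P),
      (ModuleCat.epi_iff_surjective _).2 hf, fun h' => absurd h' h⟩

/-- The chosen cover. -/
noncomputable def cover (M : FM R) : FM R := (exists_cover M).choose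

/-- The projection of the chosen cover. -/
noncomputable def coverπ (M : FM R) : (cover M).X ⟶ M.X := (exists_cover M).choose_spec.choose

instance (M : FM R) : Projective (cover M).X := (exists_cover M).choose_spec.choose_spec.1

instance (M : FM R) : Epi (coverπ M) := (exists_cover M).choose_spec.choose_spec.2.1

omit [IsNoetherianRing R] in
lemma mono_coverπ (M : FM R) (h : Projective M.X) : Mono (coverπ M) :=
  (exists_cover M).choose_spec.choose_spec.2.2 h

/-- The syzygy. -/
noncomputable def syz (M : FM R) : FM R where
  X := kernel (coverπ M)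
  fin := by
    have := (cover M).fin
    have hi : Function.Injective (kernel.ι (coverπ M)).hom :=
      (ModuleCat.mono_iff_injective _).1 inferInstance
    exact Module.Finite.of_injective (kernel.ι (coverπ M)).hom hi

/-- The inclusion of the syzygy. -/
noncomputable def syzι (M : FM R) : (syz M).X ⟶ (cover M).X := kernel.ι (coverπ M)

instance (M : FM R) : Mono (syzι M) := inferInstanceAs (Mono (kernel.ι _))

@[reassoc (attr := simp)]
lemma syzι_coverπ (M : FM R) : syzι M ≫ coverπ M = 0 := kernel.condition _

/-- The short exact sequence of the syzygy. -/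
noncomputable def ses (M : FM R) : ShortComplex (ModuleCat.{u} R) :=
  ShortComplex.mk (syzι M) (coverπ M) (syzι_coverπ M)

lemma ses_shortExact (M : FM R) : (ses M).ShortExact where
  exact := ShortComplex.exact_kernel _
  mono_f := inferInstanceAs (Mono (syzι M))
  epi_g := inferInstanceAs (Epi (coverπ M))

/-- The iterated syzygies. -/
noncomputable def seq (M : FM R) : ℕ → FM R
  | 0 => M
  | n + 1 => syz (seq M n)

/-- The differentials of the resolution. -/
noncomputable def dd (N : FM R) : (cover (syz N)).X ⟶ (cover N).X :=
  coverπ (syz N) ≫ syzι N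

lemma dd_comp (N : FM R) : dd (syz N) ≫ dd N = 0 := by
  simp [dd]

@[reassoc (attr := simp)]
lemma dd_coverπ (N : FM R) : dd N ≫ coverπ N = 0 := by
  simp [dd]

/-- The complex. -/
noncomputable def cx (M : FM R) : ChainComplex (ModuleCat.{u} R) ℕ :=
  ChainComplex.of (fun n => (cover (seq M n)).X) (fun n => dd (seq M n)) (fun n => dd_comp (seq M n))

lemma cx_d (M : FM R) (n : ℕ) : (cx M).d (n + 1) n = dd (seq M n) :=
  ChainComplex.of_d (fun n => (cover (seq M n)).X) (fun n => dd (seq M n)) n

lemma exact_dd_coverπ (N : FM R) :
    (ShortComplex.mk (dd N) (coverπ N) (dd_coverπ N)).Exact := by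
  let S₂ : ShortComplex (ModuleCat.{u} R) := ShortComplex.mk (syzι N) (coverπ N) (syzι_coverπ N)
  let S₁ : ShortComplex (ModuleCat.{u} R) := ShortComplex.mk (dd N) (coverπ N) (dd_coverπ N)
  let φ : S₁ ⟶ S₂ := { τ₁ := coverπ (syz N), τ₂ := 𝟙 _, τ₃ := 𝟙 _, comm₁₂ := by simp [S₁, S₂, dd] }
  have : Epi φ.τ₁ := inferInstanceAs (Epi (coverπ (syz N)))
  have : IsIso φ.τ₂ := inferInstanceAs (IsIso (𝟙 _))
  have : Mono φ.τ₃ := inferInstanceAs (Mono (𝟙 _))
  exact (ShortComplex.exact_iff_of_epi_of_isIso_of_mono φ).2 (ses_shortExact N).exact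

lemma exact_dd_dd (N : FM R) :
    (ShortComplex.mk (dd (syz N)) (dd N) (dd_comp N)).Exact := by
  let S₁ : ShortComplex (ModuleCat.{u} R) := ShortComplex.mk (dd (syz N)) (coverπ (syz N)) (dd_coverπ (syz N))
  let S₂ : ShortComplex (ModuleCat.{u} R) := ShortComplex.mk (dd (syz N)) (dd N) (dd_comp N)
  let φ : S₁ ⟶ S₂ := { τ₁ := 𝟙 _, τ₂ := 𝟙 _, τ₃ := syzι N, comm₂₃ := by simp [S₁, S₂, dd] }
  have : Epi φ.τ₁ := inferInstanceAs (Epi (𝟙 _))
  have : IsIso φ.τ₂ := inferInstanceAs (IsIso (𝟙 _))
  have : Mono φ.τ₃ := inferInstanceAs (Mono (syzι _))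
  exact (ShortComplex.exact_iff_of_epi_of_isIso_of_mono φ).1 (exact_dd_coverπ (syz N))

lemma cx_exactAt_succ (M : FM R) (n : ℕ) : (cx M).ExactAt (n + 1) := by
  rw [HomologicalComplex.exactAt_iff' _ (n + 1 + 1) (n + 1) n (by simp) (by simp)]
  simp only [HomologicalComplex.sc', HomologicalComplex.shortComplexFunctor', cx_d]
  exact exact_dd_dd (seq M n)

/-- The resolution of a finite module by finite projective modules. -/
noncomputable def res (M : FM R) : ProjectiveResolution M.X where
  complex := cx M
  projective n := inferInstanceAs (Projective (cover (seq M n)).X)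
  π := (ChainComplex.toSingle₀Equiv _ _).symm ⟨coverπ M, by
          rw [cx_d]
          exact dd_coverπ M⟩
  quasiIso := ⟨fun n => by
    cases n
    · rw [ChainComplex.quasiIsoAt₀_iff, ShortComplex.quasiIso_iff_of_zeros']
      · refine (ShortComplex.exact_and_epi_g_iff_of_iso ?_).2
          ⟨exact_dd_coverπ M, inferInstanceAs (Epi (coverπ M))⟩
        exact ShortComplex.isoMk (Iso.refl _) (Iso.refl _) (Iso.refl _)
          (by simp [cx_d]; rfl) (by simp; rfl)
      all_goals rfl
    · rw [quasiIsoAt_iff_exactAt']
      · apply cx_exactAt_succ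
      · apply ChainComplex.exactAt_succ_single_obj⟩

instance (M : FM R) (n : ℕ) : Module.Finite R ((res M).complex.X n) := (cover (seq M n)).fin

lemma seq_pd (M : FM R) (d : ℕ) (hd : HasProjectiveDimensionLE M.X d) (n : ℕ) (hn : n ≤ d) :
    HasProjectiveDimensionLE (seq M n).X (d - n) := by
  induction n with
  | zero => exact hd
  | succ n ih =>
    have h := ih (by lia)
    have : d - n = (d - (n + 1)) + 1 := by lia
    rw [this] at h
    exact ((ses_shortExact (seq M n)).hasProjectiveDimensionLT_X₃_iff (d - (n + 1))
      (inferInstanceAs (Projective (cover (seq M n)).X))).1 h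

lemma isZero_seq (M : FM R) (d : ℕ) (hd : HasProjectiveDimensionLE M.X d) (n : ℕ) (hn : d < n) :
    IsZero (seq M n).X := by
  induction n with
  | zero => lia
  | succ n ih =>
    have hp : Projective (seq M n).X := by
      by_cases hnd : n = d
      · subst hnd
        have := seq_pd M n hd n le_rfl
        rw [Nat.sub_self] at this
        rw [projective_iff_hasProjectiveDimensionLT_one]
        exact this
      · exact IsZero.projective (ih (by lia))
    have := mono_coverπ (seq M n) hp
    exact isZero_kernel_of_mono (coverπ (seq M n))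

lemma isZero_res_X (M : FM R) (d : ℕ) (hd : HasProjectiveDimensionLE M.X d) (n : ℕ) (hn : d < n) :
    IsZero ((res M).complex.X n) := by
  have h := isZero_seq M d hd n hn
  have := mono_coverπ (seq M n) (IsZero.projective h)
  have h2 : IsZero (cover (seq M n)).X := IsZero.of_mono (coverπ (seq M n)) h
  exact h2

end Groth.Agent.Sga2.FinRes
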