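import Groth.Agent.Sga2.DHomLin
import Groth.Agent.Sga2.DDevissage
import Mathlib.Algebra.Homology.DerivedCategory.SingleTriangle
import Mathlib.Algebra.Homology.DerivedCategory.Ext.Linear

/-!
# Morphisms `G[-q] ⟶ K⟦i⟧` in the derived category as classes of maps `G ⟶ K.X (q + i)`
-/

set_option autoImplicit false

universe w v u t w'

open CategoryTheory CategoryTheory.Limits CochainComplex CochainComplex.HomComplex DerivedCategory

namespace Groth.Agent.Sga2.SingleHom

variable (R : Type t) [CommRing R] {C : Type u} [Category.{v} C] [Abelian C] [Linear R C]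

/-- The module of maps `G ⟶ K.X p` killed by the differential. -/
def zSub (G : C) (K : CochainComplex C ℤ) (p : ℤ) : Submodule R (G ⟶ K.X p) :=
  LinearMap.ker (Linear.rightComp R G (K.d p (p + 1)))

variable {R}

lemma mem_zSub {G : C} {K : CochainComplex C ℤ} {p : ℤ} (φ : G ⟶ K.X p) :
    φ ∈ zSub R G K p ↔ φ ≫ K.d p (p + 1) = 0 := Iff.rfl

variable (R)

/-- The cocycle attached to a map killed by the differential. -/
noncomputable def coc (G : C) (K : CochainComplex C ℤ) (q i p : ℤ) (h : q + i = p) :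
    zSub R G K p →ₗ[R] Cocycle ((CochainComplex.singleFunctor C q).obj G) K i where
  toFun φ := Cocycle.fromSingleMk φ.1 h (p + 1) rfl φ.2
  map_add' φ ψ := Cocycle.fromSingleMk_add _ _ _ _ _ _ _
  map_smul' r φ := by
    ext : 1
    refine (Cochain.fromSingleEquiv h).injective ?_
    change Cochain.fromSingleEquiv h (Cochain.fromSingleMk (r • φ.1) h) =
      Cochain.fromSingleEquiv h (r • Cochain.fromSingleMk φ.1 h)
    rw [Cochain.fromSingleEquiv_fromSingleMk]
    simp only [Cochain.fromSingleEquiv, AddEquiv.coe_mk, Equiv.coe_fn_mk, Cochain.smul_v,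
      Cochain.fromSingleMk_v]
    refine Eq.trans ?_ (Linear.comp_smul (R := R) _ _ _
      (HomologicalComplex.singleObjXSelf (ComplexShape.up ℤ) q G).inv r
      ((HomologicalComplex.singleObjXSelf (ComplexShape.up ℤ) q G).hom ≫ φ.1)).symm
    rw [Iso.inv_hom_id_assoc]

variable [HasDerivedCategory.{w} C]

/-- The linear map from maps killed by the differential to morphisms in the derived category. -/
noncomputable def sgl (G : C) (K : CochainComplex C ℤ) (q i p : ℤ) (h : q + i = p) :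
    zSub R G K p →ₗ[R] ((DerivedCategory.singleFunctor C q).obj G ⟶ (Q.obj K)⟦i⟧) :=
  Linear.leftComp R _ ((singleFunctorIsoCompQ C q).hom.app G) ∘ₗ
    toD R ((CochainComplex.singleFunctor C q).obj G) K i ∘ₗ coc R G K q i p h
where
  toD := DHomLin.toD

lemma sgl_apply (G : C) (K : CochainComplex C ℤ) (q i p : ℤ) (h : q + i = p) (φ : zSub R G K p) :
    sgl R G K q i p h φ = (singleFunctorIsoCompQ C q).hom.app G ≫
      DHomLin.toD R ((CochainComplex.singleFunctor C q).obj G) K i (coc R G K q i p h φ) := rfl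

lemma sgl_surjective (G : C) (K : CochainComplex C ℤ) [K.IsKInjective] (q i p : ℤ) (h : q + i = p) :
    Function.Surjective (sgl R G K q i p h) := by
  intro f
  obtain ⟨z, hz⟩ := DHomLin.toD_surjective_of_isKInjective R ((CochainComplex.singleFunctor C q).obj G) K i
    ((singleFunctorIsoCompQ C q).inv.app G ≫ f)
  obtain ⟨φ, hφ, rfl⟩ := Cocycle.fromSingleMk_surjective z p h (p + 1) rfl
  refine ⟨⟨φ, hφ⟩, ?_⟩
  rw [sgl_apply]
  change _ ≫ DHomLin.toD R ((CochainComplex.singleFunctor C q).obj G) K i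
    (Cocycle.fromSingleMk φ h (p + 1) rfl hφ) = f
  rw [hz]
  simp

lemma sgl_eq_zero_iff (G : C) (K : CochainComplex C ℤ) [K.IsKInjective] (q i p : ℤ) (h : q + i = p)
    (φ : zSub R G K p) :
    sgl R G K q i p h φ = 0 ↔ ∃ ψ : G ⟶ K.X (p - 1), ψ ≫ K.d (p - 1) p = φ.1 := by
  rw [← Cocycle.fromSingleMk_mem_coboundaries_iff φ.1 h (p + 1) rfl φ.2 (p - 1) (by lia),
    ← DHomLin.toD_eq_zero_iff_of_isKInjective R]
  rw [sgl_apply]
  constructor
  · intro h
    rw [← cancel_epi ((singleFunctorIsoCompQ C q).hom.app G), comp_zero]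
    exact h
  · intro h
    change _ ≫ DHomLin.toD R ((CochainComplex.singleFunctor C q).obj G) K i
      (Cocycle.fromSingleMk φ.1 _ (p + 1) rfl φ.2) = 0
    rw [h, comp_zero]

/-- Postcomposition on `zSub`. -/
def zMap (G : C) {K L : CochainComplex C ℤ} (f : K ⟶ L) (p : ℤ) : zSub R G K p →ₗ[R] zSub R G L p :=
  (Linear.rightComp R G (f.f p)).restrict (by
    intro φ hφ
    rw [mem_zSub] at hφ ⊢
    simp only [Linear.rightComp_apply, Category.assoc, f.comm]
    rw [← Category.assoc, hφ, zero_comp])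

/-- Precomposition on `zSub`. -/
def zPre {G G' : C} (g : G' ⟶ G) (K : CochainComplex C ℤ) (p : ℤ) : zSub R G K p →ₗ[R] zSub R G' K p :=
  (Linear.leftComp R (K.X p) g).restrict (by
    intro φ hφ
    rw [mem_zSub] at hφ ⊢
    simp only [Linear.leftComp_apply, Category.assoc, hφ, comp_zero])

lemma sgl_zMap (G : C) {K L : CochainComplex C ℤ} (f : K ⟶ L) (q i p : ℤ) (h : q + i = p)
    (φ : zSub R G K p) :
    sgl R G L q i p h (zMap R G f p φ) = sgl R G K q i p h φ ≫ (Q.map f)⟦i⟧' := by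
  rw [sgl_apply, sgl_apply, Category.assoc, ← DHomLin.toD_postcomp]
  congr 2
  exact Cocycle.fromSingleMk_postcomp φ.1 h (p + 1) rfl φ.2 f

/-- Finiteness of `Hom_D(G[-q], K⟦i⟧)` only depends on `q + i`. -/
lemma finite_of_finite (G : C) (K : CochainComplex C ℤ) [K.IsKInjective] (q i q' i' : ℤ)
    (h : q + i = q' + i')
    [Module.Finite R ((DerivedCategory.singleFunctor C q).obj G ⟶ (Q.obj K)⟦i⟧)] :
    Module.Finite R ((DerivedCategory.singleFunctor C q').obj G ⟶ (Q.obj K)⟦i'⟧) := by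
  have e : LinearMap.ker (sgl R G K q i _ h) = LinearMap.ker (sgl R G K q' i' _ rfl) := by
    ext φ
    rw [LinearMap.mem_ker, LinearMap.mem_ker, sgl_eq_zero_iff, sgl_eq_zero_iff]
  have e1 := (sgl R G K q i _ h).quotKerEquivOfSurjective (sgl_surjective R G K q i _ h)
  have e2 := (sgl R G K q' i' _ rfl).quotKerEquivOfSurjective (sgl_surjective R G K q' i' _ rfl)
  exact Module.Finite.equiv ((e1.symm.trans (Submodule.quotEquivOfEq _ _ e)).trans e2)

/-- `Hom_D(G[-q], K⟦i⟧)` vanishes iff every map `G ⟶ K.X (q + i)` killed by the differential is a coboundary. -/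
lemma subsingleton_iff (G : C) (K : CochainComplex C ℤ) [K.IsKInjective] (q i p : ℤ) (h : q + i = p) :
    Subsingleton ((DerivedCategory.singleFunctor C q).obj G ⟶ (Q.obj K)⟦i⟧) ↔
      ∀ φ : G ⟶ K.X p, φ ≫ K.d p (p + 1) = 0 → ∃ ψ : G ⟶ K.X (p - 1), ψ ≫ K.d (p - 1) p = φ := by
  constructor
  · intro _ φ hφ
    exact (sgl_eq_zero_iff ℤ G K q i p h ⟨φ, hφ⟩).1 (Subsingleton.elim _ _)
  · intro H
    refine subsingleton_of_forall_eq 0 fun f => ?_
    obtain ⟨φ, rfl⟩ := sgl_surjective ℤ G K q i p h f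
    exact (sgl_eq_zero_iff ℤ G K q i p h φ).2 (H φ.1 φ.2)

/-- The comparison of `Ext` with morphisms into a resolution. -/
noncomputable def extEquiv [HasExt.{w'} C] (G X : C) (K : CochainComplex C ℤ)
    (ι : (CochainComplex.singleFunctor C 0).obj X ⟶ K) [QuasiIso ι] (p : ℕ) :
    Abelian.Ext G X p ≃ₗ[R] ((DerivedCategory.singleFunctor C 0).obj G ⟶ (Q.obj K)⟦(p : ℤ)⟧) :=
  (Abelian.Ext.homLinearEquiv (R := R)).trans
    (Linear.homCongr R (Iso.refl _) ((CategoryTheory.shiftFunctor _ (p : ℤ)).mapIso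
      ((singleFunctorIsoCompQ C 0).app X ≪≫ asIso (Q.map ι))))

end Groth.Agent.Sga2.SingleHom
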