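import Groth.Agent.Sga2.GamCx
import Groth.Agent.Sga2.SingleHom

/-!
# Finiteness of `Hom_D(G[-q], Γ_I(E)⟦i⟧)` for an injective resolution `E` of `R`
-/

set_option autoImplicit false

universe u w

open CategoryTheory CategoryTheory.Limits CochainComplex CochainComplex.HomComplex DerivedCategory
open Groth.Agent.Localalg.Gam Groth.Agent.Sga2.GamCx Groth.Agent.Sga2.SingleHom

attribute [local instance] HasDerivedCategory.standard

namespace Groth.Agent.Sga2.GamHom

variable {R : Type u} [CommRing R] (I : Ideal R)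

section

variable (E : CochainComplex (ModuleCat.{u} R) ℤ) [∀ p, Injective (E.X p)] [E.IsStrictlyGE 0]

instance : E.IsKInjective := isKInjective_of_injective E 0

instance [IsNoetherianRing R] : (gamCx I E).IsKInjective := isKInjective_of_injective _ 0

/-- For `G` an `I`-power torsion module, `Hom_D(G[-q], Γ_I(E)⟦i⟧) ⟶ Hom_D(G[-q], E⟦i⟧)` is injective. -/
lemma injective_of_torsion [IsNoetherianRing R] (G : ModuleCat.{u} R) (hG : ∀ x : G, x ∈ gam I G) (q i : ℤ) :
    Function.Injective (Linear.rightComp R ((DerivedCategory.singleFunctor (ModuleCat.{u} R) q).obj G)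
      ((Q.map (gamι I E))⟦i⟧')) := by
  rw [← LinearMap.ker_eq_bot, LinearMap.ker_eq_bot']
  intro f hf
  obtain ⟨φ, rfl⟩ := sgl_surjective R G (gamCx I E) q i _ rfl f
  rw [Linear.rightComp_apply, ← sgl_zMap, sgl_eq_zero_iff] at hf
  obtain ⟨ψ, hψ⟩ := hf
  obtain ⟨ψ', hψ'⟩ := exists_lift (I := I) ψ (fun x => map_mem_gam ψ.hom (hG x))
  rw [sgl_eq_zero_iff]
  refine ⟨ψ', ?_⟩
  rw [← cancel_mono ((gamι I E).f (q + i)), Category.assoc, ← (gamι I E).comm, ← Category.assoc, hψ', hψ]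
  rfl

end

section

variable [IsNoetherianRing R]
  (E : CochainComplex (ModuleCat.{u} R) ℤ) [∀ p, Injective (E.X p)] [E.IsStrictlyGE 0]
  (ι : (CochainComplex.singleFunctor (ModuleCat.{u} R) 0).obj (ModuleCat.of R R) ⟶ E) [QuasiIso ι]

include ι in
/-- Finiteness for `I`-power torsion modules. -/
lemma finite_of_torsion (G : ModuleCat.{u} R) [Module.Finite R G] (hG : ∀ x : G, x ∈ gam I G) (p : ℕ) :
    Module.Finite R ((DerivedCategory.singleFunctor (ModuleCat.{u} R) 0).obj G ⟶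
      (Q.obj (gamCx I E))⟦(p : ℤ)⟧) := by
  have h1 : Module.Finite R ((DerivedCategory.singleFunctor (ModuleCat.{u} R) 0).obj G ⟶
      (Q.obj E)⟦(p : ℤ)⟧) := Module.Finite.equiv (extEquiv R G (ModuleCat.of R R) E ι p)
  exact Module.Finite.of_injective _ (injective_of_torsion I E G hG 0 p)

include ι in
/-- If `Ext^p(N, R) = 0` then maps `N ⟶ E.X p` killed by the differential are coboundaries. -/
lemma exists_coboundary (N : ModuleCat.{u} R) (p : ℕ) [Subsingleton (Abelian.Ext N (ModuleCat.of R R) p)]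
    (φ : N ⟶ E.X p) (hφ : φ ≫ E.d p (p + 1) = 0) : ∃ ψ : N ⟶ E.X (p - 1), ψ ≫ E.d (p - 1) p = φ := by
  have : Subsingleton ((DerivedCategory.singleFunctor (ModuleCat.{u} R) 0).obj N ⟶
      (Q.obj E)⟦(p : ℤ)⟧) := (extEquiv R N (ModuleCat.of R R) E ι p).symm.toEquiv.subsingleton
  exact (subsingleton_iff N E 0 p p (by simp)).1 this φ hφ

omit [IsNoetherianRing R] in
/-- A map from a finite module to a torsion module kills some `I ^ n • ⊤`. -/
lemma exists_pow_smul_le_ker {G M : Type u} [AddCommGroup G] [Module R G] [Module.Finite R G]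
    [AddCommGroup M] [Module R M] (f : G →ₗ[R] M) (hf : ∀ x, f x ∈ gam I M) :
    ∃ n : ℕ, (I ^ n • ⊤ : Submodule R G) ≤ LinearMap.ker f := by
  obtain ⟨s, hs⟩ := ‹Module.Finite R G›
  choose k hk using hf
  refine ⟨s.sup k, ?_⟩
  rw [← hs, Submodule.smul_le]
  intro r hr x hx
  rw [LinearMap.mem_ker, map_smul]
  refine Submodule.span_induction (p := fun x _ => r • f x = 0) ?_ ?_ ?_ ?_ hx
  · intro x hx
    exact hk x r (Ideal.pow_le_pow_right (Finset.le_sup hx) hr)
  · rw [map_zero, smul_zero]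
  · intro x y _ _ hx hy
    rw [map_add, smul_add, hx, hy, add_zero]
  · intro a x _ hx
    rw [map_smul, smul_comm, hx, smul_zero]

include ι in
/-- Vanishing. -/
lemma subsingleton_of_ext (G : ModuleCat.{u} R) [Module.Finite R G] (p : ℕ)
    (H : ∀ n : ℕ, Subsingleton (Abelian.Ext (ModuleCat.of R (G ⧸ (I ^ n • ⊤ : Submodule R G)))
      (ModuleCat.of R R) p)) :
    Subsingleton ((DerivedCategory.singleFunctor (ModuleCat.{u} R) 0).obj G ⟶
      (Q.obj (gamCx I E))⟦(p : ℤ)⟧) := by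
  rw [subsingleton_iff G (gamCx I E) 0 p p (by simp)]
  intro φ hφ
  have hφ' : ∀ x, (φ ≫ (gamι I E).f p).hom x ∈ gam I (E.X p) := fun x => (φ.hom x).2
  obtain ⟨n, hn⟩ := exists_pow_smul_le_ker I (φ ≫ (gamι I E).f p).hom hφ'
  let N : ModuleCat.{u} R := ModuleCat.of R (G ⧸ (I ^ n • ⊤ : Submodule R G))
  let π : G ⟶ N := ModuleCat.ofHom (Submodule.mkQ _)
  let φ' : N ⟶ E.X p := ModuleCat.ofHom (Submodule.liftQ _ (φ ≫ (gamι I E).f p).hom hn)
  have hπ : π ≫ φ' = φ ≫ (gamι I E).f p := by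
    ext x
    rfl
  have : Epi π := (ModuleCat.epi_iff_surjective _).2 (Submodule.mkQ_surjective _)
  have hφ'' : φ' ≫ E.d p (p + 1) = 0 := by
    rw [← cancel_epi π, ← Category.assoc, hπ, Category.assoc, (gamι I E).comm, ← Category.assoc, hφ,
      zero_comp, comp_zero]
  have := H n
  obtain ⟨ψ, hψ⟩ := exists_coboundary E ι N p φ' hφ''
  have hN : ∀ x : N, x ∈ gam I N := by
    intro x
    obtain ⟨y, rfl⟩ := Submodule.mkQ_surjective _ x
    refine ⟨n, fun a ha => ?_⟩
    rw [← map_smul, Submodule.mkQ_apply, Submodule.Quotient.mk_eq_zero]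
    exact Submodule.smul_mem_smul ha trivial
  obtain ⟨ψ', hψ'⟩ := exists_lift (I := I) ψ (fun x => map_mem_gam ψ.hom (hN x))
  refine ⟨π ≫ ψ', ?_⟩
  rw [← cancel_mono ((gamι I E).f p), Category.assoc, Category.assoc, ← (gamι I E).comm,
    ← Category.assoc ψ', hψ', hψ, hπ]

include ι in
/-- The finiteness statement. -/
theorem finite_hom_gam (G : ModuleCat.{u} R) [Module.Finite R G] (p : ℕ)
    (H : ∀ n : ℕ, Subsingleton (Abelian.Ext (ModuleCat.of R
      ((G ⧸ gam I G) ⧸ (I ^ n • ⊤ : Submodule R (G ⧸ gam I G)))) (ModuleCat.of R R) p))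
    (q i : ℤ) (h : q + i = p) :
    Module.Finite R ((DerivedCategory.singleFunctor (ModuleCat.{u} R) q).obj G ⟶
      (Q.obj (gamCx I E))⟦i⟧) := by
  suffices h0 : Module.Finite R ((DerivedCategory.singleFunctor (ModuleCat.{u} R) 0).obj G ⟶
      (Q.obj (gamCx I E))⟦(p : ℤ)⟧) from
    SingleHom.finite_of_finite R G (gamCx I E) 0 p q i (by lia)
  let S : ShortComplex (ModuleCat.{u} R) := ShortComplex.mk (ModuleCat.ofHom (gam I G).subtype)
    (ModuleCat.ofHom (gam I G).mkQ) (by ext x; simp)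
  have hS : S.ShortExact := {
    exact := by
      rw [ShortComplex.moduleCat_exact_iff]
      intro x hx
      exact ⟨⟨x, (Submodule.Quotient.mk_eq_zero _).1 hx⟩, rfl⟩
    mono_f := (ModuleCat.mono_iff_injective _).2 Subtype.val_injective
    epi_g := (ModuleCat.epi_iff_surjective _).2 (Submodule.mkQ_surjective _) }
  have f1 : Module.Finite R (hS.singleTriangle.obj₁ ⟶ (Q.obj (gamCx I E))⟦(p : ℤ)⟧) :=
    finite_of_torsion I E ι (ModuleCat.of R (gam I G)) (fun x => by
      obtain ⟨n, hn⟩ := x.2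
      exact ⟨n, fun a ha => Subtype.ext (hn a ha)⟩) p
  have f3 : Module.Finite R (hS.singleTriangle.obj₃ ⟶ (Q.obj (gamCx I E))⟦(p : ℤ)⟧) := by
    have : Subsingleton (hS.singleTriangle.obj₃ ⟶ (Q.obj (gamCx I E))⟦(p : ℤ)⟧) :=
      subsingleton_of_ext I E ι (ModuleCat.of R (G ⧸ gam I G)) p H
    infer_instance
  exact DDevissage.finite_hom_of_distTriang R hS.singleTriangle hS.singleTriangle_distinguished _

end

end Groth.Agent.Sga2.GamHom
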