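import Mathlib.Algebra.Category.ModuleCat.Injective
import Mathlib.Algebra.Category.ModuleCat.Abelian
import Mathlib.Algebra.Homology.HomotopyCategory.HomComplex
import Mathlib.RingTheory.Flat.Basic
import Mathlib.LinearAlgebra.TensorProduct.Basic

/-!
# Hom complexes into injective modules are termwise injective
-/

set_option autoImplicit false

universe u

open CategoryTheory CochainComplex CochainComplex.HomComplex
open scoped TensorProduct

namespace Groth.Agent.Sga2.HomCxInj

variable {R : Type u} [CommRing R]

/-- `Hom_R(P, E)` is injective if `P` is flat and `E` is injective. -/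
theorem injective_hom_of_flat (P E : Type u) [AddCommGroup P] [Module R P] [AddCommGroup E] [Module R E]
    [Module.Flat R P] [Module.Injective R E] : Module.Injective R (P →ₗ[R] E) where
  out X Y _ _ _ _ f hf g := by
    have hf' : Function.Injective (f.rTensor P) := Module.Flat.rTensor_preserves_injective_linearMap f hf
    obtain ⟨h, hh⟩ := Module.Injective.extension_property R E (X ⊗[R] P) (Y ⊗[R] P) (f.rTensor P) hf'
      (TensorProduct.lift g)
    refine ⟨TensorProduct.curry h, fun x => ?_⟩
    ext p
    have := LinearMap.congr_fun hh (x ⊗ₜ p)
    simpa using this

lemma injective_of_injective_obj (M : ModuleCat.{u} R) [h : Injective M] : Module.Injective R M :=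
  Module.injective_module_of_injective_object R M (inj := h)

/-- Cochains from a termwise flat complex to a termwise injective complex form an injective module. -/
theorem injective_cochain (C E : CochainComplex (ModuleCat.{u} R) ℤ) (n : ℤ)
    [∀ q, Module.Flat R (C.X q)] [∀ q, Injective (E.X q)] : Module.Injective R (Cochain C E n) := by
  have (T : Triplet n) : Module.Injective R (C.X T.p ⟶ E.X T.q) := by
    have := injective_of_injective_obj (E.X T.q)
    have := injective_hom_of_flat (R := R) (C.X T.p) (E.X T.q)
    exact (Module.Baer.of_equiv (ModuleCat.homLinearEquiv (S := R)).symm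
      (Module.Baer.of_injective this)).injective
  exact Module.Injective.pi R (fun T : Triplet n => (C.X T.p ⟶ E.X T.q))

end Groth.Agent.Sga2.HomCxInj
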