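import Groth.Agent.Sga2.LCChain
import Groth.Agent.Sga2.HomCxInj
import Groth.Agent.Sga2.GamHom
import Mathlib.Data.Int.Interval

/-!
# The hom complex `Hom(C, E)` and its `I`-power torsion

`C` is a bounded complex of finite projective modules and `E` is a bounded below complex of injectives.
-/

set_option autoImplicit false

universe u w

open CategoryTheory CategoryTheory.Limits CochainComplex CochainComplex.HomComplex DerivedCategory
open Groth.Agent.Localalg.Gam Groth.Agent.Sga2.GamCx Groth.Agent.Sga2.GamHom Groth.Agent.Sga2.LCChain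

attribute [local instance] HasDerivedCategory.standard

namespace Groth.Agent.Sga2.HomCx

variable {R : Type u} [CommRing R] (I : Ideal R)

/-- The hom complex, as a complex of modules. -/
noncomputable def homCx (C E : CochainComplex (ModuleCat.{u} R) ℤ) : CochainComplex (ModuleCat.{u} R) ℤ where
  X n := ModuleCat.of R (Cochain C E n)
  d n m := ModuleCat.ofHom (δ_hom R C E n m)
  shape n m h := by
    ext z : 2
    exact δ_shape n m h z
  d_comp_d' n m k _ _ := by
    ext z : 2
    exact δ_δ n m k z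

variable (C E : CochainComplex (ModuleCat.{u} R) ℤ)

lemma homCx_d (n m : ℤ) (z : Cochain C E n) : ((homCx C E).d n m).hom z = δ n m z := rfl

instance [∀ q, Module.Flat R (C.X q)] [∀ q, Injective (E.X q)] (n : ℤ) : Injective ((homCx C E).X n) := by
  have := HomCxInj.injective_cochain C E n
  exact Module.injective_object_of_injective_module R (Cochain C E n)

lemma isZero_homCx (a b : ℤ) [C.IsStrictlyLE b] [E.IsStrictlyGE a] (n : ℤ) (hn : n + b < a) :
    IsZero ((homCx C E).X n) := by
  have : Subsingleton (Cochain C E n) := by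
    refine ⟨fun z z' => ?_⟩
    ext p q hpq : 1
    by_cases hp : p ≤ b
    · exact (E.isZero_of_isStrictlyGE a q (by lia)).eq_of_tgt _ _
    · exact (C.isZero_of_isStrictlyLE b p (by lia)).eq_of_src _ _
  exact @ModuleCat.isZero_of_subsingleton _ _ (ModuleCat.of R (Cochain C E n)) this

lemma mem_Z_homCx {n : ℤ} (z : Cochain C E n) :
    (show (homCx C E).X n from z) ∈ Z (homCx C E) n ↔ δ n (n + 1) z = 0 := Iff.rfl

/-- The inclusion of cochains with values in `Γ_I(E)`. -/
noncomputable def inc (n : ℤ) : Cochain C (gamCx I E) n →ₗ[R] Cochain C E n where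
  toFun z := z.comp (Cochain.ofHom (gamι I E)) (add_zero n)
  map_add' _ _ := Cochain.add_comp _ _ _ _
  map_smul' _ _ := Cochain.smul_comp _ _ _ _

lemma inc_v (n : ℤ) (z : Cochain C (gamCx I E) n) (p q : ℤ) (hpq : p + n = q) :
    (inc I C E n z).v p q hpq = z.v p q hpq ≫ (gamι I E).f q := by
  simp [inc]

lemma inc_injective (n : ℤ) : Function.Injective (inc I C E n) := by
  intro z z' h
  ext p q hpq : 1
  have := Cochain.congr_v h p q hpq
  rw [inc_v, inc_v] at this
  exact (cancel_mono _).1 this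

lemma δ_inc (n m : ℤ) (z : Cochain C (gamCx I E) n) : δ n m (inc I C E n z) = inc I C E m (δ n m z) :=
  δ_comp_ofHom _ _ _

/-- A cochain killed by a power of `I` comes from a cochain with values in `Γ_I(E)`. -/
lemma exists_inc (n : ℤ) (z : Cochain C E n) (hz : z ∈ gam I (Cochain C E n)) :
    ∃ w, inc I C E n w = z := by
  refine ⟨Cochain.mk (fun p q hpq => ModuleCat.ofHom
    (LinearMap.codRestrict (gam I (E.X q)) (z.v p q hpq).hom (by
      obtain ⟨k, hk⟩ := hz
      intro x
      refine ⟨k, fun a ha => ?_⟩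
      have h2 : (a • z).v p q hpq = 0 := by rw [hk a ha]; rfl
      exact congrArg (fun f : C.X p ⟶ E.X q => f.hom x) h2))), ?_⟩
  ext p q hpq : 1
  rw [inc_v]
  rfl

/-- Conversely, cochains with values in `Γ_I(E)` are `I`-power torsion. -/
lemma inc_mem_gam (n : ℤ) (a b : ℤ) [C.IsStrictlyLE b] [C.IsStrictlyGE a] [∀ q, Module.Finite R (C.X q)]
    (w : Cochain C (gamCx I E) n) : inc I C E n w ∈ gam I (Cochain C E n) := by
  have h1 : ∀ p : ℤ, ∃ k : ℕ, ∀ a ∈ I ^ k, a • (inc I C E n w).v p (p + n) rfl = 0 := by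
    intro p
    obtain ⟨k, hk⟩ := exists_pow_smul_le_ker I ((inc I C E n w).v p (p + n) rfl).hom (by
      intro x
      rw [inc_v]
      exact ((w.v p (p + n) rfl).hom x).2)
    refine ⟨k, fun a ha => ?_⟩
    ext x
    have h2 : a • x ∈ LinearMap.ker ((inc I C E n w).v p (p + n) rfl).hom :=
      hk (Submodule.smul_mem_smul ha trivial)
    rw [LinearMap.mem_ker, map_smul] at h2
    exact h2
  choose k hk using h1
  refine ⟨(Finset.Icc a b).sup k, fun r hr => ?_⟩
  ext p q hpq : 1
  obtain rfl := hpq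
  by_cases hp : p ≤ b
  · by_cases hp' : a ≤ p
    · exact hk p r (Ideal.pow_le_pow_right (Finset.le_sup (Finset.mem_Icc.2 ⟨hp', hp⟩)) hr)
    · exact (C.isZero_of_isStrictlyGE a p (by lia)).eq_of_src _ _
  · exact (C.isZero_of_isStrictlyLE b p (by lia)).eq_of_src _ _

/-- The underlying cochain of `μ`. -/
noncomputable def μ₀ (n : ℤ) (z : gam I (Z (homCx C E) n)) : Cochain C (gamCx I E) n :=
  (exists_inc I C E n z.1.1 (map_mem_gam (Z (homCx C E) n).subtype z.2)).choose

lemma inc_μ₀ (n : ℤ) (z : gam I (Z (homCx C E) n)) : inc I C E n (μ₀ I C E n z) = z.1.1 :=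
  (exists_inc I C E n z.1.1 (map_mem_gam (Z (homCx C E) n).subtype z.2)).choose_spec

/-- `Γ_I` of the cycles, as cocycles with values in `Γ_I(E)`. -/
noncomputable def μ (n : ℤ) : gam I (Z (homCx C E) n) →ₗ[R] Cocycle C (gamCx I E) n where
  toFun z := Cocycle.mk (μ₀ I C E n z) (n + 1) rfl (by
      apply inc_injective
      rw [← δ_inc, inc_μ₀, map_zero]
      exact z.1.2)
  map_add' z z' := by
    ext : 1
    apply inc_injective I
    rw [Cocycle.coe_add, map_add]
    simp only [Cocycle.mk_coe]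
    rw [inc_μ₀, inc_μ₀, inc_μ₀]
    rfl
  map_smul' r z := by
    ext : 1
    apply inc_injective I
    rw [Cocycle.coe_smul, map_smul]
    simp only [Cocycle.mk_coe]
    rw [inc_μ₀]
    erw [inc_μ₀]
    rfl

lemma inc_μ (n : ℤ) (z : gam I (Z (homCx C E) n)) : inc I C E n (μ I C E n z).1 = z.1.1 :=
  inc_μ₀ I C E n z

/-- The finiteness needed in `LCChain.finite_of_complex`. -/
theorem finite_gam_quot [IsNoetherianRing R] (a b : ℤ) [C.IsStrictlyLE b] [C.IsStrictlyGE a]
    [∀ q, Module.Finite R (C.X q)] [∀ p, Injective (E.X p)] [E.IsStrictlyGE 0]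
    {m n : ℤ} (hmn : m + 1 = n) [Module.Finite R (Q.obj C ⟶ (Q.obj (gamCx I E))⟦n⟧)] :
    Module.Finite R (gam I (Z (homCx C E) n) ⧸
      LinearMap.range (gamMap I (toZ (homCx C E) hmn))) := by
  let f : gam I (Z (homCx C E) n) →ₗ[R] (Q.obj C ⟶ (Q.obj (gamCx I E))⟦n⟧) :=
    DHomLin.toD R C (gamCx I E) n ∘ₗ μ I C E n
  have hf : LinearMap.ker f ≤ LinearMap.range (gamMap I (toZ (homCx C E) hmn)) := by
    intro z hz
    have h1 := (DHomLin.toD_eq_zero_iff_of_isKInjective R (μ I C E n z)).1 hz
    obtain ⟨β, hβ⟩ := (mem_coboundaries_iff _ m hmn).1 h1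
    refine ⟨⟨inc I C E m β, inc_mem_gam I C E m a b β⟩, ?_⟩
    apply Subtype.ext
    apply Subtype.ext
    refine Eq.trans ?_ (inc_μ I C E n z)
    rw [← hβ]
    exact δ_inc I C E m n β
  have h2 : Module.Finite R (gam I (Z (homCx C E) n) ⧸ LinearMap.ker f) :=
    Module.Finite.equiv (LinearMap.quotKerEquivRange f).symm
  exact Module.Finite.of_surjective (Submodule.factor hf) (Submodule.factor_surjective hf)

end Groth.Agent.Sga2.HomCx
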