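import Groth.Agent.Sga2.DualCx
import Groth.Agent.Sga2.HomCx
import Groth.Agent.Sga2.FinRes
import Mathlib.CategoryTheory.Abelian.Injective.Extend
import Mathlib.CategoryTheory.Abelian.Projective.Extend
import Mathlib.CategoryTheory.Abelian.Injective.Resolution

/-!
# Finiteness of local cohomology from vanishing of `Ext`
-/

set_option autoImplicit false

universe u w w'

open CategoryTheory CategoryTheory.Limits CochainComplex CochainComplex.HomComplex DerivedCategory
open Groth.Agent.Sga2.LCChain Groth.Agent.Sga2.ToSingle Groth.Agent.Sga2.DualCx Groth.Agent.Sga2.HomCx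
open Groth.Agent.Localalg.Gam Groth.Agent.Localalg.LCAbs Groth.Agent.Sga2.GamCx

attribute [local instance] HasDerivedCategory.standard

namespace Groth.Agent.Sga2.DualHom

variable {R : Type u} [CommRing R]

/-- Two quotients of a module by the same submodule are isomorphic. -/
lemma nonempty_equiv_of_ker_eq {A : Type*} {B : Type*} {D : Type*} [AddCommGroup A] [AddCommGroup B] [AddCommGroup D]
    [Module R A] [Module R B] [Module R D] (f : A →ₗ[R] B) (g : A →ₗ[R] D) (hf : Function.Surjective f)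
    (hg : Function.Surjective g) (h : ∀ x, f x = 0 ↔ g x = 0) : Nonempty (B ≃ₗ[R] D) := by
  have e : LinearMap.ker f = LinearMap.ker g := by
    ext x
    exact h x
  exact ⟨((f.quotKerEquivOfSurjective hf).symm.trans (Submodule.quotEquivOfEq _ _ e)).trans
    (g.quotKerEquivOfSurjective hg)⟩

/-- The homology of a complex of modules. -/
lemma exists_homologyMap (K : CochainComplex (ModuleCat.{u} R) ℤ) (p q : ℤ) (hpq : p + 1 = q) :
    ∃ f : Z K q →ₗ[R] ((DerivedCategory.homologyFunctor (ModuleCat.{u} R) q).obj (Q.obj K)),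
      Function.Surjective f ∧ ∀ x, f x = 0 ↔ ∃ y : K.X p, (K.d p q).hom y = x.1 := by
  let S := K.sc' p q (q + 1)
  let e : S.moduleCatLeftHomologyData.H ≅
      (DerivedCategory.homologyFunctor (ModuleCat.{u} R) q).obj (Q.obj K) :=
    S.moduleCatHomologyIso.symm ≪≫ (ShortComplex.homologyMapIso
      (K.isoSc' p q (q + 1) (by simp; lia) (by simp))).symm ≪≫
      ((homologyFunctorFactors (ModuleCat.{u} R) q).app K).symm
  let g : Z K q →ₗ[R] (Z K q ⧸ LinearMap.range S.moduleCatToCycles) := Submodule.mkQ _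
  refine ⟨e.toLinearEquiv.toLinearMap ∘ₗ g,
    e.toLinearEquiv.surjective.comp (Submodule.mkQ_surjective _), fun x => ?_⟩
  have : (e.toLinearEquiv.toLinearMap ∘ₗ g) x = 0 ↔ g x = 0 := by
    rw [LinearMap.comp_apply]
    exact e.toLinearEquiv.map_eq_zero_iff
  rw [this]
  have h2 : g x = 0 ↔ x ∈ LinearMap.range S.moduleCatToCycles := Submodule.Quotient.mk_eq_zero _
  refine h2.trans ?_
  constructor
  · rintro ⟨y, hy⟩
    exact ⟨y, congrArg Subtype.val hy⟩
  · rintro ⟨y, hy⟩
    exact ⟨y, Subtype.ext hy⟩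

/-- Cycles of the dual complex, as maps killing boundaries. -/
noncomputable def zDual (P : CochainComplex (ModuleCat.{u} R) ℤ) (q : ℤ) :
    Z (dualCx P) q →ₗ[R] zTo R P (ModuleCat.of R R) (-q) where
  toFun φ := ⟨ModuleCat.ofHom (show P.X (-q) →ₗ[R] R from φ.1), by
    rw [mem_zTo]
    have h := (mem_Z (dualCx P) (n := q) (m := q + 1) rfl).1 φ.2
    ext x
    have h' : -(q + 1) = -q - 1 := by lia
    revert x
    rw [← h']
    intro x
    exact congrArg (fun f : P.X (-(q + 1)) →ₗ[R] R => f x) h⟩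
  map_add' _ _ := rfl
  map_smul' _ _ := rfl

lemma zDual_surjective (P : CochainComplex (ModuleCat.{u} R) ℤ) (q : ℤ) :
    Function.Surjective (zDual P q) := by
  rintro ⟨f, hf⟩
  refine ⟨⟨(show P.X (-q) →ₗ[R] R from f.hom), ?_⟩, rfl⟩
  rw [mem_Z (dualCx P) (n := q) (m := q + 1) rfl]
  rw [mem_zTo] at hf
  have h' : -(q + 1) = -q - 1 := by lia
  rw [← h'] at hf
  refine LinearMap.ext fun x => ?_
  exact congrArg (fun f : P.X (-(q + 1)) ⟶ ModuleCat.of R R => f.hom x) hf

/-- `H^q(Hom(P, R)) = Ext^q(M, R)`. -/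
lemma nonempty_homology_equiv [HasExt.{w'} (ModuleCat.{u} R)] {M : ModuleCat.{u} R}
    (P : ProjectiveResolution M) (q : ℕ) :
    Nonempty (((DerivedCategory.homologyFunctor (ModuleCat.{u} R) q).obj
      (Q.obj (dualCx P.cochainComplex)) : ModuleCat.{u} R) ≃ₗ[R] Abelian.Ext M (ModuleCat.of R R) q) := by
  obtain ⟨g, hg, hg'⟩ := exists_homologyMap (dualCx P.cochainComplex) (q - 1) q (by lia)
  obtain ⟨h, hh, hh'⟩ := exists_extMap R P (ModuleCat.of R R) q (-q) (by lia)
  refine nonempty_equiv_of_ker_eq g (h ∘ₗ zDual P.cochainComplex q) hg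
    (hh.comp (zDual_surjective P.cochainComplex q)) fun x => ?_
  rw [hg' x, LinearMap.comp_apply, hh']
  have h' : -((q : ℤ) - 1) = -q + 1 := by lia
  rw [← h']
  constructor
  · rintro ⟨y, hy⟩
    refine ⟨ModuleCat.ofHom (show P.cochainComplex.X (-((q : ℤ) - 1)) →ₗ[R] R from y), ?_⟩
    ext z
    exact congrArg (fun f : P.cochainComplex.X (-(q : ℤ)) →ₗ[R] R => f z) hy
  · rintro ⟨ψ, hψ⟩
    refine ⟨(show P.cochainComplex.X (-((q : ℤ) - 1)) →ₗ[R] R from ψ.hom), ?_⟩
    refine LinearMap.ext fun z => ?_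
    exact congrArg (fun f : P.cochainComplex.X (-(q : ℤ)) ⟶ ModuleCat.of R R => f.hom z) hψ

/-- The presentation of `M` given by a projective resolution. -/
lemma exists_augmentation {M : ModuleCat.{u} R} (P : ProjectiveResolution M) (p : ℤ) (hp : p = 0) :
    ∃ f : Z P.cochainComplex (-p) →ₗ[R] M, Function.Surjective f ∧
      ∀ x, f x = 0 ↔ ∃ y : P.cochainComplex.X (-(p + 1)), (P.cochainComplex.d (-(p + 1)) (-p)).hom y = x.1 := by
  let e₀ := P.cochainComplexXIso (-p) 0 (by simp [hp])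
  let e₁ := P.cochainComplexXIso (-(p + 1)) 1 (by simp [hp])
  let π₀ : P.cochainComplex.X (-p) ⟶ M := e₀.hom ≫ P.π.f 0
  have hd : P.cochainComplex.d (-(p + 1)) (-p) = e₁.hom ≫ P.complex.d 1 0 ≫ e₀.inv :=
    P.cochainComplex_d _ _ 1 0 (by simp [hp]) (by simp [hp])
  have hex : (ShortComplex.mk (P.complex.d 1 0) (P.π.f 0) P.complex_d_comp_π_f_zero).Exact :=
    ShortComplex.exact_of_g_is_cokernel _ P.isColimitCokernelCofork
  rw [ShortComplex.moduleCat_exact_iff] at hex
  refine ⟨π₀.hom ∘ₗ (Z P.cochainComplex (-p)).subtype, ?_, fun x => ?_⟩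
  · intro m
    have : Epi π₀ := by
      exact @epi_comp _ _ _ _ _ e₀.hom inferInstance (P.π.f 0)
        (epi_of_isColimit_cofork P.isColimitCokernelCofork)
    obtain ⟨x, hx⟩ := (ModuleCat.epi_iff_surjective π₀).1 this m
    refine ⟨⟨x, ?_⟩, hx⟩
    rw [mem_Z P.cochainComplex (n := -p) (m := -p + 1) rfl]
    have := P.cochainComplex.isZero_of_isStrictlyLE 0 (-p + 1) (by lia)
    rw [this.eq_of_tgt (P.cochainComplex.d (-p) (-p + 1)) 0]
    rfl
  · constructor
    · intro hx
      obtain ⟨y, hy⟩ := hex (e₀.hom.hom x.1) hx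
      refine ⟨e₁.inv.hom y, ?_⟩
      rw [hd]
      change e₀.inv.hom ((P.complex.d 1 0).hom (e₁.hom.hom (e₁.inv.hom y))) = x.1
      rw [← ModuleCat.comp_apply e₁.inv e₁.hom, e₁.inv_hom_id, ModuleCat.id_apply]
      change e₀.inv.hom ((P.complex.d 1 0).hom y) = x.1
      erw [hy]
      change (e₀.hom ≫ e₀.inv).hom x.1 = x.1
      rw [e₀.hom_inv_id]
      rfl
    · rintro ⟨y, hy⟩
      change (e₀.hom ≫ P.π.f 0).hom x.1 = 0
      rw [← hy, hd]
      change (((e₁.hom ≫ P.complex.d 1 0 ≫ e₀.inv) ≫ e₀.hom) ≫ P.π.f 0).hom y = 0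
      have : ((e₁.hom ≫ P.complex.d 1 0 ≫ e₀.inv) ≫ e₀.hom) ≫ P.π.f 0 = 0 := by
        simp only [Category.assoc, e₀.inv_hom_id_assoc]
        rw [P.complex_d_comp_π_f_zero, comp_zero]
      rw [this]
      rfl

end Groth.Agent.Sga2.DualHom
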