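import Groth.Agent.Sga2.EszSec
import Groth.Agent.Sga2.StalkTw

/-!
# `exists_family`: linear systems of degree `b * d` in general position, in the form used by the ESZ induction

Author: helper868
-/

set_option autoImplicit false
universe u

open CategoryTheory CategoryTheory.Limits AlgebraicGeometry TopologicalSpace Opposite

namespace Groth.Agent.Sga2.EszFam

open Groth.Agent.Fdesc.LocGen Groth.Agent EszSec

theorem exists_family (k : Type u) [Field k] {X : Scheme.{u}} [X.Over (Spec (CommRingCat.of k))]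
    [CompactSpace X] [X.IsSeparated] {L P : X.Modules} (hL : ClSub.IsInverseOf L P)
    (hamp : CohB1.IsAmple L) (Z : Set X) (hZ : Z.Finite) (hZc : ∀ z ∈ Z, ¬ IsClosed ({z} : Set X)) :
    ∃ b : ℕ, 0 < b ∧ ∀ d : ℕ, ∃ w : Fin (d + 1) → NegSec.Sec P (b * d), ∀ c : Fin (d + 1) → k, c ≠ 0 →
      ∀ z ∈ Z, StalkTw.NV (EszStep.comb w (fun i => Coh.toGlobal (X ↘ Spec (CommRingCat.of k)) (c i))) z := by
  classical
  obtain ⟨θ⟩ := hL
  let φ : k →+* Γ(X, ⊤) := Coh.toGlobal (X ↘ Spec (CommRingCat.of k))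
  obtain ⟨a, s, g, G, f, hG, -, hZG, hgf, hpoly⟩ := AmpleSec.exists_sections φ hamp Z hZ hZc
  refine ⟨a + 1, Nat.succ_pos _, fun d => ⟨fun i => monom (ofSec θ s) (ofSec θ g) d i.1 (by omega),
    fun c hc z hz V hzV p hp => ?_⟩⟩
  let h : Polynomial k := ∑ i : Fin (d + 1), Polynomial.monomial i.1 (c i)
  have hcoeff : ∀ i : ℕ, h.coeff i = if hi : i < d + 1 then c ⟨i, hi⟩ else 0 := by
    intro i
    simp only [h, Polynomial.finsetSum_coeff, Polynomial.coeff_monomial]
    split_ifs with hi
    · rw [Finset.sum_eq_single (⟨i, hi⟩ : Fin (d + 1))]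
      · simp
      · intro j _ hj
        rw [if_neg]
        intro h2
        exact hj (Fin.ext h2)
      · simp
    · apply Finset.sum_eq_zero
      intro j _
      rw [if_neg]
      have := j.2
      omega
  have hne : h ≠ 0 := by
    intro h0
    apply hc
    funext i
    have h1 := hcoeff i.1
    rw [h0, Polynomial.coeff_zero, dif_pos i.2] at h1
    exact h1.symm
  have hdeg : h.natDegree ≤ d := by
    apply Polynomial.natDegree_le_iff_coeff_eq_zero.2
    intro i hi
    rw [hcoeff, dif_neg (by omega)]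
  have key := AmpleSec.mem_basicOpen_homogenize φ hG hgf (hZG hz) (hpoly z hz h hne) hdeg hzV
    ((isGen_dual θ (p := p) hp).pow (a + 1)) (coef_spec θ s (p := p) hp) (coef_spec θ g (p := p) hp)
  convert key using 2
  change ∑ i : Fin (d + 1), ores le_top (φ (c i)) * (coef θ g p hp ^ i.1 * coef θ s p hp ^ (d - i.1)) = _
  rw [← Fin.sum_univ_eq_sum_range
    (fun i => ores le_top (φ (h.coeff i)) * coef θ g p hp ^ i * coef θ s p hp ^ (d - i)) (d + 1)]
  refine Finset.sum_congr rfl fun i _ => ?_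
  rw [hcoeff, dif_pos i.2, mul_assoc]

end Groth.Agent.Sga2.EszFam
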