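import Groth.Prelude.Def_Lef
import Groth.Prelude.Def_Wider

/-!
Stub (to be replaced by helper863's ESZ): Enriques-Severi-Zariski for the structure sheaf.
-/

set_option autoImplicit false
universe u

open CategoryTheory CategoryTheory.Limits AlgebraicGeometry

namespace Groth.Agent.Sga2.EszStub389

theorem esz_structure (k : Type u) [Field k] (X : Scheme.{u}) [X.Over (Spec (CommRingCat.of k))]
    [IsProper (X ↘ (Spec (CommRingCat.of k)))] (L P : X.Modules)
    (hL : ClSub.IsInverseOf L P) (hamp : CohB1.IsAmple L) (n : ℕ)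
    (hdepth : ∀ x : X, IsClosed ({x} : Set X) → (n : ℕ∞) < LocCoh.depth (X.presheaf.stalk x) (X.presheaf.stalk x)) :
    ∃ m₀ : ℕ, ∀ m : ℕ, m₀ ≤ m → ∀ i ≤ n, Subsingleton (Coh.HH X
      (CohB1.tensorMod (Coh.structureModule X) (CohB1.tensorPow P m)) i) := by
  sorry

end Groth.Agent.Sga2.EszStub389
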