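import Groth.Agent.Sga2.ThickKer
import Groth.Agent.Sga2.TwIt

/-!
# Exact sequences for modules which are locally `O/D^c` (formal line bundles along an effective Cartier divisor)

* `QGen J e`: the section `e` of `M` generates `M` on affine opens and has annihilator `J`; `LocQGen J M`.
* `exists_shortExact`: `c = a + b`, `φ : M ⟶ M'`, `ψ : M ⟶ M₀` epimorphisms, `M`, `M'`, `M₀` locally `O/D^c`, `O/D^a`,
  `O/D^b`: there is an exact sequence `0 → M' ⊗ (idealMod D)^{⊗ b} → M → M₀ → 0`.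

Author: helper870
-/

set_option autoImplicit false
universe u

open CategoryTheory CategoryTheory.Limits AlgebraicGeometry TopologicalSpace Opposite

namespace Groth.Agent.Sga2.FBunSeq

open Groth.Agent.Fdesc.LocGen Groth.Agent.Sga2.HomGens Groth.Agent.Sga2.ThickKer
  Groth.Agent.Dix.IdealModCartier Groth.Agent

variable {X : Scheme.{u}}

/-- `e` generates `M` over the affine opens inside `U`, and its annihilator is `J`. -/
structure QGen (J : X.IdealSheafData) {M : X.Modules} {U : X.Opens} (e : Γ(M, U)) : Prop where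
  gen : Gen e
  ann : ∀ (V : X.affineOpens) (h : V.1 ≤ U) (a : Γ(X, V.1)), a • res M h e = 0 ↔ a ∈ J.ideal V

theorem QGen.res {J : X.IdealSheafData} {M : X.Modules} {U V : X.Opens} {e : Γ(M, U)} (he : QGen J e)
    (h : V ≤ U) : QGen J (Fdesc.LocGen.res M h e) where
  gen := he.gen.res h
  ann W hW a := by rw [res_res]; exact he.ann W (hW.trans h) a

/-- `M` is locally isomorphic to `O/J`. -/
def LocQGen (J : X.IdealSheafData) (M : X.Modules) : Prop :=
  ∀ x : X, ∃ U : X.Opens, x ∈ U ∧ ∃ e : Γ(M, U), QGen J e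

/-- The image of a generator under an epimorphism onto a module which is locally `O/J'` is locally a generator with
annihilator `J'`. -/
theorem exists_qgen_app {M M' : X.Modules} (φ : M ⟶ M') [Epi φ] {J' : X.IdealSheafData} {U : X.Opens}
    {e : Γ(M, U)} (he : Gen e) (hM' : LocQGen J' M') {x : X} (hx : x ∈ U) :
    ∃ (W : X.Opens) (hW : W ≤ U), x ∈ W ∧ QGen J' (res M' hW (φ.app U e)) := by
  obtain ⟨U', hx', e', he'⟩ := hM' x
  obtain ⟨V, hV, w, hxV, hw⟩ := Groth.Agent.Dcoh.Restrict.exists_local_preimage φ (U ⊓ U')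
    (res M' inf_le_right e') x ⟨hx, hx'⟩
  obtain ⟨W, hxW, hWV⟩ := HomGens.exists_affine_mem_le hxV
  have hWU : W.1 ≤ U := hWV.trans (hV.trans inf_le_left)
  have hWU' : W.1 ≤ U' := hWV.trans (hV.trans inf_le_right)
  have hw' : φ.app W.1 (res M hWV w) = res M' hWU' e' := by
    rw [app_res, hw]
    exact (res_res M' hV hWV _).trans (res_res M' _ _ _)
  obtain ⟨c, hc⟩ := he W hWU (res M hWV w)
  rw [hc, Scheme.Modules.Hom.app_smul, app_res] at hw'
  obtain ⟨b, hb⟩ := he'.gen W hWU' (res M' hWU (φ.app U e))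
  -- `c • φ e = e'`, `φ e = b • e'`
  refine ⟨W.1, hWU, hxW, ?_, ?_⟩
  · intro V hVW s
    obtain ⟨a, ha⟩ := he'.gen V (hVW.trans hWU') s
    refine ⟨a * ores hVW c, ?_⟩
    rw [mul_smul, ← res_smul, hw', res_res]
    exact ha
  · intro V hVW a
    constructor
    · intro h
      rw [hb, res_smul, res_res, ← mul_smul, he'.ann] at h
      have h1 := congrArg (res M' hVW) hw'
      rw [hb, ← mul_smul, res_smul, res_res] at h1
      have h2 : (ores hVW (c * b) - 1) ∈ J'.ideal V := by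
        rw [← he'.ann V (hVW.trans hWU'), sub_smul, one_smul, h1, sub_self]
      have h3 : a = ores hVW c * (a * ores hVW b) - a * (ores hVW (c * b) - 1) := by
        rw [map_mul]; ring
      rw [h3]
      exact sub_mem (Ideal.mul_mem_left _ _ h) (Ideal.mul_mem_left _ _ h2)
    · intro h
      rw [hb, res_smul, res_res, ← mul_smul, he'.ann]
      exact Ideal.mul_mem_right _ _ h

/-- Local data for `exists_shortExact`. -/
theorem exists_data {D : X.IdealSheafData} (hD : BlowUp.IsEffCartierIdeal D) {J J' J₀ : X.IdealSheafData}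
    {M M' M₀ : X.Modules} (φ : M ⟶ M') (ψ : M ⟶ M₀) [Epi φ] [Epi ψ]
    (hM : LocQGen J M) (hM' : LocQGen J' M') (hM₀ : LocQGen J₀ M₀) :
    ∃ (U : X → X.Opens) (t : ∀ x, Γ(X, U x)) (p : ∀ x, Γ(ClSub.idealMod D, U x)) (e : ∀ x, Γ(M, U x)),
      (∀ x, x ∈ U x) ∧ (∀ x, GenOn D (t x)) ∧ (∀ x, IsGen (p x)) ∧ (∀ x, val D (p x) = t x) ∧
      (∀ x, QGen J (e x)) ∧ (∀ x, QGen J' (φ.app (U x) (e x))) ∧ (∀ x, QGen J₀ (ψ.app (U x) (e x))) := by
  obtain ⟨U, t, p, hx, ht, hp, hpt⟩ := exists_cover hD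
  have key : ∀ x : X, ∃ (W : X.Opens) (_ : W ≤ U x) (_ : x ∈ W) (e : Γ(M, W)), QGen J e ∧
      QGen J' (φ.app W e) ∧ QGen J₀ (ψ.app W e) := by
    intro x
    obtain ⟨U', hx', e', he'⟩ := hM x
    obtain ⟨V, hV, hxV, h1⟩ := exists_qgen_app φ he'.gen hM' hx'
    obtain ⟨V', hV', hxV', h2⟩ := exists_qgen_app ψ (he'.gen.res hV) hM₀ hxV
    refine ⟨U x ⊓ V', inf_le_left, ⟨hx x, hxV'⟩, res M (inf_le_right.trans (hV'.trans hV)) e', he'.res _, ?_, ?_⟩
    · rw [app_res, ← res_res M' hV (inf_le_right.trans hV')]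
      exact h1.res _
    · rw [app_res]
      have h3 := h2.res (inf_le_right : U x ⊓ V' ≤ V')
      rw [app_res, res_res, res_res] at h3
      exact h3
  choose W hW hxW e he1 he2 he3 using key
  exact ⟨W, fun x => ores (hW x) (t x), fun x => res _ (hW x) (p x), e, hxW, fun x => (ht x).res _,
    fun x => (hp x).res _, fun x => by rw [val_res, hpt], he1, he2, he3⟩

/-- The exact sequence `0 → M' ⊗ (idealMod D)^{⊗ b} → M → M₀ → 0`. -/
theorem exists_shortExact {D : X.IdealSheafData} (hD : BlowUp.IsEffCartierIdeal D) {a b c : ℕ} (hc : c = a + b)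
    {M M' M₀ : X.Modules} (φ : M ⟶ M') (ψ : M ⟶ M₀) [Epi φ] [Epi ψ]
    (hM : LocQGen (D ^ c) M) (hM' : LocQGen (D ^ a) M') (hM₀ : LocQGen (D ^ b) M₀) :
    ∃ (μ : CohB1.tensorMod M' (CohB1.tensorPow (ClSub.idealMod D) b) ⟶ M) (w : μ ≫ ψ = 0),
      (ShortComplex.mk μ ψ w).ShortExact := by
  obtain ⟨U, t, p, e, hx, ht, hp, hpt, he, heφ, heψ⟩ := exists_data hD φ ψ hM hM' hM₀
  have hcov : ⨆ x, U x = ⊤ := by
    rw [eq_top_iff]
    intro x _
    exact Opens.mem_iSup.2 ⟨x, hx x⟩
  have hgen : ∀ x, Gen (tmul (φ.app (U x) (e x)) (pow (p x) b)) :=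
    fun x => gen_tmul (heφ x).gen ((hp x).pow b)
  have hres : ∀ x (V : X.Opens) (hV : V ≤ U x) (r : Γ(X, V)),
      r • res _ hV (tmul (φ.app (U x) (e x)) (pow (p x) b)) = 0 ↔
        r • res M' hV (φ.app (U x) (e x)) = 0 := by
    intro x V hV r
    rw [res_tmul, smul_tmul_eq_zero_iff _ (by rw [res_pow]; exact ((hp x).res hV).pow b)]
  obtain ⟨μ, hμ⟩ := HomGens.exists_hom hcov
    (M := CohB1.tensorMod M' (CohB1.tensorPow (ClSub.idealMod D) b)) (N := M)
    (e := fun x => tmul (φ.app (U x) (e x)) (pow (p x) b)) (n := fun x => t x ^ b • e x) hgen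
    (fun x V hV r h => by
      rw [hres, (heφ x).ann] at h
      rw [res_smul, ← mul_smul, (he x).ann, hc, map_pow, mul_pow_mem_iff (ht x)]
      exact h)
    (fun x y V hi hj => by
      obtain ⟨r, h1, h2⟩ := exists_trans (D := D) (p := p x) (hp y) V.1 hi hj
      rw [hpt, hpt] at h2
      obtain ⟨d, hd⟩ := (he y).gen V hj (res M hi (e x))
      refine ⟨d * r ^ b, ?_, ?_⟩
      · have h3 := congrArg (φ.app V.1) hd
        rw [Scheme.Modules.Hom.app_smul, app_res, app_res] at h3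
        rw [res_tmul, res_tmul, res_pow, res_pow, h1, h3, smul_pow, tmul_smul, smul_tmul, ← mul_smul, mul_comm]
      · rw [res_smul, res_smul, map_pow, map_pow, h2, hd, mul_pow, ← mul_smul, ← mul_smul]
        congr 1
        ring)
  have hμ' : ∀ x (V : X.Opens) (hV : V ≤ U x) (r : Γ(X, V)),
      μ.app V (r • res _ hV (tmul (φ.app (U x) (e x)) (pow (p x) b))) = (r * ores hV (t x) ^ b) • res M hV (e x) := by
    intro x V hV r
    rw [Scheme.Modules.Hom.app_smul, app_res, hμ, res_smul, ← mul_smul, map_pow]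
  have w : μ ≫ ψ = 0 := by
    apply HomGens.hom_ext hcov hgen
    intro x
    change ψ.app (U x) (μ.app (U x) _) = 0
    rw [hμ]
    apply HomGens.eq_of_affine_cover M₀ hcov
    intro y W hW _
    rw [map_zero, Scheme.Modules.Hom.app_smul, res_smul, (heψ x).ann W hW, map_pow,
      mem_ideal_pow_iff (ht x) b W hW]
    exact ⟨1, (one_mul _).symm⟩
  have hinj : ∀ V, Function.Injective (μ.app V) := by
    intro V
    rw [injective_iff_map_eq_zero]
    intro z hz
    apply HomGens.eq_of_affine_cover _ hcov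
    intro x W hW hi
    obtain ⟨r, hr⟩ := hgen x W hi (res _ hW z)
    rw [map_zero, hr, hres, (heφ x).ann]
    have h1 := hμ' x W.1 hi r
    rw [← hr, app_res, hz, map_zero] at h1
    have h2 := ((he x).ann W hi _).1 h1.symm
    rwa [hc, mul_pow_mem_iff (ht x)] at h2
  refine ⟨μ, w, ?_⟩
  exact
    { mono_f := TwIt.mono_of_injective μ hinj
      epi_g := inferInstanceAs (Epi ψ)
      exact := by
        refine Groth.Agent.PerfB.ModExact.exact_of_locally_lifts _ fun V y hy x hxV => ?_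
        obtain ⟨W, hxW, hW⟩ := HomGens.exists_affine_mem_le (U := V ⊓ U x) ⟨hxV, hx x⟩
        have hWV : W.1 ≤ V := hW.trans inf_le_left
        have hWU : W.1 ≤ U x := hW.trans inf_le_right
        obtain ⟨r, hr⟩ := (he x).gen W hWU (res M hWV y)
        have h1 : ψ.app W.1 (res M hWV y) = 0 := by
          rw [app_res]
          exact (congrArg (res M₀ hWV) hy).trans (map_zero _)
        rw [hr, Scheme.Modules.Hom.app_smul, app_res, (heψ x).ann, mem_ideal_pow_iff (ht x) b W hWU] at h1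
        obtain ⟨r', rfl⟩ := h1
        refine ⟨W.1, hWV, hxW, r' • res _ hWU (tmul (φ.app (U x) (e x)) (pow (p x) b)), ?_⟩
        refine (hμ' x W.1 hWU r').trans ?_
        exact hr.symm }

end Groth.Agent.Sga2.FBunSeq
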