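import Groth.Agent.Sga2.FBunNum
import Groth.Agent.Sga2.FBunSeq
import Groth.Agent.Sga2.PnHHDelta
import Groth.Agent.Sga2.Conv68
import Groth.Agent.CurvesB.HZero

/-!
# Lifting sections of formal line bundles along an effective Cartier divisor, for large twists

Author: helper870
-/

set_option autoImplicit false
universe u

open CategoryTheory CategoryTheory.Limits AlgebraicGeometry TopologicalSpace Opposite

namespace Groth.Agent.Sga2.FBunLift

open Groth.Agent Groth.Agent.Sga2.FBunSeq Groth.Agent.Sga2.FBunNum Groth.Agent.Sga2.TwIt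
  Groth.Agent.Ega2 Groth.Agent.Ega2.TensPow

variable {X : Scheme.{u}}

/-- A formal line bundle along `D` in the form of `O_X`-modules: `N n` is locally `O/D^{n+1}`, with
epimorphisms `N (n+1) ⟶ N n`. -/
structure IsFTower (D : X.IdealSheafData) (N : ℕ → X.Modules) (p : ∀ n, N (n + 1) ⟶ N n) : Prop where
  epi : ∀ n, Epi (p n)
  loc : ∀ n, LocQGen (D ^ (n + 1)) (N n)

theorem IsFTower.epi_toZero {D : X.IdealSheafData} {N : ℕ → X.Modules} {p : ∀ n, N (n + 1) ⟶ N n}
    (h : IsFTower D N p) (n : ℕ) : Epi (toZero p n) := by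
  induction n with
  | zero => exact inferInstanceAs (Epi (𝟙 (N 0)))
  | succ n ih =>
    have := h.epi n
    exact epi_comp (p n) (toZero p n)

theorem preserves_Tw {P : X.Modules} (hP : PicF.IsInvertible P) :
    PreservesFiniteLimits (Tw P) ∧ PreservesFiniteColimits (Tw P) :=
  ((Functor.exact_tfae (Tw P)).out 1 3).mp (fun S hS => Tw_exact hP S hS)

/-- `(F ⊗ P^(m+a)) ⊗ L^a ≅ F ⊗ P^m` for `P ⊗ L ≅ O`. -/
theorem nonempty_twist_down {L P : X.Modules} (hPL : ClSub.IsInverseOf P L) (F : X.Modules) (m a : ℕ) :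
    Nonempty (CohB1.tensorMod (CohB1.tensorMod F (CohB1.tensorPow P (m + a))) (CohB1.tensorPow L a) ≅
      CohB1.tensorMod F (CohB1.tensorPow P m)) := by
  obtain ⟨e⟩ := hPL
  have e1 : CohB1.tensorMod (CohB1.tensorPow P a) (CohB1.tensorPow L a) ≅ Coh.structureModule X :=
    (powTensor P L a).symm ≪≫ powIso e a ≪≫ Conv68.powUnit X a
  have e2 : CohB1.tensorMod (CohB1.tensorPow P (m + a)) (CohB1.tensorPow L a) ≅ CohB1.tensorPow P m :=
    Tens.mapTIso (powAdd P m a).symm (Iso.refl _) ≪≫ Tens.assoc _ _ _ ≪≫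
      Tens.mapTIso (Iso.refl _) e1 ≪≫ Tens.runit _
  exact ⟨Tens.assoc _ _ _ ≪≫ Tens.mapTIso (Iso.refl _) e2⟩

theorem isInverseOf_symm {L P : X.Modules} (h : ClSub.IsInverseOf L P) : ClSub.IsInverseOf P L := by
  obtain ⟨e⟩ := h
  exact ⟨Tens.swap _ _ ≪≫ e⟩

/-- **Lifting sections**: for a formal line bundle `N` along the effective Cartier divisor `D` with ideal module inverse
to `L` (`H¹` finite-dimensional, Serre vanishing for `N 0`, and `H¹(N 0 ⊗ (idealMod D)^m) = 0` for large `m`), for all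
large `a` every section of `N 0 ⊗ L^a` lifts to a compatible system of sections of `N n ⊗ L^a`. -/
theorem exists_lift (k : Type u) [Field k] [X.Over (Spec (CommRingCat.of k))] {D : X.IdealSheafData}
    {L : X.Modules} (hL : ClSub.IsInverseOf L (ClSub.idealMod D)) {N : ℕ → X.Modules}
    {p : ∀ n, N (n + 1) ⟶ N n} (hN : IsFTower D N p)
    (hfin : ∀ n a, Module.Finite k (Coh.HH X (CohB1.tensorMod (N n) (CohB1.tensorPow L a)) 1))
    (hser : ∃ a₀ : ℕ, ∀ a, a₀ ≤ a → Subsingleton (Coh.HH X (CohB1.tensorMod (N 0) (CohB1.tensorPow L a)) 1))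
    (hesz : ∃ c : ℕ, ∀ m, c ≤ m →
      Subsingleton (Coh.HH X (CohB1.tensorMod (N 0) (CohB1.tensorPow (ClSub.idealMod D) m)) 1)) :
    ∃ a₁ : ℕ, ∀ a, a₁ ≤ a → ∀ s : Γ((Tw (CohB1.tensorPow L a)).obj (N 0), ⊤),
      ∃ t : ∀ n, Γ((Tw (CohB1.tensorPow L a)).obj (N n), ⊤), t 0 = s ∧
        ∀ n, ((Tw (CohB1.tensorPow L a)).map (p n)).app ⊤ (t (n + 1)) = t n := by
  have hD := Dix.IdealModCartier.isEffCartierIdeal_of_isInverseOf hL
  have hinv := Dix.IdealModCartier.isInvertible_of_isInverseOf hL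
  have hLa : ∀ a, PicF.IsInvertible (CohB1.tensorPow L a) := fun a =>
    Fdesc.LocGen.isInvertible_tensorPow hinv.1 a
  have := hN.epi
  have := hN.epi_toZero
  obtain ⟨a₀, ha₀⟩ := hser
  obtain ⟨c, hc⟩ := hesz
  let T : ℕ → X.Modules ⥤ X.Modules := fun a => Tw (CohB1.tensorPow L a)
  have hT1 : ∀ a, PreservesFiniteLimits (T a) := fun a => (preserves_Tw (hLa a)).1
  have hT2 : ∀ a, PreservesFiniteColimits (T a) := fun a => (preserves_Tw (hLa a)).2
  have hA : ∀ n, ∃ (μ : (Tw (CohB1.tensorPow (ClSub.idealMod D) 1)).obj (N n) ⟶ N (n + 1))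
      (w : μ ≫ toZero p (n + 1) = 0), (ShortComplex.mk μ (toZero p (n + 1)) w).ShortExact := fun n => by
    rw [Tw_obj]
    exact exists_shortExact hD (a := n + 1) (b := 1) (c := n + 2) rfl (p n) (toZero p (n + 1))
      (hN.loc (n + 1)) (hN.loc n) (hN.loc 0)
  have hB : ∀ n, ∃ (ι : CohB1.tensorMod (N 0) (CohB1.tensorPow (ClSub.idealMod D) (n + 1)) ⟶ N (n + 1))
      (w : ι ≫ p n = 0), (ShortComplex.mk ι (p n) w).ShortExact := fun n =>
    exists_shortExact hD (a := 0 + 1) (b := n + 1) (c := n + 1 + 1) (by omega) (toZero p (n + 1)) (p n)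
      (hN.loc (n + 1)) (hN.loc 0) (hN.loc n)
  choose μ wA hA using hA
  choose ι wB hB using hB
  have he : ∀ a n, Nonempty ((T (a + 1)).obj ((Tw (CohB1.tensorPow (ClSub.idealMod D) 1)).obj (N n)) ≅
      (T a).obj (N n)) := by
    intro a n
    have h := Conv68.nonempty_twist_iso (isInverseOf_symm hL) (N n) 1 a
    rw [Nat.add_comm 1 a] at h
    change Nonempty ((Tw _).obj ((Tw _).obj (N n)) ≅ (Tw _).obj (N n))
    rw [Tw_obj, Tw_obj, Tw_obj]
    exact h
  obtain ⟨a₁, ha₁⟩ := exists_compatible_lift (PnHHDelta.delta k X) N p T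
    (Tw (CohB1.tensorPow (ClSub.idealMod D) 1)) (fun a n => (he a n).some) μ wA hA
    (fun n => CohB1.tensorMod (N 0) (CohB1.tensorPow (ClSub.idealMod D) (n + 1))) ι wB hB c
    (fun n a h => by
      obtain ⟨m, hm⟩ := Nat.exists_eq_add_of_le h
      obtain ⟨e⟩ := nonempty_twist_down (isInverseOf_symm hL) (N 0) (n + 1 - a) a
      have h1 : n + 1 - a + a = n + 1 := by omega
      rw [h1] at e
      have h2 := ThickCoh.subsingleton_HH_of_iso e.symm 1 (hc _ (by omega))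
      rw [← Tw_obj (CohB1.tensorPow L a)] at h2
      exact h2)
    a₀ (fun a ha => by
      have h2 := ha₀ a ha
      rw [← Tw_obj (CohB1.tensorPow L a)] at h2
      exact h2) (fun a n => by
      have h2 := hfin n a
      rw [← Tw_obj (CohB1.tensorPow L a)] at h2
      exact h2)
  refine ⟨a₁, fun a ha s => ?_⟩
  obtain ⟨t, ht0, ht⟩ := ha₁ a ha ((CurvesB.HZero.equivAdd _).symm s)
  refine ⟨fun n => CurvesB.HZero.equivAdd _ (t n), ?_, fun n => ?_⟩
  · exact (congrArg (CurvesB.HZero.equivAdd _) ht0).trans (AddEquiv.apply_symm_apply _ _)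
  · exact (CurvesB.HZero.equivAdd_map ((T a).map (p n)) (t (n + 1))).symm.trans
      (congrArg (CurvesB.HZero.equivAdd _) (ht n))

theorem toZero_compatible {N : ℕ → X.Modules} {p : ∀ n, N (n + 1) ⟶ N n} (P : X.Modules)
    (t : ∀ n, Γ((Tw P).obj (N n), ⊤)) (ht : ∀ n, ((Tw P).map (p n)).app ⊤ (t (n + 1)) = t n) (n : ℕ) :
    ((Tw P).map (toZero p n)).app ⊤ (t n) = t 0 := by
  induction n with
  | zero =>
    change ((Tw P).map (𝟙 (N 0))).app ⊤ (t 0) = t 0
    rw [(Tw P).map_id]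
    rfl
  | succ n ih =>
    change ((Tw P).map (p n ≫ toZero p n)).app ⊤ (t (n + 1)) = t 0
    rw [(Tw P).map_comp]
    change ((Tw P).map (toZero p n)).app ⊤ (((Tw P).map (p n)).app ⊤ (t (n + 1))) = t 0
    rw [ht, ih]

/-- The surjectivity form of `exists_lift`. -/
theorem exists_surjective (k : Type u) [Field k] [X.Over (Spec (CommRingCat.of k))] {D : X.IdealSheafData}
    {L : X.Modules} (hL : ClSub.IsInverseOf L (ClSub.idealMod D)) {N : ℕ → X.Modules}
    {p : ∀ n, N (n + 1) ⟶ N n} (hN : IsFTower D N p)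
    (hfin : ∀ n a, Module.Finite k (Coh.HH X (CohB1.tensorMod (N n) (CohB1.tensorPow L a)) 1))
    (hser : ∃ a₀ : ℕ, ∀ a, a₀ ≤ a → Subsingleton (Coh.HH X (CohB1.tensorMod (N 0) (CohB1.tensorPow L a)) 1))
    (hesz : ∃ c : ℕ, ∀ m, c ≤ m →
      Subsingleton (Coh.HH X (CohB1.tensorMod (N 0) (CohB1.tensorPow (ClSub.idealMod D) m)) 1)) :
    ∃ a₁ : ℕ, ∀ a, a₁ ≤ a → ∀ n,
      Function.Surjective (((Tw (CohB1.tensorPow L a)).map (toZero p n)).app ⊤) := by
  obtain ⟨a₁, ha₁⟩ := exists_lift k hL hN hfin hser hesz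
  refine ⟨a₁, fun a ha n s => ?_⟩
  obtain ⟨t, ht0, ht⟩ := ha₁ a ha s
  exact ⟨t n, (toZero_compatible _ t ht n).trans ht0⟩

end Groth.Agent.Sga2.FBunLift
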