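import Groth.Agent.Sga2.FBunLift
import Groth.Agent.Sga2.RankOneTower
import Groth.Agent.Sga2.PicThick

/-!
# Towers of invertible modules on thickenings `V(D^{n+1})` as formal line bundles in the form of `O_X`-modules

* `locQGen_pushforward`: `i_* T` is locally `O/J` for `T` invertible on `V(J)`.
* `epi_of_isTransition`: the transition maps are epimorphisms.
* `isFTower`, `exists_surjective`: lifting of sections.

Author: helper870
-/

set_option autoImplicit false
universe u

open CategoryTheory CategoryTheory.Limits AlgebraicGeometry TopologicalSpace Opposite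

namespace Groth.Agent.Sga2.FBunPush

open Groth.Agent Groth.Agent.Fdesc.LocGen Groth.Agent.Sga2.HomGens Groth.Agent.Sga2.FBunSeq
  Groth.Agent.Sga2.FBunNum Groth.Agent.Sga2.FBunLift Groth.Agent.Sga2.RankOneTower

variable {X : Scheme.{u}}

section general

variable {Y : Scheme.{u}} (i : Y ⟶ X)

theorem push_smul (T : Y.Modules) {V : X.Opens} (a : Γ(X, V)) (s : Γ(T, i ⁻¹ᵁ V)) :
    (a • (show Γ((Scheme.Modules.pushforward i).obj T, V) from s) : Γ((Scheme.Modules.pushforward i).obj T, V)) =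
      i.app V a • s := rfl

theorem push_res (T : Y.Modules) {U V : X.Opens} (h : V ≤ U) (s : Γ(T, i ⁻¹ᵁ U)) :
    res ((Scheme.Modules.pushforward i).obj T) h (show Γ((Scheme.Modules.pushforward i).obj T, U) from s) =
      res T (i.preimage_mono h) s := rfl

/-- A generator of `T` over `i⁻¹ U` generates `i_* T` with annihilator the kernel `J` of `O_X → i_* O_Y`. -/
theorem qgen_of_isGen {J : X.IdealSheafData} (hs : ∀ V : X.affineOpens, Function.Surjective (i.app V.1))
    (hk : ∀ (V : X.affineOpens) (a : Γ(X, V.1)), i.app V.1 a = 0 ↔ a ∈ J.ideal V) (T : Y.Modules)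
    {U : X.Opens} {e : Γ(T, i ⁻¹ᵁ U)} (he : IsGen e) :
    QGen J (M := (Scheme.Modules.pushforward i).obj T) (U := U) e where
  gen V hV s := by
    obtain ⟨r, hr⟩ := (he (i ⁻¹ᵁ V.1) (i.preimage_mono hV)).2 s
    obtain ⟨a, rfl⟩ := hs V r
    exact ⟨a, hr.symm⟩
  ann V hV a := by
    rw [push_res, push_smul, ← hk]
    constructor
    · intro h
      apply (he (i ⁻¹ᵁ V.1) (i.preimage_mono hV)).1
      refine h.trans ?_
      exact (zero_smul Γ(Y, i ⁻¹ᵁ V.1) (_ : Γ(T, i ⁻¹ᵁ V.1))).symm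
    · intro h
      rw [h]
      exact zero_smul Γ(Y, i ⁻¹ᵁ V.1) (_ : Γ(T, i ⁻¹ᵁ V.1))

/-- Transition maps are epimorphisms. -/
theorem epi_of_isTransition {Y' : Scheme.{u}} (i' : Y' ⟶ X) [IsClosedImmersion i'] (t : Y ⟶ Y') (ht : t ≫ i' = i)
    (hs : ∀ V : X.affineOpens, Function.Surjective (i.app V.1)) {T : Y.Modules} {T' : Y'.Modules}
    (hT' : PicF.IsInvertible T') (e : (Scheme.Modules.pullback t).obj T' ≅ T)
    (q : (Scheme.Modules.pushforward i').obj T' ⟶ (Scheme.Modules.pushforward i).obj T)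
    (hq : IsTransition i i' t ht e q) : Epi q := by
  refine Groth.Agent.PerfB.ModExact.epi_of_locally_surjective _ fun U y x hx => ?_
  obtain ⟨U', hxU', ⟨e', he'⟩⟩ := (Fga.LineTors.locNonempty_iff _).1 (PicThick.locNonempty_pgens i' T' hT') x
  obtain ⟨W, hxW, hW⟩ := HomGens.exists_affine_mem_le (U := U ⊓ U') ⟨hx, hxU'⟩
  have hWU : W.1 ≤ U := hW.trans inf_le_left
  have hWU' : W.1 ≤ U' := hW.trans inf_le_right
  let e₁ : Γ(T', i' ⁻¹ᵁ W.1) := res T' (i'.preimage_mono hWU') e'
  have he₁ : IsGen e₁ := he'.res _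
  have h1 : IsGen (res T (preimage_le ht W.1) (e.hom.app (t ⁻¹ᵁ (i' ⁻¹ᵁ W.1)) (pullSec t e₁))) :=
    ((he₁.pullSec t).app e.hom).res _
  obtain ⟨r, hr⟩ := h1.exists_eq (res T (i.preimage_mono hWU) y)
  obtain ⟨a, ha⟩ := hs W r
  refine ⟨W.1, hWU, hxW, (a • (show Γ((Scheme.Modules.pushforward i').obj T', W.1) from e₁) :
    Γ((Scheme.Modules.pushforward i').obj T', W.1)), ?_⟩
  rw [Scheme.Modules.Hom.app_smul, hq, push_smul, ha]
  exact hr.symm

end general

theorem locQGen_pushforward {Y : Scheme.{u}} (i : Y ⟶ X) [IsClosedImmersion i] {J : X.IdealSheafData}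
    (hs : ∀ V : X.affineOpens, Function.Surjective (i.app V.1))
    (hk : ∀ (V : X.affineOpens) (a : Γ(X, V.1)), i.app V.1 a = 0 ↔ a ∈ J.ideal V) {T : Y.Modules}
    (hT : PicF.IsInvertible T) : LocQGen J ((Scheme.Modules.pushforward i).obj T) := by
  intro x
  obtain ⟨U, hxU, ⟨e, he⟩⟩ :=
    (Fga.LineTors.locNonempty_iff _).1 (PicThick.locNonempty_pgens i T hT) x
  exact ⟨U, hxU, e, qgen_of_isGen i hs hk T he⟩

theorem subschemeι_surjective (J : X.IdealSheafData) (V : X.affineOpens) :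
    Function.Surjective (J.subschemeι.app V.1) := J.subschemeι_app_surjective V

theorem subschemeι_app_eq_zero_iff (J : X.IdealSheafData) (V : X.affineOpens) (a : Γ(X, V.1)) :
    J.subschemeι.app V.1 a = 0 ↔ a ∈ J.ideal V := by
  rw [← J.ker_subschemeι_app V, RingHom.mem_ker]

section tower

variable {Z : ℕ → Scheme.{u}} (i : ∀ n, Z n ⟶ X) [∀ n, IsClosedImmersion (i n)] (t : ∀ n, Z n ⟶ Z (n + 1))
  (ht : ∀ n, t n ≫ i (n + 1) = i n) {D : X.IdealSheafData}
  (hs : ∀ n (V : X.affineOpens), Function.Surjective ((i n).app V.1))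
  (hk : ∀ n (V : X.affineOpens) (a : Γ(X, V.1)), (i n).app V.1 a = 0 ↔ a ∈ (D ^ (n + 1)).ideal V)
  {T : ∀ n, (Z n).Modules} (hT : ∀ n, PicF.IsInvertible (T n))
  (e : ∀ n, (Scheme.Modules.pullback (t n)).obj (T (n + 1)) ≅ T n)
  (p : ∀ n, (Scheme.Modules.pushforward (i (n + 1))).obj (T (n + 1)) ⟶
    (Scheme.Modules.pushforward (i n)).obj (T n))
  (hp : ∀ n, IsTransition (i n) (i (n + 1)) (t n) (ht n) (e n) (p n))

include hs hk hT hp in
/-- The tower attached to invertible modules `T n` on `Z n = V(D^{n+1})` with `T (n+1)|_{Z n} ≅ T n`. -/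
theorem isFTower : IsFTower D (fun n => (Scheme.Modules.pushforward (i n)).obj (T n)) p where
  epi n := epi_of_isTransition (i n) (i (n + 1)) (t n) (ht n) (hs n) (hT (n + 1)) (e n) (p n) (hp n)
  loc n := locQGen_pushforward (i n) (hs n) (hk n) (hT n)

include hs hk hT hp in
/-- **Lifting sections** for towers of invertible modules on the thickenings `Z n = V(D^{n+1})` of an effective
Cartier divisor. -/
theorem exists_surjective (k : Type u) [Field k] [X.Over (Spec (CommRingCat.of k))]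
    {L : X.Modules} (hL : ClSub.IsInverseOf L (ClSub.idealMod D))
    (hfin : ∀ n a, Module.Finite k (Coh.HH X (CohB1.tensorMod
      ((Scheme.Modules.pushforward (i n)).obj (T n)) (CohB1.tensorPow L a)) 1))
    (hser : ∃ a₀ : ℕ, ∀ a, a₀ ≤ a → Subsingleton (Coh.HH X (CohB1.tensorMod
      ((Scheme.Modules.pushforward (i 0)).obj (T 0)) (CohB1.tensorPow L a)) 1))
    (hesz : ∃ c : ℕ, ∀ m, c ≤ m → Subsingleton (Coh.HH X (CohB1.tensorMod
      ((Scheme.Modules.pushforward (i 0)).obj (T 0)) (CohB1.tensorPow (ClSub.idealMod D) m)) 1)) :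
    ∃ a₁ : ℕ, ∀ a, a₁ ≤ a → ∀ n, Function.Surjective (((TwIt.Tw (CohB1.tensorPow L a)).map
      (toZero (N := fun n => (Scheme.Modules.pushforward (i n)).obj (T n)) p n)).app ⊤) :=
  FBunLift.exists_surjective k hL (isFTower i t ht hs hk hT e p hp) hfin hser hesz

end tower

end Groth.Agent.Sga2.FBunPush
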