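import Groth.Agent.Sga2.DualHom

/-!
# Finiteness of local cohomology from vanishing of `Ext`
-/

set_option autoImplicit false

universe u w w'

open CategoryTheory CategoryTheory.Limits CochainComplex CochainComplex.HomComplex DerivedCategory
open Groth.Agent.Sga2.LCChain Groth.Agent.Sga2.ToSingle Groth.Agent.Sga2.DualCx Groth.Agent.Sga2.HomCx
open Groth.Agent.Sga2.DualHom
open Groth.Agent.Localalg.Gam Groth.Agent.Localalg.LCAbs Groth.Agent.Sga2.GamCx

attribute [local instance] HasDerivedCategory.standard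

namespace Groth.Agent.Sga2.FinLC

variable {R : Type u} [CommRing R]

/-- Cycles of the hom complex and morphisms in the derived category. -/
lemma exists_cyclesMap (C E : CochainComplex (ModuleCat.{u} R) ℤ) [E.IsKInjective] (m n : ℤ)
    (h : m + 1 = n) :
    ∃ f : Z (homCx C E) n →ₗ[R] (Q.obj C ⟶ (Q.obj E)⟦n⟧), Function.Surjective f ∧
      ∀ x, f x = 0 ↔ ∃ y : (homCx C E).X m, ((homCx C E).d m n).hom y = x.1 := by
  let g : Z (homCx C E) n →ₗ[R] Cocycle C E n :=
    { toFun := fun z => Cocycle.mk z.1 (n + 1) rfl z.2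
      map_add' := fun _ _ => rfl
      map_smul' := fun _ _ => rfl }
  refine ⟨DHomLin.toD R C E n ∘ₗ g, (DHomLin.toD_surjective_of_isKInjective R C E n).comp ?_, fun x => ?_⟩
  · intro z
    exact ⟨⟨z.1, z.δ_eq_zero (n + 1)⟩, rfl⟩
  · rw [LinearMap.comp_apply, DHomLin.toD_eq_zero_iff_of_isKInjective R, mem_coboundaries_iff _ m h]
    rfl

section

variable {M : ModuleCat.{u} R} (P : ProjectiveResolution M)

instance finite_cochainComplex_X [∀ n, Module.Finite R (P.complex.X n)] (n : ℤ) :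
    Module.Finite R (P.cochainComplex.X n) := by
  by_cases hn : n ≤ 0
  · obtain ⟨k, rfl⟩ := Int.exists_eq_neg_ofNat hn
    exact Module.Finite.equiv (P.cochainComplexXIso (-k) k).toLinearEquiv.symm
  · have := ModuleCat.subsingleton_of_isZero (P.cochainComplex.isZero_of_isStrictlyLE 0 n (by lia))
    infer_instance

lemma isStrictlyGE_cochainComplex (d : ℕ) (hd : ∀ n, d < n → IsZero (P.complex.X n)) :
    P.cochainComplex.IsStrictlyGE (-d) := by
  rw [isStrictlyGE_iff]
  intro i hi
  obtain ⟨k, rfl⟩ := Int.exists_eq_neg_ofNat (show i ≤ 0 by lia)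
  exact (hd k (by lia)).of_iso (P.cochainComplexXIso (-k) k)

lemma ex_cochainComplex (m n : ℤ) (hmn : m + 1 = n) (hn : n ≠ 0) : Ex P.cochainComplex m n := by
  intro x hx
  by_cases h : n < 0
  · have h1 := P.cochainComplex.exactAt_of_isGE 0 n h
    rw [HomologicalComplex.exactAt_iff' _ m n (n + 1) (by simp; lia) (by simp),
      ShortComplex.moduleCat_exact_iff] at h1
    exact h1 x hx
  · have := ModuleCat.subsingleton_of_isZero (P.cochainComplex.isZero_of_isStrictlyLE 0 n (by lia))
    exact ⟨0, Subsingleton.elim _ _⟩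

variable [∀ n, Module.Finite R (P.complex.X n)]

lemma isKProjective_dualCx (d : ℤ) [P.cochainComplex.IsStrictlyGE (-d)] :
    (dualCx P.cochainComplex).IsKProjective := by
  have := isStrictlyLE_dualCx P.cochainComplex d
  exact isKProjective_of_projective _ d

variable (Er : InjectiveResolution (ModuleCat.of R R))

/-- `Hom_D(C, E⟦n⟧)` is the cohomology of `P`. -/
lemma exists_map' (d : ℤ) [P.cochainComplex.IsStrictlyGE (-d)] (p n : ℤ) (h : p + n = 0) :
    ∃ f : Z P.cochainComplex (-p) →ₗ[R] (Q.obj (dualCx P.cochainComplex) ⟶ (Q.obj Er.cochainComplex)⟦n⟧),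
      Function.Surjective f ∧ ∀ x, f x = 0 ↔
        ∃ y : P.cochainComplex.X (-(p + 1)), (P.cochainComplex.d (-(p + 1)) (-p)).hom y = x.1 := by
  have := isKProjective_dualCx P d
  obtain ⟨f, hf, hf'⟩ := exists_map P.cochainComplex p n h
  let e := Linear.homCongr R (Iso.refl (Q.obj (dualCx P.cochainComplex)))
      ((CategoryTheory.shiftFunctor _ n).mapIso (asIso (Q.map Er.ι')))
  refine ⟨e.toLinearMap ∘ₗ f, e.surjective.comp hf, fun x => ?_⟩
  rw [LinearMap.comp_apply, ← hf' x]
  exact e.map_eq_zero_iff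

/-- The hom complex is exact outside degree `0`. -/
lemma ex_homCx (d : ℤ) [P.cochainComplex.IsStrictlyGE (-d)] (m n : ℤ) (hmn : m + 1 = n) (hn : n ≠ 0) :
    Ex (homCx (dualCx P.cochainComplex) Er.cochainComplex) m n := by
  intro x hx
  have : Er.cochainComplex.IsKInjective := isKInjective_of_injective _ 0
  obtain ⟨f, hf, hf'⟩ := exists_cyclesMap (dualCx P.cochainComplex) Er.cochainComplex m n hmn
  refine (hf' ⟨x, hx⟩).1 ?_
  obtain ⟨g, hg, hg'⟩ := exists_map' P Er d (-n) n (by lia)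
  obtain ⟨z, hz⟩ := hg (f ⟨x, hx⟩)
  rw [← hz, hg']
  exact ex_cochainComplex P (-(-n + 1)) (- -n) (by lia) (by lia) z.1 z.2

/-- `H⁰` of the hom complex is `M`. -/
lemma exists_homCx_augmentation (d : ℤ) [P.cochainComplex.IsStrictlyGE (-d)] :
    ∃ f : Z (homCx (dualCx P.cochainComplex) Er.cochainComplex) 0 →ₗ[R] M, Function.Surjective f ∧
      ∀ x, f x = 0 ↔ ∃ y : (homCx (dualCx P.cochainComplex) Er.cochainComplex).X (-1),
        ((homCx (dualCx P.cochainComplex) Er.cochainComplex).d (-1) 0).hom y = x.1 := by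
  have : Er.cochainComplex.IsKInjective := isKInjective_of_injective _ 0
  obtain ⟨f, hf, hf'⟩ := exists_cyclesMap (dualCx P.cochainComplex) Er.cochainComplex (-1) 0 (by lia)
  obtain ⟨g, hg, hg'⟩ := exists_map' P Er d 0 0 (by lia)
  obtain ⟨a, ha, ha'⟩ := exists_augmentation P 0 rfl
  obtain ⟨e⟩ := nonempty_equiv_of_ker_eq g a hg ha (fun x => by rw [hg', ha'])
  refine ⟨e.toLinearMap ∘ₗ f, e.surjective.comp hf, fun x => ?_⟩
  rw [LinearMap.comp_apply, ← hf' x]
  exact e.map_eq_zero_iff

variable {I : Ideal R} (T : LC I) [IsNoetherianRing R]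

include Er in
/-- Finiteness of `H^{k+1}_I(M)` from finiteness of `Hom_D(C, Γ_I(E)⟦k + 1⟧)`. -/
theorem finite_LC_of_hom (d : ℕ) (hd : ∀ n, d < n → IsZero (P.complex.X n)) (k : ℕ)
    (hfin : Module.Finite R (Q.obj (dualCx P.cochainComplex) ⟶
      (Q.obj (gamCx I Er.cochainComplex))⟦((k + 1 : ℕ) : ℤ)⟧)) :
    Module.Finite R (T.obj (k + 1) M) := by
  have hP := isStrictlyGE_cochainComplex P d hd
  have hC := isStrictlyLE_dualCx P.cochainComplex d
  obtain ⟨f, hf, hf'⟩ := exists_homCx_augmentation P Er d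
  refine finite_of_complex (homCx (dualCx P.cochainComplex) Er.cochainComplex) T (-d)
    (fun n hn => isZero_homCx _ _ 0 d n (by lia)) (fun n m h hm => ex_homCx P Er d n m h hm) k k
    ((k + 1 : ℕ) : ℤ) (by push_cast; rfl) rfl ?_ M f hf hf'
  exact finite_gam_quot I (dualCx P.cochainComplex) Er.cochainComplex 0 d _

end

/-- Finiteness of `H^{k+1}_I(M)` from vanishing of `Ext` modules. -/
theorem finite_LC_of_ext [IsNoetherianRing R] {I : Ideal R} (T : LC I) (M : ModuleCat.{u} R)
    [Module.Finite R M] (d : ℕ) (hd : HasProjectiveDimensionLE M d) (k : ℕ)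
    (H : ∀ (q : ℕ) (G : ModuleCat.{u} R), q ≤ d → Module.Finite R G →
      Nonempty (G ≃ₗ[R] Abelian.Ext M (ModuleCat.of R R) q) →
      ∀ n : ℕ, Subsingleton (Abelian.Ext (ModuleCat.of R
        ((G ⧸ gam I G) ⧸ (I ^ n • ⊤ : Submodule R (G ⧸ gam I G)))) (ModuleCat.of R R) (q + (k + 1)))) :
    Module.Finite R (T.obj (k + 1) M) := by
  let P : ProjectiveResolution M := FinRes.res ⟨M, ‹_›⟩
  have hP : ∀ n, Module.Finite R (P.complex.X n) := fun n =>
    inferInstanceAs (Module.Finite R ((FinRes.res ⟨M, ‹_›⟩).complex.X n))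
  have hP0 : ∀ n, d < n → IsZero (P.complex.X n) := FinRes.isZero_res_X ⟨M, ‹_›⟩ d hd
  let Er : InjectiveResolution (ModuleCat.of R R) := injectiveResolution _
  refine finite_LC_of_hom P Er T d hP0 k ?_
  have hP := isStrictlyGE_cochainComplex P d hP0
  have hC := isStrictlyLE_dualCx P.cochainComplex d
  have h1 : (Q.obj (dualCx P.cochainComplex)).IsGE 0 := by
    rw [isGE_Q_obj_iff]; infer_instance
  have h2 : (Q.obj (dualCx P.cochainComplex)).IsLE (0 + (d + 1 : ℕ) - 1) := by
    rw [isLE_Q_obj_iff, show (0 + (d + 1 : ℕ) - 1 : ℤ) = d by push_cast; ring]; infer_instance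
  refine DDevissage.finite_hom_of_finite_single R _ 0 (d + 1) _ (fun q hq hq' => ?_)
  obtain ⟨q, rfl⟩ := Int.eq_ofNat_of_zero_le hq
  have e := nonempty_homology_equiv P q
  have hG : Module.Finite R
      ((DerivedCategory.homologyFunctor (ModuleCat.{u} R) q).obj (Q.obj (dualCx P.cochainComplex))) := by
    obtain ⟨f, hf, -⟩ := exists_homologyMap (dualCx P.cochainComplex) (q - 1) q (by lia)
    have : Module.Finite R (Z (dualCx P.cochainComplex) q) :=
      Module.Finite.of_injective (Submodule.subtype _) Subtype.val_injective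
    exact Module.Finite.of_surjective f hf
  refine GamHom.finite_hom_gam I Er.cochainComplex Er.ι' _ (q + (k + 1)) (H q _ (by lia) hG e) q
    ((k + 1 : ℕ) : ℤ) (by push_cast; ring)

end Groth.Agent.Sga2.FinLC
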