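import Groth.Agent.Sga2.GrKey
import Mathlib.LinearAlgebra.Matrix.NonsingularInverse
import Mathlib.LinearAlgebra.Matrix.ToLin

/-!
SGA 2 XII 4.7, algebraic core, part 2: `M` finite over a noetherian local ring `A`, free of rank `r` after inverting
each `g i`, with `M/JM` free of rank `r` over `A/J` on the punctured spectrum.  If `A/J` has depth `≥ 3` and
`gr_J(A)` is free over `A/J`, then there is `φ : M → A^r` which is an isomorphism after inverting each `g i`.
-/

set_option autoImplicit false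

namespace Groth.Agent.Sga2.GrMain

universe u v

open scoped Pointwise
open Groth.Agent.Sga2.GrLift Groth.Agent.Sga2.GrReg Groth.Agent.Sga2.GrKey

variable {A : Type u} [CommRing A]

theorem exists_pow_mem {ι : Type*} {g : ι → A} {y : A}
    (hy : y ∈ (Ideal.span (Set.range g)).radical) (I : Ideal A) (h : ∀ i, ∃ s : ℕ, g i ^ s ∈ I) :
    ∃ s : ℕ, y ^ s ∈ I := by
  have h1 : Ideal.span (Set.range g) ≤ I.radical := by
    rw [Ideal.span_le]
    rintro _ ⟨i, rfl⟩
    exact h i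
  exact (Ideal.radical_le_radical_iff.2 h1) hy

variable {M : Type v} [AddCommGroup M] [Module A M]

theorem isoModJ_of_radical {ι : Type*} {g : ι → A} {y : A} {J : Ideal A} {r : ℕ}
    {φ₁ : M →ₗ[A] (Fin r → A ⧸ J)} (h : ∀ i, IsoModJ J φ₁ (g i))
    (hy : y ∈ (Ideal.span (Set.range g)).radical) : IsoModJ J φ₁ y := by
  refine ⟨fun x hx => ?_, fun v => ?_⟩
  · exact exists_pow_mem hy (Submodule.comap (LinearMap.toSpanSingleton A M x)
      (J • (⊤ : Submodule A M))) (fun i => (h i).ker x hx)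
  · exact exists_pow_mem hy (Submodule.comap (LinearMap.toSpanSingleton A _ v)
      (LinearMap.range φ₁)) (fun i => (h i).cok v)

/-- `M` is free of rank `r` after inverting `h` (for a finitely presented `M`), elementwise. -/
def FreeAt (M : Type v) [AddCommGroup M] [Module A M] (r : ℕ) (h : A) : Prop :=
  ∃ (s : ℕ) (α : (Fin r → A) →ₗ[A] M) (β : M →ₗ[A] (Fin r → A)),
    (∀ v, β (α v) = h ^ s • v) ∧ ∀ m, α (β m) = h ^ s • m

theorem dual_expand {r : ℕ} {h : A} {s : ℕ} (α : (Fin r → A) →ₗ[A] M) (β : M →ₗ[A] (Fin r → A))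
    (hab : ∀ m, α (β m) = h ^ s • m) (ψ : M →ₗ[A] A) :
    h ^ s • ψ = ∑ k, ψ (α (Pi.single k 1)) • ((LinearMap.proj k) ∘ₗ β) := by
  ext m
  have h1 : β m = ∑ k, (β m k) • (Pi.single k 1 : Fin r → A) := by
    conv_lhs => rw [← LinearMap.sum_single_apply (φ := fun _ => A) (β m)]
    refine Finset.sum_congr rfl fun k _ => ?_
    rw [← Pi.single_smul, smul_eq_mul, mul_one]
  rw [LinearMap.smul_apply, ← map_smul, ← hab m, h1, map_sum, map_sum, LinearMap.sum_apply]
  refine Finset.sum_congr rfl fun k _ => ?_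
  rw [map_smul, map_smul, LinearMap.smul_apply, smul_eq_mul, smul_eq_mul, mul_comm]
  congr 1

theorem freeAt_dual {r : ℕ} {h : A} (H : FreeAt M r h) : FreeAt (M →ₗ[A] A) r h := by
  obtain ⟨s, α, β, hba, hab⟩ := H
  let β' : (M →ₗ[A] A) →ₗ[A] (Fin r → A) :=
    { toFun := fun ψ k => ψ (α (Pi.single k 1))
      map_add' := fun _ _ => rfl
      map_smul' := fun _ _ => rfl }
  let α' : (Fin r → A) →ₗ[A] (M →ₗ[A] A) :=
    ∑ k, (LinearMap.toSpanSingleton A _ ((LinearMap.proj k) ∘ₗ β)) ∘ₗ (LinearMap.proj k)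
  have hα' : ∀ c, α' c = ∑ k, c k • ((LinearMap.proj k) ∘ₗ β) := by
    intro c
    simp only [α', LinearMap.sum_apply]
    rfl
  refine ⟨s, α', β', ?_, ?_⟩
  · intro c
    ext k
    change α' c (α (Pi.single k 1)) = _
    rw [hα', LinearMap.sum_apply]
    simp only [LinearMap.smul_apply, LinearMap.comp_apply, hba, LinearMap.proj_apply,
      Pi.smul_apply, smul_eq_mul]
    rw [Finset.sum_eq_single k]
    · rw [Pi.single_eq_same]; ring
    · intro j _ hj
      rw [Pi.single_eq_of_ne hj]; ring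
    · intro h; exact absurd (Finset.mem_univ k) h
  · intro ψ
    rw [hα', dual_expand α β hab ψ]
    rfl

theorem finite_dual [IsNoetherianRing A] [Module.Finite A M] : Module.Finite A (M →ₗ[A] A) := by
  obtain ⟨a, p, hp⟩ := Module.Finite.exists_fin' A M
  let ρ : (M →ₗ[A] A) →ₗ[A] (Fin a → A) :=
    { toFun := fun ψ k => ψ (p (Pi.single k 1))
      map_add' := fun _ _ => rfl
      map_smul' := fun _ _ => rfl }
  refine Module.Finite.of_injective ρ ?_
  intro ψ ψ' h
  ext m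
  obtain ⟨v, rfl⟩ := hp m
  rw [← LinearMap.comp_apply, ← LinearMap.comp_apply]
  congr 1
  apply LinearMap.pi_ext'
  intro k
  apply LinearMap.ext_ring
  exact congrFun h k

/-- the pairing `(A/J)^r → Hom(M, A/J)` given by `φ₁`. -/
def theta {J : Ideal A} {r : ℕ} (φ₁ : M →ₗ[A] (Fin r → A ⧸ J)) :
    (Fin r → A ⧸ J) →ₗ[A] (M →ₗ[A] A ⧸ J) where
  toFun c :=
    { toFun := fun m => ∑ j, c j * φ₁ m j
      map_add' := fun m m' => by
        rw [map_add, ← Finset.sum_add_distrib]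
        exact Finset.sum_congr rfl fun j _ => by rw [Pi.add_apply, mul_add]
      map_smul' := fun a m => by
        rw [map_smul, Finset.smul_sum]
        exact Finset.sum_congr rfl fun j _ => by
          rw [Pi.smul_apply, mul_smul_comm, RingHom.id_apply] }
  map_add' c c' := by
    ext m
    change ∑ j, (c + c') j * φ₁ m j = (∑ j, c j * φ₁ m j) + ∑ j, c' j * φ₁ m j
    rw [← Finset.sum_add_distrib]
    exact Finset.sum_congr rfl fun j _ => by rw [Pi.add_apply, add_mul]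
  map_smul' a c := by
    ext m
    change ∑ j, (a • c) j * φ₁ m j = a • ∑ j, c j * φ₁ m j
    rw [Finset.smul_sum]
    exact Finset.sum_congr rfl fun j _ => by rw [Pi.smul_apply, smul_mul_assoc]

theorem theta_apply {J : Ideal A} {r : ℕ} (φ₁ : M →ₗ[A] (Fin r → A ⧸ J)) (c : Fin r → A ⧸ J)
    (m : M) : theta φ₁ c m = ∑ j, c j * φ₁ m j := rfl

/-- an `A`-linear map out of `(A/J)^r` is determined by the images of the basis vectors. -/
theorem linearMap_apply_eq {J : Ideal A} {r : ℕ} (w : (Fin r → A ⧸ J) →ₗ[A] A ⧸ J)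
    (v : Fin r → A ⧸ J) : w v = ∑ j, w (Pi.single j 1) * v j := by
  have h1 : v = ∑ k, (Pi.single k (v k) : Fin r → A ⧸ J) :=
    (LinearMap.sum_single_apply (φ := fun _ => A ⧸ J) v).symm
  conv_lhs => rw [h1, map_sum]
  refine Finset.sum_congr rfl fun k _ => ?_
  obtain ⟨a, ha⟩ := Ideal.Quotient.mk_surjective (v k)
  have h2 : (Pi.single k (v k) : Fin r → A ⧸ J) = a • Pi.single k 1 := by
    rw [← Pi.single_smul, ← ha, Algebra.smul_def, mul_one]
    rfl
  rw [h2, map_smul, ← ha, Algebra.smul_def, mul_comm]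
  rfl

theorem theta_injective {J : Ideal A} {x : A} (hx : IsSMulRegular (A ⧸ J) x) {r : ℕ}
    (φ₁ : M →ₗ[A] (Fin r → A ⧸ J)) (hφ : IsoModJ J φ₁ x) : Function.Injective (theta φ₁) := by
  rw [injective_iff_map_eq_zero]
  intro c hc
  let w : (Fin r → A ⧸ J) →ₗ[A] A ⧸ J :=
    theta (M := Fin r → A ⧸ J) LinearMap.id c
  have hw : w = 0 := by
    refine factor_unique hx φ₁ hφ.cok w 0 fun m => ?_
    exact LinearMap.congr_fun hc m
  ext j
  have h1 := LinearMap.congr_fun hw (Pi.single j 1)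
  change ∑ k, c k * (Pi.single j 1 : Fin r → A ⧸ J) k = 0 at h1
  rw [Finset.sum_eq_single j] at h1
  · rwa [Pi.single_eq_same, mul_one] at h1
  · intro k _ hk
    rw [Pi.single_eq_of_ne hk, mul_zero]
  · intro h; exact absurd (Finset.mem_univ j) h

theorem theta_surjective {J : Ideal A} {x y z : A} (hx : Reg3 (A ⧸ J) x y z) {r : ℕ}
    (φ₁ : M →ₗ[A] (Fin r → A ⧸ J)) (hφx : IsoModJ J φ₁ x) (hφy : IsoModJ J φ₁ y) :
    Function.Surjective (theta φ₁) := by
  intro u
  have hJu : ∀ m ∈ J • (⊤ : Submodule A M), u m = 0 := by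
    intro m hm
    induction hm using Submodule.smul_induction_on' with
    | smul j hj m hm =>
      rw [map_smul, Algebra.smul_def]
      have : algebraMap A (A ⧸ J) j = 0 := Ideal.Quotient.eq_zero_iff_mem.2 hj
      rw [this, zero_mul]
    | add x hx y hy h1 h2 => rw [map_add, h1, h2, add_zero]
  obtain ⟨w, hw⟩ := exists_factor (y := x) (z := y) hx.isSMulRegular hx.h2 φ₁ u (by
    intro m hm
    obtain ⟨s, hs⟩ := hφx.ker m hm
    have := hJu _ hs
    rw [map_smul] at this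
    exact isSMulRegular_iff_right_eq_zero_of_smul.1 (hx.isSMulRegular.pow s) _ this)
    hφx.cok hφy.cok
  refine ⟨fun j => w (Pi.single j 1), ?_⟩
  ext m
  rw [theta_apply, ← hw m, linearMap_apply_eq w]

/-- composition with `A → A/J`. -/
def redDual (J : Ideal A) : (M →ₗ[A] A) →ₗ[A] (M →ₗ[A] A ⧸ J) where
  toFun ψ := (Submodule.mkQ J) ∘ₗ ψ
  map_add' ψ ψ' := by ext m; exact map_add (Submodule.mkQ J) _ _
  map_smul' a ψ := by ext m; exact map_smul (Submodule.mkQ J) _ _

theorem exists_iso_off [IsNoetherianRing A] [IsLocalRing A] {J : Ideal A} (hJ : J ≠ ⊤) {x y z : A}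
    (h : Reg3 (A ⧸ J) x y z)
    (hfree : ∀ n, Module.Free (A ⧸ J) (↥(J ^ n) ⧸ (J • (⊤ : Submodule A ↥(J ^ n)))))
    [Module.Finite A M] {ι : Type*} (g : ι → A)
    (hx : x ∈ (Ideal.span (Set.range g)).radical) (hy : y ∈ (Ideal.span (Set.range g)).radical)
    (hz : z ∈ (Ideal.span (Set.range g)).radical) {r : ℕ} (hM : ∀ i, FreeAt M r (g i))
    (φ₁ : M →ₗ[A] (Fin r → A ⧸ J)) (hφ : ∀ i, IsoModJ J φ₁ (g i)) :
    ∃ φ : M →ₗ[A] (Fin r → A), (∀ m j, Ideal.Quotient.mk J (φ m j) = φ₁ m j) ∧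
      ∀ i, (∀ m, φ m = 0 → ∃ s : ℕ, g i ^ s • m = 0) ∧
        ∀ v, ∃ (s : ℕ) (m : M), φ m = g i ^ s • v := by
  have hφx := isoModJ_of_radical hφ hx
  have hφy := isoModJ_of_radical hφ hy
  have hφz := isoModJ_of_radical hφ hz
  -- lifting for `M`
  have L1 : ∀ u : M →ₗ[A] A ⧸ J, ∃ v : M →ₗ[A] A, ∀ m, Ideal.Quotient.mk J (v m) = u m := by
    obtain ⟨a, α, hα⟩ := Module.Finite.exists_fin' A M
    obtain ⟨s, hs⟩ := exists_pow_mem hx (liftIdeal α) (fun i => by
      obtain ⟨s, γ, β, -, hab⟩ := hM i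
      exact ⟨s, mem_liftIdeal_of_factor α hα γ β _ hab⟩)
    exact lift_dual (h.pow s) hfree φ₁ hφy hφz α hs
  -- the dual
  let e : (Fin r → A ⧸ J) ≃ₗ[A] (M →ₗ[A] A ⧸ J) := LinearEquiv.ofBijective (theta φ₁)
    ⟨theta_injective h.isSMulRegular φ₁ hφx, theta_surjective h φ₁ hφx hφy⟩
  let ψ₁ : (M →ₗ[A] A) →ₗ[A] (Fin r → A ⧸ J) := e.symm.toLinearMap ∘ₗ redDual J
  have hψ₁ : ∀ ψ, theta φ₁ (ψ₁ ψ) = redDual J ψ := fun ψ => e.apply_symm_apply _
  have hψ : ∀ i, IsoModJ J ψ₁ (g i) := by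
    intro i
    obtain ⟨s, α, β, hba, hab⟩ := hM i
    refine ⟨fun ψ hψ0 => ⟨s, ?_⟩, fun c => ⟨0, ?_⟩⟩
    · rw [dual_expand α β hab ψ]
      refine Submodule.sum_mem _ fun k _ => Submodule.smul_mem_smul ?_ trivial
      have h2 : redDual J ψ = 0 := by rw [← hψ₁, hψ0, map_zero]
      have h3 := LinearMap.congr_fun h2 (α (Pi.single k 1))
      exact Ideal.Quotient.eq_zero_iff_mem.1 h3
    · obtain ⟨v, hv⟩ := L1 (theta φ₁ c)
      refine ⟨v, ?_⟩
      rw [pow_zero, one_smul]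
      apply theta_injective h.isSMulRegular φ₁ hφx
      rw [hψ₁]
      ext m
      exact hv m
  have := finite_dual (A := A) (M := M)
  have L2 : ∀ u : (M →ₗ[A] A) →ₗ[A] A ⧸ J, ∃ v : (M →ₗ[A] A) →ₗ[A] A,
      ∀ m, Ideal.Quotient.mk J (v m) = u m := by
    obtain ⟨a, α, hα⟩ := Module.Finite.exists_fin' A (M →ₗ[A] A)
    obtain ⟨s, hs⟩ := exists_pow_mem hx (liftIdeal α) (fun i => by
      obtain ⟨s, γ, β, -, hab⟩ := freeAt_dual (hM i)
      exact ⟨s, mem_liftIdeal_of_factor α hα γ β _ hab⟩)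
    exact lift_dual (h.pow s) hfree ψ₁ (isoModJ_of_radical hψ hy) (isoModJ_of_radical hψ hz) α hs
  choose Φ hΦ using fun j : Fin r => L1 ((LinearMap.proj j) ∘ₗ φ₁)
  choose Ψ hΨ using fun k : Fin r => L2 ((LinearMap.proj k) ∘ₗ ψ₁)
  let X : Matrix (Fin r) (Fin r) A := Matrix.of fun j l => Ψ l (Φ j)
  have hΦ₁ : ∀ j, ψ₁ (Φ j) = Pi.single j 1 := by
    intro j
    apply theta_injective h.isSMulRegular φ₁ hφx
    rw [hψ₁]
    ext m
    rw [theta_apply, Finset.sum_eq_single j]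
    · rw [Pi.single_eq_same, one_mul]
      exact hΦ j m
    · intro k _ hk
      rw [Pi.single_eq_of_ne hk, zero_mul]
    · intro h; exact absurd (Finset.mem_univ j) h
  have hX : (Ideal.Quotient.mk J).mapMatrix X = 1 := by
    ext j l
    rw [RingHom.mapMatrix_apply, Matrix.map_apply]
    change Ideal.Quotient.mk J (Ψ l (Φ j)) = _
    rw [hΨ, LinearMap.comp_apply, hΦ₁, LinearMap.proj_apply, Matrix.one_apply, Pi.single_apply]
    simp only [eq_comm]
  have hdet : IsUnit X.det := by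
    have h1 : Ideal.Quotient.mk J X.det = 1 := by rw [RingHom.map_det, hX, Matrix.det_one]
    by_contra hcon
    have h2 : X.det ∈ IsLocalRing.maximalIdeal A := (IsLocalRing.mem_maximalIdeal _).2 hcon
    have h3 : X.det - 1 ∈ J := by
      rw [← Ideal.Quotient.eq_zero_iff_mem, map_sub, h1, map_one, sub_self]
    have h4 := IsLocalRing.le_maximalIdeal hJ h3
    have h5 : (1 : A) ∈ IsLocalRing.maximalIdeal A := by
      have := Ideal.sub_mem _ h2 h4
      rwa [sub_sub_cancel] at this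
    exact (Ideal.ne_top_iff_one _).1 (IsLocalRing.maximalIdeal.isMaximal A).ne_top h5
  refine ⟨LinearMap.pi Φ, fun m j => hΦ j m, fun i => ?_⟩
  obtain ⟨s, α, β, hba, hab⟩ := hM i
  let Y : Matrix (Fin r) (Fin r) A := Matrix.of fun j k => Φ j (α (Pi.single k 1))
  let P : Matrix (Fin r) (Fin r) A := Matrix.of fun k l => Ψ l ((LinearMap.proj k) ∘ₗ β)
  have hYP : (g i ^ s) • X = Y * P := by
    ext j l
    rw [Matrix.smul_apply, Matrix.mul_apply]
    change g i ^ s • Ψ l (Φ j) = ∑ k, Φ j (α (Pi.single k 1)) * Ψ l ((LinearMap.proj k) ∘ₗ β)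
    rw [← map_smul, dual_expand α β hab (Φ j), map_sum]
    refine Finset.sum_congr rfl fun k _ => ?_
    rw [map_smul, smul_eq_mul]
  have hYdvd : Y.det ∣ (g i ^ s) ^ r := by
    have h1 := congrArg Matrix.det hYP
    rw [Matrix.det_smul, Matrix.det_mul, Fintype.card_fin] at h1
    obtain ⟨q, hq⟩ := hdet.exists_right_inv
    refine ⟨P.det * q, ?_⟩
    rw [← mul_assoc, ← h1, mul_assoc, hq, mul_one]
  have hYv : ∀ v, (LinearMap.pi Φ) (α v) = Y.mulVec v := by
    intro v
    ext j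
    have h1 : v = ∑ k, (v k) • (Pi.single k 1 : Fin r → A) := by
      conv_lhs => rw [← LinearMap.sum_single_apply (φ := fun _ => A) v]
      refine Finset.sum_congr rfl fun k _ => ?_
      rw [← Pi.single_smul, smul_eq_mul, mul_one]
    rw [LinearMap.pi_apply, Matrix.mulVec, dotProduct]
    conv_lhs => rw [h1, map_sum, map_sum]
    refine Finset.sum_congr rfl fun k _ => ?_
    rw [map_smul, map_smul, smul_eq_mul, mul_comm]
    rfl
  obtain ⟨q, hq⟩ := hYdvd
  constructor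
  · intro m hm
    have h1 : Y.mulVec (β m) = 0 := by
      rw [← hYv, hab, map_smul, hm, smul_zero]
    have h2 : (g i ^ s) ^ r • β m = 0 := by
      have h3 : Y.adjugate.mulVec (Y.mulVec (β m)) = Y.det • β m := by
        rw [Matrix.mulVec_mulVec, Matrix.adjugate_mul, Matrix.smul_mulVec, Matrix.one_mulVec]
      rw [h1, Matrix.mulVec_zero] at h3
      rw [hq, mul_comm, mul_smul, ← h3, smul_zero]
    refine ⟨s * r + s, ?_⟩
    rw [pow_add, mul_smul, ← hab, ← map_smul, pow_mul, h2, map_zero]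
  · intro v
    refine ⟨s * r, α (q • Y.adjugate.mulVec v), ?_⟩
    rw [hYv, Matrix.mulVec_smul, Matrix.mulVec_mulVec, Matrix.mul_adjugate, Matrix.smul_mulVec,
      Matrix.one_mulVec, smul_smul, mul_comm, pow_mul, hq]

end Groth.Agent.Sga2.GrMain
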