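import Groth.Agent.Sga2.PuncRed
import Groth.Agent.Sga2.GrMain

/-!
Functions on a scheme `X` with a ring map `A → Γ(X, ⊤)`, as `A`-algebras: localization and glueing.
-/

set_option autoImplicit false
universe u

open CategoryTheory CategoryTheory.Limits AlgebraicGeometry Opposite TopologicalSpace

namespace Groth.Agent.Sga2.FnSec

open Groth.Agent.Fdesc.LocGen Groth.Agent.Sga2.PuncSections

variable {A : Type u} [CommRing A] {X : Scheme.{u}} (ρ : A →+* Γ(X, ⊤))

/-- functions on `U` as an `A`-algebra. -/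
def Fn (_ρ : A →+* Γ(X, ⊤)) (U : X.Opens) : Type u := Γ(X, U)

noncomputable instance (U : X.Opens) : CommRing (Fn ρ U) := inferInstanceAs (CommRing Γ(X, U))

noncomputable instance (U : X.Opens) : Algebra A (Fn ρ U) := (resA ρ U).toAlgebra

/-- the identity. -/
noncomputable def toFn (U : X.Opens) : Γ(X, U) ≃+* Fn ρ U := RingEquiv.refl _

lemma algebraMap_eq (U : X.Opens) (a : A) : algebraMap A (Fn ρ U) a = toFn ρ U (resA ρ U a) := rfl

lemma algebraMap_top (a : A) : algebraMap A (Fn ρ ⊤) a = toFn ρ ⊤ (ρ a) := by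
  rw [algebraMap_eq, resA, RingHom.comp_apply, ores_refl]

lemma smul_eq (U : X.Opens) (a : A) (m : Fn ρ U) :
    a • m = toFn ρ U (resA ρ U a * (toFn ρ U).symm m) := by
  rw [Algebra.smul_def, algebraMap_eq, map_mul, RingEquiv.apply_symm_apply]

/-- restriction. -/
noncomputable def resF {U V : X.Opens} (h : V ≤ U) : Fn ρ U →ₐ[A] Fn ρ V :=
  { (toFn ρ V).toRingHom.comp ((ores h).comp (toFn ρ U).symm.toRingHom) with
    commutes' := fun a => congrArg (toFn ρ V) (ores_resA ρ h a) }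

lemma resF_toFn {U V : X.Opens} (h : V ≤ U) (x : Γ(X, U)) :
    resF ρ h (toFn ρ U x) = toFn ρ V (ores h x) := rfl

lemma isUnit_algebraMap {a : A} {U : X.Opens} (hU : U ≤ X.basicOpen (ρ a)) :
    IsUnit (algebraMap A (Fn ρ U) a) := by
  rw [algebraMap_eq]
  exact (isUnit_resA ρ hU).map (toFn ρ U)

lemma isUnit_end {a : A} {U : X.Opens} (hU : U ≤ X.basicOpen (ρ a)) :
    IsUnit (algebraMap A (Module.End A (Fn ρ U)) a) := by
  rw [Module.End.isUnit_iff]
  have h := isUnit_algebraMap ρ hU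
  have e : ⇑(algebraMap A (Module.End A (Fn ρ U)) a) = fun m : Fn ρ U => h.unit • m := by
    funext m
    rw [Module.algebraMap_end_apply, Algebra.smul_def]
    rfl
  rw [e]
  exact MulAction.bijective (α := (Fn ρ U)ˣ) (β := Fn ρ U) h.unit

theorem isLocalizedModule_resF [CompactSpace X] [QuasiSeparatedSpace X] (a : A) {D : X.Opens}
    (hD : D = X.basicOpen (ρ a)) :
    IsLocalizedModule.Away a (resF ρ (le_top : D ≤ ⊤)).toLinearMap := by
  subst hD
  have H := isLocalization_basicOpen_of_qcqs (X := X) (U := ⊤) isCompact_univ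
    isQuasiSeparated_univ (ρ a)
  refine IsLocalizedModule.Away.mk_of_addCommGroup (isUnit_end ρ le_rfl) ?_ ?_
  · intro s
    obtain ⟨⟨c, ⟨_, n, rfl⟩⟩, h⟩ := IsLocalization.surj (Submonoid.powers (ρ a))
      (S := Γ(X, X.basicOpen (ρ a))) ((toFn ρ _).symm s)
    refine ⟨n, toFn ρ ⊤ c, ?_⟩
    rw [Algebra.smul_def, map_pow, algebraMap_eq, mul_comm]
    rw [map_pow] at h
    exact congrArg (toFn ρ _) h
  · intro t ht
    obtain ⟨⟨_, n, rfl⟩, h⟩ := (IsLocalization.map_eq_zero_iff (Submonoid.powers (ρ a))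
      (Γ(X, X.basicOpen (ρ a))) ((toFn ρ ⊤).symm t)).1 ht
    refine ⟨n, ?_⟩
    rw [Algebra.smul_def, map_pow, algebraMap_top]
    exact congrArg (toFn ρ _) h

section Cover

variable {ι : Type*} (g : ι → A) (hc : (⊤ : X.Opens) ≤ ⨆ i, X.basicOpen (ρ (g i)))

include hc in
theorem eq_zero_of_cover (m : Fn ρ ⊤) (hm : ∀ i, ∃ s : ℕ, g i ^ s • m = 0) : m = 0 := by
  refine ores_ext (X := X) (V := ⊤) (fun i => X.basicOpen (ρ (g i))) (fun i => le_top) hc
    (a := (toFn ρ ⊤).symm m) (b := 0) fun i => ?_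
  obtain ⟨s, hs⟩ := hm i
  have h1 : resF ρ (le_top : X.basicOpen (ρ (g i)) ≤ ⊤) (g i ^ s • m) = 0 := by rw [hs, map_zero]
  rw [map_smul, Algebra.smul_def, map_pow] at h1
  have h2 := ((isUnit_algebraMap ρ (le_refl (X.basicOpen (ρ (g i))))).pow s).mul_right_eq_zero.mp h1
  rw [map_zero]
  exact h2

include hc in
theorem exists_glue [CompactSpace X] [QuasiSeparatedSpace X] (s : ι → ℕ) (m : ι → Fn ρ ⊤)
    (hm : ∀ i j, g j ^ s j • m i = g i ^ s i • m j) :
    ∃ m' : Fn ρ ⊤, ∀ i, ∃ t : ℕ, g i ^ t • (g i ^ s i • m' - m i) = 0 := by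
  have hu : ∀ i, IsUnit (algebraMap A (Fn ρ (X.basicOpen (ρ (g i)))) (g i) ^ s i) := fun i =>
    (isUnit_algebraMap ρ le_rfl).pow _
  have h1 : ∀ i, ∃ c : Fn ρ (X.basicOpen (ρ (g i))),
      g i ^ s i • c = resF ρ le_top (m i) := by
    intro i
    refine ⟨(hu i).unit⁻¹ • resF ρ le_top (m i), ?_⟩
    rw [Algebra.smul_def, map_pow, Units.smul_def, smul_eq_mul, ← mul_assoc, IsUnit.mul_val_inv,
      one_mul]
  choose c hcc using h1
  obtain ⟨t, ht⟩ := ores_glue (X := X) (V := ⊤) (fun i => X.basicOpen (ρ (g i)))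
    (fun i => le_top) hc (fun i => (toFn ρ _).symm (c i)) (by
      intro i j
      change resF ρ (inf_le_left : X.basicOpen (ρ (g i)) ⊓ X.basicOpen (ρ (g j)) ≤ _) (c i) =
        resF ρ (inf_le_right : X.basicOpen (ρ (g i)) ⊓ X.basicOpen (ρ (g j)) ≤ _) (c j)
      have hui : IsUnit (algebraMap A (Fn ρ (X.basicOpen (ρ (g i)) ⊓ X.basicOpen (ρ (g j))))
          (g i ^ s i * g j ^ s j)) := by
        rw [map_mul, map_pow, map_pow]
        exact ((isUnit_algebraMap ρ inf_le_left).pow _).mul ((isUnit_algebraMap ρ inf_le_right).pow _)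
      apply hui.mul_left_cancel
      rw [← Algebra.smul_def, ← Algebra.smul_def]
      have e1 : resF ρ (inf_le_left : X.basicOpen (ρ (g i)) ⊓ X.basicOpen (ρ (g j)) ≤ _)
          (g i ^ s i • c i) = resF ρ le_top (m i) := by
        rw [hcc]
        exact ores_ores (X := X) _ _ _
      have e2 : resF ρ (inf_le_right : X.basicOpen (ρ (g i)) ⊓ X.basicOpen (ρ (g j)) ≤ _)
          (g j ^ s j • c j) = resF ρ le_top (m j) := by
        rw [hcc]
        exact ores_ores (X := X) _ _ _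
      rw [map_smul] at e1 e2
      rw [mul_smul, smul_comm, e1, mul_smul, e2, ← map_smul, ← map_smul, hm])
  refine ⟨toFn ρ ⊤ t, fun i => ?_⟩
  have hl := isLocalizedModule_resF ρ (g i) (D := X.basicOpen (ρ (g i))) rfl
  have h3 : (resF ρ (le_top : X.basicOpen (ρ (g i)) ≤ ⊤)).toLinearMap (g i ^ s i • toFn ρ ⊤ t) =
      (resF ρ (le_top : X.basicOpen (ρ (g i)) ≤ ⊤)).toLinearMap (m i) := by
    rw [map_smul]
    have : (resF ρ (le_top : X.basicOpen (ρ (g i)) ≤ ⊤)).toLinearMap (toFn ρ ⊤ t) = c i := by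
      have := ht i
      exact congrArg (toFn ρ _) this
    rw [this, hcc]
    rfl
  obtain ⟨n, hn⟩ := IsLocalizedModule.Away.exists_of_eq (g i) h3
  exact ⟨n, by rw [smul_sub, hn, sub_self]⟩

end Cover

end Groth.Agent.Sga2.FnSec
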