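import Groth.Agent.Sga2.GrLoc
import Mathlib.RingTheory.Spectrum.Prime.FreeLocus
import Mathlib.RingTheory.TensorProduct.IsBaseChangePi
import Mathlib.RingTheory.Localization.Free
import Mathlib.Algebra.Category.Ring.Constructions

/-!
Finite flat modules near a point, and base change of local bases.
-/

set_option autoImplicit false
universe u v w

open CategoryTheory CategoryTheory.Limits

namespace Groth.Agent.Sga2.FreeLoc

open Groth.Agent.Sga2.GrMain Groth.Agent.Sga2.GrLoc

theorem exists_freeAt {R N : Type u} [CommRing R] [IsNoetherianRing R] [AddCommGroup N] [Module R N]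
    [Module.Finite R N] [Module.Flat R N] (q : PrimeSpectrum R) {r : ℕ}
    (hr : Module.rankAtStalk (R := R) N q = r) : ∃ h, h ∉ q.asIdeal ∧ FreeAt N r h := by
  have : Module.FinitePresentation R N := Module.finitePresentation_of_finite R N
  have hfree : Module.Free (Localization.AtPrime q.asIdeal)
      (LocalizedModule q.asIdeal.primeCompl N) := by
    have h1 := Module.freeLocus_eq_univ (R := R) (M := N)
    have h2 : q ∈ Module.freeLocus R N := by rw [h1]; trivial
    exact h2
  obtain ⟨h, hh, hh', hh''⟩ := Module.FinitePresentation.exists_free_localizedModule_powers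
    q.asIdeal.primeCompl (LocalizedModule.mkLinearMap q.asIdeal.primeCompl N)
    (Localization.AtPrime q.asIdeal)
  refine ⟨h, hh, ?_⟩
  have hrk : Module.finrank (Localization (Submonoid.powers h))
      (LocalizedModule (Submonoid.powers h) N) = r := by
    rw [hh'']
    exact hr
  have hnt : Nontrivial (Localization (Submonoid.powers h)) := by
    have h0 : (0 : R) ∉ Submonoid.powers h := by
      rintro ⟨n, hn⟩
      have : h ^ n ∈ q.asIdeal := by
        have e : h ^ n = 0 := hn
        rw [e]
        exact q.asIdeal.zero_mem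
      exact hh (q.isPrime.mem_of_pow_mem n this)
    refine ⟨1, 0, fun h10 => h0 ?_⟩
    rw [← map_one (algebraMap R (Localization (Submonoid.powers h))),
      IsLocalization.map_eq_zero_iff (Submonoid.powers h)] at h10
    obtain ⟨c, hc⟩ := h10
    rw [mul_one] at hc
    rw [← hc]
    exact c.2
  have b := Module.finBasisOfFinrankEq (Localization (Submonoid.powers h))
    (LocalizedModule (Submonoid.powers h) N) hrk
  let l₀ : (Fin r → R) →ₗ[R] (Fin r → Localization (Submonoid.powers h)) :=
    LinearMap.pi fun i => (Algebra.linearMap R (Localization (Submonoid.powers h))) ∘ₗ LinearMap.proj i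
  have hl₀ : IsLocalizedModule (Submonoid.powers h) l₀ := inferInstance
  let e : (Fin r → Localization (Submonoid.powers h)) ≃ₗ[R] LocalizedModule (Submonoid.powers h) N :=
    b.equivFun.symm.restrictScalars R
  have hl : IsLocalizedModule (Submonoid.powers h) (e.toLinearMap ∘ₗ l₀) := inferInstance
  have : IsLocalizedModule.Away h (LocalizedModule.mkLinearMap (Submonoid.powers h) N) := inferInstance
  exact freeAt_of_isLocalizedModule (LocalizedModule.mkLinearMap (Submonoid.powers h) N)
    (e.toLinearMap ∘ₗ l₀)

theorem exists_bijective_of_freeAt {R R' N N' : Type*} [CommRing R] [CommRing R'] [Algebra R R']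
    [AddCommGroup N] [Module R N] [AddCommGroup N'] [Module R' N'] [Module R N']
    [IsScalarTower R R' N'] (i : N →ₗ[R] N') (hi : IsBaseChange R' i) {r : ℕ} {h : R}
    (hF : FreeAt N r h) (hu : IsUnit (algebraMap R R' h)) :
    ∃ e : Fin r → N', Function.Bijective (fun v : Fin r → R' => ∑ j, v j • e j) := by
  obtain ⟨s, α, β, h1, h2⟩ := hF
  let e : Fin r → N' := fun j => i (α (Pi.single j 1))
  let α' : (Fin r → R') →ₗ[R'] N' := Fintype.linearCombination R' e
  let γ : N →ₗ[R] (Fin r → R') := LinearMap.pi fun j => (Algebra.linearMap R R') ∘ₗ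
    (LinearMap.proj j) ∘ₗ β
  let β' : N' →ₗ[R'] (Fin r → R') := hi.lift γ
  have hβ' : ∀ n, β' (i n) = γ n := fun n => hi.lift_eq γ n
  have hγ : ∀ n j, γ n j = algebraMap R R' (β n j) := fun n j => rfl
  have hα' : ∀ v : Fin r → R', α' v = ∑ j, v j • e j := fun v =>
    Fintype.linearCombination_apply R' e v
  have hexp : ∀ v : Fin r → R, i (α v) = ∑ j, algebraMap R R' (v j) • e j := by
    intro v
    have h3 : v = ∑ k, (v k) • (Pi.single k 1 : Fin r → R) := by
      conv_lhs => rw [← LinearMap.sum_single_apply (φ := fun _ => R) v]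
      refine Finset.sum_congr rfl fun k _ => ?_
      rw [← Pi.single_smul, smul_eq_mul, mul_one]
    conv_lhs => rw [h3, map_sum, map_sum]
    refine Finset.sum_congr rfl fun k _ => ?_
    rw [map_smul, map_smul, algebraMap_smul]
  have hab : α' ∘ₗ β' = algebraMap R R' h ^ s • LinearMap.id := by
    refine hi.algHom_ext _ _ fun n => ?_
    rw [LinearMap.comp_apply, hβ', hα', LinearMap.smul_apply, LinearMap.id_apply]
    have h3 := hexp (β n)
    rw [h2, map_smul] at h3
    rw [← map_pow, algebraMap_smul, h3]
    rfl
  have hba : β' ∘ₗ α' = algebraMap R R' h ^ s • LinearMap.id := by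
    refine LinearMap.pi_ext' fun j => LinearMap.ext_ring ?_
    simp only [LinearMap.comp_apply, LinearMap.smul_apply, LinearMap.id_apply,
      LinearMap.single_apply]
    have h3 : α' (Pi.single j 1) = e j := by
      rw [hα', Finset.sum_eq_single j]
      · rw [Pi.single_eq_same, one_smul]
      · intro k _ hk
        rw [Pi.single_eq_of_ne hk, zero_smul]
      · intro hj
        exact absurd (Finset.mem_univ j) hj
    rw [h3, hβ']
    ext k
    rw [hγ, h1, Pi.smul_apply, Pi.smul_apply, smul_eq_mul, smul_eq_mul, map_mul, map_pow]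
    congr 1
    by_cases hk : k = j
    · subst hk; simp
    · rw [Pi.single_eq_of_ne hk, Pi.single_eq_of_ne hk, map_zero]
  have hus : IsUnit (algebraMap R R' h ^ s) := hu.pow s
  refine ⟨e, ?_⟩
  have : (fun v : Fin r → R' => ∑ j, v j • e j) = ⇑α' := funext fun v => (hα' v).symm
  rw [this]
  constructor
  · rw [injective_iff_map_eq_zero]
    intro v hv
    have h3 := LinearMap.congr_fun hba v
    rw [LinearMap.comp_apply, hv, map_zero] at h3
    have h4 : hus.unit • v = 0 := h3.symm
    rwa [smul_eq_zero_iff_eq] at h4
  · intro n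
    have h3 := LinearMap.congr_fun hab (hus.unit⁻¹ • n)
    refine ⟨β' (hus.unit⁻¹ • n), h3.trans ?_⟩
    change hus.unit • (hus.unit⁻¹ • n) = n
    rw [smul_inv_smul]

end Groth.Agent.Sga2.FreeLoc
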