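import Groth.Agent.Localalg.Gam
import Groth.Agent.Sga2.DHomLin
import Groth.Agent.Sga2.DDevissage
import Mathlib.Algebra.Homology.DerivedCategory.SingleTriangle
import Mathlib.Algebra.Homology.DerivedCategory.Ext.Linear
import Mathlib.Algebra.Category.ModuleCat.Ext.HasExt
import Mathlib.Algebra.Category.ModuleCat.Ext.Finite
import Mathlib.Algebra.Category.ModuleCat.Abelian

/-!
# `Γ_I` of an injective resolution, and morphisms from modules into it in the derived category
-/

set_option autoImplicit false

universe u w

open CategoryTheory CategoryTheory.Limits CochainComplex CochainComplex.HomComplex DerivedCategory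
open Groth.Agent.Localalg.Gam

namespace Groth.Agent.Sga2.GamCx

variable {R : Type u} [CommRing R] (I : Ideal R)

/-- The subcomplex of `I`-power torsion elements. -/
noncomputable def gamCx (E : CochainComplex (ModuleCat.{u} R) ℤ) : CochainComplex (ModuleCat.{u} R) ℤ where
  X p := ModuleCat.of R (gam I (E.X p))
  d p q := ModuleCat.ofHom (gamMap I (E.d p q).hom)
  shape p q h := by
    ext x
    change (E.d p q).hom x.1 = 0
    rw [E.shape p q h]
    rfl
  d_comp_d' p q r _ _ := by
    ext x
    change (E.d q r).hom ((E.d p q).hom x.1) = 0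
    rw [← ModuleCat.comp_apply, E.d_comp_d]
    rfl

/-- The inclusion `Γ_I(E) ⟶ E`. -/
noncomputable def gamι (E : CochainComplex (ModuleCat.{u} R) ℤ) : gamCx I E ⟶ E where
  f p := ModuleCat.ofHom (gam I (E.X p)).subtype
  comm' p q _ := by
    ext x
    rfl

variable {I}

lemma gamι_f_injective (E : CochainComplex (ModuleCat.{u} R) ℤ) (p : ℤ) :
    Function.Injective ((gamι I E).f p).hom := Subtype.val_injective

instance (E : CochainComplex (ModuleCat.{u} R) ℤ) (p : ℤ) : Mono ((gamι I E).f p) :=
  (ModuleCat.mono_iff_injective _).2 (gamι_f_injective E p)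

instance [IsNoetherianRing R] (E : CochainComplex (ModuleCat.{u} R) ℤ) (p : ℤ) [h : Injective (E.X p)] :
    Injective ((gamCx I E).X p) := by
  have h' : Module.Injective R (E.X p) := Module.injective_module_of_injective_object R (E.X p) (inj := h)
  have := injective_gam I (E.X p) h'
  exact Module.injective_object_of_injective_module R (gam I (E.X p))

instance (E : CochainComplex (ModuleCat.{u} R) ℤ) (n : ℤ) [E.IsStrictlyGE n] :
    (gamCx I E).IsStrictlyGE n := by
  rw [isStrictlyGE_iff]
  intro i hi
  have h := E.isZero_of_isStrictlyGE n i hi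
  have : Subsingleton (E.X i) := ModuleCat.subsingleton_of_isZero h
  have : Subsingleton (gam I (E.X i)) := ⟨fun x y => Subtype.ext (Subsingleton.elim _ _)⟩
  exact @ModuleCat.isZero_of_subsingleton _ _ (ModuleCat.of R (gam I (E.X i))) this

/-- A morphism whose values are `I`-power torsion factors through `Γ_I(E)`. -/
lemma exists_lift {G : ModuleCat.{u} R} {E : CochainComplex (ModuleCat.{u} R) ℤ} {p : ℤ} (φ : G ⟶ E.X p)
    (h : ∀ x : G, φ.hom x ∈ gam I (E.X p)) : ∃ ψ : G ⟶ (gamCx I E).X p, ψ ≫ (gamι I E).f p = φ :=
  ⟨ModuleCat.ofHom (LinearMap.codRestrict _ φ.hom h), by ext x; rfl⟩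

end Groth.Agent.Sga2.GamCx
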