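import Groth.Agent.Sga2.GrReg
import Mathlib.LinearAlgebra.FreeModule.Finite.Basic
import Mathlib.RingTheory.Ideal.Quotient.Operations
import Mathlib.LinearAlgebra.FreeModule.Basic

/-!
SGA 2 XII 4.7, algebraic core, part 1: when `A/J` carries a regular sequence of length three and `gr_J(A)` is
free over `A/J`, maps `M → A/J` lift to `M → A` for `M` finite, locally free off the maximal ideal and such that
`M/JM` is free off the maximal ideal.
-/

set_option autoImplicit false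

namespace Groth.Agent.Sga2.GrKey

universe u v

open scoped Pointwise
open Groth.Agent.Sga2.GrLift Groth.Agent.Sga2.GrReg

variable {A : Type u} [CommRing A]

/-- the projection `A/J^{n+1} → A/J^n`. -/
abbrev proj (J : Ideal A) (n : ℕ) : (A ⧸ J ^ (n + 1)) →ₗ[A] (A ⧸ J ^ n) :=
  Submodule.factor (Ideal.pow_le_pow_right (Nat.le_succ n))

theorem proj_surjective (J : Ideal A) (n : ℕ) : Function.Surjective (proj J n) :=
  Submodule.factor_surjective _

theorem proj_mk (J : Ideal A) (n : ℕ) (a : A) :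
    proj J n (Ideal.Quotient.mk _ a) = Ideal.Quotient.mk _ a := rfl

/-- `J^n → ker (A/J^{n+1} → A/J^n)`. -/
def toKer (J : Ideal A) (n : ℕ) : ↥(J ^ n) →ₗ[A] LinearMap.ker (proj J n) :=
  LinearMap.codRestrict _ ((Submodule.mkQ (J ^ (n + 1))) ∘ₗ (J ^ n).subtype) (by
    intro a
    rw [LinearMap.mem_ker]
    change (Submodule.mkQ (J ^ n)) (a : A) = 0
    rw [Submodule.mkQ_apply, Submodule.Quotient.mk_eq_zero]
    exact a.2)

theorem toKer_surjective (J : Ideal A) (n : ℕ) : Function.Surjective (toKer J n) := by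
  rintro ⟨x, hx⟩
  obtain ⟨a, rfl⟩ := Submodule.Quotient.mk_surjective _ x
  have ha : a ∈ J ^ n := by
    rw [LinearMap.mem_ker] at hx
    change (Submodule.mkQ (J ^ n)) a = 0 at hx
    rwa [Submodule.mkQ_apply, Submodule.Quotient.mk_eq_zero] at hx
  exact ⟨⟨a, ha⟩, rfl⟩

theorem ker_toKer (J : Ideal A) (n : ℕ) :
    LinearMap.ker (toKer J n) = J • (⊤ : Submodule A ↥(J ^ n)) := by
  ext a
  rw [Submodule.mem_smul_top_iff, LinearMap.mem_ker]
  have : toKer J n a = 0 ↔ (a : A) ∈ J ^ (n + 1) := by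
    rw [← Submodule.Quotient.mk_eq_zero (J ^ (n + 1)), ← Subtype.coe_inj]
    rfl
  rw [this, pow_succ', smul_eq_mul]

/-- the graded piece is the kernel. -/
noncomputable def grEquiv (J : Ideal A) (n : ℕ) :
    (↥(J ^ n) ⧸ (J • (⊤ : Submodule A ↥(J ^ n)))) ≃ₗ[A] LinearMap.ker (proj J n) :=
  (Submodule.quotEquivOfEq _ _ (ker_toKer J n).symm) ≪≫ₗ
    (toKer J n).quotKerEquivOfSurjective (toKer_surjective J n)

theorem reg3_gr [IsNoetherianRing A] {J : Ideal A} {f y z : A} (h : Reg3 (A ⧸ J) f y z) (n : ℕ)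
    (hfree : Module.Free (A ⧸ J) (↥(J ^ n) ⧸ (J • (⊤ : Submodule A ↥(J ^ n))))) :
    Reg3 (LinearMap.ker (proj J n)) f y z := by
  have : Module.Finite (A ⧸ J) (↥(J ^ n) ⧸ (J • (⊤ : Submodule A ↥(J ^ n)))) :=
    Module.Finite.of_restrictScalars_finite A _ _
  let b := Module.Free.chooseBasis (A ⧸ J) (↥(J ^ n) ⧸ (J • (⊤ : Submodule A ↥(J ^ n))))
  have h1 : Reg3 (↥(J ^ n) ⧸ (J • (⊤ : Submodule A ↥(J ^ n)))) f y z := by
    refine (h.pi _).of_equiv b.equivFun.symm.toAddEquiv ?_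
    intro a n
    change b.equivFun.symm (a • n) = a • b.equivFun.symm n
    rw [← algebraMap_smul (A ⧸ J) a n, map_smul, algebraMap_smul]
  exact h1.of_equiv (grEquiv J n).toAddEquiv (fun a m => map_smul (grEquiv J n) a m)

theorem reg3_pow [IsNoetherianRing A] {J : Ideal A} {f y z : A} (h : Reg3 (A ⧸ J) f y z)
    (hfree : ∀ n, Module.Free (A ⧸ J) (↥(J ^ n) ⧸ (J • (⊤ : Submodule A ↥(J ^ n))))) (n : ℕ) :
    Reg3 (A ⧸ J ^ n) f y z := by
  induction n with
  | zero =>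
    have : Subsingleton (A ⧸ J ^ 0) := by
      rw [pow_zero, Ideal.one_eq_top]
      exact Ideal.Quotient.subsingleton_iff.2 rfl
    exact ⟨fun a _ => Subsingleton.elim _ _, fun a b _ => ⟨0, Subsingleton.elim _ _⟩,
      fun a b c _ => ⟨0, 0, Subsingleton.elim _ _⟩⟩
  | succ n ih => exact Reg3.of_ext (proj J n) (proj_surjective J n) (reg3_gr h n (hfree n)) ih

/-- ideals of a noetherian local ring are closed for the `J`-adic topology. -/
theorem mem_of_forall_mem_sup_pow [IsNoetherianRing A] [IsLocalRing A] {J : Ideal A} (hJ : J ≠ ⊤)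
    (I : Ideal A) (a : A) (h : ∀ n, a ∈ I ⊔ J ^ n) : a ∈ I := by
  have h1 := Ideal.iInf_pow_smul_eq_bot_of_isLocalRing (M := A ⧸ I) J hJ
  have h2 : (Ideal.Quotient.mk I a) ∈ (⨅ i : ℕ, J ^ i • (⊤ : Submodule A (A ⧸ I))) := by
    rw [Submodule.mem_iInf]
    intro i
    obtain ⟨b, hb, c, hc, rfl⟩ := Submodule.mem_sup.1 (h i)
    have : Ideal.Quotient.mk I (b + c) = c • (1 : A ⧸ I) := by
      rw [map_add, Ideal.Quotient.eq_zero_iff_mem.2 hb, zero_add, ← Algebra.algebraMap_eq_smul_one]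
      rfl
    rw [this]
    exact Submodule.smul_mem_smul hc trivial
  rw [h1, Submodule.mem_bot, Ideal.Quotient.eq_zero_iff_mem] at h2
  exact h2

theorem mk_smul' (I : Ideal A) (a b : A) :
    Ideal.Quotient.mk I (a • b) = a • Ideal.Quotient.mk I b := rfl

theorem reg3_self [IsNoetherianRing A] [IsLocalRing A] {J : Ideal A} (hJ : J ≠ ⊤) {f y z : A}
    (h : Reg3 (A ⧸ J) f y z)
    (hfree : ∀ n, Module.Free (A ⧸ J) (↥(J ^ n) ⧸ (J • (⊤ : Submodule A ↥(J ^ n))))) :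
    Reg3 A f y z := by
  have H := reg3_pow h hfree
  refine ⟨?_, ?_, ?_⟩
  · intro a ha
    rw [← Submodule.mem_bot A]
    refine mem_of_forall_mem_sup_pow hJ _ a fun n => ?_
    have := (H n).h1 (Ideal.Quotient.mk _ a) (by rw [← mk_smul', ha, map_zero])
    exact (le_sup_right : J ^ n ≤ ⊥ ⊔ J ^ n) (Ideal.Quotient.eq_zero_iff_mem.1 this)
  · intro a b hab
    have : a ∈ Ideal.span {f} := by
      refine mem_of_forall_mem_sup_pow hJ _ a fun n => ?_
      obtain ⟨a', ha'⟩ := (H n).h2 (Ideal.Quotient.mk _ a) (Ideal.Quotient.mk _ b)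
        (by rw [← mk_smul', hab, mk_smul'])
      obtain ⟨a', rfl⟩ := Ideal.Quotient.mk_surjective a'
      rw [← mk_smul', Ideal.Quotient.eq] at ha'
      have h2 : a = f * a' + (a - f • a') := by rw [smul_eq_mul]; ring
      rw [h2]
      exact Submodule.add_mem_sup (Ideal.mul_mem_right _ _ (Ideal.mem_span_singleton_self f)) ha'
    obtain ⟨c, hc⟩ := Ideal.mem_span_singleton'.1 this
    exact ⟨c, by rw [smul_eq_mul, mul_comm]; exact hc.symm⟩
  · intro a b c habc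
    have : a ∈ Ideal.span {y} ⊔ Ideal.span {f} := by
      refine mem_of_forall_mem_sup_pow hJ _ a fun n => ?_
      obtain ⟨b', c', ha'⟩ := (H n).h3 (Ideal.Quotient.mk _ a) (Ideal.Quotient.mk _ b)
        (Ideal.Quotient.mk _ c) (by rw [← mk_smul', habc, map_add, mk_smul', mk_smul'])
      obtain ⟨b', rfl⟩ := Ideal.Quotient.mk_surjective b'
      obtain ⟨c', rfl⟩ := Ideal.Quotient.mk_surjective c'
      rw [← mk_smul', ← mk_smul', ← map_add, Ideal.Quotient.eq] at ha'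
      have h2 : a = (y * b' + f * c') + (a - (y • b' + f • c')) := by
        simp only [smul_eq_mul]; ring
      rw [h2]
      refine Submodule.add_mem_sup (Submodule.add_mem_sup ?_ ?_) ha'
      · exact Ideal.mul_mem_right _ _ (Ideal.mem_span_singleton_self y)
      · exact Ideal.mul_mem_right _ _ (Ideal.mem_span_singleton_self f)
    obtain ⟨p, hp, q, hq, rfl⟩ := Submodule.mem_sup.1 this
    obtain ⟨b', rfl⟩ := Ideal.mem_span_singleton'.1 hp
    obtain ⟨c', rfl⟩ := Ideal.mem_span_singleton'.1 hq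
    exact ⟨b', c', by simp only [smul_eq_mul]; ring⟩

variable {M : Type v} [AddCommGroup M] [Module A M]

/-- maps from `M` to `N/fN` lift to `N`, for `N` killed by `J` with regular sequence `f, y, z` and `M/JM` free off
`V(y) ∩ V(z)`. -/
theorem hom_quot_lift {J : Ideal A} {N : Type*} [AddCommGroup N] [Module A N]
    (hJN : ∀ j ∈ J, ∀ n : N, j • n = 0) {f y z : A}
    (hN : Reg3 N f y z) {r : ℕ} (φ₁ : M →ₗ[A] (Fin r → A ⧸ J))
    (hker : ∀ x, φ₁ x = 0 → ∃ s : ℕ, y ^ s • x ∈ J • (⊤ : Submodule A M))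
    (hcoky : ∀ v, ∃ (s : ℕ) (x : M), φ₁ x = y ^ s • v)
    (hcokz : ∀ v, ∃ (s : ℕ) (x : M), φ₁ x = z ^ s • v)
    (u : M →ₗ[A] (N ⧸ (f • (⊤ : Submodule A N)))) :
    ∃ w : M →ₗ[A] N, ∀ m, Submodule.Quotient.mk (w m) = u m := by
  have hJQ : ∀ x ∈ J • (⊤ : Submodule A M), u x = 0 := by
    intro x hx
    induction hx using Submodule.smul_induction_on' with
    | smul j hj m hm =>
      obtain ⟨n, hn⟩ := Submodule.Quotient.mk_surjective _ (u m)
      rw [map_smul, ← hn, ← Submodule.Quotient.mk_smul, hJN j hj, Submodule.Quotient.mk_zero]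
    | add x hx y hy h1 h2 => rw [map_add, h1, h2, add_zero]
  have hker' : ∀ x, φ₁ x = 0 → u x = 0 := by
    intro x hx
    obtain ⟨s, hs⟩ := hker x hx
    have := hJQ _ hs
    rw [map_smul] at this
    exact isSMulRegular_iff_right_eq_zero_of_smul.1 (hN.isSMulRegular_quot.pow s) _ this
  obtain ⟨w, hw⟩ := exists_factor hN.isSMulRegular_quot hN.quot_div φ₁ u hker' hcoky hcokz
  choose n hn using fun j : Fin r => Submodule.Quotient.mk_surjective (f • (⊤ : Submodule A N))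
    (w (Pi.single j 1))
  let g : ∀ j : Fin r, (A ⧸ J) →ₗ[A] N := fun j =>
    Submodule.liftQ J (LinearMap.toSpanSingleton A N (n j)) (by
      intro a ha
      rw [LinearMap.mem_ker, LinearMap.toSpanSingleton_apply]
      exact hJN a ha _)
  let w' : (Fin r → A ⧸ J) →ₗ[A] N := ∑ j, (g j) ∘ₗ (LinearMap.proj j)
  have hw' : ((f • (⊤ : Submodule A N)).mkQ) ∘ₗ w' = w := by
    apply LinearMap.pi_ext'
    intro j
    apply Submodule.linearMap_qext
    apply LinearMap.ext_ring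
    change Submodule.Quotient.mk (w' (Pi.single j 1)) = w (Pi.single j 1)
    rw [← hn j]
    congr 1
    simp only [w', LinearMap.sum_apply, LinearMap.comp_apply, LinearMap.proj_apply]
    rw [Finset.sum_eq_single j]
    · rw [Pi.single_eq_same]
      change (1 : A) • n j = n j
      rw [one_smul]
    · intro i _ hij
      rw [Pi.single_eq_of_ne hij, map_zero]
    · intro h; exact absurd (Finset.mem_univ j) h
  refine ⟨w' ∘ₗ φ₁, fun m => ?_⟩
  have := LinearMap.congr_fun hw' (φ₁ m)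
  rw [← hw m, ← this]
  rfl

/-- elements of `A` whose multiplication on `M` lifts along a fixed map from a free module. -/
def liftIdeal {F : Type*} [AddCommGroup F] [Module A F] (α : F →ₗ[A] M) : Ideal A where
  carrier := {a | ∃ β : M →ₗ[A] F, ∀ m, α (β m) = a • m}
  zero_mem' := ⟨0, fun m => by simp⟩
  add_mem' := by
    rintro a b ⟨β, hβ⟩ ⟨γ, hγ⟩
    exact ⟨β + γ, fun m => by rw [LinearMap.add_apply, map_add, hβ, hγ, add_smul]⟩
  smul_mem' := by
    rintro c a ⟨β, hβ⟩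
    exact ⟨c • β, fun m => by rw [LinearMap.smul_apply, map_smul, hβ, smul_eq_mul, mul_smul]⟩

theorem mem_liftIdeal {F : Type*} [AddCommGroup F] [Module A F] (α : F →ₗ[A] M) (a : A) :
    a ∈ liftIdeal α ↔ ∃ β : M →ₗ[A] F, ∀ m, α (β m) = a • m := Iff.rfl

/-- if `h^s` factors through some finite free module, then it lies in `liftIdeal α` for any surjection `α`. -/
theorem mem_liftIdeal_of_factor {F : Type*} [AddCommGroup F] [Module A F] (α : F →ₗ[A] M)
    (hα : Function.Surjective α) {r : ℕ} (γ : (Fin r → A) →ₗ[A] M) (β : M →ₗ[A] (Fin r → A)) (a : A)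
    (h : ∀ m, γ (β m) = a • m) : a ∈ liftIdeal α := by
  obtain ⟨δ, hδ⟩ := Module.projective_lifting_property α γ hα
  refine ⟨δ ∘ₗ β, fun m => ?_⟩
  have := LinearMap.congr_fun hδ (β m)
  rw [← h m, ← this]
  rfl

theorem smul_ker_eq_zero (J : Ideal A) (n : ℕ) (j : A) (hj : j ∈ J) (x : LinearMap.ker (proj J n)) :
    j • x = 0 := by
  obtain ⟨a, rfl⟩ := toKer_surjective J n x
  rw [← map_smul, ← LinearMap.mem_ker, ker_toKer]
  exact Submodule.smul_mem_smul hj trivial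

/-- the data used for lifting: `M` a module with a map `φ₁ : M → (A/J)^r` which is an isomorphism modulo `J` up to
`y`- and `z`-power torsion. -/
structure IsoModJ (J : Ideal A) {r : ℕ} (φ₁ : M →ₗ[A] (Fin r → A ⧸ J)) (y : A) : Prop where
  ker : ∀ x, φ₁ x = 0 → ∃ s : ℕ, y ^ s • x ∈ J • (⊤ : Submodule A M)
  cok : ∀ v, ∃ (s : ℕ) (x : M), φ₁ x = y ^ s • v

theorem lift_step [IsNoetherianRing A] {J : Ideal A} {f y z : A} (h : Reg3 (A ⧸ J) f y z)
    (hfree : ∀ n, Module.Free (A ⧸ J) (↥(J ^ n) ⧸ (J • (⊤ : Submodule A ↥(J ^ n)))))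
    {r : ℕ} (φ₁ : M →ₗ[A] (Fin r → A ⧸ J)) (hy : IsoModJ J φ₁ y) (hz : IsoModJ J φ₁ z)
    {a : ℕ} (α : (Fin a → A) →ₗ[A] M) (hf : f ∈ liftIdeal α) (n : ℕ)
    (w : M →ₗ[A] A ⧸ J ^ n) : ∃ w' : M →ₗ[A] A ⧸ J ^ (n + 1), ∀ m, proj J n (w' m) = w m := by
  obtain ⟨β, hβ⟩ := hf
  obtain ⟨l, hl⟩ := Module.projective_lifting_property (proj J n) (w ∘ₗ α) (proj_surjective J n)
  have hr := reg3_gr h n (hfree n)
  refine exists_lift_of_factor (proj J n) (proj_surjective J n) f w (l ∘ₗ β) ?_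
    hr.isSMulRegular ?_
  · intro m
    have := LinearMap.congr_fun hl (β m)
    change proj J n (l (β m)) = _
    rw [← map_smul, ← hβ m]
    exact this
  · exact hom_quot_lift (smul_ker_eq_zero J n) hr φ₁ hy.ker hy.cok hz.cok

theorem lift_pow [IsNoetherianRing A] {J : Ideal A} {f y z : A} (h : Reg3 (A ⧸ J) f y z)
    (hfree : ∀ n, Module.Free (A ⧸ J) (↥(J ^ n) ⧸ (J • (⊤ : Submodule A ↥(J ^ n)))))
    {r : ℕ} (φ₁ : M →ₗ[A] (Fin r → A ⧸ J)) (hy : IsoModJ J φ₁ y) (hz : IsoModJ J φ₁ z)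
    {a : ℕ} (α : (Fin a → A) →ₗ[A] M) (hf : f ∈ liftIdeal α) (u : M →ₗ[A] A ⧸ J) (n : ℕ) :
    ∃ w : M →ₗ[A] A ⧸ J ^ (n + 1), ∀ m (a : A), Ideal.Quotient.mk _ a = w m →
      Ideal.Quotient.mk J a = u m := by
  induction n with
  | zero =>
    have hle : J ≤ J ^ (0 + 1) := by simp
    refine ⟨(Submodule.factor hle) ∘ₗ u, fun m a ha => ?_⟩
    obtain ⟨b, hb⟩ := Ideal.Quotient.mk_surjective (u m)
    rw [LinearMap.comp_apply, ← hb] at ha
    change Ideal.Quotient.mk (J ^ (0 + 1)) a = Ideal.Quotient.mk (J ^ (0 + 1)) b at ha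
    rw [← hb]
    rw [Ideal.Quotient.eq] at ha ⊢
    simpa using ha
  | succ n ih =>
    obtain ⟨w, hw⟩ := ih
    obtain ⟨w', hw'⟩ := lift_step h hfree φ₁ hy hz α hf (n + 1) w
    refine ⟨w', fun m a ha => hw m a ?_⟩
    rw [← hw' m, ← ha]
    rfl

/-- `Hom(M, A) → Hom(M, A/J)` is surjective. -/
theorem lift_dual [IsNoetherianRing A] [Module.Finite A M] {J : Ideal A} {f y z : A}
    (h : Reg3 (A ⧸ J) f y z)
    (hfree : ∀ n, Module.Free (A ⧸ J) (↥(J ^ n) ⧸ (J • (⊤ : Submodule A ↥(J ^ n)))))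
    {r : ℕ} (φ₁ : M →ₗ[A] (Fin r → A ⧸ J)) (hy : IsoModJ J φ₁ y) (hz : IsoModJ J φ₁ z)
    {a : ℕ} (α : (Fin a → A) →ₗ[A] M) (hf : f ∈ liftIdeal α) (u : M →ₗ[A] A ⧸ J) :
    ∃ v : M →ₗ[A] A, ∀ m, Ideal.Quotient.mk J (v m) = u m := by
  obtain ⟨n, hn, H⟩ := artin_rees_lift (M := M) J
  obtain ⟨n, rfl⟩ : ∃ k, n = k + 1 := ⟨n - 1, by omega⟩
  obtain ⟨w, hw⟩ := lift_pow h hfree φ₁ hy hz α hf u n
  obtain ⟨v, hv⟩ := H w
  refine ⟨v, fun m => ?_⟩
  obtain ⟨a, ha⟩ := Ideal.Quotient.mk_surjective (w m)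
  rw [← hw m a ha, Ideal.Quotient.eq]
  exact hv m a ha

end Groth.Agent.Sga2.GrKey
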