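import Mathlib.RingTheory.Regular.RegularSequence
import Mathlib.RingTheory.Filtration
import Mathlib.RingTheory.Finiteness.Finsupp
import Mathlib.LinearAlgebra.Dual.Lemmas
import Mathlib.LinearAlgebra.FreeModule.Basic

/-!
Elementary lifting lemmas (SGA 2 XII 4.7).

* `exists_factor`: a linear map `u : M → N` factors through `φ : M → F` when `ker φ ≤ ker u`, the cokernel of `φ`
  is killed (elementwise) by powers of `y` and of `z`, and `y, z` is a regular sequence on `N`.
* `exists_lift_of_factor`: lifting `u : M → Y` along a surjection `π : X → Y` when `f u` lifts,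
  `f` is regular on `ker π` and `Hom(M, ker π) → Hom(M, ker π / f)` is surjective.
* `artin_rees_lift`: over a Noetherian ring, a map `M → A/J` that lifts to all `A/J^n` lifts to `A`.
-/

set_option autoImplicit false

namespace Groth.Agent.Sga2.GrLift

universe u v

open scoped Pointwise

section Factor

variable {A : Type*} [CommRing A] {M F N : Type*} [AddCommGroup M] [Module A M] [AddCommGroup F]
  [Module A F] [AddCommGroup N] [Module A N]

theorem pow_div {y z : A} (hy : IsSMulRegular N y)
    (hz : ∀ a b : N, z • a = y • b → ∃ c, a = y • c)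
    (s t : ℕ) (a b : N) (h : z ^ s • a = y ^ t • b) : ∃ c, a = y ^ t • c := by
  have hz' : ∀ (s : ℕ) (a b : N), z ^ s • a = y • b → ∃ c, a = y • c := by
    intro s
    induction s with
    | zero => intro a b h; exact ⟨b, by simpa using h⟩
    | succ s ih =>
      intro a b h
      rw [pow_succ', mul_smul] at h
      obtain ⟨c, hc⟩ := hz _ _ h
      exact ih a c hc
  induction t generalizing a b with
  | zero => exact ⟨a, by simp⟩
  | succ t ih =>
    rw [pow_succ', mul_smul] at h
    obtain ⟨a', rfl⟩ := hz' s _ _ h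
    have h2 : z ^ s • a' = y ^ t • b := by
      apply hy
      simp only
      rw [smul_comm, h]
    obtain ⟨c, rfl⟩ := ih _ _ h2
    exact ⟨c, by rw [pow_succ', mul_smul]⟩

theorem exists_factor {y z : A} (hy : IsSMulRegular N y)
    (hz : ∀ a b : N, z • a = y • b → ∃ c, a = y • c)
    (φ : M →ₗ[A] F) (u : M →ₗ[A] N) (hker : ∀ x, φ x = 0 → u x = 0)
    (hcoky : ∀ v, ∃ (s : ℕ) (x : M), φ x = y ^ s • v)
    (hcokz : ∀ v, ∃ (s : ℕ) (x : M), φ x = z ^ s • v) :
    ∃ w : F →ₗ[A] N, ∀ x, w (φ x) = u x := by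
  have key : ∀ v : F, ∃ c : N, ∀ (s : ℕ) (x : M), φ x = y ^ s • v → u x = y ^ s • c := by
    intro v
    obtain ⟨s, x, hx⟩ := hcoky v
    obtain ⟨t, x', hx'⟩ := hcokz v
    have h1 : z ^ t • u x = y ^ s • u x' := by
      have : u (z ^ t • x - y ^ s • x') = 0 :=
        hker _ (by simp [hx, hx', smul_smul, mul_comm])
      simpa [sub_eq_zero] using this
    obtain ⟨c, hc⟩ := pow_div hy hz t s _ _ h1
    refine ⟨c, fun s' x'' hx'' => ?_⟩
    have h2 : y ^ s • u x'' = y ^ s • (y ^ s' • c) := by
      have : u (y ^ s • x'' - y ^ s' • x) = 0 :=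
        hker _ (by simp [hx, hx'', smul_smul, mul_comm])
      have h3 : y ^ s • u x'' = y ^ s' • u x := by simpa [sub_eq_zero] using this
      rw [h3, hc, smul_comm]
    exact (hy.pow s) h2
  choose w hw using key
  have uniq : ∀ v c (s : ℕ) (x : M), φ x = y ^ s • v → u x = y ^ s • c → w v = c := by
    intro v c s x h1 h2
    apply hy.pow s
    simp only
    rw [← h2, hw v s x h1]
  refine ⟨{ toFun := w, map_add' := ?_, map_smul' := ?_ }, ?_⟩
  · intro v v'
    obtain ⟨s, x, hx⟩ := hcoky v
    obtain ⟨s', x', hx'⟩ := hcoky v'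
    refine uniq _ _ (s + s') (y ^ s' • x + y ^ s • x') ?_ ?_
    · rw [map_add, map_smul, map_smul, hx, hx', smul_add, smul_smul, smul_smul, ← pow_add, ← pow_add,
        add_comm s' s]
    · rw [map_add, map_smul, map_smul, hw v s x hx, hw v' s' x' hx', smul_add, smul_smul, smul_smul,
        ← pow_add, ← pow_add, add_comm s' s]
  · intro a v
    obtain ⟨s, x, hx⟩ := hcoky v
    refine uniq _ _ s (a • x) ?_ ?_
    · rw [map_smul, hx, smul_comm]
    · rw [map_smul, hw v s x hx, RingHom.id_apply, smul_comm]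
  · intro x
    exact uniq _ _ 0 x (by simp) (by simp)

theorem factor_unique {y : A} (hy : IsSMulRegular N y) (φ : M →ₗ[A] F)
    (hcoky : ∀ v, ∃ (s : ℕ) (x : M), φ x = y ^ s • v) (w w' : F →ₗ[A] N)
    (h : ∀ x, w (φ x) = w' (φ x)) : w = w' := by
  ext v
  obtain ⟨s, x, hx⟩ := hcoky v
  apply hy.pow s
  simp only
  rw [← map_smul, ← map_smul, ← hx, h]

end Factor

section Lift

variable {A : Type*} [CommRing A] {M X Y : Type*} [AddCommGroup M] [Module A M] [AddCommGroup X]
  [Module A X] [AddCommGroup Y] [Module A Y]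

theorem exists_lift_of_factor (π : X →ₗ[A] Y) (hπ : Function.Surjective π) (f : A) (u : M →ₗ[A] Y)
    (v' : M →ₗ[A] X) (hv' : ∀ m, π (v' m) = f • u m)
    (hf : IsSMulRegular (LinearMap.ker π) f)
    (hlift : ∀ y : M →ₗ[A] (LinearMap.ker π ⧸ (f • (⊤ : Submodule A (LinearMap.ker π)))),
      ∃ z : M →ₗ[A] LinearMap.ker π, ∀ m, Submodule.Quotient.mk (z m) = y m) :
    ∃ v : M →ₗ[A] X, ∀ m, π (v m) = u m := by
  choose x hx using fun m => hπ (u m)
  have hK : ∀ m, v' m - f • x m ∈ LinearMap.ker π := by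
    intro m
    rw [LinearMap.mem_ker, map_sub, map_smul, hv', hx, sub_self]
  let y : M →ₗ[A] (LinearMap.ker π ⧸ (f • (⊤ : Submodule A (LinearMap.ker π)))) :=
    { toFun := fun m => Submodule.Quotient.mk ⟨v' m - f • x m, hK m⟩
      map_add' := by
        intro m m'
        rw [← Submodule.Quotient.mk_add, Submodule.Quotient.eq]
        rw [Submodule.mem_smul_pointwise_iff_exists]
        refine ⟨⟨x m + x m' - x (m + m'), ?_⟩, trivial, ?_⟩
        · rw [LinearMap.mem_ker, map_sub, map_add, hx, hx, hx, map_add, sub_self]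
        · ext
          simp only [SetLike.mk_smul_mk, Submodule.coe_sub, Submodule.coe_add, map_add, smul_sub,
            smul_add]
          abel
      map_smul' := by
        intro a m
        rw [RingHom.id_apply, ← Submodule.Quotient.mk_smul, Submodule.Quotient.eq]
        rw [Submodule.mem_smul_pointwise_iff_exists]
        refine ⟨⟨a • x m - x (a • m), ?_⟩, trivial, ?_⟩
        · rw [LinearMap.mem_ker, map_sub, map_smul, hx, hx, map_smul, sub_self]
        · ext
          simp only [SetLike.mk_smul_mk, Submodule.coe_sub, map_smul, smul_sub, smul_comm a f]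
          abel }
  obtain ⟨z, hz⟩ := hlift y
  have key : ∀ m, ∃ e : X, π e = u m ∧ f • e = v' m - z m := by
    intro m
    have h1 := hz m
    change Submodule.Quotient.mk (z m) = Submodule.Quotient.mk ⟨v' m - f • x m, hK m⟩ at h1
    rw [eq_comm, Submodule.Quotient.eq, Submodule.mem_smul_pointwise_iff_exists] at h1
    obtain ⟨k, -, hk⟩ := h1
    have hk' : f • (k : X) = v' m - f • x m - z m := by
      simpa using congrArg Subtype.val hk
    refine ⟨x m + k, ?_, ?_⟩
    · rw [map_add, hx, LinearMap.mem_ker.1 k.2, add_zero]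
    · rw [smul_add, hk']
      abel
  choose e he using key
  have uniq : ∀ m e', π e' = u m → f • e' = v' m - z m → e m = e' := by
    intro m e' h1 h2
    have hmem : e m - e' ∈ LinearMap.ker π := by
      rw [LinearMap.mem_ker, map_sub, (he m).1, h1, sub_self]
    have h3 : (⟨e m - e', hmem⟩ : LinearMap.ker π) = 0 := by
      apply hf
      ext
      simp [smul_sub, (he m).2, h2]
    simpa [sub_eq_zero] using congrArg Subtype.val h3
  refine ⟨{ toFun := e, map_add' := ?_, map_smul' := ?_ }, fun m => (he m).1⟩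
  · intro m m'
    refine uniq _ _ ?_ ?_
    · rw [map_add, (he m).1, (he m').1, map_add]
    · rw [smul_add, (he m).2, (he m').2, map_add, map_add, Submodule.coe_add]
      abel
  · intro a m
    refine uniq _ _ ?_ ?_
    · rw [RingHom.id_apply, map_smul, (he m).1, map_smul]
    · rw [RingHom.id_apply, smul_comm, (he m).2, map_smul, map_smul, smul_sub, Submodule.coe_smul]

end Lift

section ArtinRees

variable {A : Type u} [CommRing A] [IsNoetherianRing A] {M : Type v} [AddCommGroup M] [Module A M]
  [Module.Finite A M]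

omit [IsNoetherianRing A] in
theorem dual_mem_smul {J : Ideal A} {P : Type*} [AddCommGroup P] [Module A P] {v : P →ₗ[A] A}
    (hv : v ∈ J • (⊤ : Submodule A (P →ₗ[A] A))) (x : P) : v x ∈ J := by
  induction hv using Submodule.smul_induction_on' with
  | smul r hr n hn => exact J.mul_mem_right _ hr
  | add x hx y hy h1 h2 => exact J.add_mem h1 h2

theorem artin_rees_lift (J : Ideal A) :
    ∃ n : ℕ, 1 ≤ n ∧ ∀ w : M →ₗ[A] A ⧸ J ^ n, ∃ v : M →ₗ[A] A, ∀ m (a : A),
      Ideal.Quotient.mk (J ^ n) a = w m → v m - a ∈ J := by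
  obtain ⟨a, p, hp⟩ := Module.Finite.exists_fin' A M
  obtain ⟨b, k, hk⟩ := Submodule.fg_iff_exists_fin_generating_family.1
    (IsNoetherian.noetherian (LinearMap.ker p))
  let D : ((Fin a → A) →ₗ[A] A) →ₗ[A] (Fin b → A) :=
    { toFun := fun v j => v (k j)
      map_add' := fun v w => rfl
      map_smul' := fun r v => rfl }
  obtain ⟨c, hc⟩ := Ideal.exists_pow_inf_eq_pow_smul J (LinearMap.range D)
  refine ⟨c + 1, by omega, fun w => ?_⟩
  have hsurj : Function.Surjective (Submodule.mkQ (J ^ (c + 1))) := Submodule.mkQ_surjective _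
  obtain ⟨v, hv⟩ := Module.projective_lifting_property (Submodule.mkQ (J ^ (c + 1))) (w ∘ₗ p) hsurj
  have hv1 : ∀ x, Ideal.Quotient.mk (J ^ (c + 1)) (v x) = w (p x) := fun x => DFunLike.congr_fun hv x
  have hkp : ∀ j, p (k j) = 0 := by
    intro j
    have : k j ∈ LinearMap.ker p := by
      rw [← hk]
      exact Submodule.subset_span ⟨j, rfl⟩
    exact this
  have hDv : D v ∈ J ^ (c + 1) • (⊤ : Submodule A (Fin b → A)) ⊓ LinearMap.range D := by
    refine ⟨?_, ⟨v, rfl⟩⟩
    have h2 : ∀ j, D v j ∈ J ^ (c + 1) := by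
      intro j
      rw [← Ideal.Quotient.eq_zero_iff_mem]
      change Ideal.Quotient.mk (J ^ (c + 1)) (v (k j)) = 0
      rw [hv1, hkp, map_zero]
    rw [← LinearMap.sum_single_apply (φ := fun _ => A) (D v)]
    refine Submodule.sum_mem _ fun j _ => ?_
    have : (Pi.single j (D v j) : Fin b → A) = (D v j) • (Pi.single j 1 : Fin b → A) := by
      rw [← Pi.single_smul, smul_eq_mul, mul_one]
    rw [this]
    exact Submodule.smul_mem_smul (h2 j) trivial
  rw [hc (c + 1) (by omega)] at hDv
  have h3 : D v ∈ J • LinearMap.range D := by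
    have h4 : J ^ (c + 1 - c) • (J ^ c • (⊤ : Submodule A (Fin b → A)) ⊓ LinearMap.range D)
        ≤ J • LinearMap.range D := by
      rw [show c + 1 - c = 1 by omega, pow_one]
      exact Submodule.smul_mono le_rfl inf_le_right
    exact h4 hDv
  rw [LinearMap.range_eq_map, ← Submodule.map_smul''] at h3
  obtain ⟨v', hv', hDv'⟩ := h3
  have hker : LinearMap.ker p ≤ LinearMap.ker (v - v') := by
    rw [← hk, Submodule.span_le]
    rintro _ ⟨j, rfl⟩
    change (v - v') (k j) = 0
    have := congrFun hDv' j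
    rw [LinearMap.sub_apply, sub_eq_zero]
    exact this.symm
  let v'' : M →ₗ[A] A :=
    (LinearMap.ker p).liftQ (v - v') hker ∘ₗ (p.quotKerEquivOfSurjective hp).symm.toLinearMap
  have hv'' : ∀ x, v'' (p x) = v x - v' x := by
    intro x
    have h5 : (p.quotKerEquivOfSurjective hp).symm (p x) = Submodule.Quotient.mk x := by
      rw [LinearEquiv.symm_apply_eq]
      rfl
    change (LinearMap.ker p).liftQ (v - v') hker ((p.quotKerEquivOfSurjective hp).symm (p x)) = _
    rw [h5]
    rfl
  refine ⟨v'', fun m a' ha' => ?_⟩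
  obtain ⟨x, rfl⟩ := hp m
  rw [hv'', ← hv1, Ideal.Quotient.eq] at *
  have h6 : a' - v x ∈ J := Ideal.pow_le_self (by omega) ha'
  have h7 : v' x ∈ J := dual_mem_smul hv' x
  have : v x - v' x - a' = -(a' - v x) - v' x := by ring
  rw [this]
  exact J.sub_mem (J.neg_mem h6) h7

end ArtinRees

end Groth.Agent.Sga2.GrLift
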