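import Groth.Agent.Sga2.GrLift
import Groth.Prelude.Def_CAlg
import Mathlib.RingTheory.LocalRing.MaximalIdeal.Basic

/-!
Elementwise regular sequences of length three, their stability under powers, extensions, products, and the
passage from `A/J` to `A` when `gr_J(A)` is free over `A/J`.
-/

set_option autoImplicit false

namespace Groth.Agent.Sga2.GrReg

universe u v

open scoped Pointwise

variable {A : Type u} [CommRing A]

/-- `f, y, z` is a weakly regular sequence on `N`, elementwise. -/
structure Reg3 (N : Type*) [AddCommGroup N] [Module A N] (f y z : A) : Prop where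
  h1 : ∀ a : N, f • a = 0 → a = 0
  h2 : ∀ a b : N, y • a = f • b → ∃ a', a = f • a'
  h3 : ∀ a b c : N, z • a = y • b + f • c → ∃ b' c', a = y • b' + f • c'

variable {N N' : Type*} [AddCommGroup N] [Module A N] [AddCommGroup N'] [Module A N'] {f x y z : A}

theorem Reg3.isSMulRegular (h : Reg3 N f y z) : IsSMulRegular N f :=
  isSMulRegular_iff_right_eq_zero_of_smul.2 h.h1

theorem Reg3.isSMulRegular_quot (h : Reg3 N f y z) :
    IsSMulRegular (N ⧸ (f • (⊤ : Submodule A N))) y := by
  rw [isSMulRegular_iff_right_eq_zero_of_smul]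
  intro a ha
  obtain ⟨a, rfl⟩ := Submodule.Quotient.mk_surjective _ a
  rw [← Submodule.Quotient.mk_smul, Submodule.Quotient.mk_eq_zero,
    Submodule.mem_smul_pointwise_iff_exists] at ha
  obtain ⟨b, -, hb⟩ := ha
  obtain ⟨a', rfl⟩ := h.h2 a b hb.symm
  rw [Submodule.Quotient.mk_eq_zero]
  exact Submodule.smul_mem_pointwise_smul _ _ _ trivial

theorem Reg3.quot_div (h : Reg3 N f y z) (a b : N ⧸ (f • (⊤ : Submodule A N)))
    (hab : z • a = y • b) : ∃ c, a = y • c := by
  obtain ⟨a, rfl⟩ := Submodule.Quotient.mk_surjective _ a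
  obtain ⟨b, rfl⟩ := Submodule.Quotient.mk_surjective _ b
  rw [← Submodule.Quotient.mk_smul, ← Submodule.Quotient.mk_smul, Submodule.Quotient.eq,
    Submodule.mem_smul_pointwise_iff_exists] at hab
  obtain ⟨c, -, hc⟩ := hab
  obtain ⟨b', c', hb⟩ := h.h3 a b c (by rw [hc]; abel)
  refine ⟨Submodule.Quotient.mk b', ?_⟩
  rw [← Submodule.Quotient.mk_smul, Submodule.Quotient.eq, hb]
  have : y • b' + f • c' - y • b' = f • c' := by abel
  rw [this]
  exact Submodule.smul_mem_pointwise_smul _ _ _ trivial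

theorem Reg3.pow (h : Reg3 N x y z) (s : ℕ) : Reg3 N (x ^ s) y z := by
  have H2 : ∀ (s : ℕ) (a b : N), y • a = x ^ s • b → ∃ a', a = x ^ s • a' := by
    intro s
    induction s with
    | zero => intro a b _; exact ⟨a, by simp⟩
    | succ s ih =>
      intro a b hab
      rw [pow_succ', mul_smul] at hab
      obtain ⟨a', rfl⟩ := h.h2 _ _ hab
      have : y • a' = x ^ s • b := by
        apply h.isSMulRegular
        simp only
        rw [smul_comm, hab]
      obtain ⟨a'', rfl⟩ := ih _ _ this
      exact ⟨a'', by rw [pow_succ', mul_smul]⟩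
  refine ⟨?_, H2 s, ?_⟩
  · intro a ha
    exact isSMulRegular_iff_right_eq_zero_of_smul.1 (h.isSMulRegular.pow s) a ha
  · induction s with
    | zero => intro a b c _; exact ⟨0, a, by simp⟩
    | succ s ih =>
      intro a b c habc
      rw [pow_succ', mul_smul] at habc
      obtain ⟨a', a'', rfl⟩ := h.h3 _ _ _ habc
      have h4 : y • (z • a' - b) = x • (x ^ s • c - z • a'') := by
        rw [smul_sub, smul_sub, sub_eq_sub_iff_add_eq_add, smul_comm y z a', smul_comm x z a'',
          ← smul_add, habc]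
        abel
      obtain ⟨d, hd⟩ := h.h2 _ _ h4
      have h5 : z • a'' = y • (-d) + x ^ s • c := by
        have : y • d = x ^ s • c - z • a'' := by
          apply h.isSMulRegular
          simp only
          rw [smul_comm, ← hd, h4]
        rw [smul_neg, this]
        abel
      obtain ⟨b', c', rfl⟩ := ih _ _ _ h5
      refine ⟨a' + x • b', c', ?_⟩
      rw [smul_add, smul_add, pow_succ', mul_smul, smul_comm x y b']
      abel

theorem Reg3.of_equiv (h : Reg3 N f y z) (e : N ≃+ N') (he : ∀ (a : A) (n : N), e (a • n) = a • e n) :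
    Reg3 N' f y z := by
  have he' : ∀ (a : A) (n : N'), e.symm (a • n) = a • e.symm n := by
    intro a n
    apply e.injective
    rw [he]
    simp
  refine ⟨?_, ?_, ?_⟩
  · intro a ha
    have := h.h1 (e.symm a) (by rw [← he', ha, map_zero])
    simpa using this
  · intro a b hab
    obtain ⟨a', ha'⟩ := h.h2 (e.symm a) (e.symm b) (by rw [← he', ← he', hab])
    exact ⟨e a', by rw [← he, ← ha']; simp⟩
  · intro a b c habc
    obtain ⟨b', c', ha'⟩ := h.h3 (e.symm a) (e.symm b) (e.symm c)
      (by rw [← he', ← he', ← he', habc, map_add])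
    exact ⟨e b', e c', by rw [← he, ← he, ← map_add, ← ha']; simp⟩

theorem Reg3.pi (h : Reg3 N f y z) (ι : Type*) : Reg3 (ι → N) f y z := by
  refine ⟨?_, ?_, ?_⟩
  · intro a ha
    ext i
    exact h.h1 _ (congrFun ha i)
  · intro a b hab
    choose a' ha' using fun i => h.h2 (a i) (b i) (congrFun hab i)
    exact ⟨a', funext ha'⟩
  · intro a b c habc
    choose b' c' ha' using fun i => h.h3 (a i) (b i) (c i) (congrFun habc i)
    exact ⟨b', c', funext ha'⟩

theorem Reg3.of_ext {X Y : Type*} [AddCommGroup X] [Module A X] [AddCommGroup Y] [Module A Y]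
    (π : X →ₗ[A] Y) (hπ : Function.Surjective π) (hK : Reg3 (LinearMap.ker π) f y z)
    (hY : Reg3 Y f y z) : Reg3 X f y z := by
  have k1 : ∀ a : X, π a = 0 → f • a = 0 → a = 0 := fun a ha h =>
    congrArg Subtype.val (hK.h1 ⟨a, ha⟩ (Subtype.ext h))
  refine ⟨?_, ?_, ?_⟩
  · intro a ha
    exact k1 a (hY.h1 _ (by rw [← map_smul, ha, map_zero])) ha
  · intro a b hab
    obtain ⟨a₁, ha₁⟩ := hY.h2 (π a) (π b) (by rw [← map_smul, hab, map_smul])
    obtain ⟨a₂, rfl⟩ := hπ a₁
    have hk : π (a - f • a₂) = 0 := by rw [map_sub, map_smul, ha₁, sub_self]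
    have hk' : π (b - y • a₂) = 0 := by
      apply hY.h1
      rw [← map_smul, smul_sub, ← hab, smul_comm, ← smul_sub, map_smul, hk, smul_zero]
    obtain ⟨k', hk''⟩ := hK.h2 ⟨a - f • a₂, hk⟩ ⟨b - y • a₂, hk'⟩ (by
      ext
      simp only [Submodule.coe_smul]
      rw [smul_sub, smul_sub, hab, smul_comm])
    refine ⟨a₂ + k', ?_⟩
    have := congrArg Subtype.val hk''
    simp only [Submodule.coe_smul] at this
    rw [smul_add, ← this]
    abel
  · intro a b c habc
    obtain ⟨b₁, c₁, h₁⟩ := hY.h3 (π a) (π b) (π c) (by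
      rw [← map_smul, habc, map_add, map_smul, map_smul])
    obtain ⟨b₂, rfl⟩ := hπ b₁
    obtain ⟨c₂, rfl⟩ := hπ c₁
    have hk : π (a - (y • b₂ + f • c₂)) = 0 := by
      rw [map_sub, h₁, map_add, map_smul, map_smul, sub_self]
    have hzk : z • (a - (y • b₂ + f • c₂)) = y • (b - z • b₂) + f • (c - z • c₂) := by
      rw [smul_sub, habc, smul_add, smul_sub, smul_sub, smul_comm z y, smul_comm z f]
      abel
    have h0 : y • π (b - z • b₂) = f • (- π (c - z • c₂)) := by
      have := congrArg π hzk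
      rw [map_smul, hk, smul_zero, map_add, map_smul, map_smul] at this
      rw [smul_neg, eq_neg_iff_add_eq_zero, ← this]
    obtain ⟨d, hd⟩ := hY.h2 _ _ h0
    obtain ⟨d, rfl⟩ := hπ d
    have hk1 : π (b - z • b₂ - f • d) = 0 := by rw [map_sub, hd, map_smul, sub_self]
    have hk2 : π (y • d + (c - z • c₂)) = 0 := by
      apply hY.h1
      rw [map_add, smul_add, map_smul, smul_comm f y, ← hd, h0, smul_neg, neg_add_cancel]
    obtain ⟨b', c', hbc⟩ := hK.h3 ⟨_, hk⟩ ⟨_, hk1⟩ ⟨_, hk2⟩ (by
      ext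
      simp only [Submodule.coe_smul, Submodule.coe_add]
      rw [hzk, smul_sub y (b - z • b₂), smul_add f, smul_comm f y d]
      abel)
    refine ⟨b₂ + b', c₂ + c', ?_⟩
    have := congrArg Subtype.val hbc
    simp only [Submodule.coe_smul, Submodule.coe_add] at this
    rw [smul_add, smul_add]
    have h6 : a = (a - (y • b₂ + f • c₂)) + (y • b₂ + f • c₂) := by abel
    rw [h6, this]
    abel

theorem mem_ofList_smul_singleton (r : A) (a : N) :
    a ∈ Ideal.ofList [r] • (⊤ : Submodule A N) ↔ ∃ b, a = r • b := by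
  rw [Ideal.ofList_singleton, Submodule.ideal_span_singleton_smul,
    Submodule.mem_smul_pointwise_iff_exists]
  exact ⟨fun ⟨b, _, h⟩ => ⟨b, h.symm⟩, fun ⟨b, h⟩ => ⟨b, trivial, h.symm⟩⟩

theorem mem_ofList_smul_pair (r s : A) (a : N) :
    a ∈ Ideal.ofList [r, s] • (⊤ : Submodule A N) ↔ ∃ b c, a = s • b + r • c := by
  rw [Ideal.ofList_cons, Submodule.sup_smul, Submodule.mem_sup]
  constructor
  · rintro ⟨p, hp, q, hq, rfl⟩
    rw [Submodule.ideal_span_singleton_smul, Submodule.mem_smul_pointwise_iff_exists] at hp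
    rw [mem_ofList_smul_singleton] at hq
    obtain ⟨c, -, rfl⟩ := hp
    obtain ⟨b, rfl⟩ := hq
    exact ⟨b, c, add_comm _ _⟩
  · rintro ⟨b, c, rfl⟩
    refine ⟨r • c, ?_, s • b, ?_, add_comm _ _⟩
    · rw [Submodule.ideal_span_singleton_smul, Submodule.mem_smul_pointwise_iff_exists]
      exact ⟨c, trivial, rfl⟩
    · rw [mem_ofList_smul_singleton]
      exact ⟨b, rfl⟩

theorem reg3_iff (f y z : A) :
    Reg3 N f y z ↔ RingTheory.Sequence.IsWeaklyRegular N [f, y, z] := by
  rw [RingTheory.Sequence.isWeaklyRegular_iff_Fin]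
  constructor
  · intro h i
    fin_cases i
    · change IsSMulRegular (N ⧸ (Ideal.ofList [] • ⊤ : Submodule A N)) f
      rw [isSMulRegular_quotient_iff_mem_of_smul_mem]
      intro a ha
      rw [Ideal.ofList_nil, Submodule.bot_smul, Submodule.mem_bot] at ha ⊢
      exact h.h1 a ha
    · change IsSMulRegular (N ⧸ (Ideal.ofList [f] • ⊤ : Submodule A N)) y
      rw [isSMulRegular_quotient_iff_mem_of_smul_mem]
      intro a ha
      rw [mem_ofList_smul_singleton] at ha ⊢
      obtain ⟨b, hb⟩ := ha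
      exact h.h2 a b hb
    · change IsSMulRegular (N ⧸ (Ideal.ofList [f, y] • ⊤ : Submodule A N)) z
      rw [isSMulRegular_quotient_iff_mem_of_smul_mem]
      intro a ha
      rw [mem_ofList_smul_pair] at ha ⊢
      obtain ⟨b, c, hb⟩ := ha
      exact h.h3 a b c hb
  · intro h
    refine ⟨?_, ?_, ?_⟩
    · intro a ha
      have h0 := h (0 : Fin 3)
      change IsSMulRegular (N ⧸ (Ideal.ofList [] • ⊤ : Submodule A N)) f at h0
      rw [isSMulRegular_quotient_iff_mem_of_smul_mem] at h0
      have := h0 a (by rw [ha]; exact Submodule.zero_mem _)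
      rwa [Ideal.ofList_nil, Submodule.bot_smul, Submodule.mem_bot] at this
    · intro a b ha
      have h0 := h (1 : Fin 3)
      change IsSMulRegular (N ⧸ (Ideal.ofList [f] • ⊤ : Submodule A N)) y at h0
      rw [isSMulRegular_quotient_iff_mem_of_smul_mem] at h0
      exact (mem_ofList_smul_singleton f a).1
        (h0 a ((mem_ofList_smul_singleton f _).2 ⟨b, ha⟩))
    · intro a b c ha
      have h0 := h (2 : Fin 3)
      change IsSMulRegular (N ⧸ (Ideal.ofList [f, y] • ⊤ : Submodule A N)) z at h0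
      rw [isSMulRegular_quotient_iff_mem_of_smul_mem] at h0
      exact (mem_ofList_smul_pair f y a).1
        (h0 a ((mem_ofList_smul_pair f y _).2 ⟨b, c, ha⟩))

end Groth.Agent.Sga2.GrReg
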