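import Groth.Agent.Sga2.RegExt2
import Groth.Agent.Localalg.Matlis2

/-!
# The top local cohomology of a Gorenstein (in the Ext sense) local ring is an injective hull of the
residue field.  Local cohomology enters only through the abstract interface `LCData`.
-/

set_option autoImplicit false
set_option linter.unusedSectionVars false
universe u

open CategoryTheory Abelian Limits Pointwise IsLocalRing

namespace Groth.Agent.Sga2.TopDual

variable {A : Type u} [CommRing A]

/-- the projection `A/J → A/I`, `J ≤ I`. -/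
def proj {J I : Ideal A} (h : J ≤ I) : ModuleCat.of A (A ⧸ J) ⟶ ModuleCat.of A (A ⧸ I) :=
  ModuleCat.ofHom (Submodule.mapQ J I LinearMap.id h)

/-- `H` is the colimit of `Ext^i(A/I^n, M)`. -/
structure LCData (I : Ideal A) (i : ℕ) (M : ModuleCat.{u} A) (H : Type u) [AddCommGroup H]
    [Module A H] where
  toH : ∀ n : ℕ, Ext (ModuleCat.of A (A ⧸ I ^ n)) M i →ₗ[A] H
  surj : ∀ x : H, ∃ n y, toH n y = x
  compat : ∀ (n k : ℕ) (h : n ≤ k) (y : Ext (ModuleCat.of A (A ⧸ I ^ n)) M i),
    toH k ((Ext.mk₀ (proj (Ideal.pow_le_pow_right h))).comp y (zero_add i)) = toH n y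
  zero : ∀ (n : ℕ) (y : Ext (ModuleCat.of A (A ⧸ I ^ n)) M i), toH n y = 0 →
    ∃ (k : ℕ) (h : n ≤ k), (Ext.mk₀ (proj (Ideal.pow_le_pow_right h))).comp y (zero_add i) = 0

variable [IsLocalRing A] {r : ℕ}

theorem precomp_injective (h : RegExt.IsGorDim A r) {N N' : Type u} [AddCommGroup N] [Module A N]
    [AddCommGroup N'] [Module A N'] (p : N →ₗ[A] N') (hp : Function.Surjective p)
    (hN : IsFiniteLength A N) (y : Ext (ModuleCat.of A N') (ModuleCat.of A A) r)
    (hy : (Ext.mk₀ (ModuleCat.ofHom p)).comp y (zero_add r) = 0) : y = 0 := by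
  have hS := LinearMap.shortExact_shortComplexKer hp
  rcases r with _ | r
  · have : Epi (ModuleCat.ofHom p) := (ModuleCat.epi_iff_surjective _).2 hp
    exact Ext.precomp_mk₀_injective_of_epi (ModuleCat.of A A) (ModuleCat.ofHom p)
      (a₁ := y) (a₂ := 0) (by rw [map_zero]; exact hy)
  · obtain ⟨z, hz⟩ := Ext.contravariant_sequence_exact₃ hS (ModuleCat.of A A) y hy
      (n₀ := r) (add_comm _ _)
    have hK : IsFiniteLength A (LinearMap.ker p) := hN.of_injective (Submodule.injective_subtype _)
    have := h.vanish (ModuleCat.of A (LinearMap.ker p)) hK r (Nat.succ_ne_self r).symm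
    rw [← hz, Subsingleton.elim z 0, Ext.comp_zero]

/-- detection by cyclic modules -/
theorem eq_zero_of_forall_cyclic (h : RegExt.IsGorDim A r) {K : Type u} [AddCommGroup K]
    [Module A K] [Module.Finite A K] (J : Ideal A) (hJ : IsFiniteLength A (A ⧸ J))
    (hK : ∀ a ∈ J, ∀ x : K, a • x = 0) (w : Ext (ModuleCat.of A K) (ModuleCat.of A A) r)
    (hw : ∀ g : (A ⧸ J) →ₗ[A] K, (Ext.mk₀ (ModuleCat.ofHom g)).comp w (zero_add r) = 0) :
    w = 0 := by
  obtain ⟨n, s, hs⟩ := Module.Finite.exists_fin (R := A) (M := K)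
  let g : Fin n → (A ⧸ J) →ₗ[A] K := fun i => (RegExt.homQuotEquiv J K hK).symm (s i)
  have hg : ∀ i, g i 1 = s i := fun i => (RegExt.homQuotEquiv J K hK).apply_symm_apply (s i)
  let p : (Fin n → A ⧸ J) →ₗ[A] K := LinearMap.lsum A _ A g
  have hp : Function.Surjective p := by
    rw [← LinearMap.range_eq_top, eq_top_iff, ← hs, Submodule.span_le]
    rintro _ ⟨i, rfl⟩
    refine ⟨Pi.single i 1, ?_⟩
    rw [← hg i]
    simp [p, LinearMap.lsum_apply]
    rw [Finset.sum_eq_single i]
    · simp
    · intro j _ hj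
      simp [Pi.single_eq_of_ne hj]
    · simp
  have hfl : IsFiniteLength A (Fin n → A ⧸ J) := by
    rw [isFiniteLength_iff_isNoetherian_isArtinian] at hJ ⊢
    obtain ⟨h1, h2⟩ := hJ
    exact ⟨inferInstance, inferInstance⟩
  refine precomp_injective h p hp hfl w ?_
  have hid : ModuleCat.ofHom p = ∑ i, ModuleCat.ofHom (LinearMap.proj (R := A) (φ := fun _ : Fin n => A ⧸ J) i) ≫
      ModuleCat.ofHom (g i) := by
    ext1
    rw [ModuleCat.hom_sum]
    simp only [ModuleCat.hom_comp, ModuleCat.hom_ofHom]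
    ext i
    simp [p, LinearMap.lsum_apply]
  rw [hid, Ext.mk₀_sum, Ext.sum_comp]
  refine Finset.sum_eq_zero fun i _ => ?_
  rw [← Ext.mk₀_comp_mk₀_assoc, hw, Ext.comp_zero]

theorem isFiniteLength_quot_pow [IsNoetherianRing A] (n : ℕ) :
    IsFiniteLength A (A ⧸ maximalIdeal A ^ n) := by
  induction n with
  | zero =>
    have : Subsingleton (A ⧸ maximalIdeal A ^ 0) := by
      rw [pow_zero, Ideal.one_eq_top]
      infer_instance
    exact .of_subsingleton
  | succ n ih =>
    -- 0 → m^n/m^{n+1} → A/m^{n+1} → A/m^n → 0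
    let P : Submodule A (A ⧸ maximalIdeal A ^ (n + 1)) :=
      Submodule.map (Submodule.mkQ (maximalIdeal A ^ (n + 1))) (maximalIdeal A ^ n)
    have hP : IsFiniteLength A P := by
      have hann : ∀ a ∈ maximalIdeal A, ∀ x : P, a • x = 0 := by
        rintro a ha ⟨x, hx⟩
        obtain ⟨y, hy, rfl⟩ := hx
        apply Subtype.ext
        change a • (maximalIdeal A ^ (n + 1)).mkQ y = 0
        rw [← map_smul]
        refine (Submodule.Quotient.mk_eq_zero _).2 ?_
        rw [pow_succ']
        exact Ideal.mul_mem_mul ha hy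
      have hfin : Module.Finite A P := inferInstance
      obtain ⟨m, s, hs⟩ := Module.Finite.exists_fin (R := A) (M := P)
      let g : Fin m → (A ⧸ maximalIdeal A) →ₗ[A] P :=
        fun i => (RegExt.homQuotEquiv (maximalIdeal A) P hann).symm (s i)
      have hg : ∀ i, g i 1 = s i :=
        fun i => (RegExt.homQuotEquiv (maximalIdeal A) P hann).apply_symm_apply (s i)
      let p : (Fin m → A ⧸ maximalIdeal A) →ₗ[A] P := LinearMap.lsum A _ A g
      have hp : Function.Surjective p := by
        rw [← LinearMap.range_eq_top, eq_top_iff, ← hs, Submodule.span_le]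
        rintro _ ⟨i, rfl⟩
        refine ⟨Pi.single i 1, ?_⟩
        rw [← hg i]
        simp [p, LinearMap.lsum_apply]
        rw [Finset.sum_eq_single i]
        · simp
        · intro j _ hj
          simp [Pi.single_eq_of_ne hj]
        · simp
      have hfl : IsFiniteLength A (A ⧸ maximalIdeal A) := by
        rw [← Module.length_ne_top_iff, RegExt.length_quot]
        exact ENat.one_ne_top
      have hfl' : IsFiniteLength A (Fin m → A ⧸ maximalIdeal A) := by
        rw [isFiniteLength_iff_isNoetherian_isArtinian] at hfl ⊢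
        obtain ⟨h1, h2⟩ := hfl
        exact ⟨inferInstance, inferInstance⟩
      exact hfl'.of_surjective hp
    have hQ : IsFiniteLength A ((A ⧸ maximalIdeal A ^ (n + 1)) ⧸ P) := by
      have hle : maximalIdeal A ^ (n + 1) ≤ maximalIdeal A ^ n := Ideal.pow_le_pow_right n.le_succ
      exact (Submodule.quotientQuotientEquivQuotient _ _ hle).symm.isFiniteLength ih
    rw [← Module.length_ne_top_iff, Module.length_eq_add_of_exact P.subtype P.mkQ
      P.injective_subtype P.mkQ_surjective (LinearMap.exact_subtype_mkQ P)]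
    rw [← Module.length_ne_top_iff] at hP hQ
    exact WithTop.add_ne_top.2 ⟨hP, hQ⟩

variable [IsNoetherianRing A] {H : Type u} [AddCommGroup H] [Module A H]

theorem toH_injective (h : RegExt.IsGorDim A r)
    (d : LCData (maximalIdeal A) r (ModuleCat.of A A) H) (n : ℕ) :
    Function.Injective (d.toH n) := by
  rw [injective_iff_map_eq_zero]
  intro y hy
  obtain ⟨k, hk, h0⟩ := d.zero n y hy
  refine precomp_injective h (Submodule.mapQ _ _ LinearMap.id (Ideal.pow_le_pow_right hk)) ?_
    (isFiniteLength_quot_pow k) y h0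
  intro x
  obtain ⟨x, rfl⟩ := Submodule.mkQ_surjective _ x
  exact ⟨Submodule.mkQ _ x, rfl⟩

theorem smul_toH_eq_zero {I : Ideal A} {i : ℕ} {M : ModuleCat.{u} A} (d : LCData I i M H) (n : ℕ)
    (y : Ext (ModuleCat.of A (A ⧸ I ^ n)) M i) (a : A) (ha : a ∈ I ^ n) :
    a • d.toH n y = 0 := by
  rw [← map_smul, Groth.Agent.Localalg.Depth.ext_smul_eq_zero_of_mem_annihilator_left, map_zero]
  change a ∈ Module.annihilator A (A ⧸ I ^ n)
  rwa [Ideal.annihilator_quotient]

theorem isPowerTorsion {I : Ideal A} {i : ℕ} {M : ModuleCat.{u} A} (d : LCData I i M H) :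
    LocCoh.IsPowerTorsion I H := by
  intro x
  obtain ⟨n, y, rfl⟩ := d.surj x
  exact ⟨n, fun a ha => smul_toH_eq_zero d n y a ha⟩

theorem mem_range_of_smul_eq_zero (h : RegExt.IsGorDim A r)
    (d : LCData (maximalIdeal A) r (ModuleCat.of A A) H) (x : H)
    (hx : ∀ a ∈ maximalIdeal A, a • x = 0) : x ∈ LinearMap.range (d.toH 1) := by
  obtain ⟨n, y, rfl⟩ := d.surj x
  -- we may assume n ≥ 1
  wlog hn : 1 ≤ n generalizing n
  · have h1 : n ≤ 1 := by omega
    refine ⟨_, d.compat n 1 h1 y⟩
  have hy : ∀ a ∈ maximalIdeal A, a • y = 0 := by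
    intro a ha
    apply toH_injective h d n
    rw [map_smul, hx a ha, map_zero]
  let p : (A ⧸ maximalIdeal A ^ n) →ₗ[A] (A ⧸ maximalIdeal A ^ 1) :=
    Submodule.mapQ _ _ LinearMap.id (Ideal.pow_le_pow_right hn)
  have hp : Function.Surjective p := by
    intro x
    obtain ⟨x, rfl⟩ := Submodule.mkQ_surjective _ x
    exact ⟨Submodule.mkQ _ x, rfl⟩
  have hS := LinearMap.shortExact_shortComplexKer hp
  have key : (Ext.mk₀ (ModuleCat.ofHom (LinearMap.ker p).subtype)).comp y (zero_add r) = 0 := by
    refine eq_zero_of_forall_cyclic h (maximalIdeal A ^ n) (isFiniteLength_quot_pow n) ?_ _ ?_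
    · rintro a ha ⟨x, hx⟩
      apply Subtype.ext
      change a • x = 0
      induction x using Submodule.Quotient.induction_on with
      | H x =>
        rw [← Submodule.Quotient.mk_smul, Submodule.Quotient.mk_eq_zero]
        exact Ideal.mul_mem_right x _ ha
    · intro g
      rw [Ext.mk₀_comp_mk₀_assoc]
      obtain ⟨b, hb⟩ := Submodule.mkQ_surjective _ (g 1).1
      have hb1 : b ∈ maximalIdeal A := by
        have h2 : p (Submodule.mkQ _ b) = 0 := by
          rw [hb]
          exact (g 1).2
        have h3 : Submodule.mkQ (maximalIdeal A ^ 1) b = 0 := h2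
        have h4 := (Submodule.Quotient.mk_eq_zero _).1 h3
        rwa [pow_one] at h4
      have h5 : ModuleCat.ofHom g ≫ ModuleCat.ofHom (LinearMap.ker p).subtype =
          b • 𝟙 (ModuleCat.of A (A ⧸ maximalIdeal A ^ n)) := by
        ext
        change ((g 1 : _) : A ⧸ maximalIdeal A ^ n) = b • (1 : A ⧸ maximalIdeal A ^ n)
        rw [← hb]
        change Submodule.mkQ _ b = b • Submodule.mkQ _ (1 : A)
        rw [← map_smul, smul_eq_mul, mul_one]
      rw [h5, Ext.mk₀_smul, Ext.smul_comp, Ext.mk₀_id_comp, hy b hb1]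
  obtain ⟨z, hz⟩ := Ext.contravariant_sequence_exact₂ hS (ModuleCat.of A A) y key
  refine ⟨z, ?_⟩
  have := d.compat 1 n hn z
  rw [← this]
  congr 1

/-- the top local cohomology of `A` is an injective hull of the residue field. -/
theorem nonempty_equiv_hull (h : RegExt.IsGorDim A r)
    (d : LCData (maximalIdeal A) r (ModuleCat.of A A) H)
    {E : Type u} [AddCommGroup E] [Module A E] (f : ResidueField A →ₗ[A] E)
    (hf : InjHull.IsInjectiveHull f) : Nonempty (H ≃ₗ[A] E) := by
  have hs : IsSimpleModule A (Ext (ModuleCat.of A (A ⧸ maximalIdeal A ^ 1)) (ModuleCat.of A A) r) := by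
    rw [← Module.length_eq_one_iff, RegExt.length_ext_eq h _ (isFiniteLength_quot_pow 1)]
    rw [pow_one]
    exact RegExt.length_quot
  obtain ⟨ψ⟩ := Groth.Agent.Localalg.Matlis.nonempty_equiv_residueField
    (R := A) (Ext (ModuleCat.of A (A ⧸ maximalIdeal A ^ 1)) (ModuleCat.of A A) r)
  obtain ⟨φ, hφ⟩ := Groth.Agent.Localalg.Matlis.exists_extend hf.isInjective (d.toH 1)
    (toH_injective h d 1) (f ∘ₗ ψ.toLinearMap)
  have hφ' : ∀ z, φ (d.toH 1 z) = f (ψ z) := fun z => LinearMap.congr_fun hφ z
  have hinj : Function.Injective φ := by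
    rw [injective_iff_map_eq_zero]
    intro x hx
    by_contra hx0
    obtain ⟨a, ha, hsoc⟩ := Groth.Agent.Localalg.Matlis.exists_smul_mem_socle (isPowerTorsion d) hx0
    obtain ⟨z, hz⟩ := mem_range_of_smul_eq_zero h d _ hsoc
    have h1 : f (ψ z) = 0 := by rw [← hφ', hz, map_smul, hx, smul_zero]
    have h2 : z = 0 := ψ.injective (hf.injective (by rw [h1, map_zero, map_zero]))
    exact ha (by rw [← hz, h2, map_zero])
  refine ⟨LinearEquiv.ofBijective φ ⟨hinj, fun e => ?_⟩⟩
  obtain ⟨n, hn⟩ := Groth.Agent.Localalg.Matlis.isPowerTorsion_hull hf e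
  let T : Submodule A E := Submodule.torsionBySet A E ((maximalIdeal A ^ n : Ideal A) : Set A)
  have hT : ∀ a ∈ maximalIdeal A ^ n, ∀ x : T, a • x = 0 := fun a ha x =>
    Subtype.ext ((Submodule.mem_torsionBySet_iff _ _).1 x.2 ⟨a, ha⟩)
  have hfl := isFiniteLength_quot_pow (A := A) n
  -- length of T
  have e1 : ((A ⧸ maximalIdeal A ^ n) →ₗ[A] E) ≃ₗ[A] T :=
    { toFun := fun g => ⟨g 1, by
        rw [Submodule.mem_torsionBySet_iff]
        intro a
        change (a : A) • g 1 = 0
        rw [← map_smul]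
        have : (a : A) • (1 : A ⧸ maximalIdeal A ^ n) = 0 := by
          change (a : A) • (Submodule.mkQ _ (1 : A)) = 0
          rw [← map_smul, smul_eq_mul, mul_one]
          exact (Submodule.Quotient.mk_eq_zero _).2 a.2
        rw [this, map_zero]⟩
      map_add' := fun g g' => rfl
      map_smul' := fun r g => rfl
      invFun := fun t => T.subtype ∘ₗ (RegExt.homQuotEquiv _ T hT).symm t
      left_inv := fun g => by
        apply Submodule.linearMap_qext
        ext
        exact congrArg Subtype.val ((RegExt.homQuotEquiv _ T hT).apply_symm_apply _)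
      right_inv := fun t => by
        have := (RegExt.homQuotEquiv _ T hT).apply_symm_apply t
        exact this }
  have hlT : Module.length A T = Module.length A (A ⧸ maximalIdeal A ^ n) := by
    rw [← e1.length_eq, Groth.Agent.Localalg.Matlis.length_dual hf _ hfl]
  have hflT : IsFiniteLength A T := by
    rw [← Module.length_ne_top_iff, hlT, Module.length_ne_top_iff]
    exact hfl
  let g : Ext (ModuleCat.of A (A ⧸ maximalIdeal A ^ n)) (ModuleCat.of A A) r →ₗ[A] T :=
    LinearMap.codRestrict T (φ ∘ₗ d.toH n) (fun y => by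
      rw [Submodule.mem_torsionBySet_iff]
      intro a
      change (a : A) • φ (d.toH n y) = 0
      rw [← map_smul, smul_toH_eq_zero d n y a a.2, map_zero])
  have hg : Function.Injective g := by
    intro y y' hyy
    exact toH_injective h d n (hinj (congrArg Subtype.val hyy))
  have hrange : LinearMap.range g = ⊤ := by
    by_contra hne
    rw [isFiniteLength_iff_isNoetherian_isArtinian] at hflT
    obtain ⟨_, _⟩ := hflT
    have h1 := Submodule.length_lt hne
    rw [← (LinearEquiv.ofInjective g hg).length_eq, RegExt.length_ext_eq h _ hfl, hlT] at h1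
    exact lt_irrefl _ h1
  obtain ⟨y, hy⟩ := LinearMap.range_eq_top.1 hrange ⟨e, (Submodule.mem_torsionBySet_iff _ _).2 fun a => hn a a.2⟩
  exact ⟨d.toH n y, congrArg Subtype.val hy⟩

end Groth.Agent.Sga2.TopDual
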