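import Groth.Agent.Sga2.OldExt
import Groth.Agent.Sga2.TopDual
import Groth.Agent.LoccohA.LCLinear
import Mathlib.Algebra.Homology.LocalCohomology
import Mathlib.Algebra.Category.ModuleCat.FilteredColimits

/-!
# `localCohomology I i` as the colimit of `Abelian.Ext (A/I^n) M i`, with linear connecting maps.
-/

set_option autoImplicit false
set_option linter.unusedSectionVars false
universe u

open CategoryTheory Abelian Limits Opposite

namespace Groth.Agent.Sga2.LCNew

variable {A : Type u} [CommRing A] (I : Ideal A)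

/-- the diagram of old Ext functors -/
noncomputable abbrev D (i : ℕ) : (ℕᵒᵖ)ᵒᵖ ⥤ ModuleCat.{u} A ⥤ ModuleCat.{u} A :=
  localCohomology.diagram (localCohomology.idealPowersDiagram I) i

/-- local cohomology as a module -/
noncomputable abbrev HH (i : ℕ) (M : ModuleCat.{u} A) : ModuleCat.{u} A := (localCohomology I i).obj M

noncomputable def coc (i : ℕ) (M : ModuleCat.{u} A) :
    Cocone (D I i ⋙ (evaluation _ _).obj M) :=
  ((evaluation _ _).obj M).mapCocone (colimit.cocone (D I i))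

noncomputable def isColim (i : ℕ) (M : ModuleCat.{u} A) : IsColimit (coc I i M) :=
  isColimitOfPreserves _ (colimit.isColimit _)

/-- the quotient module `A/I^n` -/
abbrev Q (n : ℕ) : ModuleCat.{u} A := ModuleCat.of A (A ⧸ I ^ n)

/-- old version -/
noncomputable def toHOld (i n : ℕ) (M : ModuleCat.{u} A) :
    ((_root_.Ext A (ModuleCat.{u} A) i).obj (op (Q I n))).obj M →ₗ[A] HH I i M :=
  ((coc I i M).ι.app (op (op n))).hom

/-- `Ext^i(A/I^n, M) → H^i_I(M)` -/
noncomputable def toH (i n : ℕ) (M : ModuleCat.{u} A) : Ext (Q I n) M i →ₗ[A] HH I i M :=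
  (toHOld I i n M) ∘ₗ (OldExt.oldNew A (Q I n) M i).symm.toLinearMap

theorem toH_oldNew (i n : ℕ) (M : ModuleCat.{u} A)
    (x : ((_root_.Ext A (ModuleCat.{u} A) i).obj (op (Q I n))).obj M) :
    toH I i n M (OldExt.oldNew A (Q I n) M i x) = toHOld I i n M x := by
  simp [toH]

instance preservesFiltered : PreservesFilteredColimitsOfSize.{0, 0} (forget (ModuleCat.{u} A)) :=
  preservesFilteredColimitsOfSize_shrink.{0, u, 0, u} _

theorem mk₀_comp_comp {X X' Y Z : ModuleCat.{u} A} (f : X ⟶ X') {a b c : ℕ} (x : Ext X' Y a)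
    (y : Ext Y Z b) (h : a + b = c) :
    ((Ext.mk₀ f).comp x (zero_add a)).comp y h = (Ext.mk₀ f).comp (x.comp y h) (zero_add c) :=
  Ext.comp_assoc _ _ _ _ _ (by omega)

theorem toHOld_zero (i : ℕ) (M : ModuleCat.{u} A) (n : ℕ)
    (x : ((_root_.Ext A (ModuleCat.{u} A) i).obj (op (Q I n))).obj M)
    (hx : toHOld I i n M x = 0) : ∃ (k : ℕ) (h : n ≤ k),
      (((_root_.Ext A (ModuleCat.{u} A) i).map (TopDual.proj (Ideal.pow_le_pow_right h :
        I ^ k ≤ I ^ n)).op).app M).hom x = 0 := by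
  let x' : (D I i ⋙ (evaluation _ _).obj M).obj (op (op n)) := x
  have h0 : (ConcreteCategory.hom ((coc I i M).ι.app (op (op n)))) x' =
      (ConcreteCategory.hom ((coc I i M).ι.app (op (op n)))) 0 := by
    refine Eq.trans ?_ (map_zero _).symm
    exact hx
  obtain ⟨k, f, g, hfg⟩ := Concrete.isColimit_exists_of_rep_eq _ (isColim I i M) x' 0 h0
  have h3 : ((D I i ⋙ (evaluation _ _).obj M).map f).hom x' = 0 := by
    refine hfg.trans ?_
    exact map_zero ((D I i ⋙ (evaluation _ _).obj M).map g).hom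
  exact ⟨k.unop.unop, f.unop.unop.le, h3⟩

theorem toH_surj (i : ℕ) (M : ModuleCat.{u} A) (x : HH I i M) : ∃ n y, toH I i n M y = x := by
  obtain ⟨j, y, hy⟩ := Concrete.isColimit_exists_rep _ (isColim I i M) x
  refine ⟨j.unop.unop, OldExt.oldNew A _ M i y, ?_⟩
  rw [toH_oldNew]
  exact hy

theorem toH_natural (i n : ℕ) {M N : ModuleCat.{u} A} (f : M ⟶ N) (y : Ext (Q I n) M i) :
    ((localCohomology I i).map f).hom (toH I i n M y) =
      toH I i n N (y.comp (Ext.mk₀ f) (add_zero i)) := by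
  obtain ⟨x, rfl⟩ := (OldExt.oldNew A (Q I n) M i).surjective y
  rw [← OldExt.oldNew_map, toH_oldNew, toH_oldNew]
  exact (ConcreteCategory.congr_hom ((colimit.ι (D I i) (op (op n))).naturality f) x).symm

theorem toH_compat (i : ℕ) (M : ModuleCat.{u} A) (n k : ℕ) (h : n ≤ k) (y : Ext (Q I n) M i) :
    toH I i k M ((Ext.mk₀ (TopDual.proj (Ideal.pow_le_pow_right h))).comp y (zero_add i)) =
      toH I i n M y := by
  obtain ⟨x, rfl⟩ := (OldExt.oldNew A (Q I n) M i).surjective y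
  rw [← OldExt.oldNew_mapOp, toH_oldNew, toH_oldNew]
  exact ConcreteCategory.congr_hom ((coc I i M).w (homOfLE h).op.op) x

theorem toH_zero (i : ℕ) (M : ModuleCat.{u} A) (n : ℕ) (y : Ext (Q I n) M i)
    (hy : toH I i n M y = 0) : ∃ (k : ℕ) (h : n ≤ k),
      (Ext.mk₀ (TopDual.proj (Ideal.pow_le_pow_right h))).comp y (zero_add i) = 0 := by
  obtain ⟨x, rfl⟩ := (OldExt.oldNew A (Q I n) M i).surjective y
  rw [toH_oldNew] at hy
  obtain ⟨k, h, hk⟩ := toHOld_zero I i M n x hy
  exact ⟨k, h, by rw [← OldExt.oldNew_mapOp, hk, map_zero]⟩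

/-- the interface with `TopDual`. -/
noncomputable def lcData (i : ℕ) (M : ModuleCat.{u} A) : TopDual.LCData I i M (HH I i M) where
  toH n := toH I i n M
  surj := toH_surj I i M
  compat := toH_compat I i M
  zero := toH_zero I i M

/-- linear maps out of `H^i_I(M)` -/
noncomputable def descH {i : ℕ} {M N : ModuleCat.{u} A} (g : ∀ n, Ext (Q I n) M i →ₗ[A] N)
    (hg : ∀ (n k : ℕ) (h : n ≤ k) (y : Ext (Q I n) M i),
      g k ((Ext.mk₀ (TopDual.proj (Ideal.pow_le_pow_right h))).comp y (zero_add i)) = g n y) :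
    HH I i M →ₗ[A] N :=
  ((isColim I i M).desc
    { pt := N
      ι :=
        { app := fun j => ModuleCat.ofHom
            ((g j.unop.unop) ∘ₗ (OldExt.oldNew A (Q I j.unop.unop) M i).toLinearMap)
          naturality := fun j k f => by
            apply ModuleCat.hom_ext
            apply LinearMap.ext
            intro x
            refine Eq.trans ?_ (hg j.unop.unop k.unop.unop (leOfHom f.unop.unop)
              (OldExt.oldNew A (Q I j.unop.unop) M i x))
            rw [← OldExt.oldNew_mapOp]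
            rfl } }).hom

theorem descH_toH {i : ℕ} {M N : ModuleCat.{u} A} (g : ∀ n, Ext (Q I n) M i →ₗ[A] N)
    (hg : ∀ (n k : ℕ) (h : n ≤ k) (y : Ext (Q I n) M i),
      g k ((Ext.mk₀ (TopDual.proj (Ideal.pow_le_pow_right h))).comp y (zero_add i)) = g n y)
    (n : ℕ) (y : Ext (Q I n) M i) : descH I g hg (toH I i n M y) = g n y := by
  obtain ⟨x, rfl⟩ := (OldExt.oldNew A (Q I n) M i).surjective y
  rw [toH_oldNew]
  exact ConcreteCategory.congr_hom ((isColim I i M).fac _ (op (op n))) x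

variable {S : ShortComplex (ModuleCat.{u} A)} (hS : S.ShortExact)

/-- the connecting map -/
noncomputable def δ (i : ℕ) : HH I i S.X₃ →ₗ[A] HH I (i + 1) S.X₁ :=
  descH I (fun n => (toH I (i + 1) n S.X₁) ∘ₗ
    (Ext.postcompOfLinear (Y := S.X₃) (Z := S.X₁) hS.extClass A (Q I n) rfl)) (fun n k h y => by
      refine Eq.trans ?_ (toH_compat I (i + 1) S.X₁ n k h (y.comp hS.extClass rfl))
      change toH I (i + 1) k S.X₁ (((Ext.mk₀ _).comp y (zero_add i)).comp hS.extClass rfl) = _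
      rw [mk₀_comp_comp])

theorem δ_toH (i n : ℕ) (y : Ext (Q I n) S.X₃ i) :
    δ I hS i (toH I i n S.X₃ y) = toH I (i + 1) n S.X₁ (y.comp hS.extClass rfl) :=
  descH_toH I _ _ n y

include hS in
theorem exact₂ (i : ℕ) (x : HH I i S.X₂) (hx : ((localCohomology I i).map S.g).hom x = 0) :
    ∃ y, ((localCohomology I i).map S.f).hom y = x := by
  obtain ⟨n, x, rfl⟩ := toH_surj I i S.X₂ x
  rw [toH_natural] at hx
  obtain ⟨k, h, hk⟩ := toH_zero I i _ n _ hx
  rw [← mk₀_comp_comp] at hk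
  obtain ⟨z, hz⟩ := Ext.covariant_sequence_exact₂ (Q I k) hS _ hk
  refine ⟨toH I i k S.X₁ z, ?_⟩
  rw [toH_natural, hz, toH_compat I i _ n k h]

theorem exact₃ (i : ℕ) (x : HH I i S.X₃) (hx : δ I hS i x = 0) :
    ∃ y, ((localCohomology I i).map S.g).hom y = x := by
  obtain ⟨n, x, rfl⟩ := toH_surj I i S.X₃ x
  rw [δ_toH] at hx
  obtain ⟨k, h, hk⟩ := toH_zero I (i + 1) _ n _ hx
  rw [← mk₀_comp_comp] at hk
  obtain ⟨z, hz⟩ := Ext.covariant_sequence_exact₃ (Q I k) hS _ rfl hk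
  refine ⟨toH I i k S.X₂ z, ?_⟩
  rw [toH_natural, hz, toH_compat I i _ n k h]

theorem exact₁ (i : ℕ) (x : HH I (i + 1) S.X₁)
    (hx : ((localCohomology I (i + 1)).map S.f).hom x = 0) : ∃ y, δ I hS i y = x := by
  obtain ⟨n, x, rfl⟩ := toH_surj I (i + 1) S.X₁ x
  rw [toH_natural] at hx
  obtain ⟨k, h, hk⟩ := toH_zero I (i + 1) _ n _ hx
  rw [← mk₀_comp_comp] at hk
  obtain ⟨z, hz⟩ := Ext.covariant_sequence_exact₁ (Q I k) hS _ hk rfl
  refine ⟨toH I i k S.X₃ z, ?_⟩
  rw [δ_toH, hz, toH_compat I (i + 1) _ n k h]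

theorem map_comp_δ (i : ℕ) (x : HH I i S.X₂) :
    δ I hS i (((localCohomology I i).map S.g).hom x) = 0 := by
  obtain ⟨n, x, rfl⟩ := toH_surj I i S.X₂ x
  rw [toH_natural, δ_toH, Ext.comp_assoc_of_second_deg_zero, hS.comp_extClass, Ext.comp_zero,
    map_zero]

theorem δ_comp_map (i : ℕ) (x : HH I i S.X₃) :
    ((localCohomology I (i + 1)).map S.f).hom (δ I hS i x) = 0 := by
  obtain ⟨n, x, rfl⟩ := toH_surj I i S.X₃ x
  rw [δ_toH, toH_natural, Ext.comp_assoc_of_third_deg_zero, hS.extClass_comp, Ext.comp_zero,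
    map_zero]

theorem subsingleton_of_ext (i : ℕ) (M : ModuleCat.{u} A)
    (h : ∀ n, Subsingleton (Ext (Q I n) M i)) : Subsingleton (HH I i M) := by
  refine subsingleton_of_forall_eq 0 fun x => ?_
  obtain ⟨n, x, rfl⟩ := toH_surj I i M x
  rw [(h n).elim x 0, map_zero]

end Groth.Agent.Sga2.LCNew
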