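import Groth.Agent.Sga2.LefRegExt
import Groth.Agent.Ega4B.LocTransfer
import Groth.Agent.Ega4C.DepthBasics
import Mathlib.RingTheory.AdicCompletion.Basic

/-!
# Algebraic core of the Lefschetz condition for the punctured spectrum (SGA 2 X 2.1)
-/

set_option autoImplicit false

universe u v w

namespace Groth.Agent.Sga2.LefAlg

open CategoryTheory Abelian IsLocalRing

section Final

variable {A : Type u} [CommRing A] (t : A) {B : Type v} [AddCommGroup B] [Module A B]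
  {Bn : ℕ → Type w} [∀ n, AddCommGroup (Bn n)] [∀ n, Module A (Bn n)]
  (ρ : ∀ n, B →ₗ[A] Bn n) (τ : ∀ n, Bn (n + 1) →ₗ[A] Bn n)

lemma eq_zero_of_pow_smul (hdrop : ∀ n (z : Bn (n + 1)), t • z = 0 → τ n z = 0) (N : ℕ)
    (w : ∀ n, Bn n) (hw : ∀ n, τ n (w (n + 1)) = w n) (h : ∀ n, t ^ N • w n = 0) (n : ℕ) :
    w n = 0 := by
  induction N with
  | zero => simpa using h n
  | succ N ih =>
    refine ih fun n => ?_
    rw [← hw n, ← map_smul]
    apply hdrop
    rw [← mul_smul, ← pow_succ']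
    exact h _

/-- The final step: bijectivity of `B → lim B_n`. -/
theorem bijective_of (hτρ : ∀ n b, τ n (ρ (n + 1) b) = ρ n b)
    (hker : ∀ n b, ρ n b = 0 → ∃ b', b = t ^ (n + 1) • b')
    (hkill : ∀ n (z : Bn n), t ^ (n + 1) • z = 0)
    (hdrop : ∀ n (z : Bn (n + 1)), t • z = 0 → τ n z = 0)
    (N : ℕ) (hN : ∀ n (z : Bn n), ∃ b, ρ n b = t ^ N • z)
    (hsep : ∀ b : B, (∀ n : ℕ, ∃ b', b = t ^ (n + 1) • b') → b = 0)
    (hcomp : ∀ x : ℕ → B, (∀ n, ∃ b', x (n + 1) - x n = t ^ (n + 1) • b') →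
      ∃ x' : B, ∀ n, ∃ b', x' - x n = t ^ (n + 1) • b') :
    (∀ b, (∀ n, ρ n b = 0) → b = 0) ∧
      ∀ z : ∀ n, Bn n, (∀ n, τ n (z (n + 1)) = z n) → ∃ b, ∀ n, ρ n b = z n := by
  refine ⟨fun b hb => hsep b fun n => hker n b (hb n), fun z hz => ?_⟩
  choose x hx using fun n => hN n (z n)
  obtain ⟨x', hx'⟩ := hcomp x fun n => hker n _ (by
    rw [map_sub, ← hτρ, hx, map_smul, hz, hx, sub_self])
  have h1 : ∀ n, ρ n x' = t ^ N • z n := fun n => by
    obtain ⟨b', hb'⟩ := hx' n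
    rw [← hx, ← sub_eq_zero, ← map_sub, hb', map_smul, hkill]
  rcases N with _ | k
  · exact ⟨x', fun n => by simpa using h1 n⟩
  · obtain ⟨y, hy⟩ := hker k x' (by rw [h1, hkill])
    refine ⟨y, fun n => ?_⟩
    rw [← sub_eq_zero]
    refine eq_zero_of_pow_smul t τ hdrop (k + 1) (fun n => ρ n y - z n) (fun n => ?_)
      (fun n => ?_) n
    · rw [map_sub, hτρ, hz]
    · rw [smul_sub, ← map_smul, ← hy, h1, sub_self]

end Final

section Complete

variable {A : Type u} [CommRing A] (t : A) [IsAdicComplete (Ideal.span {t}) A]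
  {B : Type v} [AddCommGroup B] [Module A B] (ι : A →ₗ[A] B) (hι : Function.Injective ι)
  (htB : IsSMulRegular B t) (s : ℕ) (hs : ∀ b : B, t ^ s • b ∈ LinearMap.range ι)

include hι htB hs in
omit [IsAdicComplete (Ideal.span {t}) A] in
lemma sep [IsHausdorff (Ideal.span {t}) A] (b : B)
    (h : ∀ n : ℕ, ∃ b', b = t ^ (n + 1) • b') : b = 0 := by
  obtain ⟨a, ha⟩ := hs b
  have h0 : a = 0 := by
    refine IsHausdorff.haus (inferInstance : IsHausdorff (Ideal.span {t}) A) a fun n => ?_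
    rw [SModEq.zero, Ideal.span_singleton_pow, smul_eq_mul, Ideal.mul_top,
      Ideal.mem_span_singleton']
    obtain ⟨b', hb'⟩ := h n
    obtain ⟨a', ha'⟩ := hs b'
    refine ⟨t * a', hι ?_⟩
    rw [mul_assoc, mul_comm a', ← mul_assoc, ← pow_succ', ← smul_eq_mul (t ^ (n + 1)), map_smul,
      ha', smul_comm, ← hb', ha]
  rw [h0, map_zero] at ha
  refine (htB.pow s) ?_
  show t ^ s • b = t ^ s • (0 : B)
  rw [smul_zero]
  exact ha.symm

include hι htB hs in
lemma comp (x : ℕ → B) (hx : ∀ n, ∃ b', x (n + 1) - x n = t ^ (n + 1) • b') :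
    ∃ x' : B, ∀ n, ∃ b', x' - x n = t ^ (n + 1) • b' := by
  choose a ha using fun n => hs (x n)
  have h1 : ∀ n, ∃ a', a (n + 1) - a n = t ^ (n + 1) * a' := fun n => by
    obtain ⟨b', hb'⟩ := hx n
    obtain ⟨a', ha'⟩ := hs b'
    refine ⟨a', hι ?_⟩
    rw [map_sub, ha, ha, ← smul_sub, hb', ← smul_eq_mul (t ^ (n + 1)), map_smul, ha', smul_comm]
  have h2 : ∀ m k, ∃ a', a (m + k) - a m = t ^ (m + 1) * a' := fun m k => by
    induction k with
    | zero => exact ⟨0, by simp⟩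
    | succ k ih =>
      obtain ⟨a', ha'⟩ := ih
      obtain ⟨a'', ha''⟩ := h1 (m + k)
      refine ⟨a' + t ^ k * a'', ?_⟩
      have : a (m + (k + 1)) - a m = (a (m + k + 1) - a (m + k)) + (a (m + k) - a m) := by
        rw [← add_assoc]; ring
      rw [this, ha', ha'', mul_add, ← mul_assoc, ← pow_add]
      ring
  obtain ⟨L, hL⟩ := IsPrecomplete.prec (inferInstance : IsPrecomplete (Ideal.span {t}) A)
    (f := a) (fun {m n} hmn => by
      obtain ⟨k, rfl⟩ := Nat.exists_eq_add_of_le hmn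
      rw [SModEq.comm, SModEq.sub_mem, Ideal.span_singleton_pow, smul_eq_mul, Ideal.mul_top,
        Ideal.mem_span_singleton]
      obtain ⟨a', ha'⟩ := h2 m k
      exact ⟨t * a', by rw [ha', pow_succ, mul_assoc]⟩)
  have h3 : ∀ n, ∃ a', L - a n = t ^ (n + 1) * a' := fun n => by
    have := hL (n + 1)
    rw [SModEq.comm, SModEq.sub_mem, Ideal.span_singleton_pow, smul_eq_mul, Ideal.mul_top,
      Ideal.mem_span_singleton] at this
    obtain ⟨a', ha'⟩ := this
    obtain ⟨a'', ha''⟩ := h1 n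
    refine ⟨a' + a'', ?_⟩
    rw [mul_add, ← ha', ← ha'']
    ring
  obtain ⟨a₀, ha₀⟩ := h3 s
  refine ⟨x s + t • ι a₀, fun n => ?_⟩
  obtain ⟨a₁, ha₁⟩ := h3 (n + s)
  have h4 : ι L = t ^ s • (x s + t • ι a₀) := by
    have : L = a s + t ^ (s + 1) * a₀ := by rw [← ha₀]; ring
    rw [this, map_add, ha, ← smul_eq_mul (t ^ (s + 1)), map_smul, smul_add, pow_succ, mul_smul]
  have h5 : x s + t • ι a₀ - x (n + s) = t ^ (n + 1) • ι a₁ := by
    refine (htB.pow s) ?_
    show t ^ s • _ = t ^ s • _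
    rw [smul_sub, ← h4, ← ha (n + s), ← map_sub, ha₁, ← smul_eq_mul (t ^ (n + s + 1)), map_smul,
      ← mul_smul, ← pow_add]
    congr 2
    ring
  have h6 : ∀ k, ∃ b', x (n + k) - x n = t ^ (n + 1) • b' := fun k => by
    induction k with
    | zero => exact ⟨0, by simp⟩
    | succ k ih =>
      obtain ⟨a', ha'⟩ := ih
      obtain ⟨a'', ha''⟩ := hx (n + k)
      refine ⟨a' + t ^ k • a'', ?_⟩
      have : x (n + (k + 1)) - x n = (x (n + k + 1) - x (n + k)) + (x (n + k) - x n) := by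
        rw [← add_assoc]; abel
      rw [this, ha', ha'', smul_add, ← mul_smul, ← pow_add, add_comm]
      congr 3
      ring
  obtain ⟨b₂, hb₂⟩ := h6 s
  refine ⟨ι a₁ + b₂, ?_⟩
  rw [smul_add, ← h5, ← hb₂]
  abel

end Complete

end Groth.Agent.Sga2.LefAlg
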