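import Groth.Agent.Sga2.LefAlg

/-!
# Algebraic core of the Lefschetz condition for the punctured spectrum (SGA 2 X 2.1), part 2
-/

set_option autoImplicit false

universe u v w

namespace Groth.Agent.Sga2.LefAlg2

open CategoryTheory Abelian IsLocalRing

section Dim

variable {A : Type u} [CommRing A] [IsLocalRing A]

lemma ringKrullDim_le_zero_of_surjective {S : Type v} [CommRing S] (f : A →+* S)
    (hf : Function.Surjective f)
    (h : ∀ q : Ideal A, q.IsPrime → RingHom.ker f ≤ q → q = maximalIdeal A) :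
    ringKrullDim S ≤ 0 := by
  have : Ring.KrullDimLE 0 S := by
    rw [Ring.krullDimLE_zero_iff]
    intro q hq
    have h1 : q.comap f = maximalIdeal A := h _ (Ideal.comap_isPrime f q)
      (fun x hx => by
        rw [Ideal.mem_comap, (RingHom.mem_ker).mp hx]
        exact q.zero_mem)
    have h5 : (q.comap f).IsMaximal := h1 ▸ inferInstance
    have := Ideal.map_eq_top_or_isMaximal_of_surjective f hf h5
    rw [Ideal.map_comap_of_surjective _ hf] at this
    exact this.resolve_left hq.ne_top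
  exact_mod_cast Ring.krullDimLE_iff.mp this

lemma ringKrullDim_quotient_le_zero (J : Ideal A)
    (h : ∀ q : Ideal A, q.IsPrime → J ≤ q → q = maximalIdeal A) : ringKrullDim (A ⧸ J) ≤ 0 :=
  ringKrullDim_le_zero_of_surjective (Ideal.Quotient.mk J) Ideal.Quotient.mk_surjective
    (fun q hq hle => h q hq (by rwa [Ideal.mk_ker] at hle))

lemma ringKrullDim_quotient_le_one [IsNoetherianRing A] (t : A) (ht : t ∈ maximalIdeal A)
    (J : Ideal A)
    (h : ∀ q : Ideal A, q.IsPrime → J ≤ q → t ∈ q → q = maximalIdeal A) :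
    ringKrullDim (A ⧸ J) ≤ 1 := by
  rcases eq_or_ne J ⊤ with rfl | hJ
  · rw [ringKrullDim_eq_bot_of_subsingleton]
    exact bot_le
  have : Nontrivial (A ⧸ J) := Ideal.Quotient.nontrivial_iff.mpr hJ
  have hloc : IsLocalRing (A ⧸ J) := IsLocalRing.of_surjective' (Ideal.Quotient.mk J)
    Ideal.Quotient.mk_surjective
  have h1 := ringKrullDim_le_ringKrullDim_quotient_add_encard (R := A ⧸ J)
    {Ideal.Quotient.mk J t} (by
      rw [Set.singleton_subset_iff, SetLike.mem_coe, IsLocalRing.ringJacobson_eq_maximalIdeal]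
      have hl : IsLocalHom (Ideal.Quotient.mk J) :=
        IsLocalHom.of_surjective _ Ideal.Quotient.mk_surjective
      exact (IsLocalRing.mem_maximalIdeal _).mpr fun hu =>
        (IsLocalRing.mem_maximalIdeal _).mp ht (isUnit_of_map_unit (Ideal.Quotient.mk J) t hu))
  rw [Set.encard_singleton] at h1
  have h2 : ringKrullDim ((A ⧸ J) ⧸ Ideal.span {Ideal.Quotient.mk J t}) ≤ 0 := by
    refine ringKrullDim_le_zero_of_surjective
      ((Ideal.Quotient.mk (Ideal.span {Ideal.Quotient.mk J t})).comp (Ideal.Quotient.mk J))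
      (Ideal.Quotient.mk_surjective.comp Ideal.Quotient.mk_surjective) (fun q hq hle => ?_)
    refine h q hq (fun x hx => hle ?_) (hle ?_)
    · rw [RingHom.mem_ker, RingHom.comp_apply, Ideal.Quotient.eq_zero_iff_mem.mpr hx, map_zero]
    · rw [RingHom.mem_ker, RingHom.comp_apply, Ideal.Quotient.eq_zero_iff_mem]
      exact Ideal.mem_span_singleton_self _
  refine h1.trans ?_
  calc _ ≤ (0 : WithBot ℕ∞) + ((1 : ℕ∞) : WithBot ℕ∞) := by gcongr
    _ = 1 := by simp

end Dim

section Comap

variable {R A : Type u} [CommRing R] [CommRing A] [Algebra R A]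

lemma annihilator_quotient_comap (J : Ideal A) (hs : Function.Surjective (algebraMap R A)) (e : ℕ)
    (h : ringKrullDim (A ⧸ J) ≤ e) :
    ringKrullDim (R ⧸ Module.annihilator R (R ⧸ J.comap (algebraMap R A))) ≤ e := by
  rw [Ideal.annihilator_quotient]
  refine le_trans (le_of_eq ?_) h
  let f : R →+* A ⧸ J := (Ideal.Quotient.mk J).comp (algebraMap R A)
  have hf : Function.Surjective f := Ideal.Quotient.mk_surjective.comp hs
  have hk : RingHom.ker f = J.comap (algebraMap R A) := by
    ext x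
    rw [RingHom.mem_ker, RingHom.comp_apply, Ideal.Quotient.eq_zero_iff_mem, Ideal.mem_comap]
  rw [← hk]
  exact ringKrullDim_eq_of_ringEquiv (RingHom.quotientKerEquivOfSurjective hf)

end Comap

section Kills

variable {R A : Type u} [CommRing R] [IsLocalRing R] [CommRing A] [IsLocalRing A]
  [IsNoetherianRing A] [Algebra R A] (hs : Function.Surjective (algebraMap R A))
  (tR : R) (ht : algebraMap R A tR ∈ maximalIdeal A)
  (s : ℕ) (hkill : ∀ (C : Type u) [AddCommGroup C] [Module R C] [Module.Finite R C] (e i : ℕ),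
      ringKrullDim (R ⧸ Module.annihilator R C) ≤ e → i + e ≤ 2 →
      ∀ x : Ext (ModuleCat.of R C) (ModuleCat.of R A) i, tR ^ s • x = 0)
  (U : Set (PrimeSpectrum A))
  (hU : ∀ q : PrimeSpectrum A, algebraMap R A tR ∈ q.asIdeal → q.asIdeal ≠ maximalIdeal A → q ∈ U)
  {B : Type u} [AddCommGroup B] [Module A B] [Module R B] [IsScalarTower R A B]
  (ι : A →ₗ[A] B) (hι : Function.Injective ι)
  (hsepB : ∀ x : B, (∀ q ∈ U, ∃ f ∉ q.asIdeal, f • x = 0) → x = 0)
  (hlocB : ∀ b : B, ∀ q ∈ U, ∃ f ∉ q.asIdeal, f • b ∈ LinearMap.range ι)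

include hs ht hkill hU hι hsepB hlocB in
theorem pow_smul_mem_range (b : B) : (algebraMap R A tR) ^ s • b ∈ LinearMap.range ι := by
  let J : Ideal A := (LinearMap.range ι).comap (LinearMap.toSpanSingleton A B b)
  have hJ : ∀ a, a ∈ J ↔ a • b ∈ LinearMap.range ι := fun a => Iff.rfl
  have hJU : ∀ q ∈ U, ¬ J ≤ q.asIdeal := fun q hq hle => by
    obtain ⟨f, hf, hfb⟩ := hlocB b q hq
    exact hf (hle hfb)
  have h1 : ringKrullDim (A ⧸ J) ≤ 1 := ringKrullDim_quotient_le_one _ ht J
    (fun q hq hle htq => by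
      by_contra hne
      exact hJU ⟨q, hq⟩ (hU ⟨q, hq⟩ htq hne) hle)
  have h2 := annihilator_quotient_comap (R := R) J hs 1 (by exact_mod_cast h1)
  have h3 := LefExtAnn.smul_mem_range_of_kills (R := R) (ι.restrictScalars R) hι b
    (J.comap (algebraMap R A)) (fun r hr => by
      rw [← algebraMap_smul A r b]
      obtain ⟨a, ha⟩ := (hJ _).mp (Ideal.mem_comap.mp hr)
      exact ⟨a, ha⟩) (fun x hx => hsepB x fun q hq => by
        obtain ⟨f, hf, hfb⟩ := hlocB b q hq
        refine ⟨f, hf, ?_⟩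
        obtain ⟨r, rfl⟩ := hs f
        rw [algebraMap_smul]
        exact hx r (Ideal.mem_comap.mpr ((hJ _).mpr hfb))) (tR ^ s)
      (hkill _ 1 1 h2 (by norm_num))
  rw [← map_pow, algebraMap_smul]
  obtain ⟨a, ha⟩ := h3
  exact ⟨a, ha⟩

include hkill in
theorem kills_B (hr : ∀ b : B, (algebraMap R A tR) ^ s • b ∈ LinearMap.range ι)
    (hι : Function.Injective ι)
    (C : Type u) [AddCommGroup C] [Module R C] [Module.Finite R C] (i : ℕ)
    (hC : ringKrullDim (R ⧸ Module.annihilator R C) ≤ 0) (hi : i ≤ 2)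
    (x : Ext (ModuleCat.of R C) (ModuleCat.of R B) i) : (tR ^ s * tR ^ s) • x = 0 := by
  let N : Submodule R B := LinearMap.range (ι.restrictScalars R)
  let S : ShortComplex (ModuleCat.{u} R) :=
    ShortComplex.mk (ModuleCat.ofHom (ι.restrictScalars R)) (ModuleCat.ofHom N.mkQ) (by
      apply ModuleCat.hom_ext
      refine LinearMap.ext fun x => ?_
      exact (Submodule.Quotient.mk_eq_zero _).mpr ⟨x, rfl⟩)
  have hS : S.ShortExact := by
    refine { exact := ?_, mono_f := ?_, epi_g := ?_ }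
    · refine (ShortComplex.ShortExact.moduleCat_exact_iff_function_exact S).mpr ?_
      exact LinearMap.exact_map_mkQ_range _
    · exact (ModuleCat.mono_iff_injective _).mpr hι
    · exact (ModuleCat.epi_iff_surjective _).mpr (Submodule.mkQ_surjective N)
  refine LefExtAnn.kills_X₂ hS (tR ^ s) (tR ^ s) (fun y => ?_) (fun y => ?_) x
  · exact hkill C 0 i (by exact_mod_cast hC) (by omega) y
  · refine LefExtAnn.kills_of_annihilates (tR ^ s) (fun m => ?_) y
    obtain ⟨b, rfl⟩ := Submodule.mkQ_surjective N m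
    rw [← map_smul]
    refine (Submodule.Quotient.mk_eq_zero _).mpr ?_
    obtain ⟨a, ha⟩ := hr b
    rw [← map_pow, algebraMap_smul] at ha
    exact ⟨a, ha⟩

end Kills

end Groth.Agent.Sga2.LefAlg2
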