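import Groth.Agent.Sga2.LefAlg2

/-!
# Algebraic core of the Lefschetz condition for the punctured spectrum (SGA 2 X 2.1), part 3
-/

set_option autoImplicit false

universe u v w

namespace Groth.Agent.Sga2.LefAlg3

open CategoryTheory Abelian IsLocalRing

section Kills

variable {R A : Type u} [CommRing R] [CommRing A] [Algebra R A]
  (tR : R) (a : R)
  {B : Type u} [AddCommGroup B] [Module A B] [Module R B] [IsScalarTower R A B]
  {Bn : Type u} [AddCommGroup Bn] [Module A Bn] [Module R Bn] [IsScalarTower R A Bn]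
  (ρ : B →ₗ[A] Bn)

theorem kills_range (k : ℕ) (hker : ∀ b, ρ b = 0 ↔ ∃ b', b = (algebraMap R A tR) ^ k • b')
    (htB : IsSMulRegular B (algebraMap R A tR))
    (C : ModuleCat.{u} R) (i : ℕ)
    (h₂ : ∀ x : Ext C (ModuleCat.of R B) i, a • x = 0)
    (h₁ : ∀ x : Ext C (ModuleCat.of R B) (i + 1), a • x = 0)
    (x : Ext C (ModuleCat.of R (LinearMap.range (ρ.restrictScalars R))) i) :
    (a * a) • x = 0 := by
  let S : ShortComplex (ModuleCat.{u} R) :=
    ShortComplex.mk (ModuleCat.ofHom (tR ^ k • (LinearMap.id : B →ₗ[R] B)))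
      (ModuleCat.ofHom (ρ.restrictScalars R).rangeRestrict) (by
      apply ModuleCat.hom_ext
      refine LinearMap.ext fun x => Subtype.ext ?_
      refine (hker _).mpr ⟨x, ?_⟩
      rw [← map_pow, algebraMap_smul]
      rfl)
  have hS : S.ShortExact := by
    refine { exact := ?_, mono_f := ?_, epi_g := ?_ }
    · refine (ShortComplex.ShortExact.moduleCat_exact_iff_function_exact S).mpr ?_
      intro b
      constructor
      · intro hb
        obtain ⟨b', hb'⟩ := (hker b).mp (congrArg Subtype.val hb)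
        refine ⟨b', ?_⟩
        rw [hb', ← map_pow, algebraMap_smul]
        rfl
      · rintro ⟨b', rfl⟩
        refine Subtype.ext ((hker _).mpr ⟨b', ?_⟩)
        rw [← map_pow, algebraMap_smul]
        rfl
    · refine (ModuleCat.mono_iff_injective _).mpr ?_
      intro b b' hbb
      refine (htB.pow k) ?_
      show (algebraMap R A tR) ^ k • b = (algebraMap R A tR) ^ k • b'
      rw [← map_pow, algebraMap_smul, algebraMap_smul]
      exact hbb
    · exact (ModuleCat.epi_iff_surjective _).mpr (LinearMap.surjective_rangeRestrict _)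
  exact LefExtAnn.kills_X₃ hS a a h₂ h₁ x

variable [IsLocalRing A] (hs : Function.Surjective (algebraMap R A))

include hs in
theorem smul_mem_range (k : ℕ)
    (hkR : ∀ (C : Type u) [AddCommGroup C] [Module R C] [Module.Finite R C],
      ringKrullDim (R ⧸ Module.annihilator R C) ≤ 0 →
      ∀ x : Ext (ModuleCat.of R C) (ModuleCat.of R (LinearMap.range (ρ.restrictScalars R))) 1,
        a • x = 0)
    (hkill : ∀ z : Bn, (algebraMap R A tR) ^ k • z = 0)
    (U : Set (PrimeSpectrum A))
    (hU : ∀ q : PrimeSpectrum A, algebraMap R A tR ∈ q.asIdeal →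
      q.asIdeal ≠ maximalIdeal A → q ∈ U)
    (hsep : ∀ x : Bn, (∀ q ∈ U, ∃ f ∉ q.asIdeal, f • x = 0) → x = 0)
    (hloc : ∀ b : Bn, ∀ q ∈ U, ∃ f ∉ q.asIdeal, f • b ∈ LinearMap.range ρ)
    (z : Bn) : ∃ b, ρ b = algebraMap R A a • z := by
  let J : Ideal A := (LinearMap.range ρ).comap (LinearMap.toSpanSingleton A Bn z)
  have hJ : ∀ a, a ∈ J ↔ a • z ∈ LinearMap.range ρ := fun a => Iff.rfl
  have hJU : ∀ q ∈ U, ¬ J ≤ q.asIdeal := fun q hq hle => by
    obtain ⟨f, hf, hfb⟩ := hloc z q hq
    exact hf (hle hfb)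
  have h1 : ringKrullDim (A ⧸ J) ≤ 0 := LefAlg2.ringKrullDim_quotient_le_zero J
    (fun q hq hle => by
      by_contra hne
      have htJ : (algebraMap R A tR) ^ k ∈ J := (hJ _).mpr (by
        rw [hkill]
        exact zero_mem _)
      exact hJU ⟨q, hq⟩ (hU ⟨q, hq⟩ (hq.mem_of_pow_mem _ (hle htJ)) hne) hle)
  have h2 := LefAlg2.annihilator_quotient_comap (R := R) J hs 0 (by exact_mod_cast h1)
  have h3 := LefExtAnn.smul_mem_range_of_kills (R := R)
    (LinearMap.range (ρ.restrictScalars R)).subtype (Submodule.injective_subtype _) z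
    (J.comap (algebraMap R A)) (fun r hr => by
      obtain ⟨b, hb⟩ := (hJ _).mp (Ideal.mem_comap.mp hr)
      rw [algebraMap_smul] at hb
      exact ⟨⟨r • z, ⟨b, hb⟩⟩, rfl⟩) (fun x hx => hsep x fun q hq => by
        obtain ⟨f, hf, hfb⟩ := hloc z q hq
        refine ⟨f, hf, ?_⟩
        obtain ⟨r, rfl⟩ := hs f
        rw [algebraMap_smul]
        exact hx r (Ideal.mem_comap.mpr ((hJ _).mpr hfb))) a
      (hkR _ (by exact_mod_cast h2))
  obtain ⟨⟨y, b, rfl⟩, hy⟩ := h3
  refine ⟨b, ?_⟩
  rw [algebraMap_smul]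
  exact hy

end Kills

end Groth.Agent.Sga2.LefAlg3
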