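import Groth.Agent.Sga2.LefAlg3
import Groth.Agent.Ega4B.DepthBasic
import Groth.Agent.Localalg.Depth2

/-!
# Algebraic core of the Lefschetz condition for the punctured spectrum (SGA 2 X 2.1), part 4
-/

set_option autoImplicit false

universe u v w

namespace Groth.Agent.Sga2.LefAlg4

open CategoryTheory Abelian IsLocalRing

section Basics

variable {A : Type u} [CommRing A]

lemma depth_localizedModule_self (p : Ideal A) [p.IsPrime] :
    LocCoh.depth (Localization.AtPrime p) (LocalizedModule p.primeCompl A) =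
      LocCoh.depth (Localization.AtPrime p) (Localization.AtPrime p) :=
  Groth.Agent.Ega4B.DepthBasic.depth_congr
    ((IsLocalizedModule.linearEquiv p.primeCompl (LocalizedModule.mkLinearMap p.primeCompl A)
    (Algebra.linearMap A (Localization.AtPrime p))).extendScalarsOfIsLocalization p.primeCompl
      (Localization.AtPrime p))

lemma ringKrullDim_quotient_comap {R : Type u} [CommRing R] [Algebra R A]
    (hs : Function.Surjective (algebraMap R A)) (q : Ideal A) :
    ringKrullDim (R ⧸ q.comap (algebraMap R A)) = ringKrullDim (A ⧸ q) := by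
  let f : R →+* A ⧸ q := (Ideal.Quotient.mk q).comp (algebraMap R A)
  have hf : Function.Surjective f := Ideal.Quotient.mk_surjective.comp hs
  have hk : RingHom.ker f = q.comap (algebraMap R A) := by
    ext x
    rw [RingHom.mem_ker, RingHom.comp_apply, Ideal.Quotient.eq_zero_iff_mem, Ideal.mem_comap]
  rw [← hk]
  exact ringKrullDim_eq_of_ringEquiv (RingHom.quotientKerEquivOfSurjective hf)

end Basics

section

variable {A : Type u} [CommRing A] [IsLocalRing A] [IsNoetherianRing A]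
  (hdepth : ∀ p : PrimeSpectrum A, ringKrullDim (A ⧸ p.asIdeal) = 1 →
    (2 : ℕ∞) ≤ LocCoh.depth (Localization.AtPrime p.asIdeal) (Localization.AtPrime p.asIdeal))

include hdepth in
omit [IsLocalRing A] [IsNoetherianRing A] in
lemma two_le_depth {R : Type u} [CommRing R] [IsNoetherianRing R] [Algebra R A]
    (hs : Function.Surjective (algebraMap R A)) (p : Ideal R) [p.IsPrime]
    (hp : ringKrullDim (R ⧸ p) = 1) :
    (2 : ℕ∞) ≤ LocCoh.depth (Localization.AtPrime p) (LocalizedModule p.primeCompl A) := by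
  by_cases hk : RingHom.ker (algebraMap R A) ≤ p
  · have hq : (p.map (algebraMap R A)).IsPrime := Ideal.map_isPrime_of_surjective hs hk
    have hc : (p.map (algebraMap R A)).comap (algebraMap R A) = p := by
      rw [Ideal.comap_map_of_surjective' _ hs, sup_eq_left.mpr hk]
    obtain ⟨q, hq', rfl⟩ : ∃ q : Ideal A, q.IsPrime ∧ q.comap (algebraMap R A) = p := ⟨_, hq, hc⟩
    rw [ringKrullDim_quotient_comap hs] at hp
    have h1 := hdepth ⟨q, hq'⟩ hp
    have h2 := Groth.Agent.Ega4B.LocTransfer.depth_eq_of_surjective (M := A) hs q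
    rw [depth_localizedModule_self] at h2
    rw [h2] at h1
    exact h1
  · have : Subsingleton (LocalizedModule p.primeCompl A) := by
      obtain ⟨x, hx, hxp⟩ := Set.not_subset.mp hk
      rw [LocalizedModule.subsingleton_iff]
      intro m
      refine ⟨x, hxp, ?_⟩
      rw [Algebra.smul_def, (RingHom.mem_ker).mp hx, zero_mul]
    have h : LocCoh.depth (Localization.AtPrime p) (LocalizedModule p.primeCompl A) = ⊤ :=
      Groth.Agent.Localalg.Depth.idealDepth_eq_top_of_subsingleton _ _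
    rw [h]
    exact le_top

include hdepth in
lemma three_le_ringKrullDim (t : A) (ht : t ∈ maximalIdeal A) (hreg : IsSMulRegular A t) :
    (3 : ℕ) ≤ ringKrullDim A := by
  have h1 : t ∉ nilradical A := by
    intro h
    obtain ⟨n, hn⟩ := mem_nilradical.mp h
    have := (hreg.pow n) (a₁ := 1) (a₂ := 0) (by
      show t ^ n • (1 : A) = t ^ n • (0 : A)
      rw [hn]; simp)
    exact one_ne_zero this
  obtain ⟨p, hp, htp⟩ : ∃ p : Ideal A, p.IsPrime ∧ t ∉ p := by
    by_contra hcon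
    push Not at hcon
    exact h1 (nilpotent_iff_mem_prime.mpr fun J hJ => hcon J hJ)
  obtain ⟨P, hP, hpP, hPm, hdim⟩ := LefRegExt.exists_prime_dim_one p (fun h => htp (h ▸ ht))
  have h2 := hdepth ⟨P, hP⟩ hdim
  have h3 := (Groth.Agent.Localalg.Depth2.depth_le_supportDim (R := Localization.AtPrime P)
    (Localization.AtPrime P)).trans (Module.supportDim_le_ringKrullDim _ _)
  rw [IsLocalization.AtPrime.ringKrullDim_eq_height P] at h3
  have h4 : (2 : ℕ∞) ≤ P.height := h2.trans (WithBot.coe_le_coe.mp h3)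
  have h5 := LefRegExt.height_add_ringKrullDim_quotient_le P
  rw [hdim] at h5
  refine le_trans ?_ h5
  calc ((3 : ℕ) : WithBot ℕ∞) = ((2 : ℕ∞) : WithBot ℕ∞) + 1 := by norm_cast
    _ ≤ _ := add_le_add (WithBot.coe_le_coe.mpr h4) le_rfl

include hdepth in
lemma ringKrullDim_eq {R : Type u} [CommRing R] [IsLocalRing R] [IsNoetherianRing R] [Algebra R A]
    (hs : Function.Surjective (algebraMap R A)) (t : A) (ht : t ∈ maximalIdeal A)
    (hreg : IsSMulRegular A t) : ∃ c : ℕ, ringKrullDim R = (c + 3 : ℕ) := by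
  have h1 := (three_le_ringKrullDim hdepth t ht hreg).trans (ringKrullDim_le_of_surjective _ hs)
  obtain ⟨n, hn⟩ : ∃ n : ℕ, ringKrullDim R = n := by
    have h2 : ringKrullDim R < ⊤ := ringKrullDim_lt_top
    have h3 : ringKrullDim R ≠ ⊥ := ringKrullDim_ne_bot
    obtain ⟨a, ha⟩ := WithBot.ne_bot_iff_exists.mp h3
    rw [← ha] at h2
    have h4 : a ≠ ⊤ := fun h => by
      rw [h] at h2
      exact lt_irrefl _ h2
    obtain ⟨n, hn⟩ := ENat.ne_top_iff_exists.mp h4
    exact ⟨n, by rw [← ha, ← hn]; rfl⟩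
  rw [hn] at h1
  have h5 : 3 ≤ n := by exact_mod_cast h1
  exact ⟨n - 3, by rw [hn]; congr 1; omega⟩

include hdepth in
lemma ker_eq_bot (t : A) (ht : t ∈ maximalIdeal A) (hreg : IsSMulRegular A t)
    (U : Set (PrimeSpectrum A))
    (hU : ∀ q : PrimeSpectrum A, t ∈ q.asIdeal → q.asIdeal ≠ maximalIdeal A → q ∈ U)
    (K : Ideal A) (hK : ∀ a ∈ K, ∀ q ∈ U, ∃ f ∉ q.asIdeal, f * a = 0) : K = ⊥ := by
  by_contra hne
  have hnt : Nontrivial K := Submodule.nontrivial_iff_ne_bot.mpr hne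
  obtain ⟨P, hP⟩ := associatedPrimes.nonempty A K
  have hPA : P ∈ associatedPrimes A A :=
    associatedPrimes.subset_of_injective (Submodule.injective_subtype K) hP
  have hPp : P.IsPrime := hP.1
  have hPU : ∀ q ∈ U, ¬ P ≤ q.asIdeal := fun q hq hle => by
    obtain ⟨x, hx⟩ := hP.2
    obtain ⟨f, hf, hfx⟩ := hK x x.2 q hq
    refine hf (hle ?_)
    rw [hx]
    refine Ideal.le_radical ?_
    rw [Submodule.mem_colon_singleton]
    exact (Submodule.mem_bot A).mpr (Subtype.ext hfx)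
  have h1 : ringKrullDim (A ⧸ P) ≤ 1 := LefAlg2.ringKrullDim_quotient_le_one t ht P
    (fun q hq hle htq => by
      by_contra hne
      exact hPU ⟨q, hq⟩ (hU ⟨q, hq⟩ htq hne) hle)
  have hPm : P ≠ maximalIdeal A := fun h => by
    obtain ⟨x, hx⟩ := hPA.2
    have htP : t ∈ P := h ▸ ht
    rw [hx] at htP
    obtain ⟨n, hn⟩ := htP
    rw [Submodule.mem_colon_singleton] at hn
    have h2 : x = 0 := (hreg.pow n) (a₁ := x) (a₂ := 0) (by
      show t ^ n • x = t ^ n • 0
      rw [smul_zero]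
      exact hn)
    apply hPp.ne_top
    rw [hx, h2]
    rw [Ideal.eq_top_iff_one]
    refine Ideal.le_radical ?_
    rw [Submodule.mem_colon_singleton]
    simp
  have hlt : P < maximalIdeal A :=
    lt_of_le_of_ne (IsLocalRing.le_maximalIdeal hPp.ne_top) hPm
  have hnt : Nontrivial (A ⧸ maximalIdeal A) :=
    Ideal.Quotient.nontrivial_iff.mpr Ideal.IsPrime.ne_top'
  have h2 : ringKrullDim (A ⧸ maximalIdeal A) + 1 ≤ ringKrullDim (A ⧸ P) :=
    Groth.Agent.Ega4A.Depth.ringKrullDim_quotient_add_one_le_of_lt hlt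
  have h3 : (1 : WithBot ℕ∞) ≤ ringKrullDim (A ⧸ P) := by
    refine le_trans ?_ h2
    have : (0 : WithBot ℕ∞) ≤ ringKrullDim (A ⧸ maximalIdeal A) :=
      ringKrullDim_nonneg_of_nontrivial
    calc (1 : WithBot ℕ∞) = 0 + 1 := by simp
      _ ≤ _ := by gcongr
  have h4 := hdepth ⟨P, hPp⟩ (le_antisymm h1 h3)
  have h5 := (Groth.Agent.Ega4C.DepthBasics.one_le_depth_localizedModule_iff (M := A) P).mp (by
    rw [depth_localizedModule_self]
    exact le_trans (by norm_num) h4)
  exact h5 hPA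

end

section Main

/-- **Algebraic core of SGA 2 X 2.1.**  `A` local Noetherian, quotient of a regular local ring `R`, `t`-adically
complete, `t` regular, `depth A_p ≥ 2` when `dim A/p = 1`; `U` a set of primes containing all primes
`q ≠ m` with `t ∈ q`; `B` ("`= Γ(U, O)`") and `Bn n` ("`= Γ(U, O/t^{n+1})`").  Then `B → lim Bn` is
bijective. -/
theorem main {R : Type u} [CommRing R] [IsRegularLocalRing R] {A : Type u} [CommRing A]
    [IsLocalRing A] [IsNoetherianRing A] (π : R →+* A) (hπ : Function.Surjective π) (t : A)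
    (ht : t ∈ maximalIdeal A) (hreg : IsSMulRegular A t) [IsAdicComplete (Ideal.span {t}) A]
    (hdepth : ∀ p : PrimeSpectrum A, ringKrullDim (A ⧸ p.asIdeal) = 1 →
      (2 : ℕ∞) ≤ LocCoh.depth (Localization.AtPrime p.asIdeal) (Localization.AtPrime p.asIdeal))
    (U : Set (PrimeSpectrum A))
    (hU : ∀ q : PrimeSpectrum A, t ∈ q.asIdeal → q.asIdeal ≠ maximalIdeal A → q ∈ U)
    {B : Type u} [AddCommGroup B] [Module A B]
    {Bn : ℕ → Type u} [∀ n, AddCommGroup (Bn n)] [∀ n, Module A (Bn n)]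
    (ι : A →ₗ[A] B) (ρ : ∀ n, B →ₗ[A] Bn n) (τ : ∀ n, Bn (n + 1) →ₗ[A] Bn n)
    (hτρ : ∀ n b, τ n (ρ (n + 1) b) = ρ n b)
    (hker : ∀ n b, ρ n b = 0 ↔ ∃ b', b = t ^ (n + 1) • b')
    (hιker : ∀ a, ι a = 0 → ∀ q ∈ U, ∃ f ∉ q.asIdeal, f * a = 0)
    (hsepB : ∀ x : B, (∀ q ∈ U, ∃ f ∉ q.asIdeal, f • x = 0) → x = 0)
    (hlocB : ∀ b : B, ∀ q ∈ U, ∃ f ∉ q.asIdeal, f • b ∈ LinearMap.range ι)
    (hsepBn : ∀ n (x : Bn n), (∀ q ∈ U, ∃ f ∉ q.asIdeal, f • x = 0) → x = 0)
    (hlocBn : ∀ n (z : Bn n), ∀ q ∈ U, ∃ f ∉ q.asIdeal, f • z ∈ LinearMap.range (ρ n)) :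
    (∀ b, (∀ n, ρ n b = 0) → b = 0) ∧
      ∀ z : ∀ n, Bn n, (∀ n, τ n (z (n + 1)) = z n) → ∃ b, ∀ n, ρ n b = z n := by
  let _ : Algebra R A := π.toAlgebra
  have hs : Function.Surjective (algebraMap R A) := hπ
  have hι : Function.Injective ι := by
    rw [← LinearMap.ker_eq_bot]
    exact ker_eq_bot hdepth t ht hreg U hU (LinearMap.ker ι) (fun a ha => hιker a ha)
  have htB : IsSMulRegular B t := by
    rw [isSMulRegular_iff_right_eq_zero_of_smul]
    intro b hb
    refine hsepB b fun q hq => ?_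
    obtain ⟨f, hf, a, ha⟩ := hlocB b q hq
    refine ⟨f, hf, ?_⟩
    have h1 : ι (t • a) = 0 := by
      rw [map_smul, ha, smul_comm, hb, smul_zero]
    have h2 : t • a = t • (0 : A) := by
      rw [smul_zero]
      exact hι (h1.trans (map_zero ι).symm)
    rw [← ha, hreg h2, map_zero]
  have hkill : ∀ n (z : Bn n), t ^ (n + 1) • z = 0 := fun n z => by
    refine hsepBn n _ fun q hq => ?_
    obtain ⟨f, hf, b, hb⟩ := hlocBn n z q hq
    refine ⟨f, hf, ?_⟩
    rw [smul_comm, ← hb, ← map_smul]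
    exact (hker n _).mpr ⟨b, rfl⟩
  have hdrop : ∀ n (z : Bn (n + 1)), t • z = 0 → τ n z = 0 := fun n z hz => by
    refine hsepBn n _ fun q hq => ?_
    obtain ⟨f, hf, b, hb⟩ := hlocBn (n + 1) z q hq
    refine ⟨f, hf, ?_⟩
    rw [← map_smul, ← hb, hτρ, hker]
    have h1 : ρ (n + 1) (t • b) = 0 := by
      rw [map_smul, hb, smul_comm, hz, smul_zero]
    obtain ⟨b', hb'⟩ := (hker _ _).mp h1
    exact ⟨b', htB (by
      show t • b = t • (t ^ (n + 1) • b')
      rw [hb', ← mul_smul, ← pow_succ'])⟩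
  obtain ⟨c, hc⟩ := ringKrullDim_eq (R := R) hdepth hs t ht hreg
  obtain ⟨tR, rfl⟩ := hπ t
  have htR : tR ∈ maximalIdeal R := by
    rw [IsLocalRing.mem_maximalIdeal] at ht ⊢
    exact fun hu => ht (hu.map π)
  have hfin : Module.Finite R A := Module.Finite.of_surjective (Algebra.linearMap R A) hs
  obtain ⟨s, hkillA⟩ := LefRegExt.exists_pow_kills c hc tR htR A (fun p _ hp =>
    two_le_depth hdepth hs p hp)
  let _ : Module R B := Module.compHom B (algebraMap R A)
  have : IsScalarTower R A B := IsScalarTower.of_algebraMap_smul fun _ _ => rfl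
  let _ : ∀ n, Module R (Bn n) := fun n => Module.compHom (Bn n) (algebraMap R A)
  have : ∀ n, IsScalarTower R A (Bn n) := fun n => IsScalarTower.of_algebraMap_smul fun _ _ => rfl
  have hrB : ∀ b : B, (algebraMap R A tR) ^ s • b ∈ LinearMap.range ι :=
    LefAlg2.pow_smul_mem_range hs tR ht s hkillA U hU ι hι hsepB hlocB
  have hkB := fun (C : Type u) [AddCommGroup C] [Module R C] [Module.Finite R C] (i : ℕ) hC hi =>
    LefAlg2.kills_B tR s hkillA ι hrB hι C i hC hi
  have hN : ∀ n (z : Bn n), ∃ b, ρ n b =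
      algebraMap R A ((tR ^ s * tR ^ s) * (tR ^ s * tR ^ s)) • z := fun n z =>
    LefAlg3.smul_mem_range tR _ (ρ n) hs (n + 1) (fun C _ _ _ hC x =>
      LefAlg3.kills_range tR (tR ^ s * tR ^ s) (ρ n) (n + 1) (hker n) htB (ModuleCat.of R C) 1
        (hkB C 1 hC (by norm_num)) (hkB C 2 hC le_rfl) x) (hkill n) U hU (hsepBn n) (hlocBn n) z
  exact LefAlg.bijective_of (π tR) ρ τ hτρ (fun n b h => (hker n b).mp h) hkill hdrop
    (s + s + (s + s)) (fun n z => by
      obtain ⟨b, hb⟩ := hN n z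
      refine ⟨b, ?_⟩
      rw [hb, ← pow_add, ← pow_add, map_pow]
      rfl) (LefAlg.sep (π tR) ι hι htB s hrB) (LefAlg.comp (π tR) ι hι htB s hrB)

end Main

end Groth.Agent.Sga2.LefAlg4
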