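import Groth.Agent.Sga2.LefRes389
import Groth.Agent.PerfC.ResolAmple
import Groth.Agent.PerfA.CohSerre
import Groth.Agent.Dix.IdealModCartier

/-!
# Presentations of coherent modules by negative powers of an ample module, and the Lefschetz comparison

* `exists_epi`: `L` ample with inverse `P`; every coherent module is a quotient of `(P^n)^r` (in the form
  `free κ ⊗ P^n`, `κ` finite).
* `bijective_of_isCoh`: if the comparison `Hom(D, O) → lim Hom(D, O/𝓘^{n+1})` is bijective for all `D = P^n`, it is for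
  all coherent `D`.

Author: helper389
-/

set_option autoImplicit false
universe u

open CategoryTheory CategoryTheory.Limits AlgebraicGeometry Opposite TopologicalSpace

namespace Groth.Agent.Sga2.LefAmple389

open Groth.Agent Groth.Agent.Ega2 Groth.Agent.Ega2.TensPow Groth.Agent.Ega2.TensGen Groth.Agent.Ega2.SecCalc
open Groth.Agent.Fdesc.LocGen Groth.Agent.Ega2.GlobGenCrit

variable {X : Scheme.{u}} {L P : X.Modules}

/-- `O^n ≅ O`. -/
noncomputable def powUnit : (n : ℕ) → (CohB1.tensorPow (Coh.structureModule X) n ≅ Coh.structureModule X)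
  | 0 => Iso.refl _
  | n + 1 => Tens.mapTIso (powUnit n) (Iso.refl _) ≪≫ Tens.lunit _

theorem isInverseOf_pow (h : ClSub.IsInverseOf L P) (n : ℕ) :
    ClSub.IsInverseOf (CohB1.tensorPow L n) (CohB1.tensorPow P n) := by
  obtain ⟨e⟩ := h
  exact ⟨(powTensor L P n).symm ≪≫ powIso e n ≪≫ powUnit n⟩

/-- `L` ample with inverse `P`: every coherent module is a quotient of a finite sum of copies of `P^n`. -/
theorem exists_epi (hL : ClSub.IsInverseOf L P) (hamp : CohB1.IsAmple L) {M : X.Modules} (hM : Coh.IsCoh M) :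
    ∃ (n : ℕ) (κ : Type u) (_ : Finite κ)
      (π : CohB1.tensorMod (SheafOfModules.free κ : X.Modules) (CohB1.tensorPow P n) ⟶ M), Epi π := by
  classical
  have hc : CompactSpace X := hamp.2.1
  have hqs : QuasiSeparatedSpace X := Flat2H.FamOpen.quasiSeparatedSpace_of_isAmple hamp
  obtain ⟨d, ι, _, s, haff, hcov⟩ := SecCalc.exists_common_cover hamp
  have hK : PicF.IsInvertible (CohB1.tensorPow L (d + 1)) := isInvertible_tensorPow hamp.1 (d + 1)
  obtain ⟨m, S, hS⟩ := PerfC.ResolAmple.exists_finset_span hK s haff hM.1 hM.2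
  have hKm := isInvertible_tensorPow hK m
  have hepi : Epi (GlobGenCrit.desc (fun k : S => Fdesc.LocGen.homOf k.1)) := by
    refine GlobGenCrit.epi_desc_of_span (isQCoh_tensor hM.1 hKm) (fun i => CohB1.genLocus _ (s i)) haff hcov _
      fun i => ?_
    convert hS i using 3
    ext v
    constructor
    · rintro ⟨k, rfl⟩
      exact ⟨k.1, k.2, (Fdesc.LocGen.sec_homOf k.1 _).symm⟩
    · rintro ⟨k, hk, rfl⟩
      exact ⟨⟨k, hk⟩, Fdesc.LocGen.sec_homOf k _⟩
  obtain ⟨e⟩ := isInverseOf_pow (isInverseOf_pow hL (d + 1)) m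
  let Φ := DCoh.tensorRightMod (CohB1.tensorPow (CohB1.tensorPow P (d + 1)) m)
  let θ : Φ.obj (CohB1.tensorMod M (CohB1.tensorPow (CohB1.tensorPow L (d + 1)) m)) ≅ M :=
    (PerfB.TensInv.tensorInvIso e).app M
  have h0 : Epi (Sigma.desc (fun k : S => homOf k.1) : (∐ fun _ : S => Coh.structureModule X) ⟶
      CohB1.tensorMod M (CohB1.tensorPow (CohB1.tensorPow L (d + 1)) m)) := hepi
  have h1 : Epi (Φ.map (Sigma.desc (fun k : S => homOf k.1) : (∐ fun _ : S => Coh.structureModule X) ⟶
      CohB1.tensorMod M (CohB1.tensorPow (CohB1.tensorPow L (d + 1)) m))) := inferInstance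
  have h2 : Epi (Φ.map (Sigma.desc (fun k : S => homOf k.1) : (∐ fun _ : S => Coh.structureModule X) ⟶
      CohB1.tensorMod M (CohB1.tensorPow (CohB1.tensorPow L (d + 1)) m)) ≫ θ.hom) := epi_comp _ _
  let τ := Tens.mapTIso (Iso.refl (SheafOfModules.free S : X.Modules)) (powMul P (d + 1) m)
  exact ⟨(d + 1) * m, S, inferInstance, τ.inv ≫ Φ.map (Sigma.desc (fun k : S => homOf k.1) :
    (∐ fun _ : S => Coh.structureModule X) ⟶
      CohB1.tensorMod M (CohB1.tensorPow (CohB1.tensorPow L (d + 1)) m)) ≫ θ.hom,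
    @epi_comp _ _ _ _ _ τ.inv inferInstance _ h2⟩

/-- The comparison for `free κ ⊗ Q` follows from the comparison for `Q`. -/
theorem bijective_free_tensor {𝓘 : X.IdealSheafData} {Q : X.Modules} (h : Lef.HomToFormalBijective 𝓘 Q) (κ : Type u) :
    Lef.HomToFormalBijective 𝓘 (CohB1.tensorMod (SheafOfModules.free κ : X.Modules) Q) := by
  let Φ := DCoh.tensorRightMod Q
  let A : κ → X.Modules := fun _ => Coh.structureModule X
  have hA : ∀ i : κ, Lef.HomToFormalBijective 𝓘 (Φ.obj (A i)) := fun i =>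
    LefLeftExact.bijective_of_iso (Tens.lunit Q).symm h
  let c : Cofan fun i => Φ.obj (A i) := Cofan.mk (Φ.obj (∐ A)) fun i => Φ.map (Sigma.ι A i)
  have hc : IsColimit c := isColimitCofanMkObjOfIsColimit Φ _ _ (colimit.isColimit (Discrete.functor A))
  exact LefLeftExact.bijective_of_isColimit_cofan c hc hA

theorem bijective_of_isCoh [IsLocallyNoetherian X] {𝓘 : X.IdealSheafData} (hL : ClSub.IsInverseOf L P)
    (hamp : CohB1.IsAmple L) (h : ∀ n : ℕ, Lef.HomToFormalBijective 𝓘 (CohB1.tensorPow P n))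
    {M : X.Modules} (hM : Coh.IsCoh M) : Lef.HomToFormalBijective 𝓘 M := by
  obtain ⟨n, κ, _, π, hπ⟩ := exists_epi hL hamp hM
  have hP : PicF.IsInvertible P := (Dix.IdealModCartier.isInvertible_of_isInverseOf hL).2
  have hE : Coh.IsCoh (CohB1.tensorMod (SheafOfModules.free κ : X.Modules) (CohB1.tensorPow P n)) :=
    isCoh_tensor (PerfA.CohSerre.isCoh_free κ) (isInvertible_tensorPow hP n)
  have hK : Coh.IsCoh (kernel π) := PerfA.CohSerre.isCoh_kernel π hE hM.1
  obtain ⟨n', κ', _, π', hπ'⟩ := exists_epi hL hamp hK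
  refine LefLeftExact.bijective_of_cokernel (kernel.ι π) π (kernel.condition π) ?_
    (LefLeftExact.formalInj_of_epi π' (bijective_free_tensor (h n') κ').1) (bijective_free_tensor (h n) κ)
  exact Abelian.epiIsCokernelOfKernel (Fork.ofι (kernel.ι π) _) (kernelIsKernel π)

end Groth.Agent.Sga2.LefAmple389
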