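import Groth.Agent.Sga2.LefPow644
import Groth.Agent.PerfC.ResolAmple
import Groth.Agent.CycB.CohProp
import Groth.Agent.PerfA.CohSerre

/-!
# Presentations by negative powers of an ample module; `HomToFormalBijective` for coherent modules

* `exists_epi`: `L` ample with `L ⊗ P ≅ O`; every quasi-coherent `D` of finite type is a quotient of a finite coproduct
  of copies of some `P^a`.
* `homToFormalBijective_of_isCoh`: SGA 2 XII 2.4 for coherent modules on all of `X`, from the vanishing of `H^i(P^m)`,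
  `i ≤ 1`, `m ≫ 0`.

Author: helper644
-/

set_option autoImplicit false
universe u

open CategoryTheory CategoryTheory.Limits AlgebraicGeometry Opposite TopologicalSpace
open Groth.Agent.Fdesc.LocGen

namespace Groth.Agent.Sga2.LefCoh644

open Groth.Agent.Ega2.TensGen Groth.Agent.Ega2.TensPow Groth.Agent.Ega2.SecCalc
open Groth.Agent.Ega2.GlobGenCrit Groth.Agent.Ega2.AmpleGlobGen Groth.Agent.PerfC.ResolAmple
open Groth.Agent.Fga.PicMon Groth.Agent.Sga2.LefPow644

variable {X : Scheme.{u}}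

/-- If `M ⊗ K` is generated by finitely many global sections and `K ⊗ K' ≅ O` then `M` is a quotient of a finite
coproduct of copies of `K'`. -/
theorem exists_of_epi {M K K' : X.Modules} (e : CohB1.tensorMod K K' ≅ Coh.structureModule X)
    {κ : Type u} (s : κ → (Coh.structureModule X ⟶ CohB1.tensorMod M K)) (hs : Epi (desc s)) :
    ∃ π : (∐ fun _ : κ => K') ⟶ M, Epi π := by
  let Φ := DCoh.tensorRightMod K'
  let θ : Φ.obj (CohB1.tensorMod M K) ≅ M := (PerfB.TensInv.tensorInvIso e).app M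
  let ε : K' ≅ Φ.obj (Coh.structureModule X) := (Ega2.Tens.lunit K').symm
  let φ : κ → (K' ⟶ M) := fun k => ε.hom ≫ Φ.map (s k) ≫ θ.hom
  refine ⟨Sigma.desc φ, Preadditive.epi_of_cancel_zero _ fun {Z} f hf => ?_⟩
  have h1 : ∀ k, Φ.map (s k) ≫ θ.hom ≫ f = 0 := by
    intro k
    have h2 := congrArg (Sigma.ι (fun _ : κ => K') k ≫ ·) hf
    simp only [Sigma.ι_desc_assoc, comp_zero] at h2
    rw [← cancel_epi ε.hom, comp_zero, ← h2]
    simp only [φ, Category.assoc]
  have hs' : Epi (Sigma.desc s : (∐ fun _ : κ => Coh.structureModule X) ⟶ CohB1.tensorMod M K) := hs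
  have hs'' : Epi (Φ.map (Sigma.desc s : (∐ fun _ : κ => Coh.structureModule X) ⟶
    CohB1.tensorMod M K)) := inferInstance
  have h4 : θ.hom ≫ f = 0 := hom_ext_of_epi_desc Φ s hs'' _ _ fun k => by
    rw [h1 k, comp_zero]
  rw [← cancel_epi θ.hom, h4, comp_zero]

/-- Quotients of sums of negative powers of an ample module. -/
theorem exists_epi {L P : X.Modules} (hL : CohB1.IsAmple L) (hLP : ClSub.IsInverseOf L P) {M : X.Modules}
    (hM : Coh.IsQCoh M) (hM' : CohB1.IsFT M) :
    ∃ (κ : Type u) (_ : Finite κ) (a : ℕ) (π : (∐ fun _ : κ => CohB1.tensorPow P a) ⟶ M), Epi π := by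
  classical
  have hc : CompactSpace X := hL.2.1
  have hqs : QuasiSeparatedSpace X := Flat2H.FamOpen.quasiSeparatedSpace_of_isAmple hL
  obtain ⟨d, ι, _, s, haff, hcov⟩ := exists_common_cover hL
  have hK : PicF.IsInvertible (CohB1.tensorPow L (d + 1)) := isInvertible_tensorPow hL.1 (d + 1)
  obtain ⟨m, S, hS⟩ := exists_finset_span hK s haff hM hM'
  have hKm := isInvertible_tensorPow hK m
  obtain ⟨e⟩ : Nonempty (CohB1.tensorMod (CohB1.tensorPow (CohB1.tensorPow L (d + 1)) m)
      (CohB1.tensorPow P ((d + 1) * m)) ≅ Coh.structureModule X) := by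
    rw [← mc_eq_iff, mc_tensor, mc_tensorPow, mc_tensorPow, mc_tensorPow, ← pow_mul, ← mul_pow, mc_inv hLP,
      one_pow, mc_one]
  refine ⟨S, inferInstance, (d + 1) * m, exists_of_epi e (κ := S) (fun k => homOf k.1) ?_⟩
  refine epi_desc_of_span (isQCoh_tensor hM hKm) (fun i => CohB1.genLocus _ (s i)) haff hcov _
    fun i => ?_
  convert hS i using 3
  ext v
  constructor
  · rintro ⟨k, rfl⟩
    exact ⟨k.1, k.2, (sec_homOf k.1 _).symm⟩
  · rintro ⟨k, hk, rfl⟩
    exact ⟨⟨k, hk⟩, sec_homOf k _⟩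

variable (I : X.IdealSheafData) (L : X.Modules) (hL : ClSub.IsInverseOf L (ClSub.idealMod I))
  (hamp : CohB1.IsAmple L)
  (h : ∃ m₀ : ℕ, ∀ m : ℕ, m₀ ≤ m → ∀ i ≤ 1, Subsingleton (Coh.HH X
      (CohB1.tensorMod (Coh.structureModule X) (CohB1.tensorPow (ClSub.idealMod I) m)) i))

include hL hamp h

theorem formalInj_of_isCoh {D : X.Modules} (hD : Coh.IsCoh D) : LefLeftExact.FormalInj I D := by
  obtain ⟨κ, _, a, π, hπ⟩ := exists_epi hamp hL hD.1 hD.2
  exact LefLeftExact.formalInj_of_epi π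
    (LefLeftExact.bijective_sigma _ fun _ => homToFormalBijective_tensorPow I L hL h a).1

theorem homToFormalBijective_of_isCoh [IsLocallyNoetherian X] {D : X.Modules} (hD : Coh.IsCoh D) :
    Lef.HomToFormalBijective I D := by
  obtain ⟨κ, _, a, π, hπ⟩ := exists_epi hamp hL hD.1 hD.2
  have hP : PicF.IsInvertible (ClSub.idealMod I) := (Dix.IdealModCartier.isInvertible_of_isInverseOf hL).2
  have hE : Coh.IsCoh (∐ fun _ : κ => CohB1.tensorPow (ClSub.idealMod I) a) :=
    CycB.CohProp.isCoh_finite_coproduct _ fun _ =>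
      PerfA.CohSerre.isCoh_of_isFinLocFree (Ega2.QCohLocal.isFinLocFree_of_rank
        (Ega2.QCohLocal.isFinLocFreeOfRank_one_iff.mpr (isInvertible_tensorPow hP a)))
  have hk := CycB.CohProp.isCoh_kernel π hE hD
  exact LefLeftExact.bijective_of_cokernel (kernel.ι π) π (kernel.condition π)
    (Abelian.epiIsCokernelOfKernel (KernelFork.ofι (kernel.ι π) (kernel.condition π)) (kernelIsKernel π)) (formalInj_of_isCoh I L hL hamp h hk)
    (LefLeftExact.bijective_sigma _ fun _ => homToFormalBijective_tensorPow I L hL h a)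

end Groth.Agent.Sga2.LefCoh644
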