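import Groth.Agent.Sga2.LefBasic
import Groth.Agent.Ega1.QCohLoc
import Mathlib.AlgebraicGeometry.Morphisms.QuasiSeparated
import Mathlib.AlgebraicGeometry.Morphisms.ClosedImmersion

/-!
# Global functions on thickenings of a principal closed subscheme

`U` a scheme, `t : Γ(U, ⊤)`, `J` an ideal sheaf locally generated by `t` (`IsGenBy J t`), `t` regular on affines.
Kernel of `Γ(U, O) → Γ(U, O/J^{n+1})`, and local surjectivity.
-/

set_option autoImplicit false

universe u

open CategoryTheory CategoryTheory.Limits AlgebraicGeometry TopologicalSpace Opposite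
open Groth.Agent.Ega1.QCohLoc (resO resO_resO resO_rfl basicOpen_resO)

namespace Groth.Agent.Sga2.LefGamma

section General

/-- a function killed, near every point, by a function invertible at that point is zero -/
theorem eq_zero_of_forall {W : Scheme.{u}} (z : Γ(W, ⊤))
    (h : ∀ w : W, ∃ g : Γ(W, ⊤), w ∈ W.basicOpen g ∧ g * z = 0) : z = 0 := by
  refine TopCat.Presheaf.section_ext W.sheaf ⊤ z 0 fun w hw => ?_
  obtain ⟨g, hg, hgz⟩ := h w
  have hu : IsUnit (W.presheaf.germ ⊤ w trivial g) := (W.mem_basicOpen g w trivial).mp hg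
  have h1 : W.presheaf.germ ⊤ w trivial g * W.presheaf.germ ⊤ w trivial z = 0 := by
    rw [← map_mul, hgz, map_zero]
  refine (hu.mul_right_eq_zero.mp h1).trans ?_
  exact (map_zero (W.presheaf.germ ⊤ w trivial).hom).symm

theorem app_resO {X Y : Scheme.{u}} (f : X ⟶ Y) {V W : Y.Opens} (h : V ≤ W) (x : Γ(Y, W)) :
    f.app V (resO h x) = resO (Scheme.Hom.preimage_mono f h) (f.app W x) :=
  congr($(f.naturality (homOfLE h).op) x)

theorem eq_of_resO_eq {W : Scheme.{u}} {ι : Type*} (V : ι → W.Opens) (hV : ⨆ i, V i = ⊤)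
    (s t : Γ(W, ⊤)) (h : ∀ i, resO (le_top : V i ≤ ⊤) s = resO le_top t) : s = t :=
  TopCat.Sheaf.eq_of_locally_eq' W.sheaf V ⊤ (fun _ => homOfLE le_top) hV.ge s t h

end General

variable {U : Scheme.{u}} (J : U.IdealSheafData) (t : Γ(U, ⊤))

/-- `J` is generated by the global function `t`. -/
def IsGenBy : Prop :=
  ∀ V : U.affineOpens, J.ideal V = Ideal.span {resO (le_top : V.1 ≤ ⊤) t}

variable {J t}

lemma IsGenBy.ideal_pow (h : IsGenBy J t) (n : ℕ) (V : U.affineOpens) :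
    (J ^ n).ideal V = Ideal.span {resO (le_top : V.1 ≤ ⊤) (t ^ n)} := by
  rw [Scheme.IdealSheafData.ideal_pow, Pi.pow_apply, h V, Ideal.span_singleton_pow, map_pow]

theorem appTop_pow_mul (h : IsGenBy J t) (n : ℕ) (b : Γ(U, ⊤)) :
    (J ^ n).subschemeι.appTop (t ^ n * b) = 0 := by
  refine eq_of_resO_eq (fun V : U.affineOpens => (J ^ n).subschemeι ⁻¹ᵁ V.1) ?_ _ _ fun V => ?_
  · have h1 := iSup_affineOpens_eq_top U
    have h2 := congr((J ^ n).subschemeι ⁻¹ᵁ $h1)
    rw [Scheme.Hom.preimage_iSup] at h2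
    exact h2
  · have h3 := app_resO (J ^ n).subschemeι (le_top : V.1 ≤ ⊤) (t ^ n * b)
    refine Eq.trans h3.symm ?_
    rw [map_zero]
    have h4 : resO (le_top : V.1 ≤ ⊤) (t ^ n * b) ∈
        RingHom.ker ((J ^ n).subschemeι.app V.1).hom := by
      rw [Scheme.IdealSheafData.ker_subschemeι_app, h.ideal_pow, map_mul]
      exact Ideal.mul_mem_right _ _ (Ideal.mem_span_singleton_self _)
    exact h4

theorem exists_of_appTop_eq_zero (h : IsGenBy J t) (n : ℕ)
    (hreg : ∀ V : U.affineOpens, IsSMulRegular Γ(U, V.1) (resO (le_top : V.1 ≤ ⊤) t))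
    (b : Γ(U, ⊤)) (hb : (J ^ n).subschemeι.appTop b = 0) : ∃ b', b = t ^ n * b' := by
  have h1 : ∀ V : U.affineOpens, ∃ c : Γ(U, V.1), resO (le_top : V.1 ≤ ⊤) b =
      resO (le_top : V.1 ≤ ⊤) (t ^ n) * c := fun V => by
    have h4 : resO (le_top : V.1 ≤ ⊤) b ∈ RingHom.ker ((J ^ n).subschemeι.app V.1).hom := by
      refine (app_resO (J ^ n).subschemeι (le_top : V.1 ≤ ⊤) b).trans ?_
      have h5 : ((J ^ n).subschemeι.app ⊤) b = 0 := hb
      rw [h5, map_zero]
    rw [Scheme.IdealSheafData.ker_subschemeι_app, h.ideal_pow, Ideal.mem_span_singleton] at h4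
    exact h4
  choose c hc using h1
  have hinj : ∀ (V : U.affineOpens) (x y : Γ(U, V.1)),
      resO (le_top : V.1 ≤ ⊤) (t ^ n) * x = resO (le_top : V.1 ≤ ⊤) (t ^ n) * y → x = y := by
    intro V x y hxy
    rw [map_pow] at hxy
    exact ((hreg V).pow n) hxy
  obtain ⟨b', hb', -⟩ := TopCat.Sheaf.existsUnique_gluing' U.sheaf
    (fun V : U.affineOpens => V.1) ⊤ (fun _ => homOfLE le_top) (iSup_affineOpens_eq_top U).ge c (by
      intro V W
      refine TopCat.Sheaf.eq_of_locally_eq' U.sheaf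
        (fun V' : {V' : U.affineOpens // V'.1 ≤ V.1 ⊓ W.1} => V'.1.1) (V.1 ⊓ W.1)
        (fun V' => homOfLE V'.2) ?_ _ _ ?_
      · intro x hx
        obtain ⟨V', hV', hxV', hle⟩ := exists_isAffineOpen_mem_and_subset (U := V.1 ⊓ W.1) hx
        exact Opens.mem_iSup.mpr ⟨⟨⟨V', hV'⟩, hle⟩, hxV'⟩
      · intro V'
        have e1 : resO V'.2 (resO (inf_le_left : V.1 ⊓ W.1 ≤ V.1) (c V)) =
            resO V'.2 (resO (inf_le_right : V.1 ⊓ W.1 ≤ W.1) (c W)) := by
          rw [resO_resO, resO_resO]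
          apply hinj
          have e2 : resO (le_top : V'.1.1 ≤ ⊤) (t ^ n) =
              resO (V'.2.trans inf_le_left) (resO (le_top : V.1 ≤ ⊤) (t ^ n)) := by
            rw [resO_resO]
          have e3 : resO (le_top : V'.1.1 ≤ ⊤) (t ^ n) =
              resO (V'.2.trans inf_le_right) (resO (le_top : W.1 ≤ ⊤) (t ^ n)) := by
            rw [resO_resO]
          rw [e2, ← map_mul, ← hc, ← e2, e3, ← map_mul, ← hc, resO_resO, resO_resO]
        exact e1)
  refine ⟨b', eq_of_resO_eq (fun V : U.affineOpens => V.1) (iSup_affineOpens_eq_top U) _ _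
    fun V => ?_⟩
  rw [hc, map_mul]
  congr 1
  exact (hb' V).symm

/-- local surjectivity of `Γ(U, O) → Γ(Y, O)` for a closed subscheme `Y` -/
theorem exists_pow_mul_eq {Y : Scheme.{u}} (i : Y ⟶ U) [IsClosedImmersion i] [CompactSpace U]
    [QuasiSeparatedSpace U] (f : Γ(U, ⊤)) (hf : IsAffineOpen (U.basicOpen f)) (z : Γ(Y, ⊤)) :
    ∃ (n : ℕ) (b : Γ(U, ⊤)), i.appTop b = i.appTop f ^ n * z := by
  obtain ⟨c, hc⟩ := i.app_surjective (U.basicOpen f) hf
    (resO (le_top : i ⁻¹ᵁ (U.basicOpen f) ≤ ⊤) z)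
  obtain ⟨n, b, hb⟩ := exists_eq_pow_mul_of_isCompact_of_isQuasiSeparated U ⊤
    CompactSpace.isCompact_univ isQuasiSeparated_univ f c
  have hY : CompactSpace Y := i.isClosedEmbedding.compactSpace
  have h1 : resO (le_top : i ⁻¹ᵁ (U.basicOpen f) ≤ ⊤) (i.appTop b - i.appTop f ^ n * z) = 0 := by
    rw [map_sub, map_mul, map_pow, ← hc]
    have h2 := app_resO i (le_top : U.basicOpen f ≤ ⊤) b
    have h3 := app_resO i (le_top : U.basicOpen f ≤ ⊤) f
    have h4 : resO (le_top : U.basicOpen f ≤ ⊤) b = resO (le_top : U.basicOpen f ≤ ⊤) f ^ n * c := hb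
    rw [h4, map_mul, map_pow, h3] at h2
    exact sub_eq_zero.mpr h2.symm
  have h5 : Y.basicOpen (i.appTop f) = i ⁻¹ᵁ (U.basicOpen f) := (i.preimage_basicOpen f).symm
  have h6 : resO (le_top : Y.basicOpen (i.appTop f) ≤ ⊤) (i.appTop b - i.appTop f ^ n * z) = 0 := by
    have := congr(resO h5.le $h1)
    rwa [map_zero, resO_resO] at this
  obtain ⟨m, hm⟩ := exists_pow_mul_eq_zero_of_res_basicOpen_eq_zero_of_isCompact Y (U := ⊤)
    CompactSpace.isCompact_univ _ _ h6
  refine ⟨m + n, f ^ m * b, ?_⟩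
  rw [mul_sub, sub_eq_zero] at hm
  rw [map_mul, map_pow, hm, pow_add, mul_assoc]

end Groth.Agent.Sga2.LefGamma
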