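import Groth.Agent.Sga2.LefOpen

/-!
# Line bundles and the Lefschetz condition

* `exists_of_formal`: compatible families on all thickenings come from `U` if Lef holds.
-/

set_option autoImplicit false

universe u

open CategoryTheory CategoryTheory.Limits AlgebraicGeometry TopologicalSpace Opposite

namespace Groth.Agent.Sga2.LefLine

open Groth.Agent.Fdesc.LocGen Groth.Agent.Sga2.LineLift Groth.Agent.Sga2.LefThick
  Groth.Agent.Sga2.LefOpen

lemma isFinLocFree_of_isInvertible {Y : Scheme.{u}} {L : Y.Modules} (hL : PicF.IsInvertible L) :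
    FlatMod.IsFinLocFree L := by
  intro x
  obtain ⟨U, hx, ⟨e⟩⟩ := hL x
  exact ⟨U, 1, hx, ⟨e ≪≫ (coproductUniqueIso (fun _ : Fin 1 => Coh.structureModule (U : Scheme.{u}))).symm⟩⟩

section Push

variable {T Y : Scheme.{u}} (t : T ⟶ Y)

/-- functions as sections of the pushforward of the structure module -/
noncomputable def toPush {V : Y.Opens} :
    Γ(T, t ⁻¹ᵁ V) ≃+ Γ((Scheme.Modules.pushforward t).obj (Coh.structureModule T), V) :=
  AddEquiv.refl _

lemma res_toPush {V W : Y.Opens} (h : W ≤ V) (a : Γ(T, t ⁻¹ᵁ V)) :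
    res _ h (toPush t a) = toPush t (ores (t.preimage_mono h) a) := rfl

lemma smul_toPush {V : Y.Opens} (r : Γ(Y, V)) (a : Γ(T, t ⁻¹ᵁ V)) :
    r • toPush t a = toPush t (pl t le_rfl r * a) := by
  rw [pl_eq_app]
  rfl

end Push

section Formal

variable {ι : Type u} {Y : Scheme.{u}} {W : ι → Y.Opens} {g : ∀ x y, Γ(Y, W x ⊓ W y)}

/-- the transposed cocycle -/
noncomputable def tr (g : ∀ x y, Γ(Y, W x ⊓ W y)) (x y : ι) : Γ(Y, W x ⊓ W y) :=
  ores (le_inf inf_le_right inf_le_left) (g y x)

lemma isCocycle_tr (hg : IsCocycle g) : IsCocycle (tr g) := by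
  constructor
  · intro x
    unfold tr
    rw [hg.one, map_one]
  · intro x y z B hx hy hz
    unfold tr
    rw [ores_ores, ores_ores, ores_ores, hg.mul z y x B hz hy hx, mul_comm]

variable (J : Y.IdealSheafData)

/-- **Compatible families on the thickenings come from functions on `Y`** when Lef holds. -/
theorem exists_of_formal
    (hLef : ∀ D : Y.Modules, FlatMod.IsFinLocFree D → Lef.HomToFormalBijective J D)
    (hW : ⨆ x, W x = ⊤) (hg : IsCocycle g)
    (c : ∀ m x, Γ(T J m, tι J m ⁻¹ᵁ W x))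
    (hc : ∀ m x y, ores ((tι J m).preimage_mono inf_le_right) (c m y) =
      ores ((tι J m).preimage_mono inf_le_left) (c m x) *
        pl (tι J m) (le_refl (tι J m ⁻¹ᵁ (W x ⊓ W y))) (g x y))
    (hcc : ∀ m x, pl (inc J m) (preimage_inc J m (W x)).ge (c (m + 1) x) = c m x) :
    ∃ f : ∀ x, Γ(Y, W x), (∀ x y, ores inf_le_right (f y) = ores inf_le_left (f x) * g x y) ∧
      ∀ m x, pl (tι J m) le_rfl (f x) = c m x := by
  obtain ⟨D, d, hd, htr⟩ := Picfga.LineCocycle.exists_of_cocycle W (tr g) (isCocycle_tr hg).one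
    (isCocycle_tr hg).mul
  have hDinv : PicF.IsInvertible D := by
    rw [isInvertible_iff]
    intro y
    have hy : y ∈ ⨆ x, W x := by rw [hW]; trivial
    obtain ⟨x, hx⟩ := Opens.mem_iSup.mp hy
    exact ⟨W x, d x, hx, hd x⟩
  have hbij := hLef D (isFinLocFree_of_isInvertible hDinv)
  have htr' : ∀ x y, res D inf_le_right (d y) = g x y • res D inf_le_left (d x) := by
    intro x y
    have h1 := congrArg (res D (show W x ⊓ W y ≤ W y ⊓ W x from le_inf inf_le_right inf_le_left))
      (htr y x)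
    rw [res_smul, res_res, res_res] at h1
    unfold tr at h1
    rw [ores_ores, ores_refl] at h1
    exact h1
  choose y hy using fun m => Picfga.LineHom.exists_hom (L := D)
    (N := ClSub.quotMod (J ^ (m + 1))) hW hd (n := fun x => toPush (tι J m) (c m x))
    (Picfga.LineHom.trans_of_inf hd (fun x z => ⟨tr g x z, htr x z, by
      rw [res_toPush, res_toPush, smul_toPush]
      apply congrArg
      have h1 := congrArg (ores (show tι J m ⁻¹ᵁ (W x ⊓ W z) ≤ tι J m ⁻¹ᵁ (W z ⊓ W x) from
        (tι J m).preimage_mono (le_inf inf_le_right inf_le_left))) (hc m z x)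
      rw [map_mul, ores_ores, ores_ores, ores_pl] at h1
      unfold tr
      rw [pl_ores, h1, mul_comm]⟩))
  obtain ⟨φ, hφ⟩ := hbij.2 y (by
    intro m
    apply Picfga.LineHom.hom_ext_of_isGen hW hd
    intro x
    rw [Scheme.Modules.Hom.comp_app, ConcreteCategory.comp_apply, hy, hy]
    exact hcc m x)
  refine ⟨fun x => (ofFun (X := Y)).symm (φ.app (W x) (d x)), fun x z => ?_, fun m x => ?_⟩
  · have h1 := congrArg (φ.app (W x ⊓ W z)) (htr' x z)
    rw [Scheme.Modules.Hom.app_smul, app_res, app_res] at h1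
    rw [mul_comm]
    exact h1
  · have h1 := congrArg (fun ψ : D ⟶ _ => ψ.app (W x) (d x)) (hφ m)
    have h2 := h1.trans (hy m x)
    rw [pl_eq_app]
    exact h2

end Formal

end Groth.Agent.Sga2.LefLine
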