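import Groth.Agent.Sga2.LefThick

/-!
# Thickenings of `V(I)` in `X` and in an open `U ⊇ V(I)`
-/

set_option autoImplicit false

universe u

open CategoryTheory CategoryTheory.Limits AlgebraicGeometry TopologicalSpace Opposite

namespace Groth.Agent.Sga2.LefOpen

open Groth.Agent.Fdesc.LocGen Groth.Agent.Sga2.LineLift Groth.Agent.Sga2.LefThick

lemma comap_pow_ringEquiv {R S : Type*} [CommRing R] [CommRing S] (e : R ≃+* S) (I : Ideal S) (n : ℕ) :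
    (I ^ n).comap (e : R →+* S) = (I.comap (e : R →+* S)) ^ n := by
  have h : ∀ J : Ideal S, J.comap (e : R →+* S) = J.map (e.symm : S →+* R) := by
    intro J
    exact (Ideal.map_comap_of_equiv (e.symm : S ≃+* R) (I := J)).symm ▸ rfl
  rw [h, h, Ideal.map_pow]

variable {X Y : Scheme.{u}} (I : X.IdealSheafData)

/-- Pullback of ideal sheaves along open immersions commutes with powers. -/
lemma comap_pow (f : Y ⟶ X) [IsOpenImmersion f] (n : ℕ) : (I ^ n).comap f = (I.comap f) ^ n := by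
  ext V : 2
  rw [Scheme.IdealSheafData.ideal_comap_of_isOpenImmersion, Scheme.IdealSheafData.ideal_pow,
    Scheme.IdealSheafData.ideal_pow, Pi.pow_apply, Pi.pow_apply,
    Scheme.IdealSheafData.ideal_comap_of_isOpenImmersion]
  exact comap_pow_ringEquiv (f.appIso V).symm.commRingCatIsoToRingEquiv _ n

section Kappa

variable (U : X.Opens) (hU : (I.support : Set X) ⊆ (U : Set X))

/-- The map of thickenings `V((I|_U)^(m+1)) ⟶ V(I^(m+1))`. -/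
noncomputable def κ (m : ℕ) : T (I.comap U.ι) m ⟶ T I m :=
  IsClosedImmersion.lift (tι I m) (tι (I.comap U.ι) m ≫ U.ι) (by
    rw [Scheme.IdealSheafData.ker_subschemeι, Scheme.Hom.ker_comp,
      Scheme.IdealSheafData.le_map_iff_comap_le, comap_pow, Scheme.IdealSheafData.ker_subschemeι])

@[reassoc]
lemma κ_tι (m : ℕ) : κ I U m ≫ tι I m = tι (I.comap U.ι) m ≫ U.ι :=
  IsClosedImmersion.lift_fac _ _ _

variable {U} in
include hU in
lemma range_tι_subset (m : ℕ) : Set.range (tι I m) ⊆ Set.range U.ι := by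
  rw [Scheme.IdealSheafData.range_subschemeι, Scheme.IdealSheafData.support_pow_succ]
  simpa using hU

/-- The thickening `V(I^(m+1))` maps to `U`. -/
noncomputable def τ (m : ℕ) : T I m ⟶ U :=
  IsOpenImmersion.lift U.ι (tι I m) (range_tι_subset I hU m)

@[reassoc]
lemma τ_ι (m : ℕ) : τ I U hU m ≫ U.ι = tι I m := IsOpenImmersion.lift_fac _ _ _

@[reassoc]
lemma κ_τ (m : ℕ) : κ I U m ≫ τ I U hU m = tι (I.comap U.ι) m := by
  rw [← cancel_mono U.ι, Category.assoc, τ_ι, κ_tι]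

/-- The inverse of `κ`. -/
noncomputable def κ' (m : ℕ) : T I m ⟶ T (I.comap U.ι) m :=
  IsClosedImmersion.lift (tι (I.comap U.ι) m) (τ I U hU m) (by
    rw [Scheme.IdealSheafData.ker_subschemeι, ← comap_pow, ← Scheme.IdealSheafData.le_map_iff_comap_le,
      ← Scheme.Hom.ker_comp, τ_ι, Scheme.IdealSheafData.ker_subschemeι])

@[reassoc]
lemma κ'_tι (m : ℕ) : κ' I U hU m ≫ tι (I.comap U.ι) m = τ I U hU m :=
  IsClosedImmersion.lift_fac _ _ _

@[reassoc]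
lemma κ_κ' (m : ℕ) : κ I U m ≫ κ' I U hU m = 𝟙 _ := by
  rw [← cancel_mono (tι (I.comap U.ι) m), Category.assoc, κ'_tι, κ_τ, Category.id_comp]

@[reassoc]
lemma κ'_κ (m : ℕ) : κ' I U hU m ≫ κ I U m = 𝟙 _ := by
  rw [← cancel_mono (tι I m), Category.assoc, κ_tι, κ'_tι_assoc, τ_ι, Category.id_comp]

@[reassoc]
lemma inc_κ (m : ℕ) : inc (I.comap U.ι) m ≫ κ I U (m + 1) = κ I U m ≫ inc I m := by
  rw [← cancel_mono (tι I (m + 1)), Category.assoc, Category.assoc, κ_tι, inc_tι, κ_tι,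
    ← Category.assoc, inc_tι]

@[reassoc]
lemma inc_τ (m : ℕ) : inc I m ≫ τ I U hU (m + 1) = τ I U hU m := by
  rw [← cancel_mono U.ι, Category.assoc, τ_ι, τ_ι, inc_tι]

@[reassoc]
lemma inc_κ' (m : ℕ) : inc I m ≫ κ' I U hU (m + 1) = κ' I U hU m ≫ inc (I.comap U.ι) m := by
  rw [← cancel_mono (tι (I.comap U.ι) (m + 1)), Category.assoc, Category.assoc, κ'_tι, inc_τ,
    inc_tι, κ'_tι]

end Kappa

section Fam

variable {ι : Type u}

/-- `g` is a cocycle on the family of opens `W`. -/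
structure IsCocycle {Y : Scheme.{u}} {W : ι → Y.Opens} (g : ∀ x y, Γ(Y, W x ⊓ W y)) : Prop where
  one : ∀ x, g x x = 1
  mul : ∀ x y z (B : Y.Opens) (hx : B ≤ W x) (hy : B ≤ W y) (hz : B ≤ W z),
    ores (le_inf hx hz) (g x z) = ores (le_inf hx hy) (g x y) * ores (le_inf hy hz) (g y z)

/-- Families of units on `S ⟶ Y` transforming by `g`. -/
structure IsFam {Y S : Scheme.{u}} (f : S ⟶ Y) {W : ι → Y.Opens} (g : ∀ x y, Γ(Y, W x ⊓ W y))
    (c : ∀ x, Γ(S, f ⁻¹ᵁ W x)) : Prop where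
  unit : ∀ x, IsUnit (c x)
  trans : ∀ x y (B : S.Opens) (hx : B ≤ f ⁻¹ᵁ W x) (hy : B ≤ f ⁻¹ᵁ W y),
    ores hy (c y) = ores hx (c x) * pl f (show B ≤ f ⁻¹ᵁ (W x ⊓ W y) from le_inf hx hy) (g x y)

lemma IsCocycle.pull {Y S : Scheme.{u}} (f : S ⟶ Y) {W : ι → Y.Opens} {g : ∀ x y, Γ(Y, W x ⊓ W y)}
    (hg : IsCocycle g) : IsCocycle (W := fun x => f ⁻¹ᵁ W x)
      (fun x y => pl f (show f ⁻¹ᵁ W x ⊓ f ⁻¹ᵁ W y ≤ f ⁻¹ᵁ (W x ⊓ W y) from le_rfl) (g x y)) := by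
  constructor
  · intro x
    rw [hg.one, map_one]
  · intro x y z B hx hy hz
    have h := hg.mul x y z (W x ⊓ W y ⊓ W z) (inf_le_left.trans inf_le_left)
      (inf_le_left.trans inf_le_right) inf_le_right
    have h2 := congrArg (pl f (show B ≤ f ⁻¹ᵁ (W x ⊓ W y ⊓ W z) from le_inf (le_inf hx hy) hz)) h
    rw [map_mul, pl_ores, pl_ores, pl_ores] at h2
    rw [ores_pl, ores_pl, ores_pl]
    exact h2

lemma IsFam.pull {Y S S' : Scheme.{u}} {f : S ⟶ Y} {W : ι → Y.Opens} {g : ∀ x y, Γ(Y, W x ⊓ W y)}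
    {c : ∀ x, Γ(S, f ⁻¹ᵁ W x)} (hc : IsFam f g c) (h : S' ⟶ S) {f' : S' ⟶ Y} (hf : h ≫ f = f') :
    IsFam f' g (fun x => pl h (show f' ⁻¹ᵁ W x ≤ h ⁻¹ᵁ (f ⁻¹ᵁ W x) by
      rw [← Scheme.Hom.comp_preimage, hf]) (c x)) := by
  subst hf
  constructor
  · intro x
    exact (hc.unit x).map _
  · intro x y B hx hy
    have h1 := hc.trans x y (f ⁻¹ᵁ (W x ⊓ W y)) (f.preimage_mono inf_le_left)
      (f.preimage_mono inf_le_right)
    have h2 := congrArg (pl h (show B ≤ h ⁻¹ᵁ (f ⁻¹ᵁ (W x ⊓ W y)) from le_inf hx hy)) h1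
    rw [map_mul, pl_ores, pl_ores, pl_pl] at h2
    rw [ores_pl, ores_pl]
    exact h2

/-- **Lifting step on `U`**. -/
theorem exists_lift_step {U : X.Opens} (hU : (I.support : Set X) ⊆ (U : Set X)) (m : ℕ)
    (hH : Subsingleton (Coh.HH X (P I m) 1))
    {W : ι → (U : Scheme.{u}).Opens} {g : ∀ x y, Γ(U, W x ⊓ W y)} (hW : ⨆ x, W x = ⊤)
    (hg : IsCocycle g)
    {c : ∀ x, Γ(T (I.comap U.ι) m, tι (I.comap U.ι) m ⁻¹ᵁ W x)}
    (hc : IsFam (tι (I.comap U.ι) m) g c) :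
    ∃ d : ∀ x, Γ(T (I.comap U.ι) (m + 1), tι (I.comap U.ι) (m + 1) ⁻¹ᵁ W x),
      IsFam (tι (I.comap U.ι) (m + 1)) g d ∧
      ∀ x, pl (inc (I.comap U.ι) m) (preimage_inc (I.comap U.ι) m (W x)).ge (d x) = c x := by
  have h1 := hc.pull (κ' I U hU m) (κ'_tι I U hU m)
  have hO : ⨆ x, τ I U hU (m + 1) ⁻¹ᵁ W x = ⊤ := by
    rw [← Scheme.Hom.preimage_iSup, hW]
    rfl
  have h2 := hg.pull (τ I U hU (m + 1))
  have hle : ∀ x, inc I m ⁻¹ᵁ (τ I U hU (m + 1) ⁻¹ᵁ W x) ≤ τ I U hU m ⁻¹ᵁ W x := by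
    intro x
    rw [← Scheme.Hom.comp_preimage, inc_τ]
  obtain ⟨e, he1, he2, he3⟩ := exists_lift_family I m hH (O := fun x => τ I U hU (m + 1) ⁻¹ᵁ W x)
    (g := fun x y => pl (τ I U hU (m + 1)) (show τ I U hU (m + 1) ⁻¹ᵁ W x ⊓ τ I U hU (m + 1) ⁻¹ᵁ W y ≤
      τ I U hU (m + 1) ⁻¹ᵁ (W x ⊓ W y) from le_rfl) (g x y))
    (c' := fun x => ores (hle x) (pl (κ' I U hU m) _ (c x))) hO h2.one h2.mul
    (fun x => (h1.unit x).map _) (by
      intro x y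
      rw [ores_ores, ores_ores]
      have h3 := h1.trans x y (inc I m ⁻¹ᵁ (τ I U hU (m + 1) ⁻¹ᵁ W x ⊓ τ I U hU (m + 1) ⁻¹ᵁ W y))
        (((inc I m).preimage_mono inf_le_left).trans (hle x))
        (((inc I m).preimage_mono inf_le_right).trans (hle y))
      refine h3.trans (congrArg (_ * ·) ?_)
      rw [pl_pl]
      exact pl_congr (inc_τ I U hU m).symm _ _ _)
  have hfe : IsFam (τ I U hU (m + 1)) g e := by
    refine ⟨he1, fun x y B hx hy => ?_⟩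
    have h3 := congrArg (ores (le_inf hx hy)) (he2 x y)
    rw [map_mul, ores_ores, ores_ores, ores_pl] at h3
    exact h3
  refine ⟨_, hfe.pull (κ I U (m + 1)) (κ_τ I U hU (m + 1)), fun x => ?_⟩
  have h4 : κ I U m ⁻¹ᵁ (inc I m ⁻¹ᵁ (τ I U hU (m + 1) ⁻¹ᵁ W x)) =
      tι (I.comap U.ι) m ⁻¹ᵁ W x := by
    rw [← Scheme.Hom.comp_preimage (inc I m), inc_τ, ← Scheme.Hom.comp_preimage, κ_τ]
  have h5 := congrArg (pl (κ I U m) h4.ge) (he3 x)
  rw [pl_ores, pl_pl, pl_pl] at h5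
  rw [pl_pl]
  refine (pl_congr (inc_κ I U m) _ _ _).trans (h5.trans ?_)
  rw [pl_congr (κ_κ' I U hU m) _ (show tι (I.comap U.ι) m ⁻¹ᵁ W x ≤ _ from le_rfl)]
  rw [pl_id _ le_rfl, ores_refl]

end Fam

end Groth.Agent.Sga2.LefOpen
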