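import Groth.Agent.Sga2.LefLeftExact
import Groth.Agent.Divis.IdealComap
import Groth.Agent.VarietyB.DegCartier
import Mathlib.AlgebraicGeometry.IdealSheaf.Functorial

/-!
# Restriction of the Lefschetz comparison to an open containing the closed subscheme

`j : U ⟶ X` an open immersion, `𝓘` an ideal sheaf on `X` with support in the range of `j` and `O_X = j_* O_U`.  For
every `O_X`-module `D` the comparison `Hom(D, O_X) → lim Hom(D, O_X/𝓘^{n+1})` is bijective iff it is for `D|_U` (we
prove the direction we need).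

Author: helper389
-/

set_option autoImplicit false
universe u

open CategoryTheory CategoryTheory.Limits AlgebraicGeometry TopologicalSpace Opposite

namespace Groth.Agent.Sga2.LefRes389

theorem unitToPush_comp {X Y Z : Scheme.{u}} (f : X ⟶ Y) (g : Y ⟶ Z) :
    ClSub.unitToPush g ≫ (Scheme.Modules.pushforward g).map (ClSub.unitToPush f) ≫
      (Scheme.Modules.pushforwardComp f g).hom.app _ = ClSub.unitToPush (f ≫ g) := by
  ext V s
  rfl

theorem unitToPush_congr {X Y : Scheme.{u}} {f g : X ⟶ Y} (h : f = g) :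
    ClSub.unitToPush f ≫ (Scheme.Modules.pushforwardCongr h).hom.app _ = ClSub.unitToPush g := by
  subst h
  ext V s
  change X.presheaf.map (𝟙 _) (f.app V s) = f.app V s
  rw [X.presheaf.map_id]
  rfl

instance isIso_unitToPush {X Y : Scheme.{u}} (f : X ⟶ Y) [IsIso f] : IsIso (ClSub.unitToPush f) := by
  rw [Scheme.Modules.Hom.isIso_iff_isIso_app]
  intro V
  have h1 : Function.Bijective (f.app V) := ConcreteCategory.bijective_of_isIso _
  rw [ConcreteCategory.isIso_iff_bijective]
  exact h1

/-- A commutative square `a ≫ p = q ≫ j` with `a` an isomorphism identifies `p_* O` and `j_* q_* O`. -/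
theorem exists_iso_of_square {X Y Z T : Scheme.{u}} (p : Y ⟶ X) (q : Z ⟶ T) (j : T ⟶ X) (a : Z ⟶ Y) [IsIso a]
    (h : a ≫ p = q ≫ j) :
    ∃ v : (Scheme.Modules.pushforward p).obj (Coh.structureModule Y) ≅
      (Scheme.Modules.pushforward j).obj ((Scheme.Modules.pushforward q).obj (Coh.structureModule Z)),
      ClSub.unitToPush p ≫ v.hom =
        ClSub.unitToPush j ≫ (Scheme.Modules.pushforward j).map (ClSub.unitToPush q) := by
  refine ⟨(Scheme.Modules.pushforward p).mapIso (asIso (ClSub.unitToPush a)) ≪≫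
    (Scheme.Modules.pushforwardComp a p).app _ ≪≫ (Scheme.Modules.pushforwardCongr h).app _ ≪≫
    ((Scheme.Modules.pushforwardComp q j).app _).symm, ?_⟩
  have h1 := unitToPush_comp a p
  have h2 := unitToPush_comp q j
  have h3 := unitToPush_congr h
  simp only [Iso.trans_hom, Functor.mapIso_hom, asIso_hom, Iso.app_hom, Iso.symm_hom, Iso.app_inv]
  rw [reassoc_of% h1, reassoc_of% h3, ← h2]
  simp

theorem comap_subscheme_isIso {X U : Scheme.{u}} (j : U ⟶ X) [IsOpenImmersion j] (I : X.IdealSheafData)
    (hI : (I.support : Set X) ⊆ Set.range j.base) :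
    IsIso (pullback.snd j I.subschemeι) := by
  have : Surjective (pullback.snd j I.subschemeι) := by
    constructor
    intro z
    have h1 : I.subschemeι.base z ∈ Set.range j.base := hI (by
      rw [← I.range_subschemeι]
      exact ⟨z, rfl⟩)
    obtain ⟨x, hx⟩ := h1
    obtain ⟨w, -, hw⟩ := Scheme.Pullback.exists_preimage_pullback x z hx
    exact ⟨w, hw⟩
  have h2 : IsOpenImmersion (pullback.snd j I.subschemeι) := inferInstance
  exact (isIso_iff_isOpenImmersion_and_epi_base _).2 ⟨h2, (TopCat.epi_iff_surjective _).2 this.1⟩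

/-- `O_X/𝓘 = j_* (O_U / 𝓘|_U)` when the support of `𝓘` lies in `U`. -/
theorem exists_quotMod_iso {X U : Scheme.{u}} (j : U ⟶ X) [IsOpenImmersion j] (I : X.IdealSheafData)
    (hI : (I.support : Set X) ⊆ Set.range j.base) (I' : U.IdealSheafData) (hI' : I.comap j = I') :
    ∃ v : ClSub.quotMod I ≅ (Scheme.Modules.pushforward j).obj (ClSub.quotMod I'),
      ClSub.toSubscheme I ≫ v.hom =
        ClSub.unitToPush j ≫ (Scheme.Modules.pushforward j).map (ClSub.toSubscheme I') := by
  subst hI'
  have h1 : IsIso (pullback.snd j I.subschemeι) := comap_subscheme_isIso j I hI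
  have h2 : ((I.comapIso j).hom ≫ pullback.snd j I.subschemeι) ≫ I.subschemeι =
      (I.comap j).subschemeι ≫ j := by
    rw [Category.assoc, ← pullback.condition, Scheme.IdealSheafData.comapIso_hom_fst_assoc]
  exact exists_iso_of_square _ _ _ _ h2

theorem toSubscheme_quotMap {U : Scheme.{u}} {I J : U.IdealSheafData} (h : I ≤ J) :
    ClSub.toSubscheme I ≫ Lef.quotMap h = ClSub.toSubscheme J := by
  have h1 := unitToPush_comp (Scheme.IdealSheafData.inclusion h) I.subschemeι
  have h3 := unitToPush_congr (Scheme.IdealSheafData.inclusion_subschemeι h)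
  rw [Lef.quotMap, reassoc_of% h1]
  exact h3

variable {X U : Scheme.{u}} (j : U ⟶ X) [IsOpenImmersion j]

open Groth.Agent.VarietyB.DegCartier in
/-- The formal statement. -/
theorem homToFormalBijective_restrict' (𝓘 : X.IdealSheafData) (J : U.IdealSheafData) (D : X.Modules)
    [hu : IsIso (ClSub.unitToPush j)]
    (v : ∀ n : ℕ, ClSub.quotMod (𝓘 ^ (n + 1)) ≅ (Scheme.Modules.pushforward j).obj (ClSub.quotMod (J ^ (n + 1))))
    (hv : ∀ n : ℕ, ClSub.toSubscheme (𝓘 ^ (n + 1)) ≫ (v n).hom =
      ClSub.unitToPush j ≫ (Scheme.Modules.pushforward j).map (ClSub.toSubscheme (J ^ (n + 1))))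
    (h : Lef.HomToFormalBijective 𝓘 D) :
    Lef.HomToFormalBijective J ((Scheme.Modules.restrictFunctor j).obj D) := by
  have hq : ∀ n : ℕ, Lef.quotMap (Lef.pow_succ_le 𝓘 n) ≫ (v n).hom =
      (v (n + 1)).hom ≫ (Scheme.Modules.pushforward j).map (Lef.quotMap (Lef.pow_succ_le J n)) := by
    intro n
    rw [← cancel_epi (ClSub.toSubscheme (𝓘 ^ (n + 1 + 1))), reassoc_of% hv (n + 1), ← Functor.map_comp,
      toSubscheme_quotMap, reassoc_of% toSubscheme_quotMap, hv]
  let A := Scheme.Modules.restrictAdjunction j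
  constructor
  · intro φ ψ hn
    apply (A.homEquiv _ _).injective
    rw [← cancel_mono (inv (ClSub.unitToPush j))]
    apply h.1
    intro n
    rw [← cancel_mono (v n).hom]
    simp only [Category.assoc, hv, IsIso.inv_hom_id_assoc]
    rw [← Adjunction.homEquiv_naturality_right, ← Adjunction.homEquiv_naturality_right, hn n]
  · intro y hy
    obtain ⟨φ, hφ⟩ := h.2 (fun n => A.homEquiv _ _ (y n) ≫ (v n).inv) (by
      intro n
      rw [← cancel_mono (v n).hom]
      simp only [Category.assoc, hq, Iso.inv_hom_id_assoc, Iso.inv_hom_id, Category.comp_id]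
      rw [← Adjunction.homEquiv_naturality_right, hy n])
    refine ⟨(A.homEquiv _ _).symm (φ ≫ ClSub.unitToPush j), fun n => ?_⟩
    apply (A.homEquiv _ _).injective
    rw [Adjunction.homEquiv_naturality_right, Equiv.apply_symm_apply, Category.assoc, ← hv, ← Category.assoc, hφ]
    simp

/-- Restriction of the comparison to an open containing the support. -/
theorem homToFormalBijective_restrict (𝓘 : X.IdealSheafData) (D : X.Modules)
    (hu : IsIso (ClSub.unitToPush j)) (hI : (𝓘.support : Set X) ⊆ Set.range j.base)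
    (h : Lef.HomToFormalBijective 𝓘 D) :
    Lef.HomToFormalBijective (𝓘.comap j) ((Scheme.Modules.restrictFunctor j).obj D) := by
  have key : ∀ n : ℕ, ∃ v : ClSub.quotMod (𝓘 ^ (n + 1)) ≅
      (Scheme.Modules.pushforward j).obj (ClSub.quotMod ((𝓘.comap j) ^ (n + 1))),
      ClSub.toSubscheme (𝓘 ^ (n + 1)) ≫ v.hom =
        ClSub.unitToPush j ≫ (Scheme.Modules.pushforward j).map (ClSub.toSubscheme ((𝓘.comap j) ^ (n + 1))) := by
    intro n
    refine exists_quotMod_iso j _ ?_ _ (Groth.Agent.Divis.IdealComap.comap_pow 𝓘 j (n + 1))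
    rw [Scheme.IdealSheafData.support_pow_succ]
    exact hI
  choose v hv using key
  exact homToFormalBijective_restrict' j 𝓘 _ D v hv h

end Groth.Agent.Sga2.LefRes389
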