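import Groth.Agent.Sga2.LineLift
import Groth.Agent.Sga2.LefBasic

/-!
# The infinitesimal thickenings of a closed subscheme

`T m = V(I^(m+1))`, the transition maps `T m ⟶ T (m+1)`, the kernel sheaves, and the lifting of
families of units from `T m` to `T (m+1)` when `H¹(X, I^(m+1)/I^(m+2)) = 0`.
-/

set_option autoImplicit false

universe u

open CategoryTheory CategoryTheory.Limits AlgebraicGeometry TopologicalSpace Opposite

namespace Groth.Agent.Sga2.LefThick

open Groth.Agent.Fdesc.LocGen Groth.Agent.Sga2.LineLift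

variable {X : Scheme.{u}} (I : X.IdealSheafData)

/-- The `m`-th thickening of `V(I)`. -/
noncomputable abbrev T (m : ℕ) : Scheme.{u} := (I ^ (m + 1)).subscheme

/-- The closed immersion of the `m`-th thickening. -/
noncomputable abbrev tι (m : ℕ) : T I m ⟶ X := (I ^ (m + 1)).subschemeι

/-- The transition maps. -/
noncomputable abbrev inc (m : ℕ) : T I m ⟶ T I (m + 1) :=
  Scheme.IdealSheafData.inclusion (Lef.pow_succ_le I m)

lemma inc_tι (m : ℕ) : inc I m ≫ tι I (m + 1) = tι I m :=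
  Scheme.IdealSheafData.inclusion_subschemeι _

lemma inc_surjective (m : ℕ) : Function.Surjective (inc I m) := by
  intro y
  have h1 : tι I (m + 1) y ∈ ((I ^ (m + 1 + 1)).support : Set X) := by
    rw [← Scheme.IdealSheafData.range_subschemeι]; exact ⟨y, rfl⟩
  rw [Scheme.IdealSheafData.support_pow_succ, ← Scheme.IdealSheafData.support_pow_succ I m,
    ← Scheme.IdealSheafData.range_subschemeι] at h1
  obtain ⟨z, hz⟩ := h1
  refine ⟨z, (tι I (m + 1)).isEmbedding.injective ?_⟩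
  rw [← hz, ← Scheme.Hom.comp_apply, inc_tι]

lemma exists_affine_cover (V : X.Opens) :
    ∃ (κ : Type u) (W : κ → X.affineOpens), (∀ k, (W k).1 ≤ V) ∧ V ≤ ⨆ k, (W k).1 := by
  refine ⟨{W : X.affineOpens // W.1 ≤ V}, fun W => W.1, fun W => W.2, ?_⟩
  intro x hx
  obtain ⟨_, ⟨W, hW, rfl⟩, hxW, hWV⟩ :=
    X.isBasis_affineOpens.exists_subset_of_mem_open hx V.isOpen
  exact Opens.mem_iSup.mpr ⟨⟨⟨W, hW⟩, hWV⟩, hxW⟩

lemma preimage_inc (m : ℕ) (A : X.Opens) : inc I m ⁻¹ᵁ (tι I (m + 1) ⁻¹ᵁ A) = tι I m ⁻¹ᵁ A := by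
  rw [← Scheme.Hom.comp_preimage, inc_tι]

lemma pl_inc (m : ℕ) {A : X.Opens} {B : (T I (m + 1)).Opens} {C : (T I m).Opens}
    (h : B ≤ tι I (m + 1) ⁻¹ᵁ A) (h' : C ≤ inc I m ⁻¹ᵁ B) (h'' : C ≤ tι I m ⁻¹ᵁ A) (a : Γ(X, A)) :
    pl (inc I m) h' (pl (tι I (m + 1)) h a) = pl (tι I m) h'' a := by
  exact pl_comp (inc_tι I m) _ _ _ a

lemma tι_surj (m : ℕ) (W : X.affineOpens) (c : Γ(T I m, tι I m ⁻¹ᵁ W.1)) :
    ∃ d : Γ(X, W.1), pl (tι I m) (le_refl _) d = c := by
  obtain ⟨d, hd⟩ := (I ^ (m + 1)).subschemeι_app_surjective W c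
  exact ⟨d, by rw [pl_eq_app]; exact hd⟩

lemma tι_ker (m : ℕ) (W : X.affineOpens) (d : Γ(X, W.1)) :
    pl (tι I m) (le_refl (tι I m ⁻¹ᵁ W.1)) d = 0 ↔ d ∈ (I ^ (m + 1)).ideal W := by
  rw [← Scheme.IdealSheafData.ker_subschemeι_app, RingHom.mem_ker, pl_eq_app]

lemma pl_le {T T' : Scheme.{u}} (i : T' ⟶ T) {A : T.Opens} {B : T'.Opens} (h : B ≤ i ⁻¹ᵁ A) {a : Γ(T, A)}
    (ha : pl i (le_refl (i ⁻¹ᵁ A)) a = 0) : pl i h a = 0 := by
  have := congrArg (ores h) ha
  rwa [ores_pl, map_zero] at this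

/-- The kernel of restriction to a smaller thickening is square zero. -/
lemma mul_eq_zero (m : ℕ) (V : X.Opens) (a b : Γ(T I (m + 1), tι I (m + 1) ⁻¹ᵁ V))
    (ha : pl (inc I m) le_rfl a = 0) (hb : pl (inc I m) le_rfl b = 0) : a * b = 0 := by
  obtain ⟨κ, W, hW, hcov⟩ := exists_affine_cover V
  refine ores_ext (fun k => tι I (m + 1) ⁻¹ᵁ (W k).1) (fun k => (tι I (m + 1)).preimage_mono (hW k)) ?_ fun k => ?_
  · intro y hy
    obtain ⟨k, hk⟩ := Opens.mem_iSup.mp (hcov hy)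
    exact Opens.mem_iSup.mpr ⟨k, hk⟩
  · have key : ∀ c : Γ(T I (m + 1), tι I (m + 1) ⁻¹ᵁ V), pl (inc I m) le_rfl c = 0 →
        ∃ d : Γ(X, (W k).1), d ∈ (I ^ (m + 1)).ideal (W k) ∧
          pl (tι I (m + 1)) (le_refl _) d = ores ((tι I (m + 1)).preimage_mono (hW k)) c := by
      intro c hc
      obtain ⟨d, hd⟩ := tι_surj I (m + 1) (W k) (ores ((tι I (m + 1)).preimage_mono (hW k)) c)
      refine ⟨d, ?_, hd⟩
      rw [← tι_ker, ← pl_inc I m (le_refl _) (preimage_inc I m _).ge (le_refl _) d, hd, pl_ores]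
      exact pl_le _ _ hc
    obtain ⟨a', ha', haa⟩ := key a ha
    obtain ⟨b', hb', hbb⟩ := key b hb
    rw [map_mul, map_zero, ← haa, ← hbb, ← map_mul, tι_ker]
    rw [Scheme.IdealSheafData.ideal_pow] at ha' hb' ⊢
    have h5 : a' * b' ∈ (I.ideal (W k)) ^ (m + 1) * (I.ideal (W k)) ^ (m + 1) :=
      Ideal.mul_mem_mul ha' hb'
    rw [← pow_add] at h5
    exact Ideal.pow_le_pow_right (by omega) h5

/-- Functions lift to the next thickening over affine opens. -/
lemma pl_inc_surjective (m : ℕ) (W : X.affineOpens) :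
    Function.Surjective (pl (inc I m) (le_refl (inc I m ⁻¹ᵁ (tι I (m + 1) ⁻¹ᵁ W.1)))) := by
  intro c
  obtain ⟨d, hd⟩ := tι_surj I m W (ores (preimage_inc I m _).ge c)
  refine ⟨pl (tι I (m + 1)) (le_refl _) d, ?_⟩
  rw [pl_inc I m (le_refl _) (le_refl _) (preimage_inc I m _).le d]
  have := congrArg (ores (preimage_inc I m W.1).le) hd
  rw [ores_pl, ores_ores, ores_refl] at this
  exact this

lemma exists_local (m : ℕ) {ι : Type u} {O : ι → (T I (m + 1)).Opens} (hO : ⨆ x, O x = ⊤) (v : X) :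
    ∃ V : X.Opens, v ∈ V ∧ (tι I (m + 1) ⁻¹ᵁ V = ⊥ ∨ ∃ x, tι I (m + 1) ⁻¹ᵁ V ≤ O x ∧
      Function.Surjective (pl (inc I m) (le_refl (inc I m ⁻¹ᵁ (tι I (m + 1) ⁻¹ᵁ V))))) := by
  by_cases hv : v ∈ Set.range (tι I (m + 1))
  · obtain ⟨y, rfl⟩ := hv
    have hy : y ∈ ⨆ x, O x := by rw [hO]; trivial
    obtain ⟨x, hx⟩ := Opens.mem_iSup.mp hy
    obtain ⟨W, hW, hWO⟩ := (tι I (m + 1)).isEmbedding.isInducing.isOpen_iff.mp (O x).isOpen
    have hyW : tι I (m + 1) y ∈ W := by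
      have : y ∈ tι I (m + 1) ⁻¹' W := by rw [hWO]; exact hx
      exact this
    obtain ⟨_, ⟨V, hV, rfl⟩, hxV, hVW⟩ :=
      X.isBasis_affineOpens.exists_subset_of_mem_open hyW hW
    refine ⟨V, hxV, Or.inr ⟨x, ?_, pl_inc_surjective I m ⟨V, hV⟩⟩⟩
    intro z hz
    have : z ∈ tι I (m + 1) ⁻¹' W := hVW hz
    rw [hWO] at this
    exact this
  · refine ⟨⟨(Set.range (tι I (m + 1)))ᶜ, ?_⟩, hv, Or.inl ?_⟩
    · rw [Scheme.IdealSheafData.range_subschemeι]
      exact (I ^ (m + 1 + 1)).support.isClosed.isOpen_compl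
    · ext z
      exact ⟨fun hz => hz ⟨z, rfl⟩, fun hz => hz.elim⟩


section Kernel

variable {M N : X.Modules} (f : M ⟶ N)

/-- sections over an open, as a functor to abelian groups. -/
noncomputable def secFunctor (V : X.Opens) : X.Modules ⥤ AddCommGrpCat.{u} :=
  Scheme.Modules.toPresheaf X ⋙ (evaluation _ _).obj (op V)

noncomputable instance preservesLimitsOfShape_secFunctor (V : X.Opens) :
    PreservesFiniteLimits (secFunctor (X := X) V) := by
  unfold secFunctor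
  have h1 : PreservesFiniteLimits ((evaluation (Opens X)ᵒᵖ AddCommGrpCat.{u}).obj (op V)) :=
    inferInstance
  have h3 : PreservesFiniteLimits (Scheme.Modules.toPresheaf X) := inferInstance
  exact @comp_preservesFiniteLimits _ _ _ _ _ _ _ _ h3 h1

instance preservesZero_secFunctor (V : X.Opens) : (secFunctor (X := X) V).PreservesZeroMorphisms where
  map_zero _ _ := rfl

lemma kernel_ι_injective (V : X.Opens) : Function.Injective ((kernel.ι f).app V) := by
  rw [← AddCommGrpCat.mono_iff_injective]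
  exact inferInstanceAs (Mono ((secFunctor V).map (kernel.ι f)))

lemma kernel_ι_app_comp (V : X.Opens) (a : Γ(kernel f, V)) : f.app V ((kernel.ι f).app V a) = 0 := by
  have := congrArg (fun φ : kernel f ⟶ N => φ.app V a) (kernel.condition f)
  exact this

lemma exists_kernel_ι (V : X.Opens) (a : Γ(M, V)) (ha : f.app V a = 0) :
    ∃ b : Γ(kernel f, V), (kernel.ι f).app V b = a := by
  let S : ShortComplex X.Modules := ShortComplex.mk (kernel.ι f) f (kernel.condition f)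
  have hS : S.Exact := ShortComplex.exact_kernel f
  have h := hS.map_of_mono_of_preservesKernel (secFunctor V) (inferInstanceAs (Mono (kernel.ι f))) inferInstance
  rw [ShortComplex.ab_exact_iff] at h
  exact h a ha

end Kernel

section KerData

/-- the kernel sheaf `I^(m+1)/I^(m+2)` on `X` -/
noncomputable abbrev P (m : ℕ) : X.Modules := kernel (Lef.quotMap (Lef.pow_succ_le I m))

lemma quotMap_app_eq (m : ℕ) (V : X.Opens) (a : Γ(T I (m + 1), tι I (m + 1) ⁻¹ᵁ V)) :
    (Lef.quotMap (Lef.pow_succ_le I m)).app V a = pl (inc I m) (preimage_inc I m V).ge a := rfl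

/-- The kernel sheaf is the kernel of restriction of functions. -/
noncomputable def kerData (m : ℕ) : KerData (inc I m) (tι I (m + 1)) (Coh.toAb (P I m)) where
  ψ V := ((kernel.ι (Lef.quotMap (Lef.pow_succ_le I m))).app V).hom
  nat {V W} h a := (app_res (kernel.ι (Lef.quotMap (Lef.pow_succ_le I m))) h a)
  inj V := kernel_ι_injective _ V
  pl_eq V b := by
    have h1 := kernel_ι_app_comp (Lef.quotMap (Lef.pow_succ_le I m)) V b
    rw [quotMap_app_eq] at h1
    have h2 := congrArg (ores (preimage_inc I m V).le) h1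
    rw [ores_pl] at h2
    exact h2.trans (map_zero (ores (preimage_inc I m V).le))
  exists_eq V a ha := by
    obtain ⟨b, hb⟩ := exists_kernel_ι (Lef.quotMap (Lef.pow_succ_le I m)) V a (by
      rw [quotMap_app_eq]
      exact pl_le _ _ ha)
    exact ⟨b, hb⟩

/-- **Lifting of families of units to the next thickening**. -/
theorem exists_lift_family (m : ℕ) (hH : Subsingleton (Coh.HH X (P I m) 1))
    {ι : Type u} {O : ι → (T I (m + 1)).Opens} {g : ∀ x y, Γ(T I (m + 1), O x ⊓ O y)}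
    {c' : ∀ x, Γ(T I m, inc I m ⁻¹ᵁ O x)} (hO : ⨆ x, O x = ⊤)
    (hg₁ : ∀ x, g x x = 1)
    (hg : ∀ x y z (B : (T I (m + 1)).Opens) (hx : B ≤ O x) (hy : B ≤ O y) (hz : B ≤ O z),
      ores (le_inf hx hz) (g x z) = ores (le_inf hx hy) (g x y) * ores (le_inf hy hz) (g y z))
    (hc' : ∀ x, IsUnit (c' x))
    (hcg : ∀ x y, ores ((inc I m).preimage_mono inf_le_right) (c' y) =
      ores ((inc I m).preimage_mono inf_le_left) (c' x) *
        pl (inc I m) (le_refl (inc I m ⁻¹ᵁ (O x ⊓ O y))) (g x y)) :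
    ∃ c : ∀ x, Γ(T I (m + 1), O x), (∀ x, IsUnit (c x)) ∧
      (∀ x y, ores inf_le_right (c y) = ores inf_le_left (c x) * g x y) ∧
      ∀ x, pl (inc I m) le_rfl (c x) = c' x :=
  LineLift.exists_lift_family (kerData I m) (mul_eq_zero I m) (inc_surjective I m) hO hg₁ hg hc' hcg
    (exists_local I m hO)

end KerData

end Groth.Agent.Sga2.LefThick
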