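import Groth.Agent.Picfga.LineCocycle
import Groth.Agent.CurvesA.Torsor

/-!
# Lifting trivialisations of line bundles through a first order thickening

`i : T' ⟶ T` a morphism of schemes (in practice a closed immersion defined by a square-zero ideal),
`t : T ⟶ X`, and `F` an abelian sheaf on `X` identified with `ker (t_* O_T → t_* i_* O_T')`, with `H¹(X, F) = 0`.
Then every family of local functions on `T'` transforming by a cocycle of units on `T` lifts to `T`.
-/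

set_option autoImplicit false

universe u

open CategoryTheory AlgebraicGeometry TopologicalSpace Opposite

namespace Groth.Agent.Sga2.LineLift

open Groth.Agent.Fdesc.LocGen

section pl

variable {T T' T'' : Scheme.{u}}

/-- Pullback of functions. -/
noncomputable def pl (i : T' ⟶ T) {A : T.Opens} {B : T'.Opens} (h : B ≤ i ⁻¹ᵁ A) :
    Γ(T, A) →+* Γ(T', B) := (i.appLE A B h).hom

lemma pl_ores (i : T' ⟶ T) {A A' : T.Opens} {B : T'.Opens} (h : B ≤ i ⁻¹ᵁ A') (h' : A' ≤ A)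
    (a : Γ(T, A)) : pl i h (ores h' a) = pl i (h.trans (i.preimage_mono h')) a := by
  unfold pl ores
  rw [← CommRingCat.comp_apply, Scheme.Hom.map_appLE]

lemma ores_pl (i : T' ⟶ T) {A : T.Opens} {B B' : T'.Opens} (h : B ≤ i ⁻¹ᵁ A) (h' : B' ≤ B)
    (a : Γ(T, A)) : ores h' (pl i h a) = pl i (h'.trans h) a := by
  unfold pl ores
  rw [← CommRingCat.comp_apply, Scheme.Hom.appLE_map]

lemma pl_pl (i : T' ⟶ T) (j : T'' ⟶ T') {A : T.Opens} {B : T'.Opens} {C : T''.Opens}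
    (h : B ≤ i ⁻¹ᵁ A) (h' : C ≤ j ⁻¹ᵁ B) (a : Γ(T, A)) :
    pl j h' (pl i h a) = pl (j ≫ i) (h'.trans (j.preimage_mono h)) a := by
  unfold pl
  rw [← CommRingCat.comp_apply, Scheme.Hom.appLE_comp_appLE]

lemma pl_congr {i j : T' ⟶ T} (e : i = j) {A : T.Opens} {B : T'.Opens} (h : B ≤ i ⁻¹ᵁ A)
    (h' : B ≤ j ⁻¹ᵁ A) (a : Γ(T, A)) : pl i h a = pl j h' a := by
  subst e; rfl

/-- Composition, in the form which is safe for concrete morphisms (no defeq check of preimages). -/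
lemma pl_comp {i : T' ⟶ T} {j : T'' ⟶ T'} {k : T'' ⟶ T} (e : j ≫ i = k) {A : T.Opens}
    {B : T'.Opens} {C : T''.Opens} (h : B ≤ i ⁻¹ᵁ A) (h' : C ≤ j ⁻¹ᵁ B) (h'' : C ≤ k ⁻¹ᵁ A)
    (a : Γ(T, A)) : pl j h' (pl i h a) = pl k h'' a := by
  subst e
  exact pl_pl i j h h' a

lemma pl_id {A B : T.Opens} (h : B ≤ (𝟙 T) ⁻¹ᵁ A) (h' : B ≤ A) (a : Γ(T, A)) :
    pl (𝟙 T) h a = ores h' a := by
  unfold pl ores
  rw [Scheme.Hom.appLE, Scheme.Hom.id_app]
  rfl

lemma pl_eq_app (i : T' ⟶ T) {A : T.Opens} (a : Γ(T, A)) : pl i (le_refl (i ⁻¹ᵁ A)) a = i.app A a := by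
  unfold pl
  rw [Scheme.Hom.app_eq_appLE]

lemma isUnit_of_basicOpen {A : T.Opens} (a : Γ(T, A)) (h : A ≤ T.basicOpen a) : IsUnit a := by
  have h1 : IsUnit (ores (T.basicOpen_le a) a) := T.toRingedSpace.isUnit_res_basicOpen a
  have h2 := h1.map (ores h)
  rwa [ores_ores, ores_refl] at h2

/-- functions which become units on a surjective scheme are units. -/
lemma isUnit_of_pl (i : T' ⟶ T) (hi : Function.Surjective i) {A : T.Opens} (a : Γ(T, A))
    (h : IsUnit (pl i (le_refl (i ⁻¹ᵁ A)) a)) : IsUnit a := by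
  apply isUnit_of_basicOpen
  intro x hx
  obtain ⟨y, rfl⟩ := hi x
  have h1 : i ⁻¹ᵁ T.basicOpen a = i ⁻¹ᵁ A := by
    rw [Scheme.preimage_basicOpen, ← pl_eq_app]
    exact T'.basicOpen_of_isUnit h
  have h2 : y ∈ i ⁻¹ᵁ A := hx
  rw [← h1] at h2
  exact h2

end pl

/-- Identification of an abelian sheaf on `X` with the kernel of `t_* O_T → t_* i_* O_T'`. -/
structure KerData {T T' X : Scheme.{u}} (i : T' ⟶ T) (t : T ⟶ X)
    (F : Sheaf (Opens.grothendieckTopology X) AddCommGrpCat.{u}) where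
  ψ : ∀ V : X.Opens, F.obj.obj (op V) →+ Γ(T, t ⁻¹ᵁ V)
  nat : ∀ {V W : X.Opens} (h : W ≤ V) (a : F.obj.obj (op V)),
    ψ W (F.obj.map (homOfLE h).op a) = ores (t.preimage_mono h) (ψ V a)
  inj : ∀ V, Function.Injective (ψ V)
  pl_eq : ∀ V (b : F.obj.obj (op V)), pl i le_rfl (ψ V b) = 0
  exists_eq : ∀ V (a : Γ(T, t ⁻¹ᵁ V)), pl i le_rfl a = 0 → ∃ b, ψ V b = a

section Lift

variable {T T' X : Scheme.{u}} {i : T' ⟶ T} {t : T ⟶ X}
variable {ι : Type u} {O : ι → T.Opens} (hO : ⨆ x, O x = ⊤) {N : T.Modules} {n : ∀ x, Γ(N, O x)}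
  (hn : ∀ x, IsGen (n x)) {c' : ∀ x, Γ(T', i ⁻¹ᵁ O x)} (hc' : ∀ x, IsUnit (c' x))

variable (n c') in
/-- `s` is a local lift over `A`: its coefficients restrict to the given family. -/
def IsLift {A : T.Opens} (s : Γ(N, A)) : Prop :=
  ∀ (x : ι) (B : T.Opens) (h1 : B ≤ A) (h2 : B ≤ O x) (a : Γ(T, B)),
    res N h1 s = a • res N h2 (n x) → pl i le_rfl a = ores (i.preimage_mono h2) (c' x)

lemma IsLift.res {A A' : T.Opens} {s : Γ(N, A)} (hs : IsLift n c' s) (h : A' ≤ A) :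
    IsLift n c' (res N h s) := by
  intro x B h1 h2 a ha
  rw [res_res] at ha
  exact hs x B (h1.trans h) h2 a ha

include hO hn hc' in
lemma IsLift.isGen (hi : Function.Surjective i) {A : T.Opens} {s : Γ(N, A)} (hs : IsLift n c' s) : IsGen s := by
  refine IsGen.of_cover (fun x => A ⊓ O x) (fun x => inf_le_left) ?_ (fun x => ?_)
  · rw [← inf_iSup_eq, hO, inf_top_eq]
  · have hg := (hn x).res (inf_le_right : A ⊓ O x ≤ O x)
    obtain ⟨a, ha⟩ := hg.exists_eq (Fdesc.LocGen.res N inf_le_left s)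
    have h1 := hs x _ inf_le_left inf_le_right a ha
    have h2 : IsUnit a := isUnit_of_pl i hi a (by rw [h1]; exact (hc' x).map _)
    rw [ha]
    exact hg.unit_smul h2


lemma isLift_unit_smul {A : T.Opens} {s : Γ(N, A)} (hs : IsLift n c' s) {u : Γ(T, A)}
    (hu : pl i le_rfl u = 1) (hu' : IsUnit u) : IsLift n c' (u • s) := by
  intro x B h1 h2 a ha
  obtain ⟨v, hv⟩ := hu'
  rw [← hv] at ha hu
  rw [res_smul] at ha
  have h3 : Fdesc.LocGen.res N h1 s = (ores h1 (↑v⁻¹ : Γ(T, A)) * a) • Fdesc.LocGen.res N h2 (n x) := by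
    rw [mul_smul, ← ha, smul_smul, ← map_mul, Units.inv_mul, map_one, one_smul]
  have h4 := hs x B h1 h2 _ h3
  rw [map_mul] at h4
  have h5 : pl i (le_refl (i ⁻¹ᵁ B)) (ores h1 (↑v⁻¹ : Γ(T, A))) = 1 := by
    have h6 : pl i (le_refl (i ⁻¹ᵁ A)) (↑v⁻¹ : Γ(T, A)) = 1 := by
      have : pl i (le_refl (i ⁻¹ᵁ A)) (↑v⁻¹ : Γ(T, A)) * pl i (le_refl (i ⁻¹ᵁ A)) (v : Γ(T, A)) = 1 := by
        rw [← map_mul, Units.inv_mul, map_one]
      rwa [hu, mul_one] at this
    have h7 := congrArg (ores (i.preimage_mono h1)) h6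
    rw [ores_pl, map_one] at h7
    rw [pl_ores]
    exact h7
  rwa [h5, one_mul] at h4

include hO hn hc' in
/-- Two local lifts differ by a unit which restricts to `1`. -/
lemma IsLift.exists_unit (hi : Function.Surjective i) {A : T.Opens} {s s' : Γ(N, A)}
    (hs : IsLift n c' s) (hs' : IsLift n c' s') :
    ∃ u : Γ(T, A), s = u • s' ∧ pl i le_rfl u = 1 := by
  have hg := hs'.isGen hO hn hc' hi
  obtain ⟨u, hu⟩ := hg.exists_eq s
  refine ⟨u, hu, ?_⟩
  refine ores_ext (fun x => i ⁻¹ᵁ (A ⊓ O x)) (fun x => i.preimage_mono inf_le_left) ?_ fun x => ?_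
  · intro y hy
    have h1 : i y ∈ ⨆ x, O x := by rw [hO]; trivial
    obtain ⟨x, hx⟩ := Opens.mem_iSup.mp h1
    exact Opens.mem_iSup.mpr ⟨x, hy, hx⟩
  · have hgx := (hn x).res (inf_le_right : A ⊓ O x ≤ O x)
    obtain ⟨a, ha⟩ := hgx.exists_eq (Fdesc.LocGen.res N inf_le_left s')
    have h1 := hs' x _ inf_le_left inf_le_right a ha
    have h2 := hs x _ inf_le_left inf_le_right (ores inf_le_left u * a) (by
      rw [hu, res_smul, ha, smul_smul])
    rw [map_mul, h1] at h2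
    have h3 : IsUnit (ores (i.preimage_mono (inf_le_right : A ⊓ O x ≤ O x)) (c' x)) := (hc' x).map _
    have h4 := h3.mul_right_cancel (h2.trans (one_mul _).symm)
    rw [ores_pl, map_one, ← h4, pl_ores]

end Lift

section Torsor

variable {T T' X : Scheme.{u}} (i : T' ⟶ T) (t : T ⟶ X)
variable {ι : Type u} {O : ι → T.Opens} {N : T.Modules} (n : ∀ x, Γ(N, O x))
  (c' : ∀ x, Γ(T', i ⁻¹ᵁ O x))

/-- The presheaf of types on `X` of local lifts. -/
noncomputable def liftPresheaf : (Opens X)ᵒᵖ ⥤ Type u where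
  obj V := {s : Γ(N, t ⁻¹ᵁ V.unop) // IsLift n c' s}
  map {V W} f := ↾fun s => ⟨res N (t.preimage_mono f.unop.le) s.1, s.2.res _⟩
  map_id V := by
    ext s
    exact res_refl N s.1
  map_comp {V W Z} f g := by
    ext s
    exact (res_res N _ _ s.1).symm

variable {i t n c'}

lemma liftPresheaf_map {V W : X.Opens} (h : W ≤ V) (s : (liftPresheaf i t n c').obj (op V)) :
    ((liftPresheaf i t n c').map (homOfLE h).op s).1 = res N (t.preimage_mono h) s.1 := rfl

variable {F : Sheaf (Opens.grothendieckTopology X) AddCommGrpCat.{u}} (kd : KerData i t F)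
  (hsq : ∀ (V : X.Opens) (a b : Γ(T, t ⁻¹ᵁ V)), pl i le_rfl a = 0 → pl i le_rfl b = 0 → a * b = 0)
  (hi : Function.Surjective i)
  (hO : ⨆ x, O x = ⊤) (hn : ∀ x, IsGen (n x)) (hc' : ∀ x, IsUnit (c' x))

include hsq in
lemma kd_mul {V : X.Opens} (a b : F.obj.obj (op V)) : kd.ψ V a * kd.ψ V b = 0 :=
  hsq V _ _ (kd.pl_eq V a) (kd.pl_eq V b)

include kd hi hO hn hc' in
lemma exists_diff (V : X.Opens) {s s' : Γ(N, t ⁻¹ᵁ V)} (hs : IsLift n c' s) (hs' : IsLift n c' s') :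
    ∃ a : F.obj.obj (op V), s = (1 + kd.ψ V a) • s' := by
  obtain ⟨u, hu, hu'⟩ := IsLift.exists_unit hO hn hc' hi hs hs'
  obtain ⟨a, ha⟩ := kd.exists_eq V (u - 1) (by rw [map_sub, hu', map_one, sub_self])
  exact ⟨a, by rw [ha, hu, add_sub_cancel]⟩

include hi hO hn hc' in
lemma diff_unique (V : X.Opens) {s' : Γ(N, t ⁻¹ᵁ V)} (hs' : IsLift n c' s') {a b : F.obj.obj (op V)}
    (h : (1 + kd.ψ V a) • s' = (1 + kd.ψ V b) • s') : a = b := by
  have hg := hs'.isGen hO hn hc' hi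
  exact kd.inj V (add_left_cancel (hg.ext h))

/-- the section underlying a local lift -/
noncomputable def sect {V : (Opens X)ᵒᵖ} (s : (liftPresheaf i t n c').obj V) : Γ(N, t ⁻¹ᵁ V.unop) := s.1

lemma isLift_sect {V : (Opens X)ᵒᵖ} (s : (liftPresheaf i t n c').obj V) : IsLift n c' (sect s) := s.2

lemma sect_map {V W : (Opens X)ᵒᵖ} (f : V ⟶ W) (s : (liftPresheaf i t n c').obj V) :
    sect ((liftPresheaf i t n c').map f s) = res N (t.preimage_mono f.unop.le) (sect s) := rfl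

lemma ofSect {V : X.Opens} {s : Γ(N, t ⁻¹ᵁ V)} (hs : IsLift n c' s) :
    ∃ p : (liftPresheaf i t n c').obj (op V), sect p = s := ⟨⟨s, hs⟩, rfl⟩

/-- The difference of two local lifts. -/
noncomputable def df {V : (Opens X)ᵒᵖ} (s s' : (liftPresheaf i t n c').obj V) : F.obj.obj V :=
  (exists_diff kd hi hO hn hc' V.unop (isLift_sect s) (isLift_sect s')).choose

lemma df_spec {V : (Opens X)ᵒᵖ} (s s' : (liftPresheaf i t n c').obj V) :
    sect s = (1 + kd.ψ V.unop (df kd hi hO hn hc' s s')) • sect s' :=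
  (exists_diff kd hi hO hn hc' V.unop (isLift_sect s) (isLift_sect s')).choose_spec

include hsq in
/-- The torsor datum. -/
noncomputable def diffMap : CurvesA.Torsor.DiffMap F.obj (liftPresheaf i t n c') where
  d V s s' := df kd hi hO hn hc' s s'
  d_add V s s' s'' := by
    apply diff_unique kd hi hO hn hc' V.unop (isLift_sect s'')
    refine Eq.trans ?_ (df_spec kd hi hO hn hc' s s'')
    refine Eq.trans ?_ (df_spec kd hi hO hn hc' s s').symm
    refine Eq.trans ?_ (congrArg ((1 + kd.ψ V.unop (df kd hi hO hn hc' s s')) • ·)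
      (df_spec kd hi hO hn hc' s' s'')).symm
    rw [smul_smul]
    congr 1
    have h := kd_mul kd hsq (df kd hi hO hn hc' s s') (df kd hi hO hn hc' s' s'')
    have h2 := map_add (kd.ψ V.unop) (df kd hi hO hn hc' s s') (df kd hi hO hn hc' s' s'')
    refine (congrArg (1 + ·) h2).trans ?_
    linear_combination -h
  d_map {V W} f s s' := by
    apply diff_unique kd hi hO hn hc' W.unop (isLift_sect ((liftPresheaf i t n c').map f s'))
    refine Eq.trans ?_ (df_spec kd hi hO hn hc' _ _)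
    have h2 := congrArg (res N (t.preimage_mono f.unop.le)) (df_spec kd hi hO hn hc' s s')
    rw [res_smul, map_add, map_one, ← kd.nat] at h2
    exact h2.symm

/-- A local lift exists near a point as soon as functions lift locally. -/
lemma exists_local_lift (hn' : ∀ x y (B : T.Opens) (hx : B ≤ O x) (hy : B ≤ O y) (a : Γ(T, B)),
      res N hx (n x) = a • res N hy (n y) →
      ores (i.preimage_mono hy) (c' y) = ores (i.preimage_mono hx) (c' x) * pl i le_rfl a)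
    (hn : ∀ x, IsGen (n x))
    {x : ι} {V : X.Opens} (hV : t ⁻¹ᵁ V ≤ O x)
    (hsurj : Function.Surjective (pl i (le_refl (i ⁻¹ᵁ (t ⁻¹ᵁ V))))) :
    ∃ s : Γ(N, t ⁻¹ᵁ V), IsLift n c' s := by
  obtain ⟨a, ha⟩ := hsurj (ores (i.preimage_mono hV) (c' x))
  refine ⟨a • res N hV (n x), ?_⟩
  intro y B h1 h2 b hb
  have hg := (hn x).res (h1.trans hV)
  rw [res_smul, res_res] at hb
  obtain ⟨d, hd⟩ := ((hn y).res h2).exists_eq (Fdesc.LocGen.res N (h1.trans hV) (n x))
  have h3 := hn' x y B (h1.trans hV) h2 d hd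
  rw [hd, smul_smul] at hb
  have h4 := ((hn y).res h2).ext hb
  rw [← h4, map_mul, h3, pl_ores]
  congr 1
  have := congrArg (ores (i.preimage_mono h1)) ha
  rw [ores_pl, ores_ores] at this
  exact this

lemma isLift_of_cover {κ : Type u} {A : T.Opens} (B : κ → T.Opens) (hB : ∀ k, B k ≤ A)
    (hcov : A ≤ ⨆ k, B k) {s : Γ(N, A)} (h : ∀ k, IsLift n c' (res N (hB k) s)) : IsLift n c' s := by
  intro x C h1 h2 a ha
  refine ores_ext (fun k => i ⁻¹ᵁ (C ⊓ B k)) (fun k => i.preimage_mono inf_le_left) ?_ fun k => ?_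
  · intro y hy
    obtain ⟨k, hk⟩ := Opens.mem_iSup.mp (hcov (h1 hy))
    exact Opens.mem_iSup.mpr ⟨k, hy, hk⟩
  · have h3 := h k x (C ⊓ B k) inf_le_right (inf_le_left.trans h2) (ores inf_le_left a) (by
      have := congrArg (Fdesc.LocGen.res N (inf_le_left : C ⊓ B k ≤ C)) ha
      rw [res_smul, res_res, res_res] at this
      rw [res_res]
      exact this)
    rw [pl_ores] at h3
    rw [ores_pl, ores_ores, h3]

include hsq in
/-- corrected local lifts agree -/
lemma corr_eq {V : X.Opens} {h : ∀ V : (Opens X)ᵒᵖ, (liftPresheaf i t n c').obj V → F.obj.obj V}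
    (hd : ∀ (V : (Opens X)ᵒᵖ) (p q : (liftPresheaf i t n c').obj V),
      h V p - h V q = df kd hi hO hn hc' p q)
    (p q : (liftPresheaf i t n c').obj (op V)) :
    (1 - kd.ψ V (h (op V) p)) • sect p = (1 - kd.ψ V (h (op V) q)) • sect q := by
  have h1 := df_spec kd hi hO hn hc' p q
  rw [← hd (op V) p q] at h1
  have h2 := map_sub (kd.ψ V) (h (op V) p) (h (op V) q)
  have h3 := kd_mul kd hsq (h (op V) p) (h (op V) p)
  have h4 := kd_mul kd hsq (h (op V) p) (h (op V) q)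
  refine (congrArg ((1 - kd.ψ V (h (op V) p)) • ·) h1).trans ?_
  change (1 - kd.ψ V (h (op V) p)) • ((1 + kd.ψ V (h (op V) p - h (op V) q)) • sect q) = _
  rw [smul_smul]
  congr 1
  rw [h2]
  linear_combination -h3 + h4

include kd hsq hi hO hn hc' in
/-- **Lifting of trivialisations.** -/
theorem exists_lift [Subsingleton (Sheaf.H F 1)]
    (hcov : ∀ v : X, ∃ V : X.Opens, v ∈ V ∧ ∃ s : Γ(N, t ⁻¹ᵁ V), IsLift n c' s) :
    ∃ s : Γ(N, ⊤), IsLift n c' s := by
  obtain ⟨h, hnat, hd⟩ := CurvesA.Torsor.exists_trivialization F (T := (⊤ : Opens X))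
    Limits.isTerminalTop (diffMap kd hsq hi hO hn hc') (by
      rw [Opens.mem_grothendieckTopology]
      intro v _
      obtain ⟨V, hv, s, hs⟩ := hcov v
      exact ⟨V, homOfLE le_top, ⟨⟨s, hs⟩⟩, hv⟩)
  choose V hv s hs using hcov
  let p : ∀ v : X, (liftPresheaf i t n c').obj (op (V v)) := fun v => ⟨s v, hs v⟩
  have hcomp : ∀ v w : X, res N (inf_le_left : t ⁻¹ᵁ V v ⊓ t ⁻¹ᵁ V w ≤ t ⁻¹ᵁ V v)
      ((1 - kd.ψ (V v) (h (op (V v)) (p v))) • sect (p v)) =
      res N (inf_le_right : t ⁻¹ᵁ V v ⊓ t ⁻¹ᵁ V w ≤ t ⁻¹ᵁ V w)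
      ((1 - kd.ψ (V w) (h (op (V w)) (p w))) • sect (p w)) := by
    intro v w
    have h1 := corr_eq kd hsq hi hO hn hc' hd
      ((liftPresheaf i t n c').map (homOfLE (inf_le_left : V v ⊓ V w ≤ V v)).op (p v))
      ((liftPresheaf i t n c').map (homOfLE (inf_le_right : V v ⊓ V w ≤ V w)).op (p w))
    rw [hnat, hnat, sect_map, sect_map, kd.nat, kd.nat] at h1
    rw [res_smul, res_smul, map_sub, map_sub, map_one, map_one]
    exact h1
  obtain ⟨s0, hs0⟩ := res_glue N (V := ⊤) (fun v => t ⁻¹ᵁ V v) (fun v => le_top) (by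
    intro y _
    exact Opens.mem_iSup.mpr ⟨t y, hv (t y)⟩) _ hcomp
  refine ⟨s0, isLift_of_cover (ι := ι) (fun v => t ⁻¹ᵁ V v) (fun v => le_top) (by
    intro y _
    exact Opens.mem_iSup.mpr ⟨t y, hv (t y)⟩) (fun v => ?_)⟩
  rw [hs0]
  have hpl : pl i (le_refl _) (1 - kd.ψ (V v) (h (op (V v)) (p v))) = 1 := by
    rw [map_sub, map_one, kd.pl_eq, sub_zero]
  refine isLift_unit_smul (hs v) hpl (isUnit_of_pl i hi _ ?_)
  rw [hpl]
  exact isUnit_one

end Torsor

section Family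

variable {T T' X : Scheme.{u}} {i : T' ⟶ T} {t : T ⟶ X}
variable {ι : Type u} {O : ι → T.Opens} {g : ∀ x y, Γ(T, O x ⊓ O y)} {c' : ∀ x, Γ(T', i ⁻¹ᵁ O x)}

/-- **Lifting of families of units** transforming by a cocycle. -/
theorem exists_lift_family {F : Sheaf (Opens.grothendieckTopology X) AddCommGrpCat.{u}}
    (kd : KerData i t F) [Subsingleton (Sheaf.H F 1)]
    (hsq : ∀ (V : X.Opens) (a b : Γ(T, t ⁻¹ᵁ V)), pl i le_rfl a = 0 → pl i le_rfl b = 0 → a * b = 0)
    (hi : Function.Surjective i) (hO : ⨆ x, O x = ⊤)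
    (hg₁ : ∀ x, g x x = 1)
    (hg : ∀ x y z (B : T.Opens) (hx : B ≤ O x) (hy : B ≤ O y) (hz : B ≤ O z),
      ores (le_inf hx hz) (g x z) = ores (le_inf hx hy) (g x y) * ores (le_inf hy hz) (g y z))
    (hc' : ∀ x, IsUnit (c' x))
    (hcg : ∀ x y, ores (i.preimage_mono inf_le_right) (c' y) =
      ores (i.preimage_mono inf_le_left) (c' x) * pl i (le_refl (i ⁻¹ᵁ (O x ⊓ O y))) (g x y))
    (hloc : ∀ v : X, ∃ V : X.Opens, v ∈ V ∧ (t ⁻¹ᵁ V = ⊥ ∨ ∃ x, t ⁻¹ᵁ V ≤ O x ∧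
      Function.Surjective (pl i (le_refl (i ⁻¹ᵁ (t ⁻¹ᵁ V)))))) :
    ∃ c : ∀ x, Γ(T, O x), (∀ x, IsUnit (c x)) ∧
      (∀ x y, ores inf_le_right (c y) = ores inf_le_left (c x) * g x y) ∧
      ∀ x, pl i le_rfl (c x) = c' x := by
  obtain ⟨N, n, hn, htr⟩ := Picfga.LineCocycle.exists_of_cocycle O g hg₁ hg
  have hn' : ∀ x y (B : T.Opens) (hx : B ≤ O x) (hy : B ≤ O y) (a : Γ(T, B)),
      res N hx (n x) = a • res N hy (n y) →
      ores (i.preimage_mono hy) (c' y) = ores (i.preimage_mono hx) (c' x) * pl i le_rfl a := by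
    intro x y B hx hy a ha
    have h1 := congrArg (res N (le_inf hx hy)) (htr x y)
    rw [res_smul, res_res, res_res, ha] at h1
    have h2 := ((hn y).res hy).ext h1
    have h3 := congrArg (ores (i.preimage_mono (le_inf hx hy))) (hcg x y)
    rw [map_mul, ores_ores, ores_ores, ores_pl] at h3
    rw [h3, h2, pl_ores]
  obtain ⟨s, hs⟩ := exists_lift kd hsq hi hO hn hc' (by
    intro v
    obtain ⟨V, hv, hV⟩ := hloc v
    refine ⟨V, hv, ?_⟩
    rcases hV with hV | ⟨x, hx, hsurj⟩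
    · refine ⟨0, ?_⟩
      intro x B h1 h2 a _
      have hB : B = ⊥ := by rw [hV] at h1; exact le_bot_iff.mp h1
      subst hB
      have : Subsingleton Γ(T', i ⁻¹ᵁ ⊥) := by
        have h4 : i ⁻¹ᵁ (⊥ : T.Opens) = ⊥ := rfl
        rw [h4]; infer_instance
      exact Subsingleton.elim _ _
    · exact exists_local_lift hn' hn hx hsurj)
  choose c hc using fun x => (hn x).exists_eq (res N le_top s)
  have hpl : ∀ x, pl i le_rfl (c x) = c' x := by
    intro x
    have := hs x (O x) le_top le_rfl (c x) (by rw [hc x, res_refl])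
    rw [this, ores_refl]
  refine ⟨c, fun x => isUnit_of_pl i hi _ (by rw [hpl x]; exact hc' x), fun x y => ?_, hpl⟩
  have h1 := congrArg (res N (inf_le_left : O x ⊓ O y ≤ O x)) (hc x)
  have h2 := congrArg (res N (inf_le_right : O x ⊓ O y ≤ O y)) (hc y)
  rw [res_res, res_smul] at h1 h2
  rw [h1, htr x y, smul_smul] at h2
  exact (((hn y).res (inf_le_right : O x ⊓ O y ≤ O y)).ext h2).symm

end Family

end Groth.Agent.Sga2.LineLift
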