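import Groth.Agent.Sga2.EszStep
import Groth.Agent.Sga2.StalkTw
import Groth.Agent.Sga2.AmpleSec2

/-!
# Sections of negative twists from sections of powers of the inverse

If `L ⊗ P ≅ O_X`, each generator `p` of `P` over `V` has a dual generator `dgen p` of `L` over `V`; a section `s` of
`L ^ b` gives the section `ofSec s` of the `b`-th negative twist by `P`: `s = c p • (dgen p) ^ b`.

* `exists_family`: for `L` ample and finitely many non-closed points `Z` there is `b > 0` such that for all `d` there are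
  `d + 1` sections of degree `b * d` all of whose nontrivial linear combinations vanish nowhere on `Z`.
-/

set_option autoImplicit false
universe u
open CategoryTheory CategoryTheory.Limits AlgebraicGeometry Opposite TopologicalSpace

namespace Groth.Agent.Sga2.NegSecOf

open Groth.Agent.Ega4dA.GenSec (res resO IsGen res_self res_res res_smul res_add res_zero app_res eq_of_locally
  exists_glue isInvertible_iff resO_resO)
open Groth.Agent.VarietyB.InvPair (tmk pair pair_smul_left pair_smul_right pair_map)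
open Groth.Agent.Sga2.TwIt Groth.Agent.Sga2.NegSec

variable {X : Scheme.{u}} {L P : X.Modules} (e : CohB1.tensorMod L P ≅ Coh.structureModule X)

theorem pair_bijective {V : X.Opens} {p : Γ(P, V)} (hp : IsGen P V p) :
    Function.Bijective (fun l : Γ(L, V) => pair e.hom V l p) :=
  (Groth.Agent.Ega4dA.GenSec.app_injective_of_iso e.hom V).comp (TensTriv.tmk_bijective L P hp)

/-- The generator of `L` dual to a generator of `P`. -/
noncomputable def dgen {V : X.Opens} {p : Γ(P, V)} (hp : IsGen P V p) : Γ(L, V) :=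
  ((pair_bijective e hp).2 (1 : Γ(X, V))).choose

theorem pair_dgen {V : X.Opens} {p : Γ(P, V)} (hp : IsGen P V p) : pair e.hom V (dgen e hp) p = 1 :=
  ((pair_bijective e hp).2 (1 : Γ(X, V))).choose_spec

theorem eq_dgen {V : X.Opens} {p : Γ(P, V)} (hp : IsGen P V p) {l : Γ(L, V)} (h : pair e.hom V l p = 1) :
    l = dgen e hp :=
  (pair_bijective e hp).1 (h.trans (pair_dgen e hp).symm)

theorem res_dgen {V W : X.Opens} (h : W ≤ V) {p : Γ(P, V)} (hp : IsGen P V p) :
    res L h (dgen e hp) = dgen e (hp.mono h) := by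
  refine eq_dgen e _ ?_
  have h1 := pair_map e.hom (homOfLE h) (dgen e hp) p
  rw [pair_dgen, map_one] at h1
  exact h1.symm

theorem smul_dgen {V : X.Opens} {p : Γ(P, V)} (hp : IsGen P V p) {r : Γ(X, V)} (hr : IsUnit r) :
    r • dgen e (hp.smul hr) = dgen e hp := by
  refine eq_dgen e _ ?_
  rw [pair_smul_left, ← pair_smul_right, pair_dgen]

theorem isGen_dgen {V : X.Opens} {p : Γ(P, V)} (hp : IsGen P V p) : IsGen L V (dgen e hp) := by
  intro W h
  have h1 := pair_bijective e (hp.mono h)
  rw [← Function.Bijective.of_comp_iff' h1]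
  have h2 : ((fun l : Γ(L, W) => pair e.hom W l (res P h p)) ∘ fun r : Γ(X, W) => r • res L h (dgen e hp)) = id := by
    funext r
    change pair e.hom W (r • res L h (dgen e hp)) (res P h p) = r
    rw [pair_smul_left, res_dgen, pair_dgen, mul_one]
  rw [h2]
  exact Function.bijective_id


/-- The power of the dual generator. -/
noncomputable def pgen {V : X.Opens} {p : Γ(P, V)} (hp : IsGen P V p) (b : ℕ) : Γ(CohB1.tensorPow L b, V) :=
  Groth.Agent.Fdesc.LocGen.pow (dgen e hp) b

theorem isGen_pgen {V : X.Opens} {p : Γ(P, V)} (hp : IsGen P V p) (b : ℕ) :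
    IsGen (CohB1.tensorPow L b) V (pgen e hp b) :=
  Groth.Agent.Fdesc.LocGen.IsGen.pow (isGen_dgen e hp) b

theorem res_pgen {V W : X.Opens} (h : W ≤ V) {p : Γ(P, V)} (hp : IsGen P V p) (b : ℕ) :
    res (CohB1.tensorPow L b) h (pgen e hp b) = pgen e (hp.mono h) b := by
  have h1 : res (CohB1.tensorPow L b) h (pgen e hp b) = Groth.Agent.Fdesc.LocGen.pow (res L h (dgen e hp)) b :=
    Groth.Agent.Fdesc.LocGen.res_pow h (dgen e hp) b
  rw [h1, res_dgen]
  rfl

theorem smul_pgen {V : X.Opens} {p : Γ(P, V)} (hp : IsGen P V p) {r : Γ(X, V)} (hr : IsUnit r) (b : ℕ) :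
    r ^ b • pgen e (hp.smul hr) b = pgen e hp b := by
  unfold pgen
  rw [← Groth.Agent.Fdesc.LocGen.smul_pow, smul_dgen e hp hr]

/-- The coefficient of a section of `L ^ b` with respect to the power of the generator dual to `p`. -/
noncomputable def coef {b : ℕ} (s : Coh.structureModule X ⟶ CohB1.tensorPow L b) {V : X.Opens} {p : Γ(P, V)}
    (hp : IsGen P V p) : Γ(X, V) :=
  ((isGen_pgen e hp b).exists_eq' (Groth.Agent.Fdesc.LocGen.sec s V)).choose

theorem coef_smul {b : ℕ} (s : Coh.structureModule X ⟶ CohB1.tensorPow L b) {V : X.Opens} {p : Γ(P, V)}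
    (hp : IsGen P V p) : coef e s hp • pgen e hp b = Groth.Agent.Fdesc.LocGen.sec s V :=
  ((isGen_pgen e hp b).exists_eq' (Groth.Agent.Fdesc.LocGen.sec s V)).choose_spec

theorem coef_res {b : ℕ} (s : Coh.structureModule X ⟶ CohB1.tensorPow L b) {V W : X.Opens} (h : W ≤ V)
    {p : Γ(P, V)} (hp : IsGen P V p) : resO X h (coef e s hp) = coef e s (hp.mono h) := by
  refine (isGen_pgen e (hp.mono h) b).injective' ?_
  rw [coef_smul, ← res_pgen e h hp, ← res_smul, coef_smul]
  exact Groth.Agent.Fdesc.LocGen.res_sec s h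

theorem coef_smul_gen {b : ℕ} (s : Coh.structureModule X ⟶ CohB1.tensorPow L b) {V : X.Opens} {p : Γ(P, V)}
    (hp : IsGen P V p) {r : Γ(X, V)} (hr : IsUnit r) : coef e s (hp.smul hr) = r ^ b * coef e s hp := by
  refine (isGen_pgen e (hp.smul hr) b).injective' ?_
  rw [coef_smul, mul_comm, mul_smul, smul_pgen e hp hr, coef_smul]

/-- Monomials in two sections of `L ^ b`, as sections of the `b * d`-th negative twist by `P`. -/
noncomputable def mono {b : ℕ} (s g : Coh.structureModule X ⟶ CohB1.tensorPow L b) (d i : ℕ) (hi : i ≤ d) :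
    Sec P (b * d) where
  c V p hp := coef e g hp ^ i * coef e s hp ^ (d - i)
  res_c V W h p hp := by
    rw [← coef_res e g h hp, ← coef_res e s h hp]
    change (X.presheaf.map (homOfLE h).op).hom _ = _
    rw [map_mul, map_pow, map_pow]
    rfl
  c_smul V p hp r hr := by
    rw [coef_smul_gen e g hp hr, coef_smul_gen e s hp hr]
    obtain ⟨j, rfl⟩ := Nat.exists_eq_add_of_le hi
    rw [Nat.add_sub_cancel_left]
    ring

theorem nv_comb {k : Type u} [Field k] (φ : k →+* Γ(X, ⊤)) {b : ℕ}
    {s g : Coh.structureModule X ⟶ CohB1.tensorPow L b} {G : X.Opens} {f : Γ(X, G)} (hG : G = CohB1.genLocus _ s)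
    (hg : Groth.Agent.Fdesc.LocGen.sec g G = f • Groth.Agent.Fdesc.LocGen.sec s G) {z : X} (hzG : z ∈ G)
    (hz : ∀ h : Polynomial k, h ≠ 0 →
      z ∈ X.basicOpen (h.eval₂ ((Groth.Agent.Fdesc.LocGen.ores le_top).comp φ) f))
    (d : ℕ) (c : Fin (d + 1) → k) (hc : c ≠ 0) :
    StalkTw.NV (EszStep.comb (fun i : Fin (d + 1) => mono e s g d i (Nat.lt_succ_iff.mp i.2))
      (fun i => φ (c i))) z := by
  classical
  intro V hzV p hp
  let h : Polynomial k := ∑ i : Fin (d + 1), Polynomial.monomial (i : ℕ) (c i)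
  have hcoef : ∀ i : Fin (d + 1), h.coeff i = c i := by
    intro i
    simp only [h, Polynomial.finsetSum_coeff, Polynomial.coeff_monomial]
    rw [Finset.sum_eq_single i]
    · simp
    · intro j _ hj
      rw [if_neg (fun h => hj (Fin.ext h))]
    · intro h; exact absurd (Finset.mem_univ _) h
  have hne : h ≠ 0 := by
    intro h0
    apply hc
    funext i
    rw [← hcoef i, h0]
    simp
  have hdeg : h.natDegree ≤ d := by
    refine Polynomial.natDegree_sum_le_of_forall_le _ _ fun i _ => ?_
    exact (Polynomial.natDegree_monomial_le _).trans (Nat.lt_succ_iff.mp i.2)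
  have h1 := AmpleSec.mem_basicOpen_homogenize φ hG hg hzG (hz h hne) hdeg hzV
    (l := pgen e hp b) (isGen_pgen e hp b) (σ := coef e s hp) (γ := coef e g hp)
    (coef_smul e s hp).symm (coef_smul e g hp).symm
  have h2 : (EszStep.comb (fun i : Fin (d + 1) => mono e s g d i (Nat.lt_succ_iff.mp i.2)) (fun i => φ (c i))).c V p hp =
      ∑ i ∈ Finset.range (d + 1), Groth.Agent.Fdesc.LocGen.ores le_top (φ (h.coeff i)) *
        coef e g hp ^ i * coef e s hp ^ (d - i) := by
    rw [Finset.sum_range]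
    change ∑ i : Fin (d + 1), resO X le_top (φ (c i)) * (coef e g hp ^ (i : ℕ) * coef e s hp ^ (d - (i : ℕ))) = _
    refine Finset.sum_congr rfl fun i _ => ?_
    rw [hcoef, mul_assoc]
    rfl
  rw [h2]
  exact h1

/-- For `L` ample, inverse to `P`, and finitely many non-closed points `Z` there is `b > 0` such that for all `d` there
are `d + 1` sections of the negative twist of degree `b * d` all of whose nontrivial linear combinations with constant
coefficients vanish nowhere on `Z`. -/
theorem exists_family (k : Type u) [Field k] {X : Scheme.{u}} [X.Over (Spec (CommRingCat.of k))] [CompactSpace X]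
    [X.IsSeparated] {L P : X.Modules} (_hP : PicF.IsInvertible P) (hL : ClSub.IsInverseOf L P)
    (hamp : CohB1.IsAmple L) (Z : Set X) (hZ : Z.Finite) (hZc : ∀ z ∈ Z, ¬ IsClosed ({z} : Set X)) :
    ∃ b : ℕ, 0 < b ∧ ∀ d : ℕ, ∃ w : Fin (d + 1) → NegSec.Sec P (b * d),
      ∀ c : Fin (d + 1) → k, c ≠ 0 → ∀ z ∈ Z,
        StalkTw.NV (EszStep.comb w (fun i => Coh.toGlobal (X ↘ Spec (CommRingCat.of k)) (c i))) z := by
  obtain ⟨e⟩ := hL
  obtain ⟨a, s, g, G, f, hG, -, hZG, hg, hf⟩ := AmpleSec.exists_sections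
    (Coh.toGlobal (X ↘ Spec (CommRingCat.of k)) : k →+* Γ(X, ⊤)) hamp Z hZ hZc
  refine ⟨a + 1, Nat.succ_pos a, fun d => ⟨fun i => mono e s g d i (Nat.lt_succ_iff.mp i.2), fun c hc z hz => ?_⟩⟩
  exact nv_comb e (Coh.toGlobal (X ↘ Spec (CommRingCat.of k)) : k →+* Γ(X, ⊤)) hG hg (hZG hz) (hf z hz) d c hc

end Groth.Agent.Sga2.NegSecOf
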