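import Groth.Agent.Sga2.PnSumCoh
import Mathlib.CategoryTheory.Preadditive.LeftExact

/-!
# Resolutions by sums of twisting modules and dimension shifting
-/

set_option autoImplicit false
universe u

open CategoryTheory CategoryTheory.Limits AlgebraicGeometry Opposite TopologicalSpace

namespace Groth.Agent.Sga2.PnShift

open Groth.Agent.CohqB.HomSheaf Groth.Agent.Sga2.PnHomAdj Groth.Agent.Sga2.PnHomExact
open Groth.Agent.PerfB.TwistDer Groth.Agent.Sga2.PnTwHom Groth.Agent.Sga2.PnCoprod Groth.Agent.Sga2.PnHHDelta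
open Groth.Agent.Sga2.PnSumCoh Groth.Agent.Sga2.PnDeltaFun

variable (r : ℕ) (k : Type u)

theorem delta_subsingleton_iff {C : Type*} [Category C] [Abelian C] {k : Type*} [CommRing k]
    {H : ℕ → C ⥤ ModuleCat k} (D : Delta H) {S : ShortComplex C} (hS : S.ShortExact) (n : ℕ)
    (h : Subsingleton ((H n).obj S.X₂)) :
    Subsingleton ((H n).obj S.X₃) ↔ Function.Injective ((H (n + 1)).map S.f).hom := by
  constructor
  · intro hsub
    exact D.injective_f hS n
  · intro hinj
    refine subsingleton_of_forall_eq 0 fun y => ?_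
    have h2 : D.δ hS n y = 0 := by
      apply hinj
      rw [map_zero]
      exact (D.exact₁ hS n _).mpr ⟨y, rfl⟩
    obtain ⟨z, rfl⟩ := (D.exact₃ hS n y).mp h2
    rw [Subsingleton.elim z 0, map_zero]

section Res

variable [CommRing k]

/-- A resolution of `K 0` by finite sums of `O(d)`, `d < 0`. -/
structure Res (K L : ℕ → (CohB1.ProjSpace r k).Modules) where
  f : ∀ t, K (t + 1) ⟶ L t
  g : ∀ t, L t ⟶ K t
  w : ∀ t, f t ≫ g t = 0
  coh : ∀ t, Coh.IsCoh (K t)
  sum : ∀ t, ∃ (m : ℕ) (d : Fin m → ℤ), (∀ j, d j ≤ -1) ∧ L t = ∐ fun j => tw r k (d j)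
  ex : ∀ t, (ShortComplex.mk (f t) (g t) (w t)).ShortExact

end Res

theorem exists_res [Field k] (hpres : ∀ G : (CohB1.ProjSpace r k).Modules, Coh.IsCoh G →
      ∃ (m : ℕ) (d : Fin m → ℤ), (∀ j, d j ≤ -1) ∧ ∃ φ : (∐ fun j : Fin m => tw r k (d j)) ⟶ G, Epi φ)
    (hcoh : ∀ {G H : (CohB1.ProjSpace r k).Modules} (φ : G ⟶ H), Coh.IsCoh G → Coh.IsCoh H →
      Coh.IsCoh (kernel φ))
    (hsum : ∀ {m : ℕ} (d : Fin m → ℤ), Coh.IsCoh (∐ fun j => tw r k (d j)))
    (F : (CohB1.ProjSpace r k).Modules) (hF : Coh.IsCoh F) :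
    ∃ (K L : ℕ → (CohB1.ProjSpace r k).Modules) (_ : Res r k K L), K 0 = F := by
  choose m d hd φ hφ using hpres
  let KK : ℕ → {G : (CohB1.ProjSpace r k).Modules // Coh.IsCoh G} := fun t =>
    Nat.rec ⟨F, hF⟩ (fun _ G => ⟨kernel (φ G.1 G.2), hcoh _ (hsum _) G.2⟩) t
  refine ⟨fun t => (KK t).1, fun t => ∐ fun j => tw r k (d (KK t).1 (KK t).2 j),
    { f := fun t => kernel.ι (φ (KK t).1 (KK t).2)
      g := fun t => φ (KK t).1 (KK t).2
      w := fun t => kernel.condition _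
      coh := fun t => (KK t).2
      sum := fun t => ⟨_, _, hd _ _, rfl⟩
      ex := fun t => ?_ }, rfl⟩
  have := hφ (KK t).1 (KK t).2
  exact ShortComplex.ShortExact.mk (ShortComplex.exact_kernel _)

variable [CommRing k]

/-- The twists of a short exact sequence. -/
theorem shortExact_twM {S : ShortComplex (CohB1.ProjSpace r k).Modules} (hS : S.ShortExact) (m : ℤ) :
    (S.map (twM r k m)).ShortExact :=
  hS.map_of_exact (twM r k m)

/-- `H^i((⊕ O(d_j))(-m)) = 0` for `i < r`, `d_j < 0`, `m ≥ 0`. -/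
theorem subsingleton_twM_sum {s : ℕ} (d : Fin s → ℤ) (hd : ∀ j, d j ≤ -1) (m : ℤ) (hm : 0 ≤ m) (i : ℕ)
    (hi : i < r) : Subsingleton ((hF k (CohB1.ProjSpace r k) i).obj
      ((twM r k (-m)).obj (∐ fun j => tw r k (d j)))) :=
  subsingleton_of_decomp (twM r k (-m) ⋙ hF k (CohB1.ProjSpace r k) i) (fun j => tw r k (d j)) _ _ (sum_π_ι _)
    fun j => subsingleton_of_iso r k i (twMul r k (d j) (-m) (d j + -m) rfl)
      (subsingleton_tw r k _ (by have := hd j; omega) i hi)

variable {r k} {K L : ℕ → (CohB1.ProjSpace r k).Modules} (R : Res r k K L)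

include R in
theorem Res.subsingleton (t : ℕ) (m : ℤ) (hm : 0 ≤ m) (i : ℕ) (hi : i < r) :
    Subsingleton ((hF k (CohB1.ProjSpace r k) i).obj ((twM r k (-m)).obj (L t))) := by
  obtain ⟨s, d, hd, hL⟩ := R.sum t
  rw [hL]
  exact subsingleton_twM_sum r k d hd m hm i hi

include R in
/-- One step of the dimension shift. -/
theorem Res.step (t : ℕ) (m : ℤ) (hm : 0 ≤ m) (i : ℕ) (hi : i + 1 < r) :
    Subsingleton ((hF k (CohB1.ProjSpace r k) i).obj ((twM r k (-m)).obj (K t))) ↔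
      Subsingleton ((hF k (CohB1.ProjSpace r k) (i + 1)).obj ((twM r k (-m)).obj (K (t + 1)))) := by
  have h1 := R.subsingleton t m hm i (by omega)
  have h2 := R.subsingleton t m hm (i + 1) hi
  have hS := shortExact_twM r k (R.ex t) (-m)
  have e : (hF k (CohB1.ProjSpace r k) i).obj ((twM r k (-m)).obj (K t)) ≃ₗ[k]
      (hF k (CohB1.ProjSpace r k) (i + 1)).obj ((twM r k (-m)).obj (K (t + 1))) :=
    @Delta.equivδ _ _ _ k _ _ (delta k (CohB1.ProjSpace r k)) _ hS i h1 h2
  exact e.toEquiv.subsingleton_congr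

include R in
/-- The dimension shift. -/
theorem Res.shift (m : ℤ) (hm : 0 ≤ m) (j : ℕ) : ∀ (t i : ℕ) (_ : i + j < r),
    (Subsingleton ((hF k (CohB1.ProjSpace r k) i).obj ((twM r k (-m)).obj (K t))) ↔
      Subsingleton ((hF k (CohB1.ProjSpace r k) (i + j)).obj ((twM r k (-m)).obj (K (t + j))))) := by
  induction j with
  | zero => intro t i _; exact Iff.rfl
  | succ j ih =>
    intro t i hi
    rw [R.step t m hm i (by omega), ih (t + 1) (i + 1) (by omega),
      show i + 1 + j = i + (j + 1) by omega, show t + 1 + j = t + (j + 1) by omega]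

/-- The last step: the map on `H^r`. -/
theorem Res.last (t : ℕ) (m : ℤ) (hm : 0 ≤ m) (i : ℕ) (hi : i + 1 = r) :
    Subsingleton ((hF k (CohB1.ProjSpace r k) i).obj ((twM r k (-m)).obj (K t))) ↔
      Function.Injective ((hF k (CohB1.ProjSpace r k) (i + 1)).map ((twM r k (-m)).map (R.f t))).hom :=
  delta_subsingleton_iff (delta k (CohB1.ProjSpace r k)) (shortExact_twM r k (R.ex t) (-m)) i
    (R.subsingleton t m hm i (by omega))

/-- `H^i(F(-m)) = 0` iff `H^r(K_{j+1}(-m)) → H^r(L_j(-m))` is injective, `i + j + 1 = r`. -/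
theorem Res.main (m : ℤ) (hm : 0 ≤ m) (i j : ℕ) (hi : i + j + 1 = r) :
    Subsingleton ((hF k (CohB1.ProjSpace r k) i).obj ((twM r k (-m)).obj (K 0))) ↔
      Function.Injective ((hF k (CohB1.ProjSpace r k) r).map ((twM r k (-m)).map (R.f j))).hom := by
  rw [R.shift m hm j 0 i (by omega), Nat.zero_add, R.last j m hm (i + j) hi]
  subst hi
  rfl

end Groth.Agent.Sga2.PnShift
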