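import Groth.Agent.Sga2.PnSumCoh
import Groth.Agent.Sga2.PnDeltaFun
import Groth.Agent.S0022

/-!
# Dimension shifting along resolutions by sums of negative twists on projective space
-/

set_option autoImplicit false
universe w v u u'

open CategoryTheory CategoryTheory.Limits AlgebraicGeometry

namespace Groth.Agent.Sga2.PnShift0

open Groth.Agent.Sga2.PnDeltaFun Groth.Agent.Sga2.PnHHDelta Groth.Agent.Sga2.PnSumCoh
open Groth.Agent.Sga2.PnCoprod Groth.Agent.PerfB.TwistDer

section Abs

variable {C : Type u} [Category.{v} C] [Abelian C] {k : Type u'} [CommRing k]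
  {H : ℕ → C ⥤ ModuleCat.{w} k} (D : Delta H)
  (K L : ℕ → C) (f : ∀ t, K (t + 1) ⟶ L t) (g : ∀ t, L t ⟶ K t) (w : ∀ t, f t ≫ g t = 0)
  (hS : ∀ t, (ShortComplex.mk (f t) (g t) (w t)).ShortExact)

include D hS

theorem base_iff (n t : ℕ) (h : Subsingleton ((H n).obj (L t))) :
    Subsingleton ((H n).obj (K t)) ↔ Function.Injective ((H (n + 1)).map (f t)).hom := by
  constructor
  · intro h1
    exact D.injective_f (hS t) n
  · intro h1
    refine subsingleton_of_forall_eq 0 fun x => ?_
    have h2 : D.δ (hS t) n x = 0 := by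
      apply h1
      rw [map_zero]
      exact (D.exact₁ (hS t) n _).mpr ⟨x, rfl⟩
    obtain ⟨y, hy⟩ := (D.exact₃ (hS t) n x).mp h2
    rw [← hy]
    have h3 : y = 0 := @Subsingleton.elim _ h _ _
    rw [h3, map_zero]

theorem step_iff (n t : ℕ) (h : Subsingleton ((H n).obj (L t))) (h' : Subsingleton ((H (n + 1)).obj (L t))) :
    Subsingleton ((H n).obj (K t)) ↔ Subsingleton ((H (n + 1)).obj (K (t + 1))) := by
  have h1 : Subsingleton ((H n).obj (ShortComplex.mk (f t) (g t) (w t)).X₂) := h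
  have h2 : Subsingleton ((H (n + 1)).obj (ShortComplex.mk (f t) (g t) (w t)).X₂) := h'
  exact (Equiv.ofBijective _ (D.bijective_δ (hS t) n)).subsingleton_congr

theorem shift_iff_aux (r : ℕ) (hL : ∀ t i, i < r → Subsingleton ((H i).obj (L t))) (j : ℕ) :
    ∀ n t s : ℕ, n + j + 1 = r → s = t + j →
      (Subsingleton ((H n).obj (K t)) ↔ Function.Injective ((H r).map (f s)).hom) := by
  induction j with
  | zero =>
    intro n t s hn hs
    obtain rfl : t = s := by omega
    obtain rfl : n + 1 = r := by omega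
    exact base_iff D K L f g w hS n t (hL t n (by omega))
  | succ j ih =>
    intro n t s hn hs
    rw [step_iff D K L f g w hS n t (hL t n (by omega)) (hL t (n + 1) (by omega))]
    exact ih (n + 1) (t + 1) s (by omega) (by omega)

end Abs

variable (r : ℕ) (k : Type u) [Field k]

/-- `H^i = 0` for `i > r` on `P^r_k`. -/
theorem subsingleton_of_lt {G : (CohB1.ProjSpace r k).Modules} (hG : Coh.IsQCoh G) (i : ℕ) (hi : r < i) :
    Subsingleton ((hF k (CohB1.ProjSpace r k) i).obj G) := by
  have := hG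
  exact S0022.result r k G i hi

theorem subsingleton_twM_tw (m : ℤ) (hm : 0 ≤ m) (d : ℤ) (hd : d < 0) (i : ℕ) (hi : i < r) :
    Subsingleton ((hF k (CohB1.ProjSpace r k) i).obj ((twM r k (-m)).obj (tw r k d))) :=
  subsingleton_of_iso r k i (twMul r k d (-m) (d + -m) rfl) (subsingleton_tw r k (d + -m) (by omega) i hi)

theorem subsingleton_twM_sum (m : ℤ) (hm : 0 ≤ m) {n : ℕ} (d : Fin n → ℤ) (hd : ∀ j, d j < 0)
    (i : ℕ) (hi : i < r) :
    Subsingleton ((hF k (CohB1.ProjSpace r k) i).obj ((twM r k (-m)).obj (∐ fun j => tw r k (d j)))) :=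
  subsingleton_of_decomp (twM r k (-m) ⋙ hF k (CohB1.ProjSpace r k) i) (fun j => tw r k (d j)) _ _
    (sum_π_ι _) fun j => subsingleton_twM_tw r k m hm (d j) (hd j) i hi

variable {r k}

/-- Dimension shifting for a resolution by sums of negative twists, after any non-positive twist. -/
theorem shift_iff' (K L : ℕ → (CohB1.ProjSpace r k).Modules) (f : ∀ t, K (t + 1) ⟶ L t)
    (g : ∀ t, L t ⟶ K t) (w : ∀ t, f t ≫ g t = 0)
    (hS : ∀ t, (ShortComplex.mk (f t) (g t) (w t)).ShortExact)
    (hsum : ∀ t, ∃ (n : ℕ) (d : Fin n → ℤ), (∀ j, d j < 0) ∧ L t = ∐ fun j => tw r k (d j))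
    (j : ℕ) (hj : j + 1 ≤ r) (m : ℤ) (hm : 0 ≤ m) :
    Subsingleton ((hF k (CohB1.ProjSpace r k) (r - (j + 1))).obj ((twM r k (-m)).obj (K 0))) ↔
      Function.Injective ((hF k (CohB1.ProjSpace r k) r).map ((twM r k (-m)).map (f j))).hom := by
  refine shift_iff_aux (H := fun n => hF k (CohB1.ProjSpace r k) n) (delta k (CohB1.ProjSpace r k))
    (fun t => (twM r k (-m)).obj (K t)) (fun t => (twM r k (-m)).obj (L t))
    (fun t => (twM r k (-m)).map (f t)) (fun t => (twM r k (-m)).map (g t))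
    (fun t => by rw [← Functor.map_comp, w, Functor.map_zero])
    (fun t => (hS t).map_of_exact (twM r k (-m))) r ?_ j (r - (j + 1)) 0 j (by omega) (by omega)
  intro t i hi
  obtain ⟨n, d, hd, e⟩ := hsum t
  rw [e]
  exact subsingleton_twM_sum r k m hm d hd i hi

end Groth.Agent.Sga2.PnShift0
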