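import Groth.Agent.Sga2.PnCoprod
import Groth.Agent.S0844

/-!
# Vanishing of the cohomology of sums of twisting modules and of their duals
-/

set_option autoImplicit false
universe u

open CategoryTheory CategoryTheory.Limits AlgebraicGeometry Opposite TopologicalSpace

namespace Groth.Agent.Sga2.PnSumCoh

open Groth.Agent.CohqB.HomSheaf Groth.Agent.Sga2.PnHomAdj Groth.Agent.Sga2.PnHomExact
open Groth.Agent.PerfB.TwistDer Groth.Agent.Sga2.PnTwHom Groth.Agent.Sga2.PnCoprod Groth.Agent.Sga2.PnHHDelta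

variable (n : ℕ) (k : Type u) [CommRing k]

/-- The dualizing module. -/
noncomputable abbrev om : (CohB1.ProjSpace n k).Modules := tw n k (-((n : ℤ) + 1))

theorem subsingleton_tw (d : ℤ) (hd : d < 0) (i : ℕ) (hi : i < n) :
    Subsingleton ((hF k (CohB1.ProjSpace n k) i).obj (tw n k d)) :=
  S0844.result k n d i (by omega) (by omega)

theorem subsingleton_tw_pos (d : ℤ) (hd : -((n : ℤ) + 1) < d) (i : ℕ) (hi : 0 < i) :
    Subsingleton ((hF k (CohB1.ProjSpace n k) i).obj (tw n k d)) :=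
  S0844.result k n d i (by omega) (by omega)

/-- `H^i(⊕ O(d_j)) = 0` for `i < n` and all `d_j < 0`. -/
theorem subsingleton_sum {m : ℕ} (d : Fin m → ℤ) (hd : ∀ j, d j < 0) (i : ℕ) (hi : i < n) :
    Subsingleton ((hF k (CohB1.ProjSpace n k) i).obj (∐ fun j => tw n k (d j))) :=
  subsingleton_of_decomp _ (fun j => tw n k (d j)) _ _ (sum_π_ι _)
    fun j => subsingleton_tw n k (d j) (hd j) i hi

theorem subsingleton_of_iso (i : ℕ) {M N : (CohB1.ProjSpace n k).Modules} (e : M ≅ N)
    (h : Subsingleton ((hF k (CohB1.ProjSpace n k) i).obj N)) :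
    Subsingleton ((hF k (CohB1.ProjSpace n k) i).obj M) :=
  (((hF k (CohB1.ProjSpace n k) i).mapIso e).toLinearEquiv.toEquiv.subsingleton_congr).mpr h

/-- `H^i(Hom(⊕ O(d_j), ω)) = 0` for `i > 0` and all `d_j < 0`. -/
theorem subsingleton_homSheaf_sum {m : ℕ} (d : Fin m → ℤ) (hd : ∀ j, d j < 0) (i : ℕ) (hi : 0 < i) :
    Subsingleton ((hF k (CohB1.ProjSpace n k) i).obj (homSheaf (∐ fun j => tw n k (d j)) (om n k))) :=
  subsingleton_of_decomp _ (fun j => homSheaf (tw n k (d j)) (om n k)) _ _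
    (sum_homMapLeft (fun j => tw n k (d j)) (om n k))
    fun j => subsingleton_of_iso n k i (homSheafTw n k (d j) (-((n : ℤ) + 1)) _ rfl)
      (subsingleton_tw_pos n k _ (by have := hd j; omega) i hi)

end Groth.Agent.Sga2.PnSumCoh
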