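import Mathlib.Algebra.Category.Ring.Constructions
import Mathlib.RingTheory.Ideal.Maps

/-!
Pushouts of surjective ring maps.
-/

set_option autoImplicit false
universe u

open CategoryTheory CategoryTheory.Limits

namespace Groth.Agent.Sga2.PushoutSurj

variable {R R' S S' : CommRingCat.{u}} {f : R ⟶ R'} {g : R ⟶ S} {f' : R' ⟶ S'} {g' : S ⟶ S'}

theorem surjective_of_isPushout (h : IsPushout f g f' g') (hf : Function.Surjective f) :
    Function.Surjective g' := by
  have h1 := CommRingCat.closure_range_union_range_eq_top_of_isPushout h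
  intro x
  have hx : x ∈ Subring.closure (Set.range f' ∪ Set.range g') := by rw [h1]; trivial
  have hle : Subring.closure (Set.range f' ∪ Set.range g') ≤ g'.hom.range := by
    rw [Subring.closure_le]
    rintro _ (⟨y, rfl⟩ | ⟨y, rfl⟩)
    · obtain ⟨z, rfl⟩ := hf y
      exact ⟨g z, congr($(h.w.symm) z)⟩
    · exact ⟨y, rfl⟩
  exact hle hx

theorem ker_le_of_isPushout (h : IsPushout f g f' g') (hf : Function.Surjective f) :
    RingHom.ker g'.hom ≤ (RingHom.ker f.hom).map g.hom := by
  let I := (RingHom.ker f.hom).map g.hom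
  let q : S ⟶ CommRingCat.of (S ⧸ I) := CommRingCat.ofHom (Ideal.Quotient.mk I)
  have hk : RingHom.ker f.hom ≤ RingHom.ker ((Ideal.Quotient.mk I).comp g.hom) := by
    intro x hx
    rw [RingHom.mem_ker, RingHom.comp_apply, Ideal.Quotient.eq_zero_iff_mem]
    exact Ideal.mem_map_of_mem _ hx
  let l : R' ⟶ CommRingCat.of (S ⧸ I) :=
    CommRingCat.ofHom (f.hom.liftOfSurjective hf ⟨(Ideal.Quotient.mk I).comp g.hom, hk⟩)
  have hl : f ≫ l = g ≫ q := by
    ext x
    exact f.hom.liftOfSurjective_comp_apply hf ⟨(Ideal.Quotient.mk I).comp g.hom, hk⟩ x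
  intro s hs
  have h1 : (g' ≫ h.desc l q hl) s = q s := by rw [h.inr_desc]
  have h2 : (g' ≫ h.desc l q hl) s = 0 := by
    have hs' : g' s = 0 := hs
    rw [CommRingCat.comp_apply, hs', map_zero]
  exact Ideal.Quotient.eq_zero_iff_mem.mp (h1.symm.trans h2)

end Groth.Agent.Sga2.PushoutSurj
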