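import Groth.Agent.Sga2.FnSec
import Groth.Agent.Sga2.FreeLoc
import Groth.Agent.Sga2.PushoutSurj
import Groth.Agent.CohqA.AffineBaseChange
import Groth.Agent.Grpsch.FibRank
import Mathlib.AlgebraicGeometry.Morphisms.FlatRank

/-!
Finite flat covers of the punctured spectrum: local bases, reduction modulo an ideal.
-/

set_option autoImplicit false
universe u

open CategoryTheory CategoryTheory.Limits AlgebraicGeometry Opposite TopologicalSpace

namespace Groth.Agent.Sga2.PuncFEt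

open Groth.Agent.Fdesc.LocGen Groth.Agent.Sga2.PuncSections Groth.Agent.Sga2.PuncRed
  Groth.Agent.Sga2.FnSec Groth.Agent.Sga2.FreeLoc

section

variable {A : Type u} [CommRing A] [IsLocalRing A] {V : Scheme.{u}} (π : V ⟶ P A)

/-- `A → Γ(V)`. -/
noncomputable def rhoV : A →+* Γ(V, ⊤) := π.appTop.hom.comp (rho A)

lemma rhoV_apply (a : A) : rhoV π a = π.appTop (rho A a) := rfl

lemma basicOpen_rhoV (a : A) : V.basicOpen (rhoV π a) = π ⁻¹ᵁ (P A).basicOpen (rho A a) := by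
  rw [rhoV_apply, Scheme.preimage_basicOpen_top]

lemma resA_rhoV (D : (P A).Opens) (a : A) :
    resA (rhoV π) (π ⁻¹ᵁ D) a = π.app D (resA (rho A) D a) := by
  have h := π.naturality (homOfLE (le_top : D ≤ ⊤)).op
  exact congr($h (rho A a)).symm

lemma isAffineOpen_basicOpen {a : A} (ha : a ∈ IsLocalRing.maximalIdeal A) :
    IsAffineOpen ((P A).basicOpen (rho A a)) := by
  rw [basicOpen_rho]
  apply (IsAffineOpen.Spec_basicOpen (R := .of A) a).preimage_of_isOpenImmersion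
  rw [Scheme.Opens.opensRange_ι]
  exact basicOpen_le_punctured A ha

theorem isLocalizedModule_gens {a : A} (ha : a ∈ IsLocalRing.maximalIdeal A) {D : (P A).Opens}
    (hD : D = (P A).basicOpen (rho A a)) {r : ℕ} (e : Fin r → Γ(V, π ⁻¹ᵁ D))
    (he : Function.Bijective (fun v : Fin r → Γ(P A, D) => ∑ j, π.app D (v j) * e j)) :
    ∃ l : (Fin r → A) →ₗ[A] Fn (rhoV π) (π ⁻¹ᵁ D), IsLocalizedModule.Away a l := by
  obtain ⟨h1, h2⟩ := loc_punctured A ha hD
  let l : (Fin r → A) →ₗ[A] Fn (rhoV π) (π ⁻¹ᵁ D) :=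
    Fintype.linearCombination A (fun j => toFn (rhoV π) (π ⁻¹ᵁ D) (e j))
  have hl : ∀ v, l v = toFn (rhoV π) (π ⁻¹ᵁ D) (∑ j, π.app D (resA (rho A) D (v j)) * e j) := by
    intro v
    rw [Fintype.linearCombination_apply, map_sum]
    refine Finset.sum_congr rfl fun j _ => ?_
    rw [smul_eq, resA_rhoV]
    rfl
  refine ⟨l, ?_⟩
  have hle : π ⁻¹ᵁ D ≤ V.basicOpen (rhoV π a) := by rw [basicOpen_rhoV, hD]
  refine IsLocalizedModule.Away.mk_of_addCommGroup (isUnit_end (rhoV π) hle) ?_ ?_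
  · intro s
    obtain ⟨v, hv⟩ := he.2 ((toFn (rhoV π) (π ⁻¹ᵁ D)).symm s)
    choose n c hc using fun j => h1 (v j)
    obtain ⟨N, hN⟩ : ∃ N, ∀ k, n k ≤ N :=
      ⟨Finset.univ.sup n, fun k => Finset.le_sup (Finset.mem_univ k)⟩
    refine ⟨N, fun j => a ^ (N - n j) * c j, ?_⟩
    rw [hl, smul_eq, ← hv, Finset.mul_sum]
    congr 1
    refine Finset.sum_congr rfl fun j _ => ?_
    rw [resA_rhoV, map_mul, ← hc, map_pow, map_pow, map_pow, ← mul_assoc, ← mul_assoc, ← pow_add,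
      Nat.sub_add_cancel (hN j), map_mul, map_pow]
  · intro v hv
    rw [hl] at hv
    have h3 : (∑ j, π.app D (resA (rho A) D (v j)) * e j) =
        ∑ j, π.app D ((0 : Fin r → Γ(P A, D)) j) * e j := by
      have h4 : (∑ j, π.app D (resA (rho A) D (v j)) * e j) = 0 :=
        (toFn (rhoV π) (π ⁻¹ᵁ D)).injective (hv.trans (map_zero _).symm)
      rw [h4]
      symm
      refine Finset.sum_eq_zero fun j _ => ?_
      rw [Pi.zero_apply, map_zero, zero_mul]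
    have h5 := he.1 h3
    choose n hn using fun j => h2 (v j) (congrFun h5 j)
    obtain ⟨N, hN⟩ : ∃ N, ∀ k, n k ≤ N :=
      ⟨Finset.univ.sup n, fun k => Finset.le_sup (Finset.mem_univ k)⟩
    refine ⟨N, ?_⟩
    ext j
    rw [Pi.smul_apply, smul_eq_mul, ← Nat.sub_add_cancel (hN j), pow_add, mul_assoc, hn, mul_zero,
      Pi.zero_apply]

theorem exists_gens [IsNoetherianRing A] [IsFinite π] [Flat π] {r : ℕ} (p : P A)
    (hr : π.finrank p = r) : ∃ a ∈ IsLocalRing.maximalIdeal A, p ∈ (P A).basicOpen (rho A a) ∧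
      ∃ e : Fin r → Γ(V, π ⁻¹ᵁ ((P A).basicOpen (rho A a))), Function.Bijective
        (fun v : Fin r → Γ(P A, (P A).basicOpen (rho A a)) => ∑ j, π.app _ (v j) * e j) := by
  obtain ⟨D₀, hD₀, hp, -⟩ := exists_isAffineOpen_mem_and_subset (X := P A) (x := p) (U := ⊤) trivial
  have : IsNoetherianRing Γ(P A, D₀) := IsLocallyNoetherian.component_noetherian ⟨D₀, hD₀⟩
  let q : PrimeSpectrum Γ(P A, D₀) := hD₀.primeIdealOf ⟨p, hp⟩
  have hq : hD₀.fromSpec q = p := hD₀.fromSpec_primeIdealOf ⟨p, hp⟩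
  let _ : Algebra Γ(P A, D₀) Γ(V, π ⁻¹ᵁ D₀) := (π.app D₀).hom.toAlgebra
  have hfin : Module.Finite Γ(P A, D₀) Γ(V, π ⁻¹ᵁ D₀) := π.finite_app D₀ hD₀
  have hflat : Module.Flat Γ(P A, D₀) Γ(V, π ⁻¹ᵁ D₀) := by
    have := π.flat_appLE hD₀ (hD₀.preimage π) le_rfl
    rw [Scheme.Hom.appLE_eq_app] at this
    exact this
  have hrk : Module.rankAtStalk (R := Γ(P A, D₀)) Γ(V, π ⁻¹ᵁ D₀) q = r := by
    have h1 := Scheme.Hom.finrank_of_isPullback _ _ _ _ (Grpsch.FibRank.isPullback_fromSpec π hD₀) q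
    rw [hq, hr] at h1
    rw [← h1]
    exact (Scheme.Hom.finrank_SpecMap_algebraMap Γ(P A, D₀) Γ(V, π ⁻¹ᵁ D₀) q).symm
  obtain ⟨h, hh, hF⟩ := exists_freeAt q hrk
  have hph : p ∈ (P A).basicOpen h := by
    have h1 : q ∈ hD₀.fromSpec ⁻¹ᵁ ((P A).basicOpen h) := by
      rw [hD₀.fromSpec_preimage_basicOpen]
      exact hh
    have h2 : hD₀.fromSpec q ∈ (P A).basicOpen h := h1
    rwa [hq] at h2
  obtain ⟨a, ha, hpa, hle⟩ := exists_basicOpen_le A p _ hph
  refine ⟨a, ha, hpa, ?_⟩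
  have hDD : (P A).basicOpen (rho A a) ≤ D₀ := hle.trans ((P A).basicOpen_le h)
  have hsq : IsPullback (𝟙 V) π π (𝟙 (P A)) := IsPullback.of_horiz_isIso ⟨by simp⟩
  have hpo := CohqA.AffineBaseChange.isPushout_appLE hsq hD₀ (isAffineOpen_basicOpen ha)
    (V' := (P A).basicOpen (rho A a)) (by exact hDD)
  rw [Scheme.Hom.appLE_eq_app, Scheme.Hom.appLE_eq_app] at hpo
  let R := Γ(P A, D₀)
  let R' := Γ(P A, (P A).basicOpen (rho A a))
  let S := Γ(V, π ⁻¹ᵁ D₀)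
  let S' := Γ(V, π ⁻¹ᵁ (P A).basicOpen (rho A a))
  let f : R ⟶ R' := (𝟙 (P A) : P A ⟶ P A).appLE D₀ ((P A).basicOpen (rho A a)) hDD
  let g : S ⟶ S' := (𝟙 V : V ⟶ V).appLE (π ⁻¹ᵁ D₀) (π ⁻¹ᵁ (P A).basicOpen (rho A a))
    (π.preimage_mono hDD)
  have hpo' : IsPushout f (π.app D₀) (π.app ((P A).basicOpen (rho A a))) g := hpo
  let _ : Algebra R R' := f.hom.toAlgebra
  let _ : Algebra R' S' := (π.app ((P A).basicOpen (rho A a))).hom.toAlgebra
  let _ : Algebra S S' := g.hom.toAlgebra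
  let _ : Algebra R S' := (f ≫ π.app ((P A).basicOpen (rho A a))).hom.toAlgebra
  have ht1 : IsScalarTower R R' S' := IsScalarTower.of_algebraMap_eq fun _ => rfl
  have ht2 : IsScalarTower R S S' := IsScalarTower.of_algebraMap_eq fun x => congr($(hpo'.w) x)
  have hap : Algebra.IsPushout R R' S S' := CommRingCat.isPushout_iff_isPushout.mp hpo'
  have hu : IsUnit (algebraMap R R' h) := by
    have h1 : algebraMap R R' h = ores hDD h := by
      change f h = _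
      have : f = (P A).presheaf.map (homOfLE hDD).op := by
        change (𝟙 (P A) : P A ⟶ P A).app D₀ ≫ _ = _
        rw [Scheme.Hom.id_app]
        exact Category.id_comp _
      rw [this]
      rfl
    rw [h1]
    have h2 := (RingedSpace.isUnit_res_basicOpen (P A).toRingedSpace h).map (ores hle)
    change IsUnit (ores hle (ores ((P A).basicOpen_le h) h)) at h2
    rwa [ores_ores] at h2
  exact exists_bijective_of_freeAt _ hap.out hF hu

theorem exists_cover_gens [IsNoetherianRing A] [IsFinite π] [Flat π] {r : ℕ}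
    (hr : ∀ p, π.finrank p = r) :
    ∃ (ι : Type u) (_ : Finite ι) (g : ι → A), (∀ i, g i ∈ IsLocalRing.maximalIdeal A) ∧
      (⊤ ≤ ⨆ i, (P A).basicOpen (rho A (g i))) ∧
      ∀ i, ∃ l : (Fin r → A) →ₗ[A] Fn (rhoV π) (π ⁻¹ᵁ (P A).basicOpen (rho A (g i))),
        IsLocalizedModule.Away (g i) l := by
  choose a ha hp e he using fun p => exists_gens π p (hr p)
  have := compactSpace_P A
  obtain ⟨t, ht⟩ := isCompact_univ.elim_finite_subcover
    (fun p : P A => ((P A).basicOpen (rho A (a p)) : Set (P A)))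
    (fun p => ((P A).basicOpen (rho A (a p))).isOpen)
    (fun p _ => Set.mem_iUnion.mpr ⟨p, hp p⟩)
  refine ⟨t, inferInstance, fun i => a i.1, fun i => ha _, ?_, fun i =>
    isLocalizedModule_gens π (ha i.1) rfl (e i.1) (he i.1)⟩
  intro p _
  obtain ⟨q, hq⟩ := Set.mem_iUnion₂.mp (ht (Set.mem_univ p))
  exact Opens.mem_iSup.mpr ⟨⟨q, hq.1⟩, hq.2⟩

end

section Red

variable {A : Type u} [CommRing A] [IsLocalRing A] (J : Ideal A) [IsLocalRing (A ⧸ J)]

lemma mk_mem_maximalIdeal {a : A} (ha : a ∈ IsLocalRing.maximalIdeal A) :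
    Ideal.Quotient.mk J a ∈ IsLocalRing.maximalIdeal (A ⧸ J) := by
  rw [IsLocalRing.mem_maximalIdeal] at ha ⊢
  intro hu
  have : IsLocalHom (Ideal.Quotient.mk J) := Ideal.Quotient.mk_surjective.isLocalHom
  exact ha (isUnit_of_map_unit (Ideal.Quotient.mk J) a hu)

theorem inc_app_surjective {a : A} (ha : a ∈ IsLocalRing.maximalIdeal A) {D : (P A).Opens}
    (hD : D = (P A).basicOpen (rho A a)) : Function.Surjective ((inc A J).app D) := by
  have hD' : inc A J ⁻¹ᵁ D = (P (A ⧸ J)).basicOpen (rho (A ⧸ J) (Ideal.Quotient.mk J a)) := by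
    rw [hD, inc_preimage_basicOpen]
  intro y
  obtain ⟨n, c, hc⟩ := (loc_punctured (A ⧸ J) (mk_mem_maximalIdeal J ha) hD').1 y
  obtain ⟨c, rfl⟩ := Ideal.Quotient.mk_surjective c
  have hu : IsUnit (resA (rho A) D a) := isUnit_resA (rho A) hD.le
  have hu' := (hu.map ((inc A J).app D).hom).pow n
  refine ⟨((hu.pow n).unit⁻¹ : Γ(P A, D)ˣ) * resA (rho A) D c, ?_⟩
  apply hu'.mul_left_cancel
  have e1 : ((inc A J).app D).hom (resA (rho A) D a) ^ n =
      (inc A J).app D (resA (rho A) D a ^ n) := (map_pow _ _ _).symm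
  rw [e1]
  change (inc A J).app D (resA (rho A) D a ^ n) * (inc A J).app D _ = _
  rw [← map_mul, ← mul_assoc, IsUnit.mul_val_inv, one_mul, map_pow, inc_app_resA, inc_app_resA, hc]

theorem inc_app_ker {a : A} (ha : a ∈ IsLocalRing.maximalIdeal A) {D : (P A).Opens}
    (hD : D = (P A).basicOpen (rho A a)) :
    RingHom.ker ((inc A J).app D).hom ≤ J.map (resA (rho A) D) := by
  have hD' : inc A J ⁻¹ᵁ D = (P (A ⧸ J)).basicOpen (rho (A ⧸ J) (Ideal.Quotient.mk J a)) := by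
    rw [hD, inc_preimage_basicOpen]
  intro x hx
  have hx' : (inc A J).app D x = 0 := hx
  obtain ⟨n, c, hc⟩ := (loc_punctured A ha hD).1 x
  have h1 := congrArg ((inc A J).app D) hc
  rw [map_mul, hx', mul_zero, inc_app_resA] at h1
  obtain ⟨k, hk⟩ := (loc_punctured (A ⧸ J) (mk_mem_maximalIdeal J ha) hD').2 _ h1.symm
  rw [← map_pow, ← map_mul, Ideal.Quotient.eq_zero_iff_mem] at hk
  have hu : IsUnit (resA (rho A) D a) := isUnit_resA (rho A) hD.le
  have h2 : resA (rho A) D a ^ (k + n) * x ∈ J.map (resA (rho A) D) := by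
    rw [pow_add, mul_assoc, hc, ← map_pow, ← map_mul]
    exact Ideal.mem_map_of_mem _ hk
  rwa [Ideal.unit_mul_mem_iff_mem _ (hu.pow _)] at h2

variable {J} {V V₀ : Scheme.{u}} {κ : V₀ ⟶ V} {π : V ⟶ P A} {π₀ : V₀ ⟶ P (A ⧸ J)}
  (H : IsPullback κ π₀ π (inc A J))

include H in
lemma kappa_rhoV (a : A) : κ.appTop (rhoV π a) = rhoV π₀ (Ideal.Quotient.mk J a) := by
  have h1 := congr($(congrArg Scheme.Hom.appTop H.w) (rho A a))
  rw [Scheme.Hom.comp_appTop, Scheme.Hom.comp_appTop] at h1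
  rw [rhoV_apply, rhoV_apply, ← inc_appTop_rho]
  exact h1

include H in
/-- the square of rings over `D(a)`. -/
theorem isPushout_red [IsAffineHom π] {a : A} (ha : a ∈ IsLocalRing.maximalIdeal A)
    {D : (P A).Opens} (hD : D = (P A).basicOpen (rho A a)) :
    ∃ k : Γ(V, π ⁻¹ᵁ D) ⟶ Γ(V₀, π₀ ⁻¹ᵁ (inc A J ⁻¹ᵁ D)),
      (∀ x : Γ(V, ⊤), k (ores le_top x) = ores le_top (κ.appTop x)) ∧
      IsPushout ((inc A J).app D) (π.app D) (π₀.app (inc A J ⁻¹ᵁ D)) k := by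
  have haff : IsAffineOpen D := hD ▸ isAffineOpen_basicOpen ha
  have haff' : IsAffineOpen (inc A J ⁻¹ᵁ D) := by
    rw [hD, inc_preimage_basicOpen]
    exact isAffineOpen_basicOpen (mk_mem_maximalIdeal J ha)
  have hpo := CohqA.AffineBaseChange.isPushout_appLE H haff haff' le_rfl
  rw [Scheme.Hom.appLE_eq_app, Scheme.Hom.appLE_eq_app, Scheme.Hom.appLE_eq_app] at hpo
  refine ⟨_, fun x => ?_, hpo⟩
  have h1 := κ.map_appLE (U := π ⁻¹ᵁ D) (V := π₀ ⁻¹ᵁ (inc A J ⁻¹ᵁ D)) (U' := ⊤)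
    (CohqA.AffineBaseChange.preimage_le H.w _ _ le_rfl) (homOfLE le_top).op
  have h2 := κ.appLE_map (U := ⊤) (V := κ ⁻¹ᵁ ⊤) (V' := π₀ ⁻¹ᵁ (inc A J ⁻¹ᵁ D)) le_rfl
    (homOfLE le_top).op
  rw [Scheme.Hom.appLE_eq_app] at h2
  exact congr($(h1.trans h2.symm) x)

variable [CompactSpace V] [QuasiSeparatedSpace V]

/-- lift from `J Γ(D(a))` to `J Γ` -/
theorem exists_smul_top {a : A} {D : (P A).Opens} (hD : D = (P A).basicOpen (rho A a))
    (x : Fn (rhoV π) (π ⁻¹ᵁ D)) (hx : x ∈ J • (⊤ : Submodule A (Fn (rhoV π) (π ⁻¹ᵁ D)))) :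
    ∃ N : ℕ, ∃ y ∈ J • (⊤ : Submodule A (Fn (rhoV π) ⊤)),
      a ^ N • x = resF (rhoV π) le_top y := by
  have hl := isLocalizedModule_resF (rhoV π) a (D := π ⁻¹ᵁ D) (by rw [basicOpen_rhoV, hD])
  induction hx using Submodule.smul_induction_on' with
  | smul j hj x _ =>
    obtain ⟨n, t, ht⟩ := IsLocalizedModule.Away.surj
      (resF (rhoV π) (le_top : π ⁻¹ᵁ D ≤ ⊤)).toLinearMap a x
    refine ⟨n, j • t, Submodule.smul_mem_smul hj trivial, ?_⟩
    rw [map_smul, smul_comm, ht]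
    rfl
  | add x _ x' _ h1 h2 =>
    obtain ⟨N, y, hy, h1⟩ := h1
    obtain ⟨N', y', hy', h2⟩ := h2
    refine ⟨N + N', a ^ N' • y + a ^ N • y', Submodule.add_mem _ (Submodule.smul_mem _ _ hy)
      (Submodule.smul_mem _ _ hy'), ?_⟩
    rw [map_add, map_smul, map_smul, ← h1, ← h2, smul_smul, smul_smul, ← pow_add, ← pow_add,
      smul_add, add_comm N' N]

include H in
theorem exists_pow_smul_mem [IsAffineHom π] {a : A} (ha : a ∈ IsLocalRing.maximalIdeal A)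
    (m : Fn (rhoV π) ⊤) (hm : κ.appTop ((toFn (rhoV π) ⊤).symm m) = 0) :
    ∃ s : ℕ, a ^ s • m ∈ J • (⊤ : Submodule A (Fn (rhoV π) ⊤)) := by
  obtain ⟨k, hk, hpo⟩ := isPushout_red H ha (D := (P A).basicOpen (rho A a)) rfl
  have h1 : k (ores le_top ((toFn (rhoV π) ⊤).symm m)) = 0 := by rw [hk, hm, map_zero]
  have h2 := PushoutSurj.ker_le_of_isPushout hpo (inc_app_surjective J ha rfl) h1
  have h3 := Ideal.map_mono (f := (π.app ((P A).basicOpen (rho A a))).hom)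
    (inc_app_ker J ha (D := (P A).basicOpen (rho A a)) rfl) h2
  rw [Ideal.map_map] at h3
  have h4 : resF (rhoV π) (le_top : π ⁻¹ᵁ ((P A).basicOpen (rho A a)) ≤ ⊤) m ∈
      J • (⊤ : Submodule A (Fn (rhoV π) (π ⁻¹ᵁ ((P A).basicOpen (rho A a))))) := by
    rw [Ideal.smul_top_eq_map]
    have e : (algebraMap A (Fn (rhoV π) (π ⁻¹ᵁ ((P A).basicOpen (rho A a))))) =
        (π.app ((P A).basicOpen (rho A a))).hom.comp (resA (rho A) ((P A).basicOpen (rho A a))) := by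
      ext x
      exact resA_rhoV π _ x
    rw [e]
    exact h3
  obtain ⟨N, y, hy, h5⟩ := exists_smul_top (D := (P A).basicOpen (rho A a)) rfl _ h4
  have hl := isLocalizedModule_resF (rhoV π) a (D := π ⁻¹ᵁ ((P A).basicOpen (rho A a)))
    (basicOpen_rhoV π a).symm
  have h6 : (resF (rhoV π) (le_top : π ⁻¹ᵁ ((P A).basicOpen (rho A a)) ≤ ⊤)).toLinearMap
      (a ^ N • m) = (resF (rhoV π) (le_top : π ⁻¹ᵁ ((P A).basicOpen (rho A a)) ≤ ⊤)).toLinearMap y := by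
    rw [map_smul]
    exact h5
  obtain ⟨M, hM⟩ := IsLocalizedModule.Away.exists_of_eq a h6
  refine ⟨M + N, ?_⟩
  rw [pow_add, mul_smul, hM]
  exact Submodule.smul_mem _ _ hy

include H in
theorem exists_appTop_eq [IsAffineHom π] [CompactSpace V₀] [QuasiSeparatedSpace V₀] {a : A}
    (ha : a ∈ IsLocalRing.maximalIdeal A) (v : Fn (rhoV π₀) ⊤) :
    ∃ (s : ℕ) (m : Fn (rhoV π) ⊤), toFn (rhoV π₀) ⊤ (κ.appTop ((toFn (rhoV π) ⊤).symm m)) =
      (Ideal.Quotient.mk J a) ^ s • v := by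
  obtain ⟨k, hk, hpo⟩ := isPushout_red H ha (D := (P A).basicOpen (rho A a)) rfl
  obtain ⟨s, hs⟩ := PushoutSurj.surjective_of_isPushout hpo (inc_app_surjective J ha rfl)
    (ores le_top ((toFn (rhoV π₀) ⊤).symm v))
  have hl := isLocalizedModule_resF (rhoV π) a (D := π ⁻¹ᵁ ((P A).basicOpen (rho A a)))
    (basicOpen_rhoV π a).symm
  obtain ⟨n, t, ht⟩ := IsLocalizedModule.Away.surj
      (resF (rhoV π) (le_top : π ⁻¹ᵁ ((P A).basicOpen (rho A a)) ≤ ⊤)).toLinearMap a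
      (toFn (rhoV π) _ s)
  have e1 : k (resA (rhoV π) _ a) = resA (rhoV π₀) _ (Ideal.Quotient.mk J a) := by
    change k (ores le_top (rhoV π a)) = ores le_top (rhoV π₀ (Ideal.Quotient.mk J a))
    rw [hk, kappa_rhoV H]
  have e2 : resA (rhoV π) (π ⁻¹ᵁ ((P A).basicOpen (rho A a))) a ^ n * s =
      ores le_top ((toFn (rhoV π) ⊤).symm t) := by
    rw [smul_eq, map_pow] at ht
    exact (toFn (rhoV π) _).injective ht
  have e3 := congrArg k e2
  rw [map_mul, map_pow, e1, hs, hk] at e3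
  have hD' : π₀ ⁻¹ᵁ (inc A J ⁻¹ᵁ ((P A).basicOpen (rho A a))) =
      V₀.basicOpen (rhoV π₀ (Ideal.Quotient.mk J a)) := by
    rw [basicOpen_rhoV, inc_preimage_basicOpen]
  have hl' := isLocalizedModule_resF (rhoV π₀) (Ideal.Quotient.mk J a) hD'
  have e4 : (resF (rhoV π₀) (le_top : π₀ ⁻¹ᵁ (inc A J ⁻¹ᵁ ((P A).basicOpen (rho A a))) ≤ ⊤)).toLinearMap
      (Ideal.Quotient.mk J a ^ n • v) =
      (resF (rhoV π₀) (le_top : π₀ ⁻¹ᵁ (inc A J ⁻¹ᵁ ((P A).basicOpen (rho A a))) ≤ ⊤)).toLinearMap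
      (toFn (rhoV π₀) ⊤ (κ.appTop ((toFn (rhoV π) ⊤).symm t))) := by
    rw [map_smul, smul_eq, map_pow]
    exact congrArg (toFn (rhoV π₀) _) e3
  obtain ⟨M, hM⟩ := IsLocalizedModule.Away.exists_of_eq (Ideal.Quotient.mk J a) e4
  refine ⟨M + n, a ^ M • t, ?_⟩
  rw [pow_add, mul_smul, hM]
  have e5 : (toFn (rhoV π) ⊤).symm (a ^ M • t) = rhoV π a ^ M * (toFn (rhoV π) ⊤).symm t := by
    rw [Algebra.smul_def, map_mul, map_pow, algebraMap_top, map_pow, RingEquiv.symm_apply_apply]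
  rw [e5, map_mul, map_pow, kappa_rhoV H, map_mul, map_pow, Algebra.smul_def, map_pow, algebraMap_top]

end Red

end Groth.Agent.Sga2.PuncFEt
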