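import Groth.Agent.Sga2.PuncSections
import Groth.Agent.Pi1A.DepthPunctured

/-!
The closed immersion of the punctured spectrum of `A/J` in the punctured spectrum of `A`, functions on a punctured
spectrum of depth at least two, and finite covers of the punctured spectrum by basic opens with generators.
-/

set_option autoImplicit false
universe u

open CategoryTheory CategoryTheory.Limits AlgebraicGeometry Opposite TopologicalSpace

namespace Groth.Agent.Sga2.PuncRed

open Groth.Agent.Fdesc.LocGen Groth.Agent.Sga2.PuncSections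

section Functions

variable (B : Type u) [CommRing B] [IsLocalRing B]

theorem rho_bijective (hB : (2 : ℕ∞) ≤ LocCoh.depth B B) : Function.Bijective (rho B) := by
  have h1 : Function.Bijective ((FEt.puncturedSpec B).ι.app ⊤) := by
    rw [Pi1A.DepthTwo.bijective_app_iff]
    have h := Pi1A.DepthPunctured.bijective_res_puncturedSpec B hB (𝟙 (Spec (.of B))) ⊤
    rw [Scheme.Opens.opensRange_ι]
    exact h
  have h2 : Function.Bijective ((Scheme.ΓSpecIso (.of B)).inv) :=
    ConcreteCategory.bijective_of_isIso _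
  exact h1.comp h2

end Functions

section Inc

variable (A : Type u) [CommRing A] [IsLocalRing A] (J : Ideal A) [IsLocalRing (A ⧸ J)]

lemma comap_mem_punctured (q : PrimeSpectrum (A ⧸ J)) (hq : q ∈ FEt.puncturedSpec (A ⧸ J)) :
    PrimeSpectrum.comap (Ideal.Quotient.mk J) q ∈ FEt.puncturedSpec A := by
  intro h
  have h1 : q.asIdeal.comap (Ideal.Quotient.mk J) = IsLocalRing.maximalIdeal A :=
    congrArg PrimeSpectrum.asIdeal h
  have h2 : q.asIdeal = (IsLocalRing.maximalIdeal A).map (Ideal.Quotient.mk J) := by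
    rw [← h1, Ideal.map_comap_of_surjective _ Ideal.Quotient.mk_surjective]
  have h3 : q.asIdeal.IsMaximal := by
    have := Ideal.map_eq_top_or_isMaximal_of_surjective (Ideal.Quotient.mk J)
      Ideal.Quotient.mk_surjective (IsLocalRing.maximalIdeal.isMaximal A)
    rw [← h2] at this
    exact this.resolve_left q.isPrime.ne_top
  exact hq (PrimeSpectrum.ext (IsLocalRing.eq_maximalIdeal h3))

/-- The morphism of punctured spectra. -/
theorem exists_inc : ∃ i : P (A ⧸ J) ⟶ P A,
    i ≫ (FEt.puncturedSpec A).ι =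
      (FEt.puncturedSpec (A ⧸ J)).ι ≫ Spec.map (CommRingCat.ofHom (Ideal.Quotient.mk J)) := by
  refine ⟨IsOpenImmersion.lift (FEt.puncturedSpec A).ι ((FEt.puncturedSpec (A ⧸ J)).ι ≫
    Spec.map (CommRingCat.ofHom (Ideal.Quotient.mk J))) ?_, IsOpenImmersion.lift_fac _ _ _⟩
  rintro _ ⟨x, rfl⟩
  rw [Scheme.Opens.range_ι]
  exact comap_mem_punctured A J _ x.2

/-- The morphism of punctured spectra. -/
noncomputable def inc : P (A ⧸ J) ⟶ P A := (exists_inc A J).choose

lemma inc_ι : inc A J ≫ (FEt.puncturedSpec A).ι =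
      (FEt.puncturedSpec (A ⧸ J)).ι ≫ Spec.map (CommRingCat.ofHom (Ideal.Quotient.mk J)) :=
  (exists_inc A J).choose_spec

lemma inc_appTop_rho (a : A) :
    (inc A J).appTop (rho A a) = rho (A ⧸ J) (Ideal.Quotient.mk J a) := by
  have h1 : (inc A J ≫ (FEt.puncturedSpec A).ι).appTop =
      ((FEt.puncturedSpec (A ⧸ J)).ι ≫ Spec.map (CommRingCat.ofHom (Ideal.Quotient.mk J))).appTop := by
    rw [inc_ι]
  have h2 := congr($h1 ((Scheme.ΓSpecIso (.of A)).inv a))
  rw [Scheme.Hom.comp_appTop, Scheme.Hom.comp_appTop] at h2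
  have h3 := congr($(Scheme.ΓSpecIso_inv_naturality (CommRingCat.ofHom (Ideal.Quotient.mk J))) a)
  rw [rho_apply, rho_apply]
  refine Eq.trans ?_ (h2.trans ?_)
  · rfl
  · exact congrArg (FEt.puncturedSpec (A ⧸ J)).ι.appTop h3.symm

lemma inc_preimage_basicOpen (a : A) : inc A J ⁻¹ᵁ ((P A).basicOpen (rho A a)) =
    (P (A ⧸ J)).basicOpen (rho (A ⧸ J) (Ideal.Quotient.mk J a)) := by
  rw [Scheme.preimage_basicOpen_top, inc_appTop_rho]

lemma inc_app_resA (D : (P A).Opens) (a : A) :
    (inc A J).app D (resA (rho A) D a) =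
      resA (rho (A ⧸ J)) (inc A J ⁻¹ᵁ D) (Ideal.Quotient.mk J a) := by
  have h := (inc A J).naturality (homOfLE (le_top : D ≤ ⊤)).op
  have h2 := congr($h (rho A a))
  refine Eq.trans h2 ?_
  rw [resA, RingHom.comp_apply, ← inc_appTop_rho]
  rfl

end Inc

section Cover

variable (A : Type u) [CommRing A] [IsLocalRing A] 

theorem compactSpace_P [IsNoetherianRing A] : CompactSpace (P A) := by
  have : NoetherianSpace (PrimeSpectrum A) := inferInstance
  have h : IsCompact (show Set (PrimeSpectrum A) from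
      ((FEt.puncturedSpec A : (Spec (.of A)).Opens) : Set (Spec (.of A)))) :=
    TopologicalSpace.NoetherianSpace.isCompact _
  exact isCompact_iff_compactSpace.mp h

theorem exists_basicOpen_le (p : P A) (U : (P A).Opens) (hp : p ∈ U) :
    ∃ a ∈ IsLocalRing.maximalIdeal A, p ∈ (P A).basicOpen (rho A a) ∧
      (P A).basicOpen (rho A a) ≤ U := by
  have h1 : (FEt.puncturedSpec A).ι p ∈ (FEt.puncturedSpec A).ι ''ᵁ U := ⟨p, hp, rfl⟩
  obtain ⟨_, ⟨_, ⟨a, rfl⟩, rfl⟩, hxa, haU⟩ :=
    (PrimeSpectrum.isBasis_basic_opens (R := A)).exists_subset_of_mem_open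
      (a := (FEt.puncturedSpec A).ι p)
      (u := (((FEt.puncturedSpec A).ι ''ᵁ U : (Spec (.of A)).Opens) : Set (Spec (.of A))))
      h1 ((FEt.puncturedSpec A).ι ''ᵁ U).2
  refine ⟨a, ?_, ?_, ?_⟩
  · by_contra ha
    have h2 : (IsLocalRing.closedPoint A) ∈ (PrimeSpectrum.basicOpen a : Set (PrimeSpectrum A)) := ha
    obtain ⟨q, -, hq⟩ := haU h2
    exact q.2 hq
  · rw [basicOpen_rho]
    exact hxa
  · rw [basicOpen_rho]
    intro q hq
    obtain ⟨q', hq', h3⟩ := haU hq
    have : q' = q := Subtype.ext h3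
    rwa [this] at hq'

/-- finite cover of the punctured spectrum by basic opens with generators. -/
theorem exists_cover [IsNoetherianRing A] (L : (P A).Modules) (hL : PicF.IsInvertible L) :
    ∃ (ι : Type u) (_ : Finite ι) (g : ι → A) (e : ∀ i, Γ(L, (P A).basicOpen (rho A (g i)))),
      (∀ i, g i ∈ IsLocalRing.maximalIdeal A) ∧ (⊤ ≤ ⨆ i, (P A).basicOpen (rho A (g i))) ∧
      ∀ i, IsGen (e i) := by
  rw [isInvertible_iff] at hL
  have h1 : ∀ p : P A, ∃ (a : A) (e : Γ(L, (P A).basicOpen (rho A a))),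
      a ∈ IsLocalRing.maximalIdeal A ∧ p ∈ (P A).basicOpen (rho A a) ∧ IsGen e := by
    intro p
    obtain ⟨U, e, hp, he⟩ := hL p
    obtain ⟨a, ha, hpa, haU⟩ := exists_basicOpen_le A p U hp
    exact ⟨a, res L haU e, ha, hpa, he.res haU⟩
  choose a e ha hp he using h1
  have := compactSpace_P A
  obtain ⟨t, ht⟩ := isCompact_univ.elim_finite_subcover
    (fun p : P A => ((P A).basicOpen (rho A (a p)) : Set (P A)))
    (fun p => ((P A).basicOpen (rho A (a p))).isOpen)
    (fun p _ => Set.mem_iUnion.mpr ⟨p, hp p⟩)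
  refine ⟨t, inferInstance, fun i => a i.1, fun i => e i.1, fun i => ha _, ?_, fun i => he _⟩
  intro p _
  obtain ⟨q, hq⟩ := Set.mem_iUnion₂.mp (ht (Set.mem_univ p))
  exact Opens.mem_iSup.mpr ⟨⟨q, hq.1⟩, hq.2⟩

/-- powers of `g i` generate an ideal with radical the maximal ideal. -/
theorem mem_radical_of_cover {ι : Type*} (g : ι → A)
    (h : ⊤ ≤ ⨆ i, (P A).basicOpen (rho A (g i))) (a : A) (ha : a ∈ IsLocalRing.maximalIdeal A) :
    a ∈ (Ideal.span (Set.range g)).radical := by
  rw [Ideal.radical_eq_sInf, Submodule.mem_sInf]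
  rintro q ⟨hq, hqp⟩
  by_cases hqm : (⟨q, hqp⟩ : PrimeSpectrum A) = IsLocalRing.closedPoint A
  · have : q = IsLocalRing.maximalIdeal A := congrArg PrimeSpectrum.asIdeal hqm
    rwa [this]
  · let p : P A := ⟨⟨q, hqp⟩, hqm⟩
    have hp : p ∈ ⨆ i, (P A).basicOpen (rho A (g i)) := h (trivial : p ∈ (⊤ : (P A).Opens))
    rw [Opens.mem_iSup] at hp
    obtain ⟨i, hi⟩ := hp
    rw [basicOpen_rho] at hi
    have hi' : g i ∉ q := hi
    exact absurd (hq (Ideal.subset_span ⟨i, rfl⟩)) hi'

end Cover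

end Groth.Agent.Sga2.PuncRed
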