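import Groth.Prelude.Def_FEt
import Groth.Agent.Fdesc.LocGenPullback
import Groth.Agent.Smoothlim.LineSec
import Mathlib.Algebra.Module.LocalizedModule.Away

/-!
Sections of invertible modules on a scheme `X` with a ring map `A → Γ(X, ⊤)`, as `A`-modules.
-/

set_option autoImplicit false
universe u

open CategoryTheory CategoryTheory.Limits AlgebraicGeometry Opposite TopologicalSpace

namespace Groth.Agent.Sga2.PuncSections

open Groth.Agent.Fdesc.LocGen

variable {A : Type u} [CommRing A] {X : Scheme.{u}} (ρ : A →+* Γ(X, ⊤))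

/-- Functions on `U` as an `A`-algebra. -/
noncomputable def resA (U : X.Opens) : A →+* Γ(X, U) := (ores le_top).comp ρ

lemma ores_resA {U V : X.Opens} (h : V ≤ U) (a : A) : ores h (resA ρ U a) = resA ρ V a := by
  simp [resA]

/-- Sections of `M` over `U` with their `A`-module structure. -/
def SecA (_ρ : A →+* Γ(X, ⊤)) (M : X.Modules) (U : X.Opens) : Type u := Γ(M, U)

noncomputable instance (M : X.Modules) (U : X.Opens) : AddCommGroup (SecA ρ M U) :=
  inferInstanceAs (AddCommGroup Γ(M, U))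

noncomputable instance (M : X.Modules) (U : X.Opens) : Module A (SecA ρ M U) :=
  Module.compHom Γ(M, U) (resA ρ U)

variable (M : X.Modules)

/-- the identity, from sections to sections. -/
noncomputable def toSec {U : X.Opens} : SecA ρ M U ≃+ Γ(M, U) := AddEquiv.refl _

lemma toSec_smul {U : X.Opens} (a : A) (m : SecA ρ M U) :
    toSec ρ M (a • m) = resA ρ U a • toSec ρ M m := rfl

/-- restriction of sections, `A`-linear. -/
noncomputable def resL {U V : X.Opens} (h : V ≤ U) : SecA ρ M U →ₗ[A] SecA ρ M V where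
  toFun m := (toSec ρ M).symm (res M h (toSec ρ M m))
  map_add' m n := by simp
  map_smul' a m := by
    rw [RingHom.id_apply]
    apply (toSec ρ M).injective
    rw [toSec_smul, AddEquiv.apply_symm_apply, toSec_smul, AddEquiv.apply_symm_apply, res_smul,
      ores_resA]

lemma toSec_resL {U V : X.Opens} (h : V ≤ U) (m : SecA ρ M U) :
    toSec ρ M (resL ρ M h m) = res M h (toSec ρ M m) := rfl

lemma isUnit_resA {a : A} {U : X.Opens} (hU : U ≤ X.basicOpen (ρ a)) : IsUnit (resA ρ U a) := by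
  have h1 : IsUnit (ores (X.basicOpen_le (ρ a)) (ρ a)) :=
    RingedSpace.isUnit_res_basicOpen X.toRingedSpace (ρ a)
  have h2 := h1.map (ores hU)
  rwa [ores_ores] at h2

lemma isUnit_end_of_isUnit {a : A} {U : X.Opens} (hU : IsUnit (resA ρ U a)) :
    IsUnit (algebraMap A (Module.End A (SecA ρ M U)) a) := by
  rw [Module.End.isUnit_iff]
  have : ⇑(algebraMap A (Module.End A (SecA ρ M U)) a) =
      fun m : SecA ρ M U => (toSec ρ M).symm (hU.unit • toSec ρ M m) := by
    funext m
    rfl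
  rw [this]
  exact (MulAction.bijective (α := Γ(X, U)ˣ) (β := Γ(M, U)) hU.unit)

theorem isLocalizedModule_resL [CompactSpace X] [QuasiSeparatedSpace X]
    (hM : PicF.IsInvertible M) (a : A) :
    IsLocalizedModule.Away a (resL ρ M (le_top : X.basicOpen (ρ a) ≤ ⊤)) := by
  refine IsLocalizedModule.Away.mk_of_addCommGroup
    (isUnit_end_of_isUnit ρ M (isUnit_resA ρ le_rfl)) ?_ ?_
  · intro s
    obtain ⟨n, t, ht⟩ := Smoothlim.LineSec.exists_extend hM (V := ⊤) isCompact_univ
      isQuasiSeparated_univ (ρ a) (toSec ρ M s)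
    refine ⟨n, (toSec ρ M).symm t, ?_⟩
    apply (toSec ρ M).injective
    rw [toSec_smul, toSec_resL, AddEquiv.apply_symm_apply, map_pow]
    exact ht.symm
  · intro t ht
    obtain ⟨n, hn⟩ := Smoothlim.LineSec.exists_pow_smul_eq_zero hM (V := ⊤) isCompact_univ
      (ρ a) (toSec ρ M t) (congrArg (toSec ρ M) ht)
    refine ⟨n, ?_⟩
    apply (toSec ρ M).injective
    rw [toSec_smul, map_pow, map_zero]
    have : resA ρ ⊤ a = ρ a := by simp [resA]
    rw [this]
    exact hn

/-! ### Punctured spectra -/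

section Punctured

variable (A) [IsLocalRing A]

/-- the punctured spectrum as a scheme. -/
noncomputable abbrev P : Scheme.{u} := ↑(FEt.puncturedSpec A)

/-- `A → Γ(punctured spectrum)`. -/
noncomputable def rho : A →+* Γ(P A, ⊤) :=
  ((Scheme.ΓSpecIso (.of A)).inv ≫ (FEt.puncturedSpec A).ι.appTop).hom

lemma rho_apply (a : A) : rho A a = (FEt.puncturedSpec A).ι.appTop ((Scheme.ΓSpecIso (.of A)).inv a) :=
  rfl

lemma basicOpen_rho (a : A) :
    (P A).basicOpen (rho A a) = (FEt.puncturedSpec A).ι ⁻¹ᵁ (PrimeSpectrum.basicOpen a) := by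
  rw [rho_apply, ← Scheme.preimage_basicOpen_top, basicOpen_eq_of_affine]

lemma basicOpen_le_punctured {a : A} (ha : a ∈ IsLocalRing.maximalIdeal A) :
    (PrimeSpectrum.basicOpen a : (Spec (.of A)).Opens) ≤ FEt.puncturedSpec A := by
  intro q hq hq'
  have hq'' : q = IsLocalRing.closedPoint A := hq'
  subst hq''
  exact hq ha

lemma resA_rho_preimage (W : (Spec (.of A)).Opens) (a : A) :
    resA (rho A) ((FEt.puncturedSpec A).ι ⁻¹ᵁ W) a = (FEt.puncturedSpec A).ι.app W
      (ores (le_top : W ≤ ⊤) ((Scheme.ΓSpecIso (.of A)).inv a)) := by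
  have h := (FEt.puncturedSpec A).ι.naturality (homOfLE (le_top : W ≤ ⊤)).op
  exact (congr($h ((Scheme.ΓSpecIso (.of A)).inv a))).symm

omit [IsLocalRing A] in
lemma loc_spec (a : A) :
    (∀ b : Γ(Spec (.of A), PrimeSpectrum.basicOpen a), ∃ (n : ℕ) (c : A),
      (ores le_top ((Scheme.ΓSpecIso (.of A)).inv a) : Γ(Spec (.of A), PrimeSpectrum.basicOpen a)) ^ n
        * b = ores le_top ((Scheme.ΓSpecIso (.of A)).inv c)) ∧
    ∀ c : A, (ores le_top ((Scheme.ΓSpecIso (.of A)).inv c) :
      Γ(Spec (.of A), PrimeSpectrum.basicOpen a)) = 0 → ∃ n : ℕ, a ^ n * c = 0 := by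
  have H := StructureSheaf.IsLocalization.to_basicOpen A a
  have e : ∀ c : A, (ores le_top ((Scheme.ΓSpecIso (.of A)).inv c) :
      Γ(Spec (.of A), PrimeSpectrum.basicOpen a)) =
      algebraMap A ((Spec.structureSheaf A).obj.obj (op <| PrimeSpectrum.basicOpen a)) c :=
    fun c => rfl
  constructor
  · intro b
    obtain ⟨⟨c, ⟨_, n, rfl⟩⟩, h⟩ := IsLocalization.surj (Submonoid.powers a)
      (S := (Spec.structureSheaf A).obj.obj (op <| PrimeSpectrum.basicOpen a)) b
    refine ⟨n, c, ?_⟩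
    rw [← map_pow, ← map_pow, mul_comm]
    exact h
  · intro c hc
    rw [e] at hc
    obtain ⟨⟨_, n, rfl⟩, h⟩ := (IsLocalization.map_eq_zero_iff (Submonoid.powers a)
      ((Spec.structureSheaf A).obj.obj (op <| PrimeSpectrum.basicOpen a)) c).1 hc
    exact ⟨n, h⟩

/-- functions on `D(a)` as fractions, for the punctured spectrum. -/
lemma loc_punctured {a : A} (ha : a ∈ IsLocalRing.maximalIdeal A) {D : (P A).Opens}
    (hD : D = (P A).basicOpen (rho A a)) :
    (∀ b : Γ(P A, D), ∃ (n : ℕ) (c : A), resA (rho A) D a ^ n * b = resA (rho A) D c) ∧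
    ∀ c : A, resA (rho A) D c = 0 → ∃ n : ℕ, a ^ n * c = 0 := by
  rw [basicOpen_rho] at hD
  subst hD
  have hiso : IsIso ((FEt.puncturedSpec A).ι.app (PrimeSpectrum.basicOpen a)) := by
    apply Scheme.Hom.isIso_app
    rw [Scheme.Opens.opensRange_ι]
    exact basicOpen_le_punctured A ha
  have hbij : Function.Bijective ((FEt.puncturedSpec A).ι.app (PrimeSpectrum.basicOpen a)) :=
    ConcreteCategory.bijective_of_isIso _
  obtain ⟨h1, h2⟩ := loc_spec A a
  constructor
  · intro b
    obtain ⟨b, rfl⟩ := hbij.2 b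
    obtain ⟨n, c, h⟩ := h1 b
    refine ⟨n, c, ?_⟩
    rw [resA_rho_preimage, resA_rho_preimage, ← h, map_mul, map_pow]
  · intro c hc
    rw [resA_rho_preimage] at hc
    exact h2 c (hbij.1 (hc.trans (map_zero _).symm))

lemma isLocalizedModule_gen {a : A} (ha : a ∈ IsLocalRing.maximalIdeal A) (M : (P A).Modules)
    {D : (P A).Opens} (hD : D = (P A).basicOpen (rho A a)) (e : Γ(M, D)) (he : IsGen e)
    (l : (Fin 1 → A) →ₗ[A] SecA (rho A) M D)
    (hl : ∀ v, toSec (rho A) M (l v) = resA (rho A) D (v 0) • e) : IsLocalizedModule.Away a l := by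
  obtain ⟨h1, h2⟩ := loc_punctured A ha hD
  refine IsLocalizedModule.Away.mk_of_addCommGroup
    (isUnit_end_of_isUnit (rho A) M (isUnit_resA (rho A) hD.le)) ?_ ?_
  · intro s
    obtain ⟨b, hb⟩ := he.exists_eq (toSec (rho A) M s)
    obtain ⟨n, c, hc⟩ := h1 b
    refine ⟨n, fun _ => c, ?_⟩
    apply (toSec (rho A) M).injective
    rw [hl, toSec_smul, hb, smul_smul, map_pow, hc]
  · intro v hv
    have h3 : resA (rho A) D (v 0) • e = (0 : Γ(P A, D)) • e := by
      rw [← hl, hv, map_zero, zero_smul]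
    obtain ⟨n, hn⟩ := h2 (v 0) (he.ext h3)
    refine ⟨n, ?_⟩
    ext j
    rw [Subsingleton.elim j 0]
    exact hn

/-- the generator map `A → Γ(M, D)`. -/
noncomputable def genL (M : (P A).Modules) {D : (P A).Opens} (e : Γ(M, D)) :
    (Fin 1 → A) →ₗ[A] SecA (rho A) M D :=
  (LinearMap.toSpanSingleton A (SecA (rho A) M D) ((toSec (rho A) M).symm e)) ∘ₗ
    (LinearMap.proj 0)

lemma toSec_genL (M : (P A).Modules) {D : (P A).Opens} (e : Γ(M, D)) (v : Fin 1 → A) :
    toSec (rho A) M (genL A M e v) = resA (rho A) D (v 0) • e := rfl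

end Punctured

end Groth.Agent.Sga2.PuncSections
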