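import Groth.Agent.Pi1A.ExtAlg
import Groth.Agent.Sga2.GrLoc
import Groth.Agent.Pi1B.RegPair
import Mathlib.RingTheory.Smooth.Fiber
import Mathlib.RingTheory.Finiteness.ModuleFinitePresentation
import Mathlib.RingTheory.Etale.Descent

/-!
# End game for SGA 2 XII 4.7 (purity): etaleness of the algebra of sections
-/

set_option autoImplicit false
universe u

open TensorProduct IsLocalRing

namespace Groth.Agent.Sga2.PurEnd759

/-- A finite algebra over a local ring which is unramified modulo an ideal `I ≠ ⊤` is unramified. -/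
theorem formallyUnramified_of_quot {A T : Type u} [CommRing A] [IsLocalRing A] [CommRing T]
    [Algebra A T] [Module.Finite A T] (I : Ideal A) (hI : I ≤ maximalIdeal A)
    (h : Algebra.FormallyUnramified (A ⧸ I) ((A ⧸ I) ⊗[A] T)) : Algebra.FormallyUnramified A T := by
  constructor
  let _ : Algebra T ((A ⧸ I) ⊗[A] T) := Algebra.TensorProduct.rightAlgebra
  have h1 : Subsingleton ((A ⧸ I) ⊗[A] Ω[T⁄A]) :=
    (KaehlerDifferential.tensorKaehlerEquivBase A (A ⧸ I) T ((A ⧸ I) ⊗[A] T)).subsingleton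
  have h2 : Module.Finite A Ω[T⁄A] := Module.Finite.trans T _
  have h3 : (⊤ : Submodule A Ω[T⁄A]) ≤ I • ⊤ := by
    have h4 := (TensorProduct.quotTensorEquivQuotSMul Ω[T⁄A] I).symm.subsingleton
    rw [Submodule.Quotient.subsingleton_iff] at h4
    exact h4.ge
  have h5 : (⊤ : Submodule A Ω[T⁄A]) = ⊥ :=
    Submodule.eq_bot_of_le_smul_of_le_jacobson_bot I _ h2.fg_top h3 (by
      rw [IsLocalRing.jacobson_eq_maximalIdeal ⊥ bot_ne_top]
      exact hI)
  exact (Submodule.subsingleton_iff A).mp ((subsingleton_iff_bot_eq_top).mp h5.symm)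

/-- A finite flat algebra of finite presentation over a local ring which is etale modulo an ideal `I ≠ ⊤` is
etale. -/
theorem etale_of_quot {A T : Type u} [CommRing A] [IsLocalRing A] [CommRing T]
    [Algebra A T] [Module.Finite A T] [Module.Free A T] (I : Ideal A) (hI : I ≤ maximalIdeal A)
    (h : Algebra.FormallyUnramified (A ⧸ I) ((A ⧸ I) ⊗[A] T)) : Algebra.Etale A T := by
  have h1 := formallyUnramified_of_quot I hI h
  have h2 : Module.FinitePresentation A T := Module.finitePresentation_of_projective A T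
  have h3 : Algebra.FinitePresentation A T := inferInstance
  exact Algebra.Etale.of_formallyUnramified_of_flat

open Groth.Agent.Pi1B.RegPair Groth.Agent.Sga2.GrKey

/-- A map of modules of depth two which is an isomorphism off `V(a, b)` is bijective. -/
theorem bijective_of_iso_off {A T : Type u} [CommRing A] [AddCommGroup T] [Module A T] {a b : A}
    (hA : ∀ x : A, a * x = 0 → x = 0) (hT : IsRegPair T a b) {r : ℕ}
    (φ : T →ₗ[A] (Fin r → A)) (hker : ∀ t, φ t = 0 → ∃ s : ℕ, a ^ s • t = 0)
    (hcoka : ∀ v, ∃ (s : ℕ) (t : T), φ t = a ^ s • v)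
    (hcokb : ∀ v, ∃ (s : ℕ) (t : T), φ t = b ^ s • v) : Function.Bijective φ := by
  have hinj : Function.Injective φ := by
    rw [injective_iff_map_eq_zero]
    intro t ht
    obtain ⟨s, hs⟩ := hker t ht
    exact (hT.pow_left s).reg t hs
  refine ⟨hinj, fun v ↦ ?_⟩
  obtain ⟨s, t, hst⟩ := hcoka v
  obtain ⟨s', t', hst'⟩ := hcokb v
  have h1 : b ^ s' • t = a ^ s • t' := hinj (by
    rw [map_smul, map_smul, hst, hst', smul_smul, smul_smul, mul_comm])
  obtain ⟨c, rfl⟩ := (hT.pow s s').reg₂ t t' h1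
  refine ⟨c, ?_⟩
  have hpow : ∀ (s : ℕ) (x : A), a ^ s * x = 0 → x = 0 := by
    intro s
    induction s with
    | zero => intro t ht; simpa using ht
    | succ n ih =>
      intro t ht
      rw [pow_succ, mul_assoc] at ht
      exact hA _ (ih _ ht)
  rw [map_smul] at hst
  funext j
  have h2 := congrFun hst j
  simp only [Pi.smul_apply, smul_eq_mul] at h2
  rw [← sub_eq_zero]
  exact hpow s _ (by rw [mul_sub, h2, sub_self])

/-- The end game: an algebra `T` of depth two with a map `φ : T → A^r` lifting (the coordinates of) a ring map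
`ψ : T → C` to an etale algebra `C ≅ (A/J)^r` over `A/J`, which is an isomorphism off `V(a, b)`, is etale. -/
theorem etale_of_lift {A T C : Type u} [CommRing A] [IsLocalRing A] [CommRing T] [Algebra A T]
    {J : Ideal A} (hJ : J ≠ ⊤) [CommRing C] [Algebra (A ⧸ J) C] [Algebra A C]
    [IsScalarTower A (A ⧸ J) C] [Algebra.FormallyUnramified (A ⧸ J) C]
    {a b : A} (hA : ∀ x : A, a * x = 0 → x = 0) (hT : IsRegPair T a b) {r : ℕ}
    (ψ : T →ₐ[A] C) (ε : C ≃ₗ[A ⧸ J] (Fin r → A ⧸ J))
    (φ : T →ₗ[A] (Fin r → A)) (hφ : ∀ t j, Ideal.Quotient.mk J (φ t j) = ε (ψ t) j)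
    (hker : ∀ t, φ t = 0 → ∃ s : ℕ, a ^ s • t = 0)
    (hcoka : ∀ v, ∃ (s : ℕ) (t : T), φ t = a ^ s • v)
    (hcokb : ∀ v, ∃ (s : ℕ) (t : T), φ t = b ^ s • v) : Algebra.Etale A T := by
  have hb := bijective_of_iso_off hA hT φ hker hcoka hcokb
  let e : T ≃ₗ[A] (Fin r → A) := LinearEquiv.ofBijective φ hb
  have hfin : Module.Finite A T := Module.Finite.equiv e.symm
  have hfree : Module.Free A T := Module.Free.of_equiv e.symm
  refine etale_of_quot J (IsLocalRing.le_maximalIdeal hJ) ?_
  let f : (A ⧸ J) ⊗[A] T →ₐ[A ⧸ J] C :=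
    Algebra.TensorProduct.lift (Algebra.ofId (A ⧸ J) C) ψ (fun _ _ ↦ mul_comm _ _)
  have hf1 : ∀ t : T, f (1 ⊗ₜ t) = ψ t := fun t ↦
    (Algebra.TensorProduct.lift_tmul (S := A ⧸ J) _ _ _ 1 t).trans (by rw [map_one, one_mul])
  have hone : ∀ x : (A ⧸ J) ⊗[A] T, ∃ t : T, x = 1 ⊗ₜ t := by
    intro x
    induction x with
    | zero => exact ⟨0, by simp⟩
    | tmul q t =>
      obtain ⟨q, rfl⟩ := Ideal.Quotient.mk_surjective q
      refine ⟨q • t, ?_⟩
      rw [TensorProduct.tmul_smul, TensorProduct.smul_tmul', Algebra.smul_def, mul_one]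
      rfl
    | add x y hx hy =>
      obtain ⟨t, rfl⟩ := hx
      obtain ⟨t', rfl⟩ := hy
      exact ⟨t + t', (TensorProduct.tmul_add _ _ _).symm⟩
  have hf : Function.Bijective f := by
    constructor
    · rw [injective_iff_map_eq_zero]
      intro x hx
      obtain ⟨t, rfl⟩ := hone x
      rw [hf1] at hx
      have h1 : ∀ j, φ t j ∈ J := by
        intro j
        rw [← Ideal.Quotient.eq_zero_iff_mem, hφ, hx, map_zero]
        rfl
      have h2 : t = ∑ j, φ t j • e.symm (Pi.single j 1) := by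
        apply e.injective
        rw [map_sum]
        simp only [map_smul, LinearEquiv.apply_symm_apply]
        change φ t = _
        funext k
        simp [Finset.sum_apply, Pi.single_apply]
      rw [h2, TensorProduct.tmul_sum]
      refine Finset.sum_eq_zero fun j _ ↦ ?_
      rw [TensorProduct.tmul_smul, TensorProduct.smul_tmul', Algebra.smul_def, mul_one]
      have h3 : algebraMap A (A ⧸ J) (φ t j) = 0 := Ideal.Quotient.eq_zero_iff_mem.mpr (h1 j)
      rw [h3, TensorProduct.zero_tmul]
    · intro c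
      choose v hv using fun j ↦ Ideal.Quotient.mk_surjective (ε c j)
      refine ⟨1 ⊗ₜ e.symm v, ?_⟩
      rw [hf1]
      apply ε.injective
      funext j
      rw [← hφ, ← hv j]
      have h1 : φ (e.symm v) = v := e.apply_symm_apply v
      rw [h1]
  exact Algebra.FormallyUnramified.of_equiv (AlgEquiv.ofBijective f hf).symm

end Groth.Agent.Sga2.PurEnd759
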