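import Groth.Agent.Fdesc.LocGenTensor
import Groth.Agent.Fdesc.LocGenPullback
import Groth.Agent.Picfga.LineCocycle

/-!
# Rank one matrices: extending an invertible module from `Y` to an open neighbourhood in `X`

`i : Y ⟶ X`, `Q`, `Q'` invertible on `Y`, `R` invertible on `X`, `θ : Q ⊗ Q' ≅ i^* R`.  If there are sections
`u p` of `Q` and `v q` of `Q'`, generating at every point, with products `θ (u p ⊗ v q)` coming from sections
`a p q` of `R`, and if `Γ(X, R ⊗ R) → Γ(Y, i^* (R ⊗ R))` is injective, then there is an invertible module `M` on an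
open neighbourhood of the image of `Y` with `i^* M ≅ Q`.
-/

set_option autoImplicit false

universe u

open CategoryTheory AlgebraicGeometry TopologicalSpace Opposite

namespace Groth.Agent.Sga2.RankOne

open Groth.Agent.Fdesc.LocGen

variable {X Y : Scheme.{u}}

lemma res_ext_of_forall (M : X.Modules) {V : X.Opens} {a b : Γ(M, V)}
    (h : ∀ x ∈ V, ∃ (W : X.Opens) (hW : W ≤ V), x ∈ W ∧ res M hW a = res M hW b) : a = b := by
  choose W hW hx hW' using h
  exact res_ext M (fun x : V => W x.1 x.2) (fun x => hW x.1 x.2)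
    (fun x hxV => Opens.mem_iSup.mpr ⟨⟨x, hxV⟩, hx x hxV⟩) (fun x => hW' x.1 x.2)

/-- local generators near a point, inside a given open -/
lemma exists_gen_le {L : X.Modules} (hL : PicF.IsInvertible L) (x : X) (W : X.Opens)
    (hx : x ∈ W) : ∃ (V : X.Opens) (_ : V ≤ W) (e : Γ(L, V)), x ∈ V ∧ IsGen e := by
  obtain ⟨V, e, hxV, he⟩ := (isInvertible_iff L).mp hL x
  exact ⟨V ⊓ W, inf_le_right, res L inf_le_left e, ⟨hxV, hx⟩, he.res inf_le_left⟩

lemma isGen_of_tmul {Q Q' : Y.Modules} (hQ : PicF.IsInvertible Q) (hQ' : PicF.IsInvertible Q')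
    {V : Y.Opens} {m : Γ(Q, V)} {n : Γ(Q', V)} (h : IsGen (tmul m n)) : IsGen m := by
  rw [isGen_iff_forall_exists]
  intro x hx
  obtain ⟨W, hW, q, hxW, hq⟩ := exists_gen_le hQ x V hx
  obtain ⟨W', hW', q', hxW', hq'⟩ := exists_gen_le hQ' x W hxW
  obtain ⟨a, ha⟩ := (hq.res hW').exists_eq (res Q (hW'.trans hW) m)
  obtain ⟨b, hb⟩ := hq'.exists_eq (res Q' (hW'.trans hW) n)
  refine ⟨W', hW'.trans hW, hxW', ?_⟩
  have h1 := h.res (hW'.trans hW)
  rw [res_tmul, ha, hb, smul_tmul, tmul_smul, smul_smul, ((hq.res hW').tmul hq').smul_iff] at h1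
  rw [ha]
  exact (hq.res hW').unit_smul (isUnit_of_mul_isUnit_left h1)

lemma tmul_cancel {Q Q' : Y.Modules} (hQ : PicF.IsInvertible Q) {V : Y.Opens} {m m' : Γ(Q, V)}
    {n : Γ(Q', V)} (hn : IsGen n) (h : tmul m n = tmul m' n) : m = m' := by
  refine res_ext_of_forall Q fun x hx => ?_
  obtain ⟨W, hW, q, hxW, hq⟩ := exists_gen_le hQ x V hx
  obtain ⟨a, ha⟩ := hq.exists_eq (res Q hW m)
  obtain ⟨b, hb⟩ := hq.exists_eq (res Q hW m')
  refine ⟨W, hW, hxW, ?_⟩
  have h1 := congrArg (res (CohB1.tensorMod Q Q') hW) h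
  rw [res_tmul, res_tmul, ha, hb, smul_tmul, smul_tmul] at h1
  rw [ha, hb, (hq.tmul (hn.res hW)).ext h1]

/-- tensor products of sections of an invertible module commute -/
lemma tmul_comm_of_isInvertible {R : X.Modules} (hR : PicF.IsInvertible R) {V : X.Opens}
    (m n : Γ(R, V)) : tmul m n = tmul n m := by
  refine res_ext_of_forall _ fun x hx => ?_
  obtain ⟨W, hW, q, hxW, hq⟩ := exists_gen_le hR x V hx
  obtain ⟨a, ha⟩ := hq.exists_eq (res R hW m)
  obtain ⟨b, hb⟩ := hq.exists_eq (res R hW n)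
  refine ⟨W, hW, hxW, ?_⟩
  rw [res_tmul, res_tmul, ha, hb, smul_tmul, tmul_smul, smul_tmul, tmul_smul, smul_smul,
    smul_smul, mul_comm]

variable (i : Y ⟶ X) {R : X.Modules} {Q Q' : Y.Modules} (hR : PicF.IsInvertible R)
  (hQ : PicF.IsInvertible Q) (hQ' : PicF.IsInvertible Q')
  (θ : CohB1.tensorMod Q Q' ≅ (Scheme.Modules.pullback i).obj R)
  {ι κ : Type u} (u : ι → Γ(Q, ⊤)) (v : κ → Γ(Q', ⊤)) (a : ι → κ → Γ(R, ⊤))
  (hθ : ∀ p q, θ.hom.app ⊤ (tmul (u p) (v q)) = pullTop i (a p q))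
  (hinj : ∀ s t : Γ(CohB1.tensorMod R R, ⊤), pullTop i s = pullTop i t → s = t)

include hR hQ hQ' hθ in
lemma pullTop_minor (p k : ι) (q l : κ) :
    pullTop i (tmul (a p q) (a k l)) = pullTop i (tmul (a p l) (a k q)) := by
  refine res_ext_of_forall _ fun y _ => ?_
  obtain ⟨V', e, hyV', he⟩ := (isInvertible_iff R).mp hR (i y)
  obtain ⟨V₁, hV₁, x₀, hy₁, hx₀⟩ := exists_gen_le hQ y (i ⁻¹ᵁ V') hyV'
  obtain ⟨V, hV, y₀, hy, hy₀⟩ := exists_gen_le hQ' y V₁ hy₁
  have hx₀' := hx₀.res hV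
  have hVV' : V ≤ i ⁻¹ᵁ V' := hV.trans hV₁
  refine ⟨V, le_top, hy, ?_⟩
  have hpe : IsGen (res _ hVV' (pullSec i e)) := (he.pullSec i).res hVV'
  obtain ⟨γ, hγ⟩ := hpe.exists_eq (θ.hom.app V (tmul (res Q hV x₀) y₀))
  choose x hx using fun p => hx₀'.exists_eq (res Q (le_top : V ≤ ⊤) (u p))
  choose w hw using fun q => hy₀.exists_eq (res Q' (le_top : V ≤ ⊤) (v q))
  choose α hα using fun p q => he.exists_eq (res R (le_top : V' ≤ ⊤) (a p q))
  have key : ∀ p q, ores hVV' (i.app V' (α p q)) = x p * w q * γ := fun p q => by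
    apply hpe.ext
    have h1 := congrArg (res _ (le_top : V ≤ ⊤)) (hθ p q)
    rw [← app_res, res_tmul, hx, hw, smul_tmul, tmul_smul, Scheme.Modules.Hom.app_smul,
      Scheme.Modules.Hom.app_smul, hγ, smul_smul, smul_smul] at h1
    have h2 : res _ (le_top : V ≤ ⊤) (pullTop i (a p q)) =
        ores hVV' (i.app V' (α p q)) • res _ hVV' (pullSec i e) := by
      have h3 := congrArg (fun s => res _ hVV' (pullSec i s)) (hα p q)
      simp only [pullSec_smul, res_smul] at h3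
      rw [← h3, ← res_pullSec i (le_top : V' ≤ ⊤) (a p q), res_res]
      rfl
    rw [← h2, ← h1, mul_assoc]
  have h4 : ∀ p q k l, res _ (le_top : V ≤ ⊤) (pullTop i (tmul (a p q) (a k l))) =
      (ores hVV' (i.app V' (α p q)) * ores hVV' (i.app V' (α k l))) •
        res _ hVV' (pullSec i (tmul e e)) := fun p q k l => by
    have h5 : res _ (le_top : V ≤ ⊤) (pullTop i (tmul (a p q) (a k l))) =
        res _ hVV' (pullSec i (res _ (le_top : V' ≤ ⊤) (tmul (a p q) (a k l)))) := by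
      rw [← res_pullSec i (le_top : V' ≤ ⊤), res_res]
      rfl
    rw [h5, res_tmul, hα, hα, smul_tmul, tmul_smul, smul_smul, pullSec_smul, res_smul, map_mul,
      map_mul]
  rw [h4, h4, key, key, key, key]
  congr 1
  ring

include hR hQ hQ' hθ in
/-- **R1.** -/
theorem exists_line (hinj : ∀ s t : Γ(CohB1.tensorMod R R, ⊤), pullTop i s = pullTop i t → s = t)
    (hgen : ∀ y : Y, ∃ (p : ι) (q : κ) (V : Y.Opens), y ∈ V ∧
      IsGen (res Q (le_top : V ≤ ⊤) (u p)) ∧ IsGen (res Q' (le_top : V ≤ ⊤) (v q))) :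
    ∃ (U : X.Opens) (M : X.Modules), (∀ y, i y ∈ U) ∧
      (∀ x ∈ U, ∃ (V : X.Opens) (e : Γ(M, V)), x ∈ V ∧ IsGen e) ∧
      Nonempty ((Scheme.Modules.pullback i).obj M ≅ Q) := by
  let W : ι × κ → X.Opens := fun α => CohB1.genLocus R (homOf (a α.1 α.2))
  have hW : ∀ α, IsGen (res R (le_top : W α ≤ ⊤) (a α.1 α.2)) := fun α => by
    have := isGen_sec_genLocus (homOf (a α.1 α.2))
    rwa [sec_homOf] at this
  -- the generators `u p`, `v q` on the preimage of `W (p, q)`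
  have hpa : ∀ α, IsGen (res ((Scheme.Modules.pullback i).obj R) (le_top : i ⁻¹ᵁ W α ≤ ⊤)
      (pullTop i (a α.1 α.2))) := fun α => by
    have h1 := (hW α).pullSec i
    rw [← res_pullSec] at h1
    exact h1
  have huv : ∀ α, IsGen (tmul (res Q (le_top : i ⁻¹ᵁ W α ≤ ⊤) (u α.1))
      (res Q' (le_top : i ⁻¹ᵁ W α ≤ ⊤) (v α.2))) := fun α => by
    rw [← res_tmul, ← isGen_app_iff θ.hom, app_res, hθ]
    exact hpa α
  have hu : ∀ α, IsGen (res Q (le_top : i ⁻¹ᵁ W α ≤ ⊤) (u α.1)) := fun α =>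
    isGen_of_tmul hQ hQ' (huv α)
  have hv : ∀ α, IsGen (res Q' (le_top : i ⁻¹ᵁ W α ≤ ⊤) (v α.2)) := fun α => by
    rw [isGen_iff_forall_exists]
    intro x hx
    obtain ⟨T, hT, q, hxT, hq⟩ := exists_gen_le hQ x _ hx
    obtain ⟨T', hT', q', hxT', hq'⟩ := exists_gen_le hQ' x T hxT
    obtain ⟨b, hb⟩ := (hq.res hT').exists_eq (res Q (le_top : T' ≤ ⊤) (u α.1))
    obtain ⟨c, hc⟩ := hq'.exists_eq (res Q' (le_top : T' ≤ ⊤) (v α.2))
    refine ⟨T', hT'.trans hT, hxT', ?_⟩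
    have h1 := (huv α).res (hT'.trans hT)
    rw [res_tmul, res_res, res_res, hb, hc, smul_tmul, tmul_smul, smul_smul,
      ((hq.res hT').tmul hq').smul_iff] at h1
    rw [res_res, hc]
    exact hq'.unit_smul (isUnit_of_mul_isUnit_right h1)
  -- the coefficients
  choose c hc using fun (α : ι × κ) (p : ι) => (hW α).exists_eq (res R (le_top : W α ≤ ⊤) (a p α.2))
  have hcT : ∀ (α : ι × κ) (p : ι) (T : X.Opens) (hT : T ≤ W α),
      res R (le_top : T ≤ ⊤) (a p α.2) = ores hT (c α p) • res R (le_top : T ≤ ⊤) (a α.1 α.2) := by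
    intro α p T hT
    have := congrArg (res R hT) (hc α p)
    rw [res_res, res_smul, res_res] at this
    exact this
  let g : ∀ α β : ι × κ, Γ(X, W α ⊓ W β) := fun α β => ores inf_le_right (c β α.1)
  have hg₁ : ∀ α, g α α = 1 := fun α => by
    have h1 : c α α.1 = 1 := (hW α).ext (by rw [← hc, one_smul])
    change ores _ (c α α.1) = 1
    rw [h1, map_one]
  have hminor : ∀ (p k : ι) (q l : κ), tmul (a p q) (a k l) = tmul (a p l) (a k q) :=
    fun p k q l => hinj _ _ (pullTop_minor i hR hQ hQ' θ u v a hθ p k q l)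
  have hg : ∀ α β γ (T : X.Opens) (hα : T ≤ W α) (hβ : T ≤ W β) (hγ : T ≤ W γ),
      ores (le_inf hα hγ) (g α γ) = ores (le_inf hα hβ) (g α β) * ores (le_inf hβ hγ) (g β γ) := by
    intro α β γ T hα hβ hγ
    simp only [g, ores_ores]
    have hgenT := (((hW γ).res hγ).tmul ((hW β).res hβ))
    rw [res_res, res_res] at hgenT
    apply hgenT.ext
    have h1 := congrArg (res _ (le_top : T ≤ ⊤)) (hminor α.1 β.1 γ.2 β.2)
    rw [res_tmul, res_tmul, hcT γ α.1 T hγ, hcT β α.1 T hβ, hcT γ β.1 T hγ, smul_tmul, smul_tmul,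
      tmul_smul, smul_smul] at h1
    rw [h1, tmul_comm_of_isInvertible hR]
  obtain ⟨M, e, he, htr⟩ := Groth.Agent.Picfga.LineCocycle.exists_of_cocycle W g hg₁ hg
  have hcov : ∀ y, ∃ α, i y ∈ W α := fun y => by
    obtain ⟨p, q, V, hyV, hup, hvq⟩ := hgen y
    refine ⟨(p, q), ?_⟩
    -- `a p q` generates `R` near `i y`
    obtain ⟨V', e', hyV', he'⟩ := (isInvertible_iff R).mp hR (i y)
    obtain ⟨f, hf⟩ := he'.exists_eq (res R (le_top : V' ≤ ⊤) (a p q))
    have h1 : IsGen (res ((Scheme.Modules.pullback i).obj R)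
        (le_top : V ⊓ i ⁻¹ᵁ V' ≤ ⊤) (pullTop i (a p q))) := by
      rw [← hθ, ← app_res, isGen_app_iff, res_tmul]
      have h2 := (hup.tmul hvq).res (inf_le_left : V ⊓ i ⁻¹ᵁ V' ≤ V)
      rw [res_tmul, res_res, res_res] at h2
      exact h2
    have h3 : res ((Scheme.Modules.pullback i).obj R) (le_top : V ⊓ i ⁻¹ᵁ V' ≤ ⊤)
        (pullTop i (a p q)) = ores (inf_le_right : V ⊓ i ⁻¹ᵁ V' ≤ _) (i.app V' f) •
          res _ inf_le_right (pullSec i e') := by
      have h4 := congrArg (fun s => res ((Scheme.Modules.pullback i).obj R)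
        (inf_le_right : V ⊓ i ⁻¹ᵁ V' ≤ _) (pullSec i s)) hf
      simp only [pullSec_smul, res_smul] at h4
      rw [← h4, ← res_pullSec i (le_top : V' ≤ ⊤) (a p q), res_res]
      rfl
    rw [h3, ((he'.pullSec i).res _).smul_iff] at h1
    have h5 : y ∈ Y.basicOpen (i.app V' f) := by
      refine (Scheme.mem_basicOpen Y (i.app V' f) y (show y ∈ i ⁻¹ᵁ V' from hyV')).mpr ?_
      have h6 := h1.map (Y.presheaf.germ (V ⊓ i ⁻¹ᵁ V') y ⟨hyV, hyV'⟩).hom
      have h7 : (Y.presheaf.germ (V ⊓ i ⁻¹ᵁ V') y ⟨hyV, hyV'⟩)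
          (ores (inf_le_right : V ⊓ i ⁻¹ᵁ V' ≤ _) (i.app V' f)) =
          Y.presheaf.germ (i ⁻¹ᵁ V') y hyV' (i.app V' f) :=
        TopCat.Presheaf.germ_res_apply Y.presheaf (homOfLE inf_le_right) y ⟨hyV, hyV'⟩ _
      rwa [← h7]
    have h5' : y ∈ i ⁻¹ᵁ X.basicOpen f := by
      rw [i.preimage_basicOpen]
      exact h5
    have h8 : CohB1.genLocus R (homOf (a p q)) ⊓ V' = X.basicOpen f :=
      genLocus_inf_eq (homOf (a p q)) he' (by rw [sec_homOf]; exact hf)
    have h9 : i y ∈ CohB1.genLocus R (homOf (a p q)) ⊓ V' := h8 ▸ h5'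
    exact h9.1
  refine ⟨⨆ α, W α, M, fun y => ?_, fun x hx => ?_, ?_⟩
  · obtain ⟨α, hα⟩ := hcov y
    exact Opens.mem_iSup.mpr ⟨α, hα⟩
  · obtain ⟨α, hα⟩ := Opens.mem_iSup.mp hx
    exact ⟨W α, e α, hα, he α⟩
  · have hcov' : ⨆ α, i ⁻¹ᵁ (W α) = ⊤ := by
      rw [eq_top_iff]
      intro y _
      obtain ⟨α, hα⟩ := hcov y
      exact Opens.mem_iSup.mpr ⟨α, hα⟩
    have he' : ∀ α, IsGen (pullSec i (e α)) := fun α => (he α).pullSec i
    obtain ⟨φ, -⟩ := Groth.Agent.Picfga.LineHom.exists_iso hcov' he'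
      (n := fun α => res Q (le_top : i ⁻¹ᵁ W α ≤ ⊤) (u α.1))
      (Groth.Agent.Picfga.LineHom.trans_of_inf he' fun α β => by
        refine ⟨i.app (W α ⊓ W β) (g α β), ?_, ?_⟩
        · have h1 := congrArg (pullSec i) (htr α β)
          rw [pullSec_smul, ← res_pullSec, ← res_pullSec] at h1
          exact h1
        · have hvβ : IsGen (res Q' (le_top : i ⁻¹ᵁ (W α ⊓ W β) ≤ ⊤) (v β.2)) := by
            have := (hv β).res (i.preimage_mono (inf_le_right : W α ⊓ W β ≤ W β))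
            rwa [res_res] at this
          have key : res Q (le_top : i ⁻¹ᵁ (W α ⊓ W β) ≤ ⊤) (u α.1) =
              (i.app (W α ⊓ W β) (g α β) : Γ(Y, i ⁻¹ᵁ (W α ⊓ W β))) •
                res Q (le_top : i ⁻¹ᵁ (W α ⊓ W β) ≤ ⊤) (u β.1) := by
            apply tmul_cancel hQ hvβ
            rw [smul_tmul, ← res_tmul, ← res_tmul]
            have hθinj : ∀ (T : Y.Opens) (s t : Γ(CohB1.tensorMod Q Q', T)),
                θ.hom.app T s = θ.hom.app T t → s = t := fun T s t hst =>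
              (ConcreteCategory.bijective_of_isIso (θ.hom.app T)).1 hst
            apply hθinj
            rw [Scheme.Modules.Hom.app_smul, app_res, app_res, hθ, hθ]
            have h2 := congrArg (pullSec i) (hcT β α.1 (W α ⊓ W β) inf_le_right)
            rw [pullSec_smul, ← res_pullSec, ← res_pullSec] at h2
            exact h2
          rw [res_res, res_res]
          exact key)
      hu
    exact ⟨φ⟩

end Groth.Agent.Sga2.RankOne
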