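import Groth.Agent.Sga2.RankOne
import Groth.Agent.Grpsch.PicGrp

/-!
# Assembly: extending an invertible module from a thickening to the whole scheme
-/

set_option autoImplicit false

universe u

open CategoryTheory AlgebraicGeometry TopologicalSpace Opposite

namespace Groth.Agent.Sga2.RankOneAsm

open Groth.Agent.Fdesc.LocGen Groth.Agent.Grpsch.PicGrp RankOne

variable {X Y Z Z₀ : Scheme.{u}}

/-- a section which generates after pullback at `y` generates near `j y` -/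
lemma exists_isGen_of_pullTop (j : Y ⟶ X) {Q : X.Modules} (hQ : PicF.IsInvertible Q)
    (s : Γ(Q, ⊤)) (y : Y) (V : Y.Opens) (hyV : y ∈ V)
    (h : IsGen (res ((Scheme.Modules.pullback j).obj Q) (le_top : V ≤ ⊤) (pullTop j s))) :
    ∃ W : X.Opens, j y ∈ W ∧ IsGen (res Q (le_top : W ≤ ⊤) s) := by
  obtain ⟨V', e', hyV', he'⟩ := (isInvertible_iff Q).mp hQ (j y)
  obtain ⟨f, hf⟩ := he'.exists_eq (res Q (le_top : V' ≤ ⊤) s)
  have h1 := h.res (inf_le_left : V ⊓ j ⁻¹ᵁ V' ≤ V)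
  rw [res_res] at h1
  have h3 : res ((Scheme.Modules.pullback j).obj Q) (le_top : V ⊓ j ⁻¹ᵁ V' ≤ ⊤)
      (pullTop j s) = ores (inf_le_right : V ⊓ j ⁻¹ᵁ V' ≤ _) (j.app V' f) •
        res _ inf_le_right (pullSec j e') := by
    have h4 := congrArg (fun s => res ((Scheme.Modules.pullback j).obj Q)
      (inf_le_right : V ⊓ j ⁻¹ᵁ V' ≤ _) (pullSec j s)) hf
    simp only [pullSec_smul, res_smul] at h4
    rw [← h4, ← res_pullSec j (le_top : V' ≤ ⊤) s, res_res]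
    rfl
  rw [h3, ((he'.pullSec j).res _).smul_iff] at h1
  have h5 : y ∈ Y.basicOpen (j.app V' f) := by
    refine (Scheme.mem_basicOpen Y (j.app V' f) y (show y ∈ j ⁻¹ᵁ V' from hyV')).mpr ?_
    have h6 := h1.map (Y.presheaf.germ (V ⊓ j ⁻¹ᵁ V') y ⟨hyV, hyV'⟩).hom
    have h7 : (Y.presheaf.germ (V ⊓ j ⁻¹ᵁ V') y ⟨hyV, hyV'⟩)
        (ores (inf_le_right : V ⊓ j ⁻¹ᵁ V' ≤ _) (j.app V' f)) =
        Y.presheaf.germ (j ⁻¹ᵁ V') y hyV' (j.app V' f) :=
      TopCat.Presheaf.germ_res_apply Y.presheaf (homOfLE inf_le_right) y ⟨hyV, hyV'⟩ _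
    rwa [← h7]
  have h5' : y ∈ j ⁻¹ᵁ X.basicOpen f := by
    rw [j.preimage_basicOpen]
    exact h5
  refine ⟨X.basicOpen f, h5', ?_⟩
  have h8 := congrArg (res Q (X.basicOpen_le f)) hf
  rw [res_res, res_smul] at h8
  rw [h8, (he'.res _).smul_iff]
  exact X.toRingedSpace.isUnit_res_basicOpen f

/-- pullbacks along a morphism factoring through `U` only depend on the restriction to `U` -/
lemma nonempty_pullback_iso_of_restrict (i : Y ⟶ X) (U : X.Opens) (hU : ∀ y, i y ∈ U)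
    {M M' : X.Modules} (e : M.restrict U.ι ≅ M'.restrict U.ι) :
    Nonempty ((Scheme.Modules.pullback i).obj M ≅ (Scheme.Modules.pullback i).obj M') := by
  let i' : Y ⟶ U := IsOpenImmersion.lift U.ι i (by
    rintro _ ⟨y, rfl⟩
    simpa using hU y)
  have hi : i' ≫ U.ι = i := IsOpenImmersion.lift_fac _ _ _
  have h1 : ∀ M : X.Modules, Nonempty ((Scheme.Modules.pullback i).obj M ≅
      (Scheme.Modules.pullback i').obj (M.restrict U.ι)) := fun M => by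
    rw [← hi]
    exact ⟨((Scheme.Modules.pullbackComp i' U.ι).app M).symm ≪≫ (Scheme.Modules.pullback i').mapIso
      ((Scheme.Modules.restrictFunctorIsoPullback U.ι).app M).symm⟩
  obtain ⟨a⟩ := h1 M
  obtain ⟨b⟩ := h1 M'
  exact ⟨a ≪≫ (Scheme.Modules.pullback i').mapIso e ≪≫ b.symm⟩

/-- **P2b, assembly.** -/
theorem assemble (j : Z₀ ⟶ Z) (i : Z ⟶ X) (L : X.Modules) (hL : PicF.IsInvertible L)
    (N : Pic Z) (R : X.Modules) (hR : PicF.IsInvertible R)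
    (hRL : mk R hR = mk L hL * mk L hL)
    (hgen : ∀ (Q : Z.Modules) (hQ : PicF.IsInvertible Q),
      (mk Q hQ = N * pull i (mk L hL) ∨ mk Q hQ = N⁻¹ * pull i (mk L hL)) →
      ∀ z : Z, ∃ (s : Γ(Q, ⊤)) (V : Z.Opens), z ∈ V ∧ IsGen (res Q (le_top : V ≤ ⊤) s))
    (hlift : ∀ b : Γ((Scheme.Modules.pullback i).obj R, ⊤), ∃ a : Γ(R, ⊤), b = pullTop i a)
    (hinj : ∀ s t : Γ(CohB1.tensorMod R R, ⊤), pullTop i s = pullTop i t → s = t)
    (hext : ∀ (U : X.Opens) (M : X.Modules), (∀ z, i z ∈ U) →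
      (∀ x ∈ U, ∃ (V : X.Opens) (e : Γ(M, V)), x ∈ V ∧ IsGen e) →
      ∃ M' : X.Modules, PicF.IsInvertible M' ∧ Nonempty (M'.restrict U.ι ≅ M.restrict U.ι)) :
    ∃ (M : X.Modules) (hM : PicF.IsInvertible M), pull (j ≫ i) (mk M hM) = pull j N := by
  obtain ⟨Q, hQ, hQN⟩ := exists_mk (N * pull i (mk L hL))
  obtain ⟨Q', hQ', hQN'⟩ := exists_mk (N⁻¹ * pull i (mk L hL))
  have hθ : Nonempty (CohB1.tensorMod Q Q' ≅ (Scheme.Modules.pullback i).obj R) := by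
    rw [← mk_eq_iff (isInvertible_tensorMod hQ hQ') (isInvertible_pullback i hR), ← mk_mul_mk hQ hQ',
      ← pull_mk i hR, ← hQN, ← hQN', hRL, map_mul, mul_mul_mul_comm, mul_inv_cancel, one_mul]
  obtain ⟨θ⟩ := hθ
  choose a ha using fun (p : Γ(Q, ⊤)) (q : Γ(Q', ⊤)) => hlift (θ.hom.app ⊤ (tmul p q))
  obtain ⟨U, M, hU, hM, ⟨e⟩⟩ := exists_line i hR hQ hQ' θ (fun p : Γ(Q, ⊤) => p)
    (fun q : Γ(Q', ⊤) => q) a ha hinj (fun z => by
      obtain ⟨s, V, hzV, hs⟩ := hgen Q hQ (Or.inl hQN.symm) z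
      obtain ⟨s', V', hzV', hs'⟩ := hgen Q' hQ' (Or.inr hQN'.symm) z
      refine ⟨s, s', V ⊓ V', ⟨hzV, hzV'⟩, ?_, ?_⟩
      · have := hs.res (inf_le_left : V ⊓ V' ≤ V)
        rwa [res_res] at this
      · have := hs'.res (inf_le_right : V ⊓ V' ≤ V')
        rwa [res_res] at this)
  obtain ⟨M', hM', ⟨e'⟩⟩ := hext U M hU hM
  obtain ⟨e''⟩ := nonempty_pullback_iso_of_restrict i U hU e'
  have h1 : pull i (mk M' hM') = N * pull i (mk L hL) := by
    rw [pull_mk, hQN]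
    exact mk_congr (e'' ≪≫ e)
  obtain ⟨M₂, hM₂, h2⟩ := exists_mk (mk M' hM' * (mk L hL)⁻¹)
  refine ⟨M₂, hM₂, ?_⟩
  rw [← h2, pull_comp, map_mul, map_inv, h1, mul_inv_cancel_right]

end Groth.Agent.Sga2.RankOneAsm
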