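import Groth.Agent.Sga2.RankOneAsm
import Groth.Agent.VarietyB.ProjForm
import Groth.Agent.Ega2.QCohLocal

/-!
# Bridge between twists of `i_* T` on `X` and twists of `T` on `Z` (projection formula)
-/

set_option autoImplicit false

universe u

open CategoryTheory AlgebraicGeometry TopologicalSpace Opposite

namespace Groth.Agent.Sga2.RankOneBridge

open Groth.Agent.Fdesc.LocGen Groth.Agent.Grpsch.PicGrp RankOne
open Groth.Agent.Ega2.Tens (mapT)
open Groth.Agent.VarietyB.ProjForm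

variable {X Z Z' : Scheme.{u}}

lemma hasBases_of_isInvertible {E : X.Modules} (hE : PicF.IsInvertible E) :
    Groth.Agent.VarietyB.TensCoh.HasBases E :=
  Groth.Agent.VarietyB.TensCoh.HasBases.of_isFinLocFree
    (Groth.Agent.Ega2.QCohLocal.isFinLocFree_of_rank
      (Groth.Agent.Ega2.QCohLocal.isFinLocFreeOfRank_one_iff.2 hE))

lemma tens_tmul {M N : X.Modules} {U : X.Opens} (m : Γ(M, U)) (n : Γ(N, U)) :
    Groth.Agent.Ega2.Tens.tmul m n = tmul m n := rfl

lemma mapT_tmul {M N M' N' : X.Modules} (f : M ⟶ M') (g : N ⟶ N') {U : X.Opens} (m : Γ(M, U))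
    (n : Γ(N, U)) : (mapT f g).app U (tmul m n) = tmul (f.app U m) (g.app U n) :=
  Groth.Agent.Ega2.Tens.mapT_tmul f g m n

lemma hom_ext_tmul {M N P : X.Modules} (f g : CohB1.tensorMod M N ⟶ P)
    (h : ∀ (U : X.Opens) (m : Γ(M, U)) (n : Γ(N, U)), f.app U (tmul m n) = g.app U (tmul m n)) :
    f = g :=
  Groth.Agent.Ega2.Tens.hom_ext f g h

lemma projMor_tmul' (f : Z ⟶ X) (E : X.Modules) (G : Z.Modules) {U : X.Opens} (e : Γ(E, U))
    (g : Γ((Scheme.Modules.pushforward f).obj G, U)) :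
    (projMor f E G).app U (tmul e g) = tmul (pullSec f e) (show Γ(G, f ⁻¹ᵁ U) from g) :=
  projMor_tmul f E G e g

variable (j : Z' ⟶ Z) (i : Z ⟶ X) (E : X.Modules) 
  {T : Z.Modules} {T' : Z'.Modules} 
  (φ : (Scheme.Modules.pullback j).obj T ≅ T')

/-- `j^* (i^* E ⊗ T) ⟶ (j ≫ i)^* E ⊗ T'` -/
noncomputable def α : (Scheme.Modules.pullback j).obj
    (CohB1.tensorMod ((Scheme.Modules.pullback i).obj E) T) ⟶
      CohB1.tensorMod ((Scheme.Modules.pullback (j ≫ i)).obj E) T' :=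
  pullTensor j _ _ ≫ mapT ((Scheme.Modules.pullbackComp j i).hom.app E) φ.hom

lemma comp_app_apply {M N P : X.Modules} (f : M ⟶ N) (g : N ⟶ P) {U : X.Opens} (m : Γ(M, U)) :
    (f ≫ g).app U m = g.app U (f.app U m) := rfl

lemma α_pullSec {V : X.Opens} (e : Γ(E, V)) (x : Γ(T, i ⁻¹ᵁ V)) :
    (α j i E φ).app (j ⁻¹ᵁ (i ⁻¹ᵁ V)) (pullSec j (tmul (pullSec i e) x)) =
      tmul (U := j ⁻¹ᵁ (i ⁻¹ᵁ V)) (pullSec (j ≫ i) e)
        (φ.hom.app (j ⁻¹ᵁ (i ⁻¹ᵁ V)) (pullSec j x)) := by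
  rw [α, comp_app_apply, pullTensor_app, mapT_tmul, pullSec_comp']

/-- the composite `E ⊗ i_* T → i_* (i^* E ⊗ T) → (j ≫ i)_* ((j ≫ i)^* E ⊗ T')`. -/
noncomputable def two : CohB1.tensorMod E ((Scheme.Modules.pushforward i).obj T) ⟶
    (Scheme.Modules.pushforward (j ≫ i)).obj
      (CohB1.tensorMod ((Scheme.Modules.pullback (j ≫ i)).obj E) T') :=
  mkHom (fun V => AddMonoidHom.mk' (fun σ => (α j i E φ).app (j ⁻¹ᵁ (i ⁻¹ᵁ V))
      (pullSec j (show Γ(CohB1.tensorMod ((Scheme.Modules.pullback i).obj E) T, i ⁻¹ᵁ V) from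
        (projMor i E T).app V σ)))
      (fun σ τ => by
        have h1 : (projMor i E T).app V (σ + τ) = (projMor i E T).app V σ +
          (projMor i E T).app V τ := map_add ((projMor i E T).app V).hom σ τ
        rw [h1]
        exact (congrArg _ (pullSec_add j _ _)).trans
          (map_add ((α j i E φ).app (j ⁻¹ᵁ (i ⁻¹ᵁ V))).hom _ _)))
    (fun V r σ => by
      have h1 : (projMor i E T).app V (r • σ) = r • (projMor i E T).app V σ :=
        Scheme.Modules.Hom.app_smul _ _ _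
      change (α j i E φ).app (j ⁻¹ᵁ (i ⁻¹ᵁ V)) (pullSec j ((projMor i E T).app V (r • σ))) = _
      rw [h1]
      refine (congrArg _ (pullSec_smul j (i.app V r) _)).trans ?_
      exact Scheme.Modules.Hom.app_smul (α j i E φ) _ _)
    (fun V W h σ => by
      change (α j i E φ).app (j ⁻¹ᵁ (i ⁻¹ᵁ W)) (pullSec j ((projMor i E T).app W (res _ h σ))) = _
      rw [app_res]
      refine (congrArg _ (res_pullSec j (i.preimage_mono h) _).symm).trans ?_
      exact app_res (α j i E φ) (j.preimage_mono (i.preimage_mono h)) _)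

lemma two_app (V : X.Opens) (σ : Γ(CohB1.tensorMod E ((Scheme.Modules.pushforward i).obj T), V)) :
    (two j i E φ).app V σ = (α j i E φ).app (j ⁻¹ᵁ (i ⁻¹ᵁ V))
      (pullSec j (show Γ(CohB1.tensorMod ((Scheme.Modules.pullback i).obj E) T, i ⁻¹ᵁ V) from
        (projMor i E T).app V σ)) := rfl

variable (p : (Scheme.Modules.pushforward i).obj T ⟶ (Scheme.Modules.pushforward (j ≫ i)).obj T')
  (hp : ∀ (V : X.Opens) (x : Γ(T, i ⁻¹ᵁ V)), p.app V x = φ.hom.app (j ⁻¹ᵁ (i ⁻¹ᵁ V)) (pullSec j x))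

include hp in
lemma two_eq : two j i E φ = mapT (𝟙 E) p ≫ projMor (j ≫ i) E T' := by
  refine hom_ext_tmul _ _ fun V e x => ?_
  rw [comp_app_apply, mapT_tmul, two_app]
  have h1 : (projMor i E T).app V (tmul e x) = tmul (pullSec i e) (show Γ(T, i ⁻¹ᵁ V) from x) :=
    projMor_tmul' i E T e x
  rw [h1]
  refine (α_pullSec j i E φ e x).trans ?_
  refine Eq.trans ?_ (projMor_tmul' (j ≫ i) E T' e (p.app V x)).symm
  rw [hp]
  rfl

variable (hE : PicF.IsInvertible E) (hT : PicF.IsInvertible T)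

include hE hT in
lemma isIso_α : IsIso (α j i E φ) := by
  have h1 := isIso_pullTensor j (isInvertible_pullback i hE) hT
  have h2 : IsIso (mapT ((Scheme.Modules.pullbackComp j i).hom.app E) φ.hom) := by
    have : mapT ((Scheme.Modules.pullbackComp j i).hom.app E) φ.hom =
      (Groth.Agent.Ega2.Tens.mapTIso ((Scheme.Modules.pullbackComp j i).app E) φ).hom := rfl
    rw [this]
    infer_instance
  unfold α
  infer_instance

include hp hE hT in
/-- Lifting sections: from `X` to `Z`. -/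
theorem exists_pullTop_eq
    (hs : ∀ s' : Γ(CohB1.tensorMod E ((Scheme.Modules.pushforward (j ≫ i)).obj T'), ⊤),
      ∃ s : Γ(CohB1.tensorMod E ((Scheme.Modules.pushforward i).obj T), ⊤),
        (mapT (𝟙 E) p).app ⊤ s = s')
    (t' : Γ((Scheme.Modules.pullback j).obj
      (CohB1.tensorMod ((Scheme.Modules.pullback i).obj E) T), ⊤)) :
    ∃ t : Γ(CohB1.tensorMod ((Scheme.Modules.pullback i).obj E) T, ⊤), pullTop j t = t' := by
  have hα := isIso_α j i E φ hE hT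
  have hpr : IsIso (projMor (j ≫ i) E T') := isIso_projMor (j ≫ i)
    (hasBases_of_isInvertible hE) T'
  obtain ⟨σ', hσ'⟩ := (ConcreteCategory.bijective_of_isIso ((projMor (j ≫ i) E T').app ⊤)).2
    ((α j i E φ).app ⊤ t')
  obtain ⟨σ, hσ⟩ := hs σ'
  refine ⟨(projMor i E T).app ⊤ σ, ?_⟩
  apply (ConcreteCategory.bijective_of_isIso ((α j i E φ).app ⊤)).1
  have h1 : (two j i E φ).app ⊤ σ = (projMor (j ≫ i) E T').app ⊤ ((mapT (𝟙 E) p).app ⊤ σ) := by
    rw [two_eq j i E φ p hp]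
    rfl
  rw [hσ, hσ'] at h1
  exact h1

lemma isGen_app_res_iff {M N : X.Modules} (f : M ⟶ N) [IsIso f] {V : X.Opens} (m : Γ(M, ⊤)) :
    IsGen (res N (le_top : V ≤ ⊤) (f.app ⊤ m)) ↔ IsGen (res M (le_top : V ≤ ⊤) m) := by
  rw [← app_res, isGen_app_iff]

/-- global generation by one section at each point is invariant under isomorphism -/
lemma gen_of_iso {M N : X.Modules} (f : M ≅ N)
    (h : ∀ x : X, ∃ (s : Γ(M, ⊤)) (V : X.Opens), x ∈ V ∧ IsGen (res M (le_top : V ≤ ⊤) s)) (x : X) :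
    ∃ (s : Γ(N, ⊤)) (V : X.Opens), x ∈ V ∧ IsGen (res N (le_top : V ≤ ⊤) s) := by
  obtain ⟨s, V, hxV, hs⟩ := h x
  exact ⟨f.hom.app ⊤ s, V, hxV, (isGen_app_res_iff f.hom s).mpr hs⟩

include hp hE hT in
/-- **Global generation lifts** from `Z'` to `Z`. -/
theorem gen_of_gen (hj : Function.Surjective j)
    (hs : ∀ s' : Γ(CohB1.tensorMod E ((Scheme.Modules.pushforward (j ≫ i)).obj T'), ⊤),
      ∃ s : Γ(CohB1.tensorMod E ((Scheme.Modules.pushforward i).obj T), ⊤),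
        (mapT (𝟙 E) p).app ⊤ s = s')
    (hg : ∀ z : Z', ∃ (s : Γ(CohB1.tensorMod ((Scheme.Modules.pullback (j ≫ i)).obj E) T', ⊤))
      (V : Z'.Opens), z ∈ V ∧ IsGen (res _ (le_top : V ≤ ⊤) s))
    (Q : Z.Modules) (hQ : PicF.IsInvertible Q) (hQT : mk Q hQ = mk T hT * pull i (mk E hE)) (z : Z) :
    ∃ (s : Γ(Q, ⊤)) (V : Z.Opens), z ∈ V ∧ IsGen (res Q (le_top : V ≤ ⊤) s) := by
  have hα := isIso_α j i E φ hE hT
  obtain ⟨e⟩ : Nonempty (CohB1.tensorMod ((Scheme.Modules.pullback i).obj E) T ≅ Q) := by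
    rw [← mk_eq_iff (isInvertible_tensorMod (isInvertible_pullback i hE) hT) hQ, hQT, ← mk_mul_mk
      (isInvertible_pullback i hE) hT, ← pull_mk i hE, mul_comm]
  refine gen_of_iso e (fun z => ?_) z
  obtain ⟨z', rfl⟩ := hj z
  obtain ⟨s', V, hzV, hs'⟩ := gen_of_iso (asIso (α j i E φ)).symm hg z'
  obtain ⟨t, ht⟩ := exists_pullTop_eq j i E φ p hp hE hT hs s'
  obtain ⟨W, hzW, hW⟩ := RankOneAsm.exists_isGen_of_pullTop j
    (isInvertible_tensorMod (isInvertible_pullback i hE) hT) t z' V hzV (by rw [ht]; exact hs')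
  exact ⟨t, W, hzW, hW⟩

end Groth.Agent.Sga2.RankOneBridge
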