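import Groth.Agent.Sga2.RegExt
import Groth.Agent.CalgA.RegBasic
import Mathlib.RingTheory.Length
import Mathlib.RingTheory.Regular.ProjectiveDimension

/-!
# `Ext^j(N, A)` for finite length modules over a regular local ring of dimension `r`

* `IsGorDim A r`: the vanishing of `Ext^j(N, A)` (`N` finite length, `j ≠ r`) and `length Ext^r(k, A) = 1`.
* `isGorDim_of_regular`
* `hasProjectiveDimensionLT_of_isFiniteLength`: over a regular local ring of dim `r`.
* `length_ext_eq`
-/

set_option autoImplicit false
set_option linter.unusedSectionVars false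
universe u

open CategoryTheory Abelian Limits Pointwise IsLocalRing

namespace Groth.Agent.Sga2.RegExt

variable {A : Type u} [CommRing A]

theorem exists_regular_system [IsRegularLocalRing A] (r : ℕ) (hr : ringKrullDim A = r) :
    ∃ rs : List A, rs.length = r ∧ Ideal.ofList rs = maximalIdeal A ∧
      RingTheory.Sequence.IsRegular A rs := by
  classical
  have hfg := (maximalIdeal A).fg_of_isNoetherianRing
  have hfin := Submodule.FG.finite_generators hfg
  let rs : List A := hfin.toFinset.toList
  have hl : rs.length = r := by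
    have h1 : (maximalIdeal A).generators.ncard = (maximalIdeal A).spanFinrank :=
      Submodule.FG.generators_ncard hfg
    have h2 := IsRegularLocalRing.spanFinrank_maximalIdeal (R := A)
    rw [hr] at h2
    have h3 : (maximalIdeal A).spanFinrank = r := by exact_mod_cast h2
    rw [Finset.length_toList, ← h3, ← h1, Set.ncard_eq_toFinset_card _ hfin]
  have hspan : Ideal.ofList rs = maximalIdeal A := by
    have h1 : {x | x ∈ rs} = (maximalIdeal A).generators := by
      ext x
      simp [rs]
    rw [Ideal.ofList, h1]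
    exact Submodule.span_generators _
  exact ⟨rs, hl, hspan, Groth.Agent.CalgA.RegBasic.isRegular_of_ofList_eq r A rs hl hr hspan⟩

instance isSimpleModule_quot [IsLocalRing A] : IsSimpleModule A (A ⧸ maximalIdeal A) :=
  isSimpleModule_iff_quot_maximal.2 ⟨maximalIdeal A, inferInstance, ⟨LinearEquiv.refl _ _⟩⟩

theorem length_quot [IsLocalRing A] : Module.length A (A ⧸ maximalIdeal A) = 1 :=
  Module.length_eq_one A _

/-- Hom(A/I, M) for M killed by I. -/
noncomputable def homQuotEquiv (I : Ideal A) (M : Type u) [AddCommGroup M] [Module A M]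
    (hM : ∀ a ∈ I, ∀ m : M, a • m = 0) : ((A ⧸ I) →ₗ[A] M) ≃ₗ[A] M where
  toFun f := f 1
  map_add' f g := rfl
  map_smul' r f := rfl
  invFun m := I.liftQ (LinearMap.toSpanSingleton A M m) (fun a ha => hM a ha m)
  left_inv f := by
    apply Submodule.linearMap_qext
    ext
    simp
  right_inv m := by
    change LinearMap.toSpanSingleton A M m 1 = m
    simp

theorem length_ext_top [IsRegularLocalRing A] (r : ℕ) (hr : ringKrullDim A = r) :
    Module.length A (Ext (ModuleCat.of A (A ⧸ maximalIdeal A)) (ModuleCat.of A A) r) = 1 := by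
  obtain ⟨rs, hl, hspan, hreg⟩ := exists_regular_system (A := A) r hr
  subst hl
  have hN : ∀ x ∈ rs, x ∈ Module.annihilator A (ModuleCat.of A (A ⧸ maximalIdeal A)) := by
    intro x hx
    have : x ∈ maximalIdeal A := by
      rw [← hspan]
      exact Ideal.subset_span hx
    change x ∈ Module.annihilator A (A ⧸ maximalIdeal A)
    rwa [Ideal.annihilator_quotient]
  obtain ⟨e⟩ := ext_equiv_of_regular (ModuleCat.of A (A ⧸ maximalIdeal A)) rs (ModuleCat.of A A)
    hN hreg
  rw [← e.length_eq]
  have e2 : (A ⧸ (Ideal.ofList rs • (⊤ : Submodule A A))) ≃ₗ[A] A ⧸ maximalIdeal A :=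
    Submodule.quotEquivOfEq _ _ (by rw [hspan]; simp)
  rw [(extEquivRight _ e2.toModuleIso 0).length_eq, (Ext.linearEquiv₀ (R := A)).length_eq]
  have e3 : (ModuleCat.of A (A ⧸ maximalIdeal A) ⟶ ModuleCat.of A (A ⧸ maximalIdeal A)) ≃ₗ[A]
      ((A ⧸ maximalIdeal A) →ₗ[A] (A ⧸ maximalIdeal A)) := ModuleCat.homLinearEquiv
  rw [e3.length_eq, (homQuotEquiv (maximalIdeal A) (A ⧸ maximalIdeal A) ?_).length_eq, length_quot]
  intro a ha m
  induction m using Submodule.Quotient.induction_on with
  | H m =>
    rw [← Submodule.Quotient.mk_smul, Submodule.Quotient.mk_eq_zero]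
    exact Ideal.mul_mem_right m _ ha

theorem hasProjectiveDimensionLT_quot [IsRegularLocalRing A] (r : ℕ) (hr : ringKrullDim A = r) :
    HasProjectiveDimensionLT (ModuleCat.of A (A ⧸ maximalIdeal A)) (r + 1) := by
  obtain ⟨rs, hl, hspan, hreg⟩ := exists_regular_system (A := A) r hr
  have h := ModuleCat.projectiveDimension_quotient_eq_length.{u, u} rs hreg
  have e : (Shrink.{u} (A ⧸ Ideal.ofList rs)) ≃ₗ[A] (A ⧸ maximalIdeal A) :=
    (Shrink.linearEquiv A (A ⧸ Ideal.ofList rs)).trans (Submodule.quotEquivOfEq _ _ hspan)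
  rw [projectiveDimension_eq_of_iso e.toModuleIso, hl] at h
  exact (projectiveDimension_le_iff _ _).1 h.le

theorem shortExact_of_submodule {N : Type u} [AddCommGroup N] [Module A N] (P : Submodule A N) :
    (ShortComplex.mk (ModuleCat.ofHom P.subtype) (ModuleCat.ofHom P.mkQ) (by
      ext x
      exact (Submodule.Quotient.mk_eq_zero _).2 x.2)).ShortExact :=
  ModuleCat.shortComplex_shortExact _ (LinearMap.exact_subtype_mkQ P) P.injective_subtype
    P.mkQ_surjective

theorem simple_equiv_quot [IsLocalRing A] (N : Type u) [AddCommGroup N] [Module A N]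
    [IsSimpleModule A N] : Nonempty (N ≃ₗ[A] (A ⧸ maximalIdeal A)) := by
  obtain ⟨I, hI, ⟨e⟩⟩ := (isSimpleModule_iff_quot_maximal (R := A) (M := N)).1 inferInstance
  have := IsLocalRing.eq_maximalIdeal hI
  subst this
  exact ⟨e⟩

theorem hasProjectiveDimensionLT_of_isFiniteLength [IsRegularLocalRing A] (r : ℕ)
    (hr : ringKrullDim A = r) (N : Type u) [AddCommGroup N] [Module A N]
    (hN : IsFiniteLength A N) :
    HasProjectiveDimensionLT (ModuleCat.of A N) (r + 1) := by
  induction hN with
  | of_subsingleton =>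
    rename_i N _ _ _
    have := (ModuleCat.isZero_of_subsingleton (ModuleCat.of A N)).hasProjectiveDimensionLT_zero
    exact hasProjectiveDimensionLT_of_ge _ 0 _ (Nat.zero_le _)
  | of_simple_quotient hP ih =>
    rename_i N _ _ P _
    refine (shortExact_of_submodule P).hasProjectiveDimensionLT_X₂ (r + 1) ih ?_
    obtain ⟨e⟩ := simple_equiv_quot (A := A) (N ⧸ P)
    have := hasProjectiveDimensionLT_quot (A := A) r hr
    exact hasProjectiveDimensionLT_of_iso e.symm.toModuleIso _

/-- `Ext^j(N, A) = 0` for all finite length modules `N` and `j ≠ r`, and `Ext^r(k, A)` is of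
length 1. -/
structure IsGorDim (A : Type u) [CommRing A] [IsLocalRing A] (r : ℕ) : Prop where
  vanish : ∀ (N : ModuleCat.{u} A), IsFiniteLength A N → ∀ j ≠ r,
    Subsingleton (Ext N (ModuleCat.of A A) j)
  len : Module.length A (Ext (ModuleCat.of A (A ⧸ maximalIdeal A)) (ModuleCat.of A A) r) = 1

theorem exists_pow_smul_eq_zero [IsLocalRing A] [IsNoetherianRing A] (N : Type u) [AddCommGroup N]
    [Module A N] (hN : IsFiniteLength A N) : ∃ n : ℕ, maximalIdeal A ^ n ≤ Module.annihilator A N := by
  induction hN with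
  | of_subsingleton =>
    rename_i N _ _ _
    exact ⟨0, fun a _ => Module.mem_annihilator.2 fun m => Subsingleton.elim _ _⟩
  | of_simple_quotient hP ih =>
    rename_i N _ _ P _
    obtain ⟨n, hn⟩ := ih
    refine ⟨n + 1, ?_⟩
    rw [pow_succ, Ideal.mul_le]
    intro a ha b hb
    rw [Module.mem_annihilator]
    intro m
    obtain ⟨e⟩ := simple_equiv_quot (A := A) (N ⧸ P)
    have h1 : b • (P.mkQ m) = 0 := by
      apply e.injective
      rw [map_smul, map_zero]
      induction e (P.mkQ m) using Submodule.Quotient.induction_on with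
      | H z =>
        rw [← Submodule.Quotient.mk_smul, Submodule.Quotient.mk_eq_zero]
        exact Ideal.mul_mem_right z _ hb
    rw [← map_smul] at h1
    have h2 : b • m ∈ P := (Submodule.Quotient.mk_eq_zero _).1 h1
    rw [mul_smul]
    exact congrArg Subtype.val (Module.mem_annihilator.1 (hn ha) ⟨b • m, h2⟩)

theorem subsingleton_ext_of_isRegular_of_isFiniteLength [IsLocalRing A] [IsNoetherianRing A]
    (N M : ModuleCat.{u} A) (hN : IsFiniteLength A N) [Module.Finite A M] (rs : List A)
    (hmem : ∀ x ∈ rs, x ∈ maximalIdeal A) (hreg : RingTheory.Sequence.IsRegular M rs)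
    (i : ℕ) (hi : i < rs.length) : Subsingleton (Ext N M i) := by
  have := (isFiniteLength_iff_isNoetherian_isArtinian.1 hN).1
  refine ModuleCat.subsingleton_ext_of_exists_isRegular (maximalIdeal A) N ?_ M ?_ rs hmem hreg i hi
  · rw [Module.support_eq_zeroLocus]
    obtain ⟨n, hn⟩ := exists_pow_smul_eq_zero N hN
    intro p hp
    have : maximalIdeal A ^ n ≤ p.asIdeal := hn.trans hp
    exact Ideal.IsPrime.le_of_pow_le this
  · have := hreg.nontrivial
    refine lt_top_iff_ne_top.2 (Ne.symm ?_)
    exact Submodule.top_ne_ideal_smul_of_le_jacobson_annihilator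
      (IsLocalRing.maximalIdeal_le_jacobson _)

theorem isGorDim_of_regular [IsRegularLocalRing A] (r : ℕ) (hr : ringKrullDim A = r) :
    IsGorDim A r where
  vanish N hN j hj := by
    rcases lt_or_gt_of_ne hj with h | h
    · obtain ⟨rs, hl, hspan, hreg⟩ := exists_regular_system (A := A) r hr
      refine subsingleton_ext_of_isRegular_of_isFiniteLength N (ModuleCat.of A A) hN rs ?_ hreg j
        (hl ▸ h)
      intro x hx
      rw [← hspan]
      exact Ideal.subset_span hx
    · have := hasProjectiveDimensionLT_of_isFiniteLength r hr N hN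
      exact HasProjectiveDimensionLT.subsingleton N (r + 1) j h (ModuleCat.of A A)
  len := length_ext_top r hr

/-- length of the dual `Ext^r(N, A)`. -/
theorem length_ext_eq [IsLocalRing A] {r : ℕ} (h : IsGorDim A r) (N : Type u) [AddCommGroup N]
    [Module A N] (hN : IsFiniteLength A N) :
    Module.length A (Ext (ModuleCat.of A N) (ModuleCat.of A A) r) = Module.length A N := by
  induction hN with
  | of_subsingleton =>
    rename_i N _ _ _
    have h1 : Subsingleton (Ext (ModuleCat.of A N) (ModuleCat.of A A) r) := by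
      have hz := ModuleCat.isZero_of_subsingleton (ModuleCat.of A N)
      refine subsingleton_of_forall_eq 0 fun x => ?_
      rw [← Ext.mk₀_id_comp x, hz.eq_of_src (𝟙 _) 0]
      simp
    rw [Module.length_eq_zero, Module.length_eq_zero]
  | of_simple_quotient hP ih =>
    rename_i N _ _ P hs
    have hS := shortExact_of_submodule P
    obtain ⟨e⟩ := simple_equiv_quot (A := A) (N ⧸ P)
    have hfq : IsFiniteLength A (N ⧸ P) := by
      rw [← Module.length_ne_top_iff, Module.length_eq_one]
      exact ENat.one_ne_top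
    rw [Module.length_eq_add_of_exact P.subtype P.mkQ P.injective_subtype P.mkQ_surjective
      (LinearMap.exact_subtype_mkQ P), ← ih, Module.length_eq_one (R := A) (M := N ⧸ P), ← h.len,
      (extEquivLeft (ModuleCat.of A A) e.toModuleIso r).length_eq]
    let f : Ext (ModuleCat.of A (N ⧸ P)) (ModuleCat.of A A) r →ₗ[A]
      Ext (ModuleCat.of A N) (ModuleCat.of A A) r :=
      Ext.precompOfLinear (Ext.mk₀ (ModuleCat.ofHom P.mkQ)) A _ (zero_add r)
    let g : Ext (ModuleCat.of A N) (ModuleCat.of A A) r →ₗ[A]
      Ext (ModuleCat.of A P) (ModuleCat.of A A) r :=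
      Ext.precompOfLinear (Ext.mk₀ (ModuleCat.ofHom P.subtype)) A _ (zero_add r)
    rw [add_comm]
    refine Module.length_eq_add_of_exact f g ?_ ?_ ?_
    · rw [← LinearMap.ker_eq_bot, eq_bot_iff]
      intro y hy
      rw [Submodule.mem_bot]
      rcases r with _ | r
      · have : Epi (ModuleCat.ofHom P.mkQ) := (ModuleCat.epi_iff_surjective _).2 P.mkQ_surjective
        exact Ext.precomp_mk₀_injective_of_epi (ModuleCat.of A A) (ModuleCat.ofHom P.mkQ)
          (a₁ := y) (a₂ := 0) (by rw [map_zero]; exact hy)
      · obtain ⟨z, hz⟩ := Ext.contravariant_sequence_exact₃ hS (ModuleCat.of A A) y hy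
          (n₀ := r) (add_comm _ _)
        have := h.vanish (ModuleCat.of A P) hP r (Nat.succ_ne_self r).symm
        rw [← hz, Subsingleton.elim z 0, Ext.comp_zero]
    · intro y
      refine Ext.contravariant_sequence_exact₁ hS (ModuleCat.of A A) y (n₁ := r + 1)
        (add_comm _ _) ?_
      have := h.vanish (ModuleCat.of A (N ⧸ P)) hfq (r + 1) (Nat.succ_ne_self r)
      exact Subsingleton.elim _ _
    · intro y
      constructor
      · intro hy
        obtain ⟨z, hz⟩ := Ext.contravariant_sequence_exact₂ hS (ModuleCat.of A A) y hy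
        exact ⟨z, hz⟩
      · rintro ⟨z, rfl⟩
        change (Ext.mk₀ (ModuleCat.ofHom P.subtype)).comp
          ((Ext.mk₀ (ModuleCat.ofHom P.mkQ)).comp z (zero_add r)) (zero_add r) = 0
        rw [Ext.mk₀_comp_mk₀_assoc]
        have : ModuleCat.ofHom P.subtype ≫ ModuleCat.ofHom P.mkQ = 0 := by
          ext x
          exact (Submodule.Quotient.mk_eq_zero _).2 x.2
        rw [this, Ext.mk₀_zero, Ext.zero_comp]

end Groth.Agent.Sga2.RegExt
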