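import Groth.Agent.Sga2.DHomLin
import Mathlib.Algebra.Homology.DerivedCategory.Ext.Linear
import Mathlib.CategoryTheory.Abelian.Projective.Ext

/-!
# Morphisms `K ⟶ A⟦n⟧` in the derived category as classes of maps `K.X (-n) ⟶ A`, for `K` K-projective
-/

set_option autoImplicit false

universe w v u t w'

open CategoryTheory CategoryTheory.Limits CochainComplex CochainComplex.HomComplex DerivedCategory

namespace Groth.Agent.Sga2.ToSingle

variable (R : Type t) [CommRing R] {C : Type u} [Category.{v} C] [Abelian C] [Linear R C]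

/-- The module of maps `K.X p ⟶ A` killing the boundaries. -/
def zTo (K : CochainComplex C ℤ) (A : C) (p : ℤ) : Submodule R (K.X p ⟶ A) :=
  LinearMap.ker (Linear.leftComp R A (K.d (p - 1) p))

variable {R}

lemma mem_zTo {K : CochainComplex C ℤ} {A : C} {p : ℤ} (φ : K.X p ⟶ A) :
    φ ∈ zTo R K A p ↔ K.d (p - 1) p ≫ φ = 0 := Iff.rfl

variable (R)

/-- The cocycle attached to a map killing the boundaries. -/
noncomputable def cocTo (K : CochainComplex C ℤ) (A : C) (p n q : ℤ) (h : p + n = q) :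
    zTo R K A p →ₗ[R] Cocycle K ((CochainComplex.singleFunctor C q).obj A) n where
  toFun φ := Cocycle.toSingleMk φ.1 h (p - 1) (by lia) φ.2
  map_add' φ ψ := Cocycle.toSingleMk_add _ _ _ _ _ _ _
  map_smul' r φ := by
    ext : 1
    refine (Cochain.toSingleEquiv h).injective ?_
    change Cochain.toSingleEquiv h (Cochain.toSingleMk (r • φ.1) h) =
      Cochain.toSingleEquiv h (r • Cochain.toSingleMk φ.1 h)
    rw [Cochain.toSingleEquiv_toSingleMk]
    simp only [Cochain.toSingleEquiv, AddEquiv.coe_mk, Equiv.coe_fn_mk, Cochain.smul_v,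
      Cochain.toSingleMk_v]
    refine Eq.trans ?_ (Linear.smul_comp (R := R) _ _ _ r
      (φ.1 ≫ (HomologicalComplex.singleObjXSelf (ComplexShape.up ℤ) q A).inv)
      (HomologicalComplex.singleObjXSelf (ComplexShape.up ℤ) q A).hom).symm
    rw [Category.assoc, Iso.inv_hom_id, Category.comp_id]

variable [HasDerivedCategory.{w} C]

/-- The linear map from maps killing boundaries to morphisms in the derived category. -/
noncomputable def tsg (K : CochainComplex C ℤ) (A : C) (p n q : ℤ) (h : p + n = q) :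
    zTo R K A p →ₗ[R] (Q.obj K ⟶ (Q.obj ((CochainComplex.singleFunctor C q).obj A))⟦n⟧) :=
  DHomLin.toD R K ((CochainComplex.singleFunctor C q).obj A) n ∘ₗ cocTo R K A p n q h

lemma tsg_apply (K : CochainComplex C ℤ) (A : C) (p n q : ℤ) (h : p + n = q) (φ : zTo R K A p) :
    tsg R K A p n q h φ =
      DHomLin.toD R K ((CochainComplex.singleFunctor C q).obj A) n (cocTo R K A p n q h φ) := rfl

lemma tsg_surjective (K : CochainComplex C ℤ) (A : C) [K.IsKProjective] (p n q : ℤ) (h : p + n = q) :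
    Function.Surjective (tsg R K A p n q h) := by
  intro f
  obtain ⟨z, hz⟩ := DHomLin.toD_surjective_of_isKProjective R K
    ((CochainComplex.singleFunctor C q).obj A) n f
  obtain ⟨φ, hφ, rfl⟩ := Cocycle.toSingleMk_surjective z p h (p - 1) (by lia)
  exact ⟨⟨φ, hφ⟩, hz⟩

lemma tsg_eq_zero_iff (K : CochainComplex C ℤ) (A : C) [K.IsKProjective] (p n q : ℤ) (h : p + n = q)
    (φ : zTo R K A p) :
    tsg R K A p n q h φ = 0 ↔ ∃ ψ : K.X (p + 1) ⟶ A, K.d p (p + 1) ≫ ψ = φ.1 := by
  rw [← Cocycle.toSingleMk_mem_coboundaries_iff φ.1 h (p - 1) (by lia) φ.2 (p + 1) rfl,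
    ← DHomLin.toD_eq_zero_iff_of_isKProjective R]
  rfl

/-- Comparison of `Ext` with morphisms between resolutions. -/
noncomputable def extEquiv₂ [HasExt.{w'} C] (M X : C) (K L : CochainComplex C ℤ)
    (π : K ⟶ (CochainComplex.singleFunctor C 0).obj M) [QuasiIso π]
    (ι : (CochainComplex.singleFunctor C 0).obj X ⟶ L) [QuasiIso ι] (p : ℕ) :
    Abelian.Ext M X p ≃ₗ[R] (Q.obj K ⟶ (Q.obj L)⟦(p : ℤ)⟧) :=
  (Abelian.Ext.homLinearEquiv (R := R)).trans
    (Linear.homCongr R ((singleFunctorIsoCompQ C 0).app M ≪≫ (asIso (Q.map π)).symm)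
      ((CategoryTheory.shiftFunctor _ (p : ℤ)).mapIso
        ((singleFunctorIsoCompQ C 0).app X ≪≫ asIso (Q.map ι))))

/-- `Ext^n(M, A)` as a quotient of the maps `P.X (-n) ⟶ A` killing boundaries. -/
theorem exists_extMap [HasExt.{w'} C] {M : C} (P : ProjectiveResolution M) (A : C) (n : ℕ) (p : ℤ)
    (h : p + n = 0) :
    ∃ f : zTo R P.cochainComplex A p →ₗ[R] Abelian.Ext M A n, Function.Surjective f ∧
      ∀ φ, f φ = 0 ↔ ∃ ψ : P.cochainComplex.X (p + 1) ⟶ A, P.cochainComplex.d p (p + 1) ≫ ψ = φ.1 := by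
  let e := extEquiv₂ R M A P.cochainComplex ((CochainComplex.singleFunctor C 0).obj A) P.π' (𝟙 _) n
  refine ⟨e.symm.toLinearMap ∘ₗ tsg R P.cochainComplex A p n 0 h,
    e.symm.surjective.comp (tsg_surjective R P.cochainComplex A p n 0 h), fun φ => ?_⟩
  rw [← tsg_eq_zero_iff R P.cochainComplex A p n 0 h]
  simp

end Groth.Agent.Sga2.ToSingle
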